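/-
helper73: maximal points of fibres.
* `RelHt.relHt_le_coheight`, `RelHt.relHt_add_one_le`, `RelHt.exists_relHt_eq_coheight`.
* `DimFormula.height_quotient_le_of_isMin_liesOver`: if no prime strictly between `q₀` and `q` lies over `p = q ∩ A`, then
  `ht (q/q₀) ≤ ht (p/p₀)`.
* `SchemeDim.relHt_le_relHt_base_of_maximal`: `w` maximal in `closure {ξ} ∩ f⁻¹(f w)` ⇒ `relHt w ξ ≤ relHt (f w) (f ξ)`.
* `SchemeDim.ringKrullDim_stalk_fiber_eq_zero_of_maximal`.
-/
import Groth.Agent.Lib.Helper73.LocalFibreDim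

set_option linter.style.haveILetI false
set_option autoImplicit false
universe u v
open Cardinal CategoryTheory AlgebraicGeometry

namespace Groth.Agent.Lib.Helper73.RelHt

variable {α : Type*} [Preorder α]

theorem relHt_le_coheight (a b : α) : relHt a b ≤ Order.coheight a :=
  relHt_le fun c h1 _ => by
    rw [← h1]; exact Order.length_le_coheight_head

/-- strict monotonicity of `relHt a ·`. -/
theorem relHt_add_one_le (hanti : ∀ a b : α, a ≤ b → b ≤ a → a = b) {a b c : α} (hab : a ≤ b)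
    (hbc : b < c) (hfin : relHt a b < ⊤) : relHt a b + 1 ≤ relHt a c := by
  obtain ⟨l, h1, h2, h3⟩ := exists_length_eq_relHt hab (hanti a b) hfin
  rw [← h3]
  have := length_le_relHt' (a := a) (b := c) (l.snoc c (by rw [h2]; exact hbc))
    (by rw [RelSeries.head_snoc, h1]) (RelSeries.last_snoc _ _ _)
  simpa using this

theorem exists_relHt_eq_coheight (a : α)
    (hfin : Order.coheight a < ⊤) : ∃ b : α, a ≤ b ∧ relHt a b = Order.coheight a := by
  obtain ⟨n, hn⟩ := ENat.ne_top_iff_exists.mp hfin.ne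
  obtain ⟨c, hc1, hc2⟩ := Order.exists_series_of_coheight_eq_coe a hn.symm
  refine ⟨c.last, ?_, le_antisymm (relHt_le_coheight _ _) ?_⟩
  · rw [← hc1]; exact LTSeries.head_le_last c
  · rw [← hn, ← hc2]
    exact length_le_relHt' c hc1 rfl

end Groth.Agent.Lib.Helper73.RelHt

namespace Groth.Agent.Lib.Helper73.DimFormula

/-- if `q` is minimal among the primes between `q₀` and `q` lying over `p`, then
`ht (q/q₀) ≤ ht (p/p₀)`. -/
theorem height_quotient_le_of_isMin_liesOver {A : Type u} {B : Type v} [CommRing A] [IsNoetherianRing A]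
    [CommRing B] [Algebra A B] [IsNoetherianRing B]
    (q₀ q : Ideal B) [q₀.IsPrime] [q.IsPrime] (hle : q₀ ≤ q)
    (p₀ p : Ideal A) [p₀.IsPrime] [p.IsPrime] [q₀.LiesOver p₀] [q.LiesOver p]
    [hq' : (q.map (Ideal.Quotient.mk q₀)).IsPrime] [hp' : (p.map (Ideal.Quotient.mk p₀)).IsPrime]
    (hmin : ∀ q₁ : Ideal B, q₁.IsPrime → q₀ ≤ q₁ → q₁ < q → q₁.comap (algebraMap A B) ≠ p) :
    (q.map (Ideal.Quotient.mk q₀)).height ≤ (p.map (Ideal.Quotient.mk p₀)).height := by
  have hple : p₀ ≤ p := by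
    rw [Ideal.over_def q₀ p₀, Ideal.over_def q p]
    exact Ideal.comap_mono hle
  haveI hlo : (q.map (Ideal.Quotient.mk q₀)).LiesOver (p.map (Ideal.Quotient.mk p₀)) := by
    constructor
    ext r
    obtain ⟨r, rfl⟩ := Ideal.Quotient.mk_surjective r
    rw [Ideal.under_def, Ideal.mem_comap, Ideal.Quotient.algebraMap_mk_of_liesOver,
      Ideal.mem_quotient_iff_mem hple, Ideal.mem_quotient_iff_mem hle, Ideal.over_def q p,
      Ideal.under_def, Ideal.mem_comap]
  have h1 := Ideal.height_le_height_add_of_liesOver (p.map (Ideal.Quotient.mk p₀))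
    (q.map (Ideal.Quotient.mk q₀))
  obtain ⟨l, hlast, hlen, hl⟩ := exists_ltSeries_height_quotient_map
    (p.map (Ideal.Quotient.mk p₀)) (q.map (Ideal.Quotient.mk q₀))
  have hzero : l.length = 0 := by
    by_contra hne
    have hpos : 0 < l.length := Nat.pos_of_ne_zero hne
    have hlt : l.head < l.last := l.strictMono (by
      rw [Fin.lt_def]; simpa using hpos)
    have hsm : StrictMono (PrimeSpectrum.comap (Ideal.Quotient.mk q₀)) :=
      RingHom.strictMono_comap_of_surjective Ideal.Quotient.mk_surjective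
    have hlt' := hsm hlt
    rw [hlast] at hlt'
    have hq : (PrimeSpectrum.comap (Ideal.Quotient.mk q₀)
        (⟨q.map (Ideal.Quotient.mk q₀), hq'⟩ : PrimeSpectrum (B ⧸ q₀))).asIdeal = q := by
      change (q.map (Ideal.Quotient.mk q₀)).comap (Ideal.Quotient.mk q₀) = q
      rw [Ideal.comap_map_of_surjective _ Ideal.Quotient.mk_surjective, ← RingHom.ker_eq_comap_bot,
        Ideal.mk_ker]
      exact sup_eq_left.mpr hle
    set q₁ := (PrimeSpectrum.comap (Ideal.Quotient.mk q₀) l.head) with hq₁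
    have hq₁lt : q₁.asIdeal < q := by
      have : q₁.asIdeal < (PrimeSpectrum.comap (Ideal.Quotient.mk q₀)
        (⟨q.map (Ideal.Quotient.mk q₀), hq'⟩ : PrimeSpectrum (B ⧸ q₀))).asIdeal := hlt'
      rwa [hq] at this
    have hq₀q₁ : q₀ ≤ q₁.asIdeal := by
      intro b hb
      change Ideal.Quotient.mk q₀ b ∈ l.head.asIdeal
      rw [Ideal.Quotient.eq_zero_iff_mem.mpr hb]
      exact Ideal.zero_mem _
    refine hmin q₁.asIdeal q₁.isPrime hq₀q₁ hq₁lt ?_
    have h2 := hl 0
    ext a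
    have h3 : Ideal.Quotient.mk p₀ a ∈ (l 0).asIdeal.comap (algebraMap (A ⧸ p₀) (B ⧸ q₀)) ↔
        Ideal.Quotient.mk p₀ a ∈ p.map (Ideal.Quotient.mk p₀) := by rw [h2]
    rw [Ideal.mem_comap, Ideal.Quotient.algebraMap_mk_of_liesOver,
      Ideal.mem_quotient_iff_mem hple] at h3
    rw [← h3]
    rfl
  have hz : (Ideal.map (Ideal.Quotient.mk (Ideal.map (algebraMap (A ⧸ p₀) (B ⧸ q₀))
      (p.map (Ideal.Quotient.mk p₀)))) (q.map (Ideal.Quotient.mk q₀))).height = 0 := by
    rw [← hlen, hzero]; rfl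
  rw [hz, add_zero] at h1
  exact h1

end Groth.Agent.Lib.Helper73.DimFormula

namespace Groth.Agent.Lib.Helper73.SchemeDim

open Groth.Agent.Lib.Helper73.DimFormula Groth.Agent.Lib.Helper73.RelHt

variable {X S : Scheme.{u}}

/-- if `w` is maximal among the points of `closure {ξ}` in its fibre, then
`relHt w ξ ≤ relHt (f w) (f ξ)`. -/
theorem relHt_le_relHt_base_of_maximal [IsLocallyNoetherian S] (f : X ⟶ S) [LocallyOfFiniteType f]
    {ξ w : X} (hξw : ξ ⤳ w)
    (hmax : ∀ w' : X, ξ ⤳ w' → w' ⤳ w → f.base w' = f.base w → w' = w) :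
    relHt w ξ ≤ relHt (f.base w) (f.base ξ) := by
  obtain ⟨_, ⟨V, hV : IsAffineOpen V, rfl⟩, hfyV, -⟩ :=
    (S.isBasis_affineOpens).exists_subset_of_mem_open (Set.mem_univ (f.base w)) isOpen_univ
  obtain ⟨_, ⟨U, hU : IsAffineOpen U, rfl⟩, hyU, hUV⟩ :=
    (X.isBasis_affineOpens).exists_subset_of_mem_open
      (show w ∈ (f ⁻¹ᵁ V : Set X) from hfyV) (f ⁻¹ᵁ V).isOpen
  have e : U ≤ f ⁻¹ᵁ V := hUV
  have hxU : ξ ∈ U := hξw.mem_open U.isOpen hyU
  letI : Algebra Γ(S, V) Γ(X, U) := (f.appLE V U e).hom.toAlgebra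
  have halg : algebraMap Γ(S, V) Γ(X, U) = (f.appLE V U e).hom := rfl
  haveI : Algebra.FiniteType Γ(S, V) Γ(X, U) := f.finiteType_appLE hV hU e
  haveI : IsNoetherianRing Γ(S, V) := IsLocallyNoetherian.component_noetherian ⟨V, hV⟩
  haveI : IsNoetherianRing Γ(X, U) := Algebra.FiniteType.isNoetherianRing Γ(S, V) Γ(X, U)
  set q := (hU.primeIdealOf ⟨w, hyU⟩).asIdeal with hq
  set q₀ := (hU.primeIdealOf ⟨ξ, hxU⟩).asIdeal with hq₀
  set p := (hV.primeIdealOf ⟨f.base w, e hyU⟩).asIdeal with hp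
  set p₀ := (hV.primeIdealOf ⟨f.base ξ, e hxU⟩).asIdeal with hp₀
  haveI hlo : q.LiesOver p := liesOver_primeIdealOf f w hV hU e hyU halg
  haveI hlo₀ : q₀.LiesOver p₀ := liesOver_primeIdealOf f ξ hV hU e hxU halg
  have hle : q₀ ≤ q := (primeIdealOf_le_iff_specializes hU w ξ hyU hxU).mpr hξw
  have hfxy : f.base ξ ⤳ f.base w := hξw.map f.continuous
  have hple : p₀ ≤ p := (primeIdealOf_le_iff_specializes hV _ _ (e hyU) (e hxU)).mpr hfxy
  haveI hq' : (q.map (Ideal.Quotient.mk q₀)).IsPrime :=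
    Ideal.map_isPrime_of_surjective Ideal.Quotient.mk_surjective (by rwa [Ideal.mk_ker])
  haveI hp' : (p.map (Ideal.Quotient.mk p₀)).IsPrime :=
    Ideal.map_isPrime_of_surjective Ideal.Quotient.mk_surjective (by rwa [Ideal.mk_ker])
  have hr1 : relHt w ξ = (q.map (Ideal.Quotient.mk q₀)).height := relHt_eq_height hU hyU hxU hξw
  have hr2 : relHt (f.base w) (f.base ξ) = (p.map (Ideal.Quotient.mk p₀)).height :=
    relHt_eq_height hV (e hyU) (e hxU) hfxy
  rw [hr1, hr2]
  refine height_quotient_le_of_isMin_liesOver q₀ q hle p₀ p ?_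
  intro q₁ hq₁ hq₀q₁ hq₁q hcomap
  obtain ⟨w', hw'U, hw'⟩ := exists_primeIdealOf_eq hU ⟨q₁, hq₁⟩
  have h1 : ξ ⤳ w' := by
    rw [← primeIdealOf_le_iff_specializes hU w' ξ hw'U hxU, hw']
    exact hq₀q₁
  have h2 : w' ⤳ w := by
    rw [← primeIdealOf_le_iff_specializes hU w w' hyU hw'U, hw']
    exact hq₁q.le
  have h3 : f.base w' = f.base w := by
    refine base_eq_of_comap_primeIdealOf_eq f hV hU e hw'U hyU ?_
    rw [hw', ← halg]
    change q₁.comap _ = q.comap _
    rw [hcomap, ← Ideal.under_def, ← hlo.over]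
  have h4 := hmax w' h1 h2 h3
  subst h4
  have : q₁ = q := (congrArg PrimeSpectrum.asIdeal hw').symm
  exact hq₁q.ne this

/-- the local ring of the fibre at a maximal point of the fibre has dimension `0`. -/
theorem ringKrullDim_stalk_fiber_eq_zero_of_maximal (f : X ⟶ S) (z : X)
    (hmax : ∀ z' : X, f.base z' = f.base z → z' ⤳ z → z' = z) :
    ringKrullDim ((f.fiber (f.base z)).presheaf.stalk (f.asFiber z)) = 0 := by
  apply le_antisymm
  · have := ringKrullDim_stalk_fiber_le f z 0 ?_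
    · exact_mod_cast this
    · intro c hc1 hc2
      by_contra hne
      have hne' : c.length ≠ 0 := by
        intro h; apply hne; rw [h]; simp
      have hlt : c.head < c.last := c.strictMono (by
        rw [Fin.lt_def]; simpa using Nat.pos_of_ne_zero hne')
      have h1 := hmax c.last (hc2 _) (by rw [← hc1]; exact hlt.le)
      rw [← hc1] at h1
      exact hlt.ne h1.symm
  · have h1 := le_ringKrullDim_stalk_fiber f z (RelSeries.singleton _ z) rfl (fun _ => rfl)
    simpa using h1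

end Groth.Agent.Lib.Helper73.SchemeDim
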