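/-
helper73: irreducible components of fibres.
* `SchemeDim.topologicalKrullDim_closure_singleton_fiber`: the closure of a point `z'` of the fibre `f.fiber y` has
  dimension `trdeg κ(z')/κ(y)`.
-/
import Groth.Agent.Lib.Helper73.FibreMax
set_option linter.style.haveILetI false
set_option autoImplicit false
universe u v
open Cardinal CategoryTheory AlgebraicGeometry

namespace Groth.Agent.Lib.Helper73.SchemeDim

open Groth.Agent.Lib.Helper73.DimFormula Groth.Agent.Lib.Helper73.RelHt

variable {X S : Scheme.{u}}

/-- the dimension of the closure of a point `z'` of a fibre is the residue transcendence degree. -/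
theorem topologicalKrullDim_closure_singleton_fiber [IsLocallyNoetherian S] (f : X ⟶ S)
    [LocallyOfFiniteType f] (y : S) (z' : f.fiber y) (n : ℕ)
    (hn : letI := (f.residueFieldMap (f.fiberι y z')).hom.toAlgebra
      Algebra.trdeg (S.residueField (f.base (f.fiberι y z'))) (X.residueField (f.fiberι y z')) = n) :
    topologicalKrullDim ↥(closure ({z'} : Set (f.fiber y))) = n := by
  haveI : QuasiSober ↥(closure ({z'} : Set (f.fiber y))) :=
    isClosed_closure.isClosedEmbedding_subtypeVal.quasiSober
  apply le_antisymm
  · refine topologicalKrullDim_subtype_le _ _ (fun c hc => ?_)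
    have h1 : (fiberSeries f y c).length ≤ n := by
      refine length_le_trdeg_of_fibre f (fiberSeries f y c) (f.fiberι y z') ?_ ?_ n hn
      · change f.fiberι y z' ⤳ (fiberSeries f y c).last
        have : (fiberSeries f y c).last = f.fiberι y c.last := LTSeries.last_map _ _ _
        rw [this]
        exact (specializes_iff_mem_closure.mpr (hc (Fin.last _))).map (f.fiberι y).continuous
      · have : (fiberSeries f y c).head = f.fiberι y c.head := LTSeries.head_map _ _ _
        rw [this, base_fiberι, base_fiberι]
    have h2 : (fiberSeries f y c).length = c.length := LTSeries.map_length _ _ _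
    rw [h2] at h1
    exact_mod_cast h1
  · obtain ⟨c, hclen, hclast, hcf⟩ := exists_ltSeries_fibre f (f.fiberι y z') n hn
    have hcf' : ∀ i, f.base (c i) = y := fun i => (hcf i).trans (base_fiberι f y z')
    obtain ⟨c', hc'len, -, hc'last⟩ := exists_fiberSeries_eq f y c hcf'
    have hlast : c'.last = z' := by
      apply (f.fiberι y).isEmbedding.injective
      rw [hc'last, hclast]
    have := length_le_topologicalKrullDim_subtype (closure ({z'} : Set (f.fiber y))) c' (by
      intro i
      rw [← specializes_iff_mem_closure, ← hlast]
      exact c'.monotone (Fin.le_last i))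
    rw [hc'len, hclen] at this
    exact this

end Groth.Agent.Lib.Helper73.SchemeDim
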