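/-
helper73: closures of points inside set-theoretic fibres.
* `SchemeDim.quasiSober_preimage_singleton`, `SchemeDim.quasiSober_closed_inter_fibre`.
* `SchemeDim.topologicalKrullDim_closure_inter_fibre`: `dim (closure {ξ} ∩ f⁻¹(f ξ)) = trdeg κ(ξ)/κ(f ξ)` (subspace of `X`).
-/
import Groth.Agent.Lib.Helper73.FibreComponents
set_option linter.style.haveILetI false
set_option autoImplicit false
universe u v
open Cardinal CategoryTheory AlgebraicGeometry Set.Notation

namespace Groth.Agent.Lib.Helper73.SchemeDim

open Groth.Agent.Lib.Helper73.DimFormula Groth.Agent.Lib.Helper73.RelHt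

variable {X S : Scheme.{u}}

/-- set-theoretic fibres (with the subspace topology) are quasi-sober. -/
theorem quasiSober_preimage_singleton (f : X ⟶ S) (y : S) : QuasiSober ↥(f.base ⁻¹' {y}) :=
  (f.fiberHomeo y).symm.isClosedEmbedding.quasiSober

/-- closed subsets of a set-theoretic fibre are quasi-sober. -/
theorem quasiSober_closed_inter_fibre (f : X ⟶ S) (y : S) (T : Set X) (hT : IsClosed T) :
    QuasiSober ↥(T ∩ f.base ⁻¹' {y}) := by
  haveI := quasiSober_preimage_singleton f y
  have hcl : IsClosed ((f.base ⁻¹' {y}) ↓∩ (T ∩ f.base ⁻¹' {y})) := by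
    have : ((f.base ⁻¹' {y}) ↓∩ (T ∩ f.base ⁻¹' {y})) = Subtype.val ⁻¹' T := by
      ext a
      simp only [Set.mem_preimage, Set.mem_inter_iff]
      exact ⟨fun h => h.1, fun h => ⟨h, a.2⟩⟩
    rw [this]
    exact hT.preimage continuous_subtype_val
  exact (Topology.IsClosedEmbedding.inclusion Set.inter_subset_right hcl).quasiSober

/-- the part of `closure {ξ}` in the fibre through `ξ` has dimension `trdeg κ(ξ)/κ(f ξ)`. -/
theorem topologicalKrullDim_closure_inter_fibre [IsLocallyNoetherian S] (f : X ⟶ S)
    [LocallyOfFiniteType f] (ξ : X) (n : ℕ)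
    (hn : letI := (f.residueFieldMap ξ).hom.toAlgebra
      Algebra.trdeg (S.residueField (f.base ξ)) (X.residueField ξ) = n) :
    topologicalKrullDim ↥(closure ({ξ} : Set X) ∩ f.base ⁻¹' {f.base ξ}) = n := by
  haveI := quasiSober_closed_inter_fibre f (f.base ξ) (closure {ξ}) isClosed_closure
  apply le_antisymm
  · refine topologicalKrullDim_subtype_le _ _ (fun c hc => ?_)
    have h1 : c.length ≤ n := by
      refine length_le_trdeg_of_fibre f c ξ ?_ ?_ n hn
      · exact specializes_iff_mem_closure.mpr (hc (Fin.last _)).1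
      · exact (hc 0).2
    exact_mod_cast h1
  · obtain ⟨c, hclen, hclast, hcf⟩ := exists_ltSeries_fibre f ξ n hn
    have := length_le_topologicalKrullDim_subtype
      (closure ({ξ} : Set X) ∩ f.base ⁻¹' {f.base ξ}) c (by
      intro i
      refine ⟨?_, hcf i⟩
      rw [← specializes_iff_mem_closure, ← hclast]
      exact c.monotone (Fin.le_last i))
    rw [hclen] at this
    exact this

end Groth.Agent.Lib.Helper73.SchemeDim
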