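/-
helper73: Chevalley's semicontinuity of fibre dimension, ring form (via Mathlib's Zariski main theorem).
Main result `DimFormula.trdeg_quotient_le_of_forall_le`: `A` Noetherian, `B` of finite type, `q₀ ⊆ q` primes of `B`.
If every prime `q' ⊆ q` lying over `q ∩ A` has `trdeg κ(q')/κ(q ∩ A) ≤ d` (i.e. the fibre through `q` has local
dimension `≤ d` at `q`), then `trdeg κ(q₀)/κ(q₀ ∩ A) ≤ d`.
Ingredients: `trdeg_quotient_tower`, `trdeg_quotient_polynomial_le_one`, `trdeg_quotient_polynomial_eq_one`,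
`trdeg_quotient_eq_zero_of_quasiFiniteAt` (ZMT), `trdeg_quotient_add_one_le_of_lt`,
`quasiFiniteAt_of_forall_trdeg_eq_zero`.
-/
import Groth.Agent.Lib.Helper73.FibreMax
import Mathlib.RingTheory.ZariskisMainTheorem

set_option linter.style.haveILetI false
set_option autoImplicit false
universe u
open Cardinal Polynomial

namespace Groth.Agent.Lib.Helper73.DimFormula

/-- additivity of residue transcendence degrees in a tower `A → C → B`. -/
theorem trdeg_quotient_tower {A C B : Type u} [CommRing A] [CommRing C] [CommRing B]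
    [Algebra A C] [Algebra C B] [Algebra A B] [IsScalarTower A C B]
    (p : Ideal A) (P : Ideal C) (q : Ideal B) [p.IsPrime] [P.IsPrime] [q.IsPrime]
    [P.LiesOver p] [q.LiesOver P] [q.LiesOver p] :
    Algebra.trdeg (A ⧸ p) (C ⧸ P) + Algebra.trdeg (C ⧸ P) (B ⧸ q) = Algebra.trdeg (A ⧸ p) (B ⧸ q) := by
  haveI : IsScalarTower (A ⧸ p) (C ⧸ P) (B ⧸ q) := IsScalarTower.of_algebraMap_eq <| by
    rintro ⟨x⟩
    change algebraMap (A ⧸ p) (B ⧸ q) (Ideal.Quotient.mk p x) =
      algebraMap (C ⧸ P) (B ⧸ q) (algebraMap (A ⧸ p) (C ⧸ P) (Ideal.Quotient.mk p x))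
    rw [Ideal.Quotient.algebraMap_mk_of_liesOver, Ideal.Quotient.algebraMap_mk_of_liesOver,
      Ideal.Quotient.algebraMap_mk_of_liesOver, ← IsScalarTower.algebraMap_apply]
  haveI : Nontrivial (A ⧸ p) := Ideal.Quotient.nontrivial_iff.mpr (Ideal.IsPrime.ne_top inferInstance)
  exact trdeg_add_eq (A ⧸ p) (C ⧸ P)

/-- residue transcendence degree over `A` of a prime of `A[X]` is at most one. -/
theorem trdeg_quotient_polynomial_le_one {A : Type u} [CommRing A] (p : Ideal A) (P : Ideal A[X])
    [p.IsPrime] [P.IsPrime] [P.LiesOver p] :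
    Algebra.trdeg (A ⧸ p) (A[X] ⧸ P) ≤ 1 := by
  let x : A[X] ⧸ P := Ideal.Quotient.mk P X
  let φ : (A ⧸ p)[X] →ₐ[A ⧸ p] (A[X] ⧸ P) := Polynomial.aeval x
  have hsurj : Function.Surjective φ := by
    intro y
    obtain ⟨f, rfl⟩ := Ideal.Quotient.mk_surjective y
    refine ⟨f.map (Ideal.Quotient.mk p), ?_⟩
    change Polynomial.aeval x (f.map (algebraMap A (A ⧸ p))) = _
    rw [Polynomial.aeval_map_algebraMap]
    have : Polynomial.aeval x f = (Ideal.Quotient.mkₐ A P) (Polynomial.aeval (X : A[X]) f) := by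
      rw [← Polynomial.aeval_algHom_apply]
      rfl
    rw [this, Polynomial.aeval_X_left]
    rfl
  have h1 := trdeg_le_of_surjective φ hsurj
  rwa [Polynomial.trdeg_of_isDomain] at h1

/-- if the image of `X` in `κ(q)` is transcendental over `κ(p)`, the prime `q ∩ A[X]` has residue
transcendence degree one over `A`. -/
theorem trdeg_quotient_polynomial_eq_one {A B : Type u} [CommRing A] [CommRing B] [Algebra A B]
    [Algebra A[X] B] [IsScalarTower A A[X] B] (q : Ideal B) [q.IsPrime] (p : Ideal A) [p.IsPrime]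
    [q.LiesOver p] (P : Ideal A[X]) [P.IsPrime] [q.LiesOver P] [P.LiesOver p]
    (ht : Transcendental (A ⧸ p) (Ideal.Quotient.mk q (algebraMap A[X] B X))) :
    Algebra.trdeg (A ⧸ p) (A[X] ⧸ P) = 1 := by
  apply le_antisymm (trdeg_quotient_polynomial_le_one p P)
  haveI : IsScalarTower (A ⧸ p) (A[X] ⧸ P) (B ⧸ q) := IsScalarTower.of_algebraMap_eq <| by
    rintro ⟨x⟩
    change algebraMap (A ⧸ p) (B ⧸ q) (Ideal.Quotient.mk p x) =
      algebraMap (A[X] ⧸ P) (B ⧸ q) (algebraMap (A ⧸ p) (A[X] ⧸ P) (Ideal.Quotient.mk p x))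
    rw [Ideal.Quotient.algebraMap_mk_of_liesOver, Ideal.Quotient.algebraMap_mk_of_liesOver,
      Ideal.Quotient.algebraMap_mk_of_liesOver, ← IsScalarTower.algebraMap_apply]
  have htr : Transcendental (A ⧸ p) (Ideal.Quotient.mk P (X : A[X])) := by
    intro halg
    apply ht
    have := halg.algebraMap (A := B ⧸ q)
    rwa [Ideal.Quotient.algebraMap_mk_of_liesOver] at this
  haveI : Algebra.Transcendental (A ⧸ p) (A[X] ⧸ P) := ⟨⟨_, htr⟩⟩
  have := trdeg_pos (A ⧸ p) (A[X] ⧸ P)
  exact Cardinal.one_le_iff_pos.mpr this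

/-- (Zariski's main theorem) if `B` is quasi-finite over `A` at `q`, the residue field extension at
any generization `q₀ ⊆ q` is algebraic. -/
theorem trdeg_quotient_eq_zero_of_quasiFiniteAt {A B : Type u} [CommRing A] [CommRing B]
    [Algebra A B] [Algebra.FiniteType A B] (q₀ q : Ideal B) [q₀.IsPrime] [q.IsPrime] (hle : q₀ ≤ q)
    [Algebra.QuasiFiniteAt A q] (p₀ : Ideal A) [p₀.IsPrime] [q₀.LiesOver p₀] :
    Algebra.trdeg (A ⧸ p₀) (B ⧸ q₀) = 0 := by
  have hZ := Algebra.ZariskisMainProperty.of_finiteType (R := A) q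
  rw [Algebra.zariskisMainProperty_iff] at hZ
  obtain ⟨r, hr, hrint, h⟩ := hZ
  rw [trdeg_eq_zero_iff]
  haveI : Nontrivial (A ⧸ p₀) := Ideal.Quotient.nontrivial_iff.mpr (Ideal.IsPrime.ne_top inferInstance)
  have hint : ∀ b : B, IsIntegral A b → IsAlgebraic (A ⧸ p₀) (Ideal.Quotient.mk q₀ b) := by
    intro b hb
    have h1 : IsIntegral A (Ideal.Quotient.mkₐ A q₀ b) := hb.map (Ideal.Quotient.mkₐ A q₀)
    have h2 : IsIntegral (A ⧸ p₀) (Ideal.Quotient.mkₐ A q₀ b) := h1.tower_top
    exact h2.isAlgebraic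
  have hr0 : Ideal.Quotient.mk q₀ r ∈ nonZeroDivisors (B ⧸ q₀) := by
    apply mem_nonZeroDivisors_of_ne_zero
    rw [Ne, Ideal.Quotient.eq_zero_iff_mem]
    exact fun hmem => hr (hle hmem)
  constructor
  intro b
  obtain ⟨b, rfl⟩ := Ideal.Quotient.mk_surjective b
  obtain ⟨m, hm⟩ := h b
  have h1 := hint _ hm
  rw [map_mul, map_pow] at h1
  exact IsAlgebraic.of_mul (pow_mem hr0 m) ((hint r hrint).pow m) h1

/-- residue transcendence degrees strictly decrease along strict specializations inside a fibre. -/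
theorem trdeg_quotient_add_one_le_of_lt {A B : Type u} [CommRing A] [IsNoetherianRing A]
    [CommRing B] [Algebra A B] [Algebra.FiniteType A B]
    (q₀ q : Ideal B) [hq₀ : q₀.IsPrime] [hq : q.IsPrime] (hlt : q₀ < q)
    (p : Ideal A) [p.IsPrime] [q₀.LiesOver p] [q.LiesOver p] :
    Algebra.trdeg (A ⧸ p) (B ⧸ q) + 1 ≤ Algebra.trdeg (A ⧸ p) (B ⧸ q₀) := by
  haveI hq' : (q.map (Ideal.Quotient.mk q₀)).IsPrime :=
    Ideal.map_isPrime_of_surjective Ideal.Quotient.mk_surjective (by rw [Ideal.mk_ker]; exact hlt.le)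
  have h1 := height_quotient_add_trdeg_eq_of_fibre q₀ q hlt.le p
  have h2 : 1 ≤ (q.map (Ideal.Quotient.mk q₀)).height :=
    one_le_height_map_quotient_of_lt q₀ q (show (⟨q₀, hq₀⟩ : PrimeSpectrum B) < ⟨q, hq⟩ from hlt)
  rw [← h1, add_comm]
  gcongr
  have : ((1 : ℕ∞) : Cardinal.{u}) ≤ ((q.map (Ideal.Quotient.mk q₀)).height : Cardinal.{u}) :=
    Cardinal.ofENat_le_ofENat.mpr h2
  simpa using this

/-- if all generizations of `q` in its fibre (including `q`) have algebraic residue field
extension, then `B` is quasi-finite over `A` at `q`. -/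
theorem quasiFiniteAt_of_forall_trdeg_eq_zero {A B : Type u} [CommRing A] [IsNoetherianRing A]
    [CommRing B] [Algebra A B] [Algebra.FiniteType A B] (q : Ideal B) [hq : q.IsPrime]
    (h : ∀ q' : Ideal B, ∀ [q'.IsPrime], q' ≤ q → ∀ [q'.LiesOver (q.under A)],
      Algebra.trdeg (A ⧸ q.under A) (B ⧸ q') = 0) :
    Algebra.QuasiFiniteAt A q := by
  classical
  haveI : IsNoetherianRing B := Algebra.FiniteType.isNoetherianRing A B
  set p := q.under A with hp
  haveI : p.IsPrime := Ideal.IsPrime.under A q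
  set I := p.map (algebraMap A B) with hI
  have hIq : I ≤ q := Ideal.map_le_iff_le_comap.mpr le_rfl
  have hfin : I.minimalPrimes.Finite := Ideal.finite_minimalPrimes_of_isNoetherianRing B I
  -- primes between `I` and `q` lie over `p`
  have hover : ∀ Q : Ideal B, I ≤ Q → Q ≤ q → Q.LiesOver p := by
    intro Q h1 h2
    constructor
    apply le_antisymm
    · exact Ideal.map_le_iff_le_comap.mp h1
    · exact Ideal.comap_mono h2
  -- no strict inclusions between primes over `p` below `q`... when the smaller has trdeg 0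
  have hnolt : ∀ Q Q' : Ideal B, ∀ [Q.IsPrime], ∀ [Q'.IsPrime], ∀ [Q.LiesOver p], ∀ [Q'.LiesOver p],
      Q ≤ q → Q < Q' → False := by
    intro Q Q' _ _ _ _ hQq hlt
    have h1 := trdeg_quotient_add_one_le_of_lt Q Q' hlt p
    rw [h Q hQq] at h1
    simp at h1
  -- `q` is a minimal prime of `I`
  have hqmin : q ∈ I.minimalPrimes := by
    obtain ⟨Q, hQ, hQq⟩ := Ideal.exists_minimalPrimes_le hIq
    haveI : Q.IsPrime := hQ.1.1
    haveI := hover Q hQ.1.2 hQq
    by_cases heq : Q = q
    · rw [← heq]; exact hQ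
    · exact (hnolt Q q hQq (lt_of_le_of_ne hQq heq)).elim
  -- choose `g`
  set s : Finset (Ideal B) := hfin.toFinset.erase q with hs
  have hnot : ¬ (s.inf id ≤ q) := by
    intro hle
    obtain ⟨Q, hQs, hQq⟩ := (Ideal.IsPrime.inf_le' hq).mp hle
    rw [hs, Finset.mem_erase, Set.Finite.mem_toFinset] at hQs
    haveI : Q.IsPrime := hQs.2.1.1
    haveI := hover Q hQs.2.1.2 hQq
    exact hnolt Q q hQq (lt_of_le_of_ne hQq hQs.1)
  obtain ⟨g, hgs, hgq⟩ := SetLike.not_le_iff_exists.mp hnot
  refine Algebra.QuasiFiniteAt.of_isOpen_singleton_fiber (R := A) (⟨q, hq⟩ : PrimeSpectrum B) ?_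
  rw [isOpen_induced_iff]
  refine ⟨PrimeSpectrum.basicOpen g, (PrimeSpectrum.basicOpen g).isOpen, ?_⟩
  ext ⟨q₁, hq₁⟩
  simp only [Set.mem_preimage, Set.mem_singleton_iff]
  constructor
  · intro hg
    have hg' : g ∉ q₁.asIdeal := hg
    have hq₁p : q₁.asIdeal.under A = p := congrArg PrimeSpectrum.asIdeal hq₁
    have hIq₁ : I ≤ q₁.asIdeal := by
      rw [hI, Ideal.map_le_iff_le_comap]
      exact hq₁p.symm.le
    obtain ⟨Q, hQ, hQq₁⟩ := Ideal.exists_minimalPrimes_le hIq₁
    have hQeq : Q = q := by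
      by_contra hne
      have : Q ∈ s := by
        rw [hs, Finset.mem_erase, Set.Finite.mem_toFinset]
        exact ⟨hne, hQ⟩
      have h2 : s.inf id ≤ Q := Finset.inf_le (f := id) this
      exact hg' (hQq₁ (h2 hgs))
    subst hQeq
    haveI : q₁.asIdeal.LiesOver p := ⟨hq₁p.symm⟩
    haveI : Q.LiesOver p := ⟨rfl⟩
    by_contra hne
    have hne' : Q ≠ q₁.asIdeal := fun h => hne (Subtype.ext (PrimeSpectrum.ext h.symm))
    exact hnolt Q q₁.asIdeal le_rfl (lt_of_le_of_ne hQq₁ hne')
  · intro heq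
    have h1 : q₁ = ⟨q, hq⟩ := congrArg Subtype.val heq
    rw [h1]
    exact hgq

theorem exists_nat_trdeg_quotient {A B : Type u} [CommRing A] [CommRing B] [Algebra A B]
    [Algebra.FiniteType A B] (q : Ideal B) [q.IsPrime] (p : Ideal A) [p.IsPrime] [q.LiesOver p] :
    ∃ n : ℕ, Algebra.trdeg (A ⧸ p) (B ⧸ q) = n := by
  haveI : Algebra.FiniteType A (B ⧸ q) :=
    Algebra.FiniteType.of_surjective (Ideal.Quotient.mkₐ A q) (Ideal.Quotient.mkₐ_surjective A q)
  haveI : Algebra.FiniteType (A ⧸ p) (B ⧸ q) :=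
    Algebra.FiniteType.of_restrictScalars_finiteType A (A ⧸ p) (B ⧸ q)
  exact Cardinal.lt_aleph0.mp trdeg_lt_aleph0_of_finiteType

/-- **Chevalley**: the fibre dimension function is monotone under specialization (ring form). If
all generizations `q'` of `q` in the fibre through `q` have residue transcendence degree at most
`d`, then so has every generization `q₀` of `q`. -/
theorem trdeg_quotient_le_of_forall_le (d : ℕ) :
    ∀ (A B : Type u) [CommRing A] [IsNoetherianRing A] [CommRing B] [Algebra A B]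
      [Algebra.FiniteType A B] (q₀ q : Ideal B) [q₀.IsPrime] [q.IsPrime], q₀ ≤ q →
      (∀ q' : Ideal B, ∀ [q'.IsPrime], q' ≤ q → ∀ [q'.LiesOver (q.under A)],
        Algebra.trdeg (A ⧸ q.under A) (B ⧸ q') ≤ d) →
      Algebra.trdeg (A ⧸ q₀.under A) (B ⧸ q₀) ≤ d := by
  induction d with
  | zero =>
    intro A B _ _ _ _ _ q₀ q _ _ hle h
    haveI := quasiFiniteAt_of_forall_trdeg_eq_zero (A := A) q
      (fun q' _ hq' _ => le_antisymm (by simpa using h q' hq') zero_le)
    rw [trdeg_quotient_eq_zero_of_quasiFiniteAt q₀ q hle (q₀.under A)]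
    simp
  | succ d ih =>
    intro A B _ _ _ _ _ q₀ q hq₀ hq hle h
    classical
    haveI : IsNoetherianRing B := Algebra.FiniteType.isNoetherianRing A B
    set p := q.under A with hp
    haveI : p.IsPrime := Ideal.IsPrime.under A q
    by_cases hall : ∀ q' : Ideal B, ∀ [q'.IsPrime], q' ≤ q → ∀ [q'.LiesOver p],
        Algebra.trdeg (A ⧸ p) (B ⧸ q') ≤ d
    · refine le_trans (ih A B q₀ q hle hall) ?_
      exact_mod_cast Nat.le_succ d
    push Not at hall
    obtain ⟨qs, hqs, hqsq, hqsp, hqsd⟩ := hall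
    -- the key: find `t`
    obtain ⟨t, ht⟩ : ∃ t : B, (Transcendental (A ⧸ p) (Ideal.Quotient.mk q t)) ∨
        (t ∈ q ∧ ∀ Q ∈ (p.map (algebraMap A B)).minimalPrimes, Q ≤ q → t ∉ Q) := by
      by_cases h0 : Algebra.trdeg (A ⧸ p) (B ⧸ q) = 0
      · -- case B
        set I := p.map (algebraMap A B) with hI
        have hfin : I.minimalPrimes.Finite := Ideal.finite_minimalPrimes_of_isNoetherianRing B I
        have hqnot : q ∉ I.minimalPrimes := by
          intro hqm
          have h1 : I ≤ qs := by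
            rw [hI, Ideal.map_le_iff_le_comap]
            exact (Ideal.over_def qs p).le
          have h2 : qs = q := le_antisymm hqsq (hqm.2 ⟨hqs, h1⟩ hqsq)
          subst h2
          rw [h0] at hqsd
          simp at hqsd
        set s : Finset (Ideal B) := hfin.toFinset.filter (fun Q => Q ≤ q) with hs
        have hnot : ¬ ((q : Set B) ⊆ ⋃ Q ∈ (↑s : Set (Ideal B)), (Q : Set B)) := by
          intro hsub
          have := (Ideal.subset_union_prime (R := B) (s := s) (f := fun Q => Q) q q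
            (fun Q hQ _ _ => by
              rw [hs, Finset.mem_filter, Set.Finite.mem_toFinset] at hQ
              exact hQ.1.1.1)).mp hsub
          obtain ⟨Q, hQs, hqQ⟩ := this
          rw [hs, Finset.mem_filter, Set.Finite.mem_toFinset] at hQs
          have : Q = q := le_antisymm hQs.2 hqQ
          rw [this] at hQs
          exact hqnot hQs.1
        rw [Set.not_subset] at hnot
        obtain ⟨t, htq, htQ⟩ := hnot
        refine ⟨t, Or.inr ⟨htq, fun Q hQ hQq htQ' => htQ ?_⟩⟩
        simp only [Set.mem_iUnion]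
        refine ⟨Q, ?_, htQ'⟩
        rw [Finset.mem_coe, hs, Finset.mem_filter, Set.Finite.mem_toFinset]
        exact ⟨hQ, hQq⟩
      · -- case A
        rw [← Ne, trdeg_ne_zero_iff] at h0
        obtain ⟨tb, htb⟩ := h0.transcendental
        obtain ⟨t, rfl⟩ := Ideal.Quotient.mk_surjective tb
        exact ⟨t, Or.inl htb⟩
    -- the polynomial algebra structure
    letI : Algebra A[X] B := (Polynomial.aeval t : A[X] →ₐ[A] B).toRingHom.toAlgebra
    have hX : algebraMap A[X] B X = t := Polynomial.aeval_X t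
    haveI : IsScalarTower A A[X] B := IsScalarTower.of_algebraMap_eq (fun a => by
      change algebraMap A B a = Polynomial.aeval t (Polynomial.C a)
      rw [Polynomial.aeval_C])
    haveI : Algebra.FiniteType A[X] B := Algebra.FiniteType.of_restrictScalars_finiteType A A[X] B
    set P := q.under A[X] with hP
    haveI : P.IsPrime := Ideal.IsPrime.under A[X] q
    have hPp : P.under A = p := Ideal.under_under q
    haveI : P.LiesOver p := ⟨hPp.symm⟩
    -- the hypothesis at level `d` over `A[X]`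
    have hstep : ∀ q' : Ideal B, ∀ [q'.IsPrime], q' ≤ q → ∀ [q'.LiesOver P],
        Algebra.trdeg (A[X] ⧸ P) (B ⧸ q') ≤ d := by
      intro q' _ hq'q _
      haveI : q'.LiesOver p := Ideal.LiesOver.trans q' P p
      have h1 := h q' hq'q
      have h2 := trdeg_quotient_tower p P q'
      obtain ⟨a, ha⟩ := exists_nat_trdeg_quotient q' p
      obtain ⟨b, hb⟩ := exists_nat_trdeg_quotient q' P
      obtain ⟨c, hc⟩ := exists_nat_trdeg_quotient P p
      rw [ha, hb, hc] at h2
      rw [ha] at h1
      rw [hb]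
      have h1' : a ≤ d + 1 := by exact_mod_cast h1
      have h2' : c + b = a := by exact_mod_cast h2
      rcases ht with ht | ⟨htq, htQ⟩
      · -- case A
        have h3 : Algebra.trdeg (A ⧸ p) (A[X] ⧸ P) = 1 := by
          refine trdeg_quotient_polynomial_eq_one q p P ?_
          rw [hX]; exact ht
        rw [hc] at h3
        have h3' : c = 1 := by exact_mod_cast h3
        have : b ≤ d := by omega
        exact_mod_cast this
      · -- case B
        have htq' : t ∈ q' := by
          have h3 : (X : A[X]) ∈ P := by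
            rw [hP, Ideal.under_def, Ideal.mem_comap, hX]; exact htq
          have h4 : (X : A[X]) ∈ q'.under A[X] := by
            rw [← Ideal.over_def q' P]; exact h3
          rw [Ideal.under_def, Ideal.mem_comap, hX] at h4
          exact h4
        have hIq' : p.map (algebraMap A B) ≤ q' := by
          rw [Ideal.map_le_iff_le_comap]
          exact (Ideal.over_def q' p).le
        obtain ⟨Q, hQ, hQq'⟩ := Ideal.exists_minimalPrimes_le hIq'
        haveI : Q.IsPrime := hQ.1.1
        have hQq : Q ≤ q := hQq'.trans hq'q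
        haveI : Q.LiesOver p := by
          constructor
          apply le_antisymm
          · exact Ideal.map_le_iff_le_comap.mp hQ.1.2
          · exact Ideal.comap_mono hQq
        have hne : Q ≠ q' := fun heq => htQ Q hQ hQq (heq ▸ htq')
        have h5 := trdeg_quotient_add_one_le_of_lt Q q' (lt_of_le_of_ne hQq' hne) p
        have h6 := h Q hQq
        obtain ⟨e, he⟩ := exists_nat_trdeg_quotient Q p
        rw [ha, he] at h5
        rw [he] at h6
        have h5' : a + 1 ≤ e := by exact_mod_cast h5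
        have h6' : e ≤ d + 1 := by exact_mod_cast h6
        have : b ≤ d := by omega
        exact_mod_cast this
    have hih := ih A[X] B q₀ q hle hstep
    -- conclude via the tower for `q₀`
    set P₀ := q₀.under A[X] with hP₀
    haveI : P₀.IsPrime := Ideal.IsPrime.under A[X] q₀
    set p₀ := q₀.under A with hp₀
    haveI : p₀.IsPrime := Ideal.IsPrime.under A q₀
    have hP₀p₀ : P₀.under A = p₀ := Ideal.under_under q₀
    haveI : P₀.LiesOver p₀ := ⟨hP₀p₀.symm⟩
    have h2 := trdeg_quotient_tower p₀ P₀ q₀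
    have h3 := trdeg_quotient_polynomial_le_one p₀ P₀
    obtain ⟨a, ha⟩ := exists_nat_trdeg_quotient q₀ p₀
    obtain ⟨b, hb⟩ := exists_nat_trdeg_quotient q₀ P₀
    obtain ⟨c, hc⟩ := exists_nat_trdeg_quotient P₀ p₀
    rw [ha, hb, hc] at h2
    rw [hc] at h3
    rw [hb] at hih
    rw [ha]
    have h2' : c + b = a := by exact_mod_cast h2
    have h3' : c ≤ 1 := by exact_mod_cast h3
    have hih' : b ≤ d := by exact_mod_cast hih
    have : a ≤ d + 1 := by omega
    exact_mod_cast this

end Groth.Agent.Lib.Helper73.DimFormula
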