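/-
helper73: Chevalley's theorem on fibre dimensions, scheme form (locally Noetherian base).
* `SchemeDim.trdeg_le_fibreDimAt_of_fibre`, `SchemeDim.trdeg_le_fibreDimAt`: for `ξ ⤳ x`, `trdeg κ(ξ)/κ(f ξ) ≤ dim_x X_{f x}`.
* `SchemeDim.fibreDimAt_mono`: `ξ ⤳ x → fibreDimAt f ξ ≤ fibreDimAt f x`.
-/
import Groth.Agent.Lib.Helper73.Chevalley
set_option linter.style.haveILetI false
set_option autoImplicit false
universe u
open Cardinal CategoryTheory AlgebraicGeometry

namespace Groth.Agent.Lib.Helper73.SchemeDim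

open Groth.Agent.Lib.Helper73.DimFormula Groth.Agent.Lib.Helper73.RelHt

variable {X S : Scheme.{u}}

/-- residue transcendence degree at a generization in the same fibre, bounded by the local fibre
dimension. -/
theorem trdeg_le_fibreDimAt_of_fibre [IsLocallyNoetherian S] (f : X ⟶ S) [LocallyOfFiniteType f]
    {x' x : X} (h : x' ⤳ x) (hf : f.base x' = f.base x) (n' : ℕ)
    (hn' : letI := (f.residueFieldMap x').hom.toAlgebra
      Algebra.trdeg (S.residueField (f.base x')) (X.residueField x') = n') :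
    (n' : WithBot ℕ∞) ≤ FlatMor.fibreDimAt f x := by
  obtain ⟨n, hn⟩ := exists_trdeg_residueField_eq_nat f x
  rw [fibreDimAt_eq f x n hn]
  have h1 := relHt_add_trdeg_eq_of_fibre f h hf n' n hn' hn
  have h2 := relHt_le_ringKrullDim_stalk_fiber f x x' hf
  refine le_trans ?_ (add_le_add_left h2 _)
  have h3 : (n' : WithBot ℕ∞) = ((relHt x x' : ℕ∞) : WithBot ℕ∞) + (n : WithBot ℕ∞) := by
    exact_mod_cast (congrArg (fun a : ℕ∞ => (a : WithBot ℕ∞)) h1).symm
  exact h3.le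

/-- **Chevalley's theorem** (pointwise form): residue transcendence degree at any generization is
bounded by the local fibre dimension. -/
theorem trdeg_le_fibreDimAt [IsLocallyNoetherian S] (f : X ⟶ S) [LocallyOfFiniteType f]
    {ξ x : X} (h : ξ ⤳ x) (nξ : ℕ)
    (hnξ : letI := (f.residueFieldMap ξ).hom.toAlgebra
      Algebra.trdeg (S.residueField (f.base ξ)) (X.residueField ξ) = nξ) :
    (nξ : WithBot ℕ∞) ≤ FlatMor.fibreDimAt f x := by
  obtain ⟨n, hn⟩ := exists_trdeg_residueField_eq_nat f x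
  obtain ⟨m, c₁, hm, -, -, -, -⟩ := exists_ltSeries_fibre_stalk f x
  have hF := fibreDimAt_eq f x n hn
  rw [hm] at hF
  rw [hF]
  obtain ⟨_, ⟨V, hV : IsAffineOpen V, rfl⟩, hfxV, -⟩ :=
    (S.isBasis_affineOpens).exists_subset_of_mem_open (Set.mem_univ (f.base x)) isOpen_univ
  obtain ⟨_, ⟨U, hU : IsAffineOpen U, rfl⟩, hxU, hUV⟩ :=
    (X.isBasis_affineOpens).exists_subset_of_mem_open
      (show x ∈ (f ⁻¹ᵁ V : Set X) from hfxV) (f ⁻¹ᵁ V).isOpen
  have e : U ≤ f ⁻¹ᵁ V := hUV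
  have hξU : ξ ∈ U := h.mem_open U.isOpen hxU
  letI : Algebra Γ(S, V) Γ(X, U) := (f.appLE V U e).hom.toAlgebra
  have halg : algebraMap Γ(S, V) Γ(X, U) = (f.appLE V U e).hom := rfl
  haveI : Algebra.FiniteType Γ(S, V) Γ(X, U) := f.finiteType_appLE hV hU e
  haveI : IsNoetherianRing Γ(S, V) := IsLocallyNoetherian.component_noetherian ⟨V, hV⟩
  set q := (hU.primeIdealOf ⟨x, hxU⟩).asIdeal with hq
  set q₀ := (hU.primeIdealOf ⟨ξ, hξU⟩).asIdeal with hq₀
  set p := (hV.primeIdealOf ⟨f.base x, e hxU⟩).asIdeal with hp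
  set p₀ := (hV.primeIdealOf ⟨f.base ξ, e hξU⟩).asIdeal with hp₀
  haveI hlo : q.LiesOver p := liesOver_primeIdealOf f x hV hU e hxU halg
  haveI hlo₀ : q₀.LiesOver p₀ := liesOver_primeIdealOf f ξ hV hU e hξU halg
  have hle : q₀ ≤ q := (primeIdealOf_le_iff_specializes hU x ξ hxU hξU).mpr h
  have hpq : q.under Γ(S, V) = p := (Ideal.over_def q p).symm
  have hpq₀ : q₀.under Γ(S, V) = p₀ := (Ideal.over_def q₀ p₀).symm
  have key := trdeg_quotient_le_of_forall_le (m + n) Γ(S, V) Γ(X, U) q₀ q hle ?_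
  · have h2 := trdeg_residueFieldMap_eq f ξ hV hU e hξU halg
    have h3 : Algebra.trdeg (Γ(S, V) ⧸ q₀.under Γ(S, V)) (Γ(X, U) ⧸ q₀) =
        Algebra.trdeg (Γ(S, V) ⧸ p₀) (Γ(X, U) ⧸ q₀) := trdeg_quotient_congr rfl hpq₀
    rw [h3, ← h2] at key
    have key' : ((nξ : ℕ) : Cardinal.{u}) ≤ ((m + n : ℕ) : Cardinal.{u}) := by
      rw [← hnξ]; exact key
    have key'' : nξ ≤ m + n := by exact_mod_cast key'
    exact_mod_cast key''
  · intro q' hq' hq'q hq'lo
    obtain ⟨x', hx'U, hx'⟩ := exists_primeIdealOf_eq hU ⟨q', hq'⟩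
    have hx'q' : (hU.primeIdealOf ⟨x', hx'U⟩).asIdeal = q' := congrArg PrimeSpectrum.asIdeal hx'
    have hsp : x' ⤳ x := by
      rw [← primeIdealOf_le_iff_specializes hU x x' hxU hx'U, hx']
      exact hq'q
    have hfx' : f.base x' = f.base x := by
      refine base_eq_of_comap_primeIdealOf_eq f hV hU e hx'U hxU ?_
      rw [hx'q', ← halg]
      change q'.under Γ(S, V) = q.under Γ(S, V)
      rw [← Ideal.over_def q' (q.under Γ(S, V))]
    obtain ⟨n', hn'⟩ := exists_trdeg_residueField_eq_nat f x'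
    have h1 := trdeg_le_fibreDimAt_of_fibre f hsp hfx' n' hn'
    rw [hF] at h1
    have h1' : n' ≤ m + n := by exact_mod_cast h1
    haveI hlo' : (hU.primeIdealOf ⟨x', hx'U⟩).asIdeal.LiesOver
        (hV.primeIdealOf ⟨f.base x', e hx'U⟩).asIdeal := liesOver_primeIdealOf f x' hV hU e hx'U halg
    have h2 := trdeg_residueFieldMap_eq f x' hV hU e hx'U halg
    have hpp : (hV.primeIdealOf ⟨f.base x', e hx'U⟩).asIdeal = q.under Γ(S, V) := by
      rw [hpq, hp]
      congr 3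
    have h3 : Algebra.trdeg (Γ(S, V) ⧸ (hV.primeIdealOf ⟨f.base x', e hx'U⟩).asIdeal)
        (Γ(X, U) ⧸ (hU.primeIdealOf ⟨x', hx'U⟩).asIdeal) =
        Algebra.trdeg (Γ(S, V) ⧸ q.under Γ(S, V)) (Γ(X, U) ⧸ q') :=
      trdeg_quotient_congr hx'q' hpp
    rw [← h3, ← h2, hn']
    exact_mod_cast h1'

/-- **Chevalley**: the local fibre dimension is monotone under specialization. -/
theorem fibreDimAt_mono [IsLocallyNoetherian S] (f : X ⟶ S) [LocallyOfFiniteType f]
    {ξ x : X} (h : ξ ⤳ x) : FlatMor.fibreDimAt f ξ ≤ FlatMor.fibreDimAt f x := by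
  obtain ⟨n, hn⟩ := exists_trdeg_residueField_eq_nat f ξ
  obtain ⟨m, c₁, hm, hc₁len, hc₁head, hc₁f, -⟩ := exists_ltSeries_fibre_stalk f ξ
  rw [fibreDimAt_eq f ξ n hn, hm]
  set ξ' := c₁.last with hξ'
  have hfξ' : f.base ξ' = f.base ξ := hc₁f _
  have hsp : ξ' ⤳ ξ := by
    have : c₁.head ≤ c₁.last := LTSeries.head_le_last c₁
    rw [hc₁head] at this
    exact this
  obtain ⟨n', hn'⟩ := exists_trdeg_residueField_eq_nat f ξ'
  have h1 := relHt_add_trdeg_eq_of_fibre f hsp hfξ' n' n hn' hn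
  have h2 : (m : ℕ∞) ≤ relHt ξ ξ' := by
    rw [← hc₁len]
    exact length_le_relHt' c₁ hc₁head rfl
  have h3 : (m : ℕ∞) + n ≤ n' := by
    rw [← h1]
    exact add_le_add_left h2 _
  have h4 := trdeg_le_fibreDimAt f (hsp.trans h) n' hn'
  refine le_trans ?_ h4
  exact_mod_cast h3

end Groth.Agent.Lib.Helper73.SchemeDim
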