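/-
helper73: generalized dimension inequality.
* `DimFormula.exists_ltSeries_height_quotient_le`: chain of primes between `q₀` and `q`, all over `p`, of length `ℓ` with
  `ht (q/q₀) ≤ ht (p/p₀) + ℓ`.
* `SchemeDim.exists_ltSeries_relHt_le`: for `ξ ⤳ x` there is a chain of generizations of `x` in its fibre, below `ξ`, of length
  `ℓ` with `relHt x ξ ≤ relHt (f x) (f ξ) + ℓ`.
-/
import Groth.Agent.Lib.Helper73.ChevalleyScheme
set_option linter.style.haveILetI false
set_option autoImplicit false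
universe u v
open Cardinal CategoryTheory AlgebraicGeometry

namespace Groth.Agent.Lib.Helper73.DimFormula

/-- relative form of `Ideal.height_le_height_add_of_liesOver`: there is a chain of primes between
`q₀` and `q` ending at `q`, all lying over `p`, of length `ℓ`, with
`ht (q/q₀) ≤ ht (p/p₀) + ℓ`. -/
theorem exists_ltSeries_height_quotient_le {A : Type u} {B : Type v} [CommRing A]
    [IsNoetherianRing A] [CommRing B] [Algebra A B] [IsNoetherianRing B]
    (q₀ q : Ideal B) [q₀.IsPrime] [hq : q.IsPrime] (hle : q₀ ≤ q)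
    (p₀ p : Ideal A) [p₀.IsPrime] [p.IsPrime] [q₀.LiesOver p₀] [q.LiesOver p]
    [hq' : (q.map (Ideal.Quotient.mk q₀)).IsPrime] [hp' : (p.map (Ideal.Quotient.mk p₀)).IsPrime] :
    ∃ l : LTSeries (PrimeSpectrum B), l.last = ⟨q, hq⟩ ∧ q₀ ≤ l.head.asIdeal ∧
      (∀ i, (l i).asIdeal.comap (algebraMap A B) = p) ∧
      (q.map (Ideal.Quotient.mk q₀)).height ≤ (p.map (Ideal.Quotient.mk p₀)).height + l.length := by
  have hple : p₀ ≤ p := by
    rw [Ideal.over_def q₀ p₀, Ideal.over_def q p]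
    exact Ideal.comap_mono hle
  haveI hlo : (q.map (Ideal.Quotient.mk q₀)).LiesOver (p.map (Ideal.Quotient.mk p₀)) := by
    constructor
    ext r
    obtain ⟨r, rfl⟩ := Ideal.Quotient.mk_surjective r
    rw [Ideal.under_def, Ideal.mem_comap, Ideal.Quotient.algebraMap_mk_of_liesOver,
      Ideal.mem_quotient_iff_mem hple, Ideal.mem_quotient_iff_mem hle, Ideal.over_def q p,
      Ideal.under_def, Ideal.mem_comap]
  have h1 := Ideal.height_le_height_add_of_liesOver (p.map (Ideal.Quotient.mk p₀))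
    (q.map (Ideal.Quotient.mk q₀))
  obtain ⟨l, hlast, hlen, hl⟩ := exists_ltSeries_height_quotient_map
    (p.map (Ideal.Quotient.mk p₀)) (q.map (Ideal.Quotient.mk q₀))
  have hsm : StrictMono (PrimeSpectrum.comap (Ideal.Quotient.mk q₀)) :=
    RingHom.strictMono_comap_of_surjective Ideal.Quotient.mk_surjective
  refine ⟨l.map _ hsm, ?_, ?_, ?_, ?_⟩
  · rw [LTSeries.last_map, hlast]
    apply PrimeSpectrum.ext
    change (q.map (Ideal.Quotient.mk q₀)).comap (Ideal.Quotient.mk q₀) = q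
    rw [Ideal.comap_map_of_surjective _ Ideal.Quotient.mk_surjective, ← RingHom.ker_eq_comap_bot,
      Ideal.mk_ker]
    exact sup_eq_left.mpr hle
  · rw [LTSeries.head_map]
    intro b hb
    change Ideal.Quotient.mk q₀ b ∈ l.head.asIdeal
    rw [Ideal.Quotient.eq_zero_iff_mem.mpr hb]
    exact Ideal.zero_mem _
  · intro i
    have h2 := hl i
    ext a
    have h3 : Ideal.Quotient.mk p₀ a ∈ (l i).asIdeal.comap (algebraMap (A ⧸ p₀) (B ⧸ q₀)) ↔
        Ideal.Quotient.mk p₀ a ∈ p.map (Ideal.Quotient.mk p₀) := by rw [h2]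
    rw [Ideal.mem_comap, Ideal.Quotient.algebraMap_mk_of_liesOver,
      Ideal.mem_quotient_iff_mem hple] at h3
    rw [← h3]
    rfl
  · rw [LTSeries.map_length, hlen]
    exact h1

end Groth.Agent.Lib.Helper73.DimFormula

namespace Groth.Agent.Lib.Helper73.SchemeDim

open Groth.Agent.Lib.Helper73.DimFormula Groth.Agent.Lib.Helper73.RelHt

variable {X S : Scheme.{u}}

/-- generalized dimension inequality: `relHt x ξ ≤ relHt (f x) (f ξ) + dim O_{X_{f x}, x}`; more
precisely the last term can be replaced by the length of a chain of generizations of `x` in the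
fibre which are specializations of `ξ`. -/
theorem exists_ltSeries_relHt_le [IsLocallyNoetherian S] (f : X ⟶ S) [LocallyOfFiniteType f]
    {ξ x : X} (hξx : ξ ⤳ x) :
    ∃ c : LTSeries X, c.head = x ∧ ξ ⤳ c.last ∧ (∀ i, f.base (c i) = f.base x) ∧
      relHt x ξ ≤ relHt (f.base x) (f.base ξ) + c.length := by
  obtain ⟨_, ⟨V, hV : IsAffineOpen V, rfl⟩, hfyV, -⟩ :=
    (S.isBasis_affineOpens).exists_subset_of_mem_open (Set.mem_univ (f.base x)) isOpen_univ
  obtain ⟨_, ⟨U, hU : IsAffineOpen U, rfl⟩, hyU, hUV⟩ :=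
    (X.isBasis_affineOpens).exists_subset_of_mem_open
      (show x ∈ (f ⁻¹ᵁ V : Set X) from hfyV) (f ⁻¹ᵁ V).isOpen
  have e : U ≤ f ⁻¹ᵁ V := hUV
  have hxU : ξ ∈ U := hξx.mem_open U.isOpen hyU
  letI : Algebra Γ(S, V) Γ(X, U) := (f.appLE V U e).hom.toAlgebra
  have halg : algebraMap Γ(S, V) Γ(X, U) = (f.appLE V U e).hom := rfl
  haveI : Algebra.FiniteType Γ(S, V) Γ(X, U) := f.finiteType_appLE hV hU e
  haveI : IsNoetherianRing Γ(S, V) := IsLocallyNoetherian.component_noetherian ⟨V, hV⟩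
  haveI : IsNoetherianRing Γ(X, U) := Algebra.FiniteType.isNoetherianRing Γ(S, V) Γ(X, U)
  set q := (hU.primeIdealOf ⟨x, hyU⟩).asIdeal with hq
  set q₀ := (hU.primeIdealOf ⟨ξ, hxU⟩).asIdeal with hq₀
  set p := (hV.primeIdealOf ⟨f.base x, e hyU⟩).asIdeal with hp
  set p₀ := (hV.primeIdealOf ⟨f.base ξ, e hxU⟩).asIdeal with hp₀
  haveI hlo : q.LiesOver p := liesOver_primeIdealOf f x hV hU e hyU halg
  haveI hlo₀ : q₀.LiesOver p₀ := liesOver_primeIdealOf f ξ hV hU e hxU halg
  have hle : q₀ ≤ q := (primeIdealOf_le_iff_specializes hU x ξ hyU hxU).mpr hξx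
  have hfxy : f.base ξ ⤳ f.base x := hξx.map f.continuous
  have hple : p₀ ≤ p := (primeIdealOf_le_iff_specializes hV _ _ (e hyU) (e hxU)).mpr hfxy
  haveI hq' : (q.map (Ideal.Quotient.mk q₀)).IsPrime :=
    Ideal.map_isPrime_of_surjective Ideal.Quotient.mk_surjective (by rwa [Ideal.mk_ker])
  haveI hp' : (p.map (Ideal.Quotient.mk p₀)).IsPrime :=
    Ideal.map_isPrime_of_surjective Ideal.Quotient.mk_surjective (by rwa [Ideal.mk_ker])
  have hr1 : relHt x ξ = (q.map (Ideal.Quotient.mk q₀)).height := relHt_eq_height hU hyU hxU hξx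
  have hr2 : relHt (f.base x) (f.base ξ) = (p.map (Ideal.Quotient.mk p₀)).height :=
    relHt_eq_height hV (e hyU) (e hxU) hfxy
  rw [hr1, hr2]
  obtain ⟨l, hlast, hhead, hl, hineq⟩ := exists_ltSeries_height_quotient_le q₀ q hle p₀ p
  obtain ⟨c, hclen, ⟨hch, hchead⟩, ⟨hcl, hclast⟩, hc⟩ := exists_ltSeries_of_primes hU l
  refine ⟨c, ?_, ?_, ?_, ?_⟩
  · apply primeIdealOf_injective hU hch hyU
    rw [hchead, hlast]
  · rw [← primeIdealOf_le_iff_specializes hU c.last ξ hcl hxU, hclast]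
    exact hhead
  · intro i
    obtain ⟨hi, j, hj⟩ := hc i
    refine base_eq_of_comap_primeIdealOf_eq f hV hU e hi hyU ?_
    rw [hj, ← halg, hl j]
    exact (Ideal.over_def q p)
  · rw [hclen]
    exact hineq

end Groth.Agent.Lib.Helper73.SchemeDim
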