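/-
helper73: chains and residue fields along preimmersions / closed immersions.
* `SchemeDim.preimm_le_iff`, `preimm_lt_iff`, `mapSeries` (+ length/head/last/apply), `exists_ltSeries_of_mem_range`.
* `SchemeDim.trdeg_residueFieldMap_comp`: for `ι` surjective on stalks (closed immersion), the residue transcendence degree of
  `ι ≫ f` at `w` equals that of `f` at `ι w`.
-/
import Groth.Agent.Lib.Helper73.GenIneq
import Groth.Agent.Lib.Helper73.FibreClosure
set_option linter.style.haveILetI false
set_option autoImplicit false
universe u v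
open Cardinal CategoryTheory AlgebraicGeometry

namespace Groth.Agent.Lib.Helper73.SchemeDim

open Groth.Agent.Lib.Helper73.DimFormula Groth.Agent.Lib.Helper73.RelHt

variable {Z X S : Scheme.{u}}

theorem preimm_le_iff (ι : Z ⟶ X) [IsPreimmersion ι] (a b : Z) : ι.base a ≤ ι.base b ↔ a ≤ b :=
  ι.isEmbedding.isInducing.specializes_iff

theorem preimm_lt_iff (ι : Z ⟶ X) [IsPreimmersion ι] (a b : Z) : ι.base a < ι.base b ↔ a < b := by
  rw [lt_iff_le_not_ge, lt_iff_le_not_ge, preimm_le_iff, preimm_le_iff]

/-- the image of a chain under a preimmersion. -/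
noncomputable def mapSeries (ι : Z ⟶ X) [IsPreimmersion ι] (c : LTSeries Z) : LTSeries X :=
  c.map ι.base (fun _ _ h => (preimm_lt_iff ι _ _).mpr h)

@[simp] theorem mapSeries_length (ι : Z ⟶ X) [IsPreimmersion ι] (c : LTSeries Z) :
    (mapSeries ι c).length = c.length := LTSeries.map_length _ _ _

@[simp] theorem mapSeries_head (ι : Z ⟶ X) [IsPreimmersion ι] (c : LTSeries Z) :
    (mapSeries ι c).head = ι.base c.head := LTSeries.head_map _ _ _

@[simp] theorem mapSeries_last (ι : Z ⟶ X) [IsPreimmersion ι] (c : LTSeries Z) :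
    (mapSeries ι c).last = ι.base c.last := LTSeries.last_map _ _ _

theorem mapSeries_apply (ι : Z ⟶ X) [IsPreimmersion ι] (c : LTSeries Z) (i : Fin (c.length + 1)) :
    (mapSeries ι c) i = ι.base (c i) := rfl

/-- lift a chain of points in the range of a preimmersion. -/
theorem exists_ltSeries_of_mem_range (ι : Z ⟶ X) [IsPreimmersion ι] (c : LTSeries X)
    (hc : ∀ i, c i ∈ Set.range ι.base) :
    ∃ c' : LTSeries Z, c'.length = c.length ∧ ι.base c'.head = c.head ∧ ι.base c'.last = c.last ∧
      ∀ i, ∃ j, ι.base (c' i) = c j := by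
  choose d hd using hc
  refine ⟨LTSeries.mk c.length d ?_, rfl, hd _, hd _, fun i => ⟨i, hd i⟩⟩
  intro i j hij
  rw [← preimm_lt_iff ι, hd, hd]
  exact c.strictMono hij

/-- residue transcendence degrees are unchanged by composing with a morphism that is surjective on
stalks (e.g. a closed immersion) on the source side. -/
theorem trdeg_residueFieldMap_comp (ι : Z ⟶ X) [SurjectiveOnStalks ι] (f : X ⟶ S) (w : Z) :
    @Algebra.trdeg (S.residueField ((ι ≫ f).base w)) (Z.residueField w) _ _
      ((ι ≫ f).residueFieldMap w).hom.toAlgebra =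
    @Algebra.trdeg (S.residueField (f.base (ι.base w))) (X.residueField (ι.base w)) _ _
      (f.residueFieldMap (ι.base w)).hom.toAlgebra := by
  letI a1 : Algebra (S.residueField ((ι ≫ f).base w)) (Z.residueField w) :=
    ((ι ≫ f).residueFieldMap w).hom.toAlgebra
  letI a2 : Algebra (S.residueField (f.base (ι.base w))) (X.residueField (ι.base w)) :=
    (f.residueFieldMap (ι.base w)).hom.toAlgebra
  have hsurj : Function.Surjective (ι.residueFieldMap w).hom := by
    have h1 := Scheme.residue_residueFieldMap ι w
    have h2 : Function.Surjective (ι.stalkMap w ≫ Z.residue w).hom := by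
      change Function.Surjective ((Z.residue w).hom ∘ (ι.stalkMap w).hom)
      exact (Z.residue_surjective w).comp (ι.stalkMap_surjective w)
    rw [← h1] at h2
    have h3 : Function.Surjective ((ι.residueFieldMap w).hom ∘ (X.residue (ι.base w)).hom) := h2
    exact Function.Surjective.of_comp h3
  have hbij : Function.Bijective (ι.residueFieldMap w).hom :=
    ⟨(ι.residueFieldMap w).hom.injective, hsurj⟩
  let e₂ : X.residueField (ι.base w) ≃+* Z.residueField w :=
    RingEquiv.ofBijective (ι.residueFieldMap w).hom hbij
  symm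
  refine trdeg_eq_of_ringEquiv (RingEquiv.refl _) e₂ ?_
  intro d
  change (ι.residueFieldMap w).hom ((f.residueFieldMap (ι.base w)).hom d) =
    ((ι ≫ f).residueFieldMap w).hom d
  rw [Scheme.residueFieldMap_comp]
  rfl

end Groth.Agent.Lib.Helper73.SchemeDim
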