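/-
helper73: dimension of the local ring of an irreducible closed subscheme versus base + fibre (EGA IV 5.6.x-type statement).
* `SchemeDim.dim_subscheme_stalk_eq_iff_core`: for closed immersions `ι : Z ⟶ X` with range the irreducible closed `X'` and
  `ιY : ZY ⟶ Y` with range `closure (f '' X')`, `dim O_{Z,w} = dim O_{Y,f x} + dim O_{X_y,x}` iff the four conditions of S4985.
-/
import Groth.Agent.Lib.Helper73.ClosedImm
set_option linter.style.haveILetI false
set_option autoImplicit false
universe u v
open Cardinal CategoryTheory AlgebraicGeometry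

namespace Groth.Agent.Lib.Helper73.SchemeDim

open Groth.Agent.Lib.Helper73.DimFormula Groth.Agent.Lib.Helper73.RelHt

/-- core statement with the closed immersions abstracted. -/
theorem dim_subscheme_stalk_eq_iff_core {X Y Z ZY : Scheme.{u}} [IsLocallyNoetherian Y] (f : X ⟶ Y)
    [LocallyOfFiniteType f] (ι : Z ⟶ X) [IsClosedImmersion ι] (ιY : ZY ⟶ Y) [IsClosedImmersion ιY]
    (X' : Set X) (hirr : IsIrreducible X') (hX'cl : IsClosed X')
    (hrange : Set.range ι.base = X') (hrangeY : Set.range ιY.base = closure (f.base '' X'))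
    (w : Z) (v : ZY) (hv : ιY.base v = f.base (ι.base w))
    (η' : Y) (hη' : closure ({η'} : Set Y) = closure (f.base '' X')) :
    (ringKrullDim (Z.presheaf.stalk w) =
        ringKrullDim (Y.presheaf.stalk (f.base (ι.base w))) +
          ringKrullDim ((f.fiber (f.base (ι.base w))).presheaf.stalk (f.asFiber (ι.base w))) ↔
      (ringKrullDim (ZY.presheaf.stalk v) = ringKrullDim (Y.presheaf.stalk (f.base (ι.base w))) ∧
        ringKrullDim (((ι ≫ f).fiber ((ι ≫ f).base w)).presheaf.stalk ((ι ≫ f).asFiber w)) =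
          ringKrullDim ((f.fiber (f.base (ι.base w))).presheaf.stalk (f.asFiber (ι.base w))) ∧
        FlatMor.fibreDimAt (ι ≫ f) w = topologicalKrullDim ↥(X' ∩ f.base ⁻¹' {η'}) ∧
        ringKrullDim (Z.presheaf.stalk w) = ringKrullDim (ZY.presheaf.stalk v) +
          ringKrullDim (((ι ≫ f).fiber ((ι ≫ f).base w)).presheaf.stalk ((ι ≫ f).asFiber w)))) := by
  set g := ι ≫ f with hg
  set x := ι.base w with hx
  have : IsLocallyNoetherian X := LocallyOfFiniteType.isLocallyNoetherian f
  have : IsLocallyNoetherian Z := LocallyOfFiniteType.isLocallyNoetherian g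
  -- generic points
  obtain ⟨ξ', hξ'⟩ := QuasiSober.sober hirr hX'cl
  have hξ'cl : closure {ξ'} = X' := hξ'.def
  have hξ'mem : ξ' ∈ Set.range ι.base := by
    rw [hrange, ← hξ'cl]; exact subset_closure rfl
  obtain ⟨ω, hω⟩ := hξ'mem
  have hωtop : ∀ z : Z, ω ⤳ z := by
    intro z
    rw [← ι.isEmbedding.isInducing.specializes_iff, hω, specializes_iff_mem_closure, hξ'cl,
      ← hrange]
    exact Set.mem_range_self z
  have hgω : g.base ω = η' := by
    change f.base (ι.base ω) = η'
    rw [hω]
    have h1 : closure ({f.base ξ'} : Set Y) = closure (f.base '' X') := by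
      apply le_antisymm
      · apply closure_mono
        rw [Set.singleton_subset_iff]
        exact ⟨ξ', by rw [← hξ'cl]; exact subset_closure rfl, rfl⟩
      · apply closure_minimal _ isClosed_closure
        rw [← hξ'cl]
        exact (image_closure_subset_closure_image f.continuous).trans (by rw [Set.image_singleton])
    have h2 : closure ({f.base ξ'} : Set Y) = closure {η'} := h1.trans hη'.symm
    have h3 : f.base ξ' ⤳ η' := by
      rw [specializes_iff_mem_closure, h2]; exact subset_closure rfl
    have h4 : η' ⤳ f.base ξ' := by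
      rw [specializes_iff_mem_closure, ← h2]; exact subset_closure rfl
    exact (Specializes.antisymm h3 h4).eq
  -- numerical data
  obtain ⟨nw, hnw⟩ := exists_trdeg_residueField_eq_nat g w
  obtain ⟨nω, hnω⟩ := exists_trdeg_residueField_eq_nat g ω
  obtain ⟨m, -, hm, -, -, -, -⟩ := exists_ltSeries_fibre_stalk f x
  obtain ⟨m', -, hm', -, -, -, -⟩ := exists_ltSeries_fibre_stalk g w
  have hgw : g.base w = f.base x := rfl
  -- dB' as a relative height
  have hdB' : ringKrullDim (Z.presheaf.stalk w) = relHt w ω := ringKrullDim_stalk_eq_relHt ω hωtop w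
  have hfinB' : relHt w ω < ⊤ := relHt_lt_top (hωtop w)
  obtain ⟨b', hb'⟩ := ENat.ne_top_iff_exists.mp hfinB'.ne
  -- dA, dA'
  have hfinA : Order.coheight (f.base x) < ⊤ := by
    have h1 : ringKrullDim (Y.presheaf.stalk (f.base x)) < ⊤ := ringKrullDim_lt_top
    rw [ringKrullDim_stalk_eq_coheight, ← WithBot.coe_top] at h1
    exact WithBot.coe_lt_coe.mp h1
  obtain ⟨a, ha⟩ := ENat.ne_top_iff_exists.mp hfinA.ne
  have hdA : ringKrullDim (Y.presheaf.stalk (f.base x)) = (a : WithBot ℕ∞) := by
    rw [ringKrullDim_stalk_eq_coheight, ← ha]; rfl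
  have hA'le : Order.coheight v ≤ Order.coheight (f.base x) := by
    have := Order.coheight_le_coheight_apply_of_strictMono ιY.base
      (fun a b h => (preimm_lt_iff ιY a b).mpr h) v
    rwa [hv] at this
  obtain ⟨a', ha'⟩ := ENat.ne_top_iff_exists.mp (lt_of_le_of_lt hA'le hfinA).ne
  have hdA' : ringKrullDim (ZY.presheaf.stalk v) = (a' : WithBot ℕ∞) := by
    rw [ringKrullDim_stalk_eq_coheight, ← ha']; rfl
  have ha'a : a' ≤ a := by
    rw [← ha', ← ha] at hA'le; exact_mod_cast hA'le
  -- R := relHt (g w) (g ω) ≤ dA'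
  have hR : relHt (g.base w) (g.base ω) ≤ (a' : ℕ∞) := by
    refine relHt_le fun c h1 h2 => ?_
    have hc : ∀ i, c i ∈ Set.range ιY.base := by
      intro i
      rw [hrangeY, ← hη', ← specializes_iff_mem_closure, ← hgω, ← h2]
      exact c.monotone (Fin.le_last i)
    obtain ⟨c', hlen, hhead, -, -⟩ := exists_ltSeries_of_mem_range ιY c hc
    have hc'head : c'.head = v := by
      apply ιY.isEmbedding.injective
      rw [hhead, h1, hv]
      rfl
    rw [← hlen, ha', ← hc'head]
    exact Order.length_le_coheight_head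
  obtain ⟨r, hr⟩ := ENat.ne_top_iff_exists.mp (lt_of_le_of_lt hR (ENat.natCast_lt_top a')).ne
  have hra' : r ≤ a' := by rw [← hr] at hR; exact_mod_cast hR
  -- dB'k ≤ dBk
  have hm'm : m' ≤ m := by
    have h1 := ringKrullDim_stalk_fiber_le g w (m : ℕ∞) ?_
    · rw [hm'] at h1; exact_mod_cast h1
    · intro c hhead hc
      have h2 := le_ringKrullDim_stalk_fiber f x (mapSeries ι c)
        (by rw [mapSeries_head, hhead]) (fun i => hc i)
      rw [hm, mapSeries_length] at h2
      exact_mod_cast h2
  -- GI: dB' ≤ R + dB'k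
  have hGI : b' ≤ r + m' := by
    obtain ⟨c, hchead, -, hcf, hineq⟩ := exists_ltSeries_relHt_le g (hωtop w)
    have h1 := le_ringKrullDim_stalk_fiber g w c hchead hcf
    rw [hm'] at h1
    have h1' : c.length ≤ m' := by exact_mod_cast h1
    rw [← hb', ← hr] at hineq
    have h2 : b' ≤ r + c.length := by exact_mod_cast hineq
    omega
  -- dimension inequality and Chevalley for g
  have hineq := (relHt_add_trdeg_aux g (hωtop w) nω nw hnω hnw).1
  rw [← hb', ← hr] at hineq
  have hineq' : b' + nw ≤ r + nω := by exact_mod_cast hineq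
  have hchev := trdeg_le_fibreDimAt g (hωtop w) nω hnω
  have hFg := fibreDimAt_eq g w nw hnw
  rw [hm'] at hFg
  rw [hFg] at hchev
  have hchev' : nω ≤ m' + nw := by exact_mod_cast hchev
  -- e' = nω
  have he' : topologicalKrullDim ↥(X' ∩ f.base ⁻¹' {η'}) = (nω : WithBot ℕ∞) := by
    have h1 := trdeg_residueFieldMap_comp ι f ω
    have hnξ' : (letI := (f.residueFieldMap (ι.base ω)).hom.toAlgebra
        Algebra.trdeg (Y.residueField (f.base (ι.base ω))) (X.residueField (ι.base ω))) = nω := by
      rw [← h1]; exact hnω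
    have h2 := topologicalKrullDim_closure_inter_fibre f (ι.base ω) nω hnξ'
    rw [hω] at h2
    have h3 : f.base ξ' = η' := by rw [← hω]; exact hgω
    rw [hξ'cl, h3] at h2
    exact h2
  rw [hdB', ← hb', hdA, hdA', hm, hm', hFg, he']
  constructor
  · intro h
    have h1 : b' = a + m := by exact_mod_cast h
    have e1 : a' = a := by omega
    have e2 : m' = m := by omega
    have e3 : m' + nw = nω := by omega
    have e4 : b' = a' + m' := by omega
    refine ⟨by rw [e1], by rw [e2], ?_, ?_⟩
    · exact_mod_cast e3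
    · exact_mod_cast e4
  · rintro ⟨h1, h2, -, h4⟩
    have e1 : a' = a := by exact_mod_cast h1
    have e2 : m' = m := by exact_mod_cast h2
    have e4 : b' = a' + m' := by exact_mod_cast h4
    have : b' = a + m := by omega
    exact_mod_cast this

end Groth.Agent.Lib.Helper73.SchemeDim
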