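/-
helper73: local dimension is a homeomorphism invariant; the fibre of `ι ≫ f` (ι a preimmersion) as a subspace of `X`.
* `SchemeDim.localDim_eq_of_isHomeomorph`: `localDim A a = localDim B (φ a)` for a homeomorphism `φ`.
* `SchemeDim.fibreDimAt_comp_preimm`: `fibreDimAt (ι ≫ f) w = localDim ↥(range ι ∩ f⁻¹{f (ι w)}) (ι w)`.
* `SchemeDim.dim_subscheme_stalk_eq_iff_core2`: S4986 with abstract closed immersions.
-/
import Groth.Agent.Lib.Helper73.SubschemeDim
set_option linter.style.haveILetI false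
set_option autoImplicit false
universe u
open CategoryTheory AlgebraicGeometry

namespace Groth.Agent.Lib.Helper73.SchemeDim

theorem localDim_le_of_isHomeomorph {A B : Type*} [TopologicalSpace A] [TopologicalSpace B]
    (φ : A → B) (hφ : IsHomeomorph φ) (a : A) :
    FlatMor.localDim A a ≤ FlatMor.localDim B (φ a) := by
  unfold FlatMor.localDim
  refine le_iInf fun ⟨V, hV⟩ => ?_
  refine (iInf_le _ ⟨⟨φ ⁻¹' V, V.2.preimage hφ.continuous⟩, hV⟩).trans ?_
  have hind : Topology.IsInducing (fun p : ↥(φ ⁻¹' (V : Set B)) => (⟨φ p.1, p.2⟩ : ↥(V : Set B))) :=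
    (hφ.isInducing.comp Topology.IsInducing.subtypeVal).codRestrict _
  exact hind.topologicalKrullDim_le

theorem localDim_eq_of_isHomeomorph {A B : Type*} [TopologicalSpace A] [TopologicalSpace B]
    (φ : A → B) (hφ : IsHomeomorph φ) (a : A) :
    FlatMor.localDim A a = FlatMor.localDim B (φ a) := by
  refine le_antisymm (localDim_le_of_isHomeomorph φ hφ a) ?_
  have h := localDim_le_of_isHomeomorph (hφ.homeomorph φ).symm (hφ.homeomorph φ).symm.isHomeomorph (φ a)
  have h2 : (hφ.homeomorph φ).symm (φ a) = a := (hφ.homeomorph φ).symm_apply_apply a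
  rwa [h2] at h

variable {X Y Z : Scheme.{u}}

theorem fibreDimAt_comp_preimm (ι : Z ⟶ X) [IsPreimmersion ι] (f : X ⟶ Y) (w : Z) (X' : Set X)
    (hrange : Set.range ι.base = X') (hmem : ι.base w ∈ X' ∩ f.base ⁻¹' {f.base (ι.base w)}) :
    FlatMor.fibreDimAt (ι ≫ f) w =
      FlatMor.localDim ↥(X' ∩ f.base ⁻¹' {f.base (ι.base w)}) ⟨ι.base w, hmem⟩ := by
  set g := ι ≫ f with hg
  have hmaps : ∀ p : (g.fiber (g.base w)), ι.base ((g.fiberι (g.base w)).base p) ∈
      X' ∩ f.base ⁻¹' {f.base (ι.base w)} := by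
    intro p
    refine ⟨hrange ▸ Set.mem_range_self _, ?_⟩
    have h1 : (g.fiberι (g.base w)).base p ∈ Set.range (g.fiberι (g.base w)).base := Set.mem_range_self p
    rw [Scheme.Hom.range_fiberι] at h1
    exact h1
  let φ : (g.fiber (g.base w)) → ↥(X' ∩ f.base ⁻¹' {f.base (ι.base w)}) :=
    fun p => ⟨ι.base ((g.fiberι (g.base w)).base p), hmaps p⟩
  have hφ : IsHomeomorph φ := by
    rw [isHomeomorph_iff_isEmbedding_surjective]
    constructor
    · exact (ι.isEmbedding.comp (g.fiberι (g.base w)).isEmbedding).codRestrict _ _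
    · rintro ⟨x, hx1, hx2⟩
      rw [← hrange] at hx1
      obtain ⟨z, rfl⟩ := hx1
      have hz : z ∈ Set.range (g.fiberι (g.base w)).base := by
        rw [Scheme.Hom.range_fiberι]
        exact hx2
      obtain ⟨p, rfl⟩ := hz
      exact ⟨p, rfl⟩
  unfold FlatMor.fibreDimAt
  rw [localDim_eq_of_isHomeomorph φ hφ]
  congr 1
  apply Subtype.ext
  change ι.base ((g.fiberι (g.base w)).base (g.asFiber w)) = ι.base w
  rw [Scheme.Hom.fiberι_asFiber]

/-- S4986 with the closed immersions abstracted. -/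
theorem dim_subscheme_stalk_eq_iff_core2 {X Y Z ZY : Scheme.{u}} [IsLocallyNoetherian Y] (f : X ⟶ Y)
    [LocallyOfFiniteType f] (ι : Z ⟶ X) [IsClosedImmersion ι] (ιY : ZY ⟶ Y) [IsClosedImmersion ιY]
    (X' : Set X) (hirr : IsIrreducible X') (hX'cl : IsClosed X')
    (hrange : Set.range ι.base = X') (hrangeY : Set.range ιY.base = closure (f.base '' X'))
    (w : Z) (v : ZY) (hv : ιY.base v = f.base (ι.base w))
    (η' : Y) (hη' : closure ({η'} : Set Y) = closure (f.base '' X'))
    (hmem : ι.base w ∈ X' ∩ f.base ⁻¹' {f.base (ι.base w)})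
    (hB : ringKrullDim (X.presheaf.stalk (ι.base w)) =
      ringKrullDim (Y.presheaf.stalk (f.base (ι.base w))) +
        ringKrullDim ((f.fiber (f.base (ι.base w))).presheaf.stalk (f.asFiber (ι.base w)))) :
    ((ringKrullDim (ZY.presheaf.stalk v) = ringKrullDim (Y.presheaf.stalk (f.base (ι.base w))) ∧
        FlatMor.localDim ↥(X' ∩ f.base ⁻¹' {f.base (ι.base w)}) ⟨ι.base w, hmem⟩ =
          FlatMor.fibreDimAt f (ι.base w) ∧
        FlatMor.fibreDimAt (ι ≫ f) w = topologicalKrullDim ↥(X' ∩ f.base ⁻¹' {η'}) ∧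
        ringKrullDim (Z.presheaf.stalk w) = ringKrullDim (ZY.presheaf.stalk v) +
          ringKrullDim (((ι ≫ f).fiber ((ι ≫ f).base w)).presheaf.stalk ((ι ≫ f).asFiber w))) ↔
      ringKrullDim (Z.presheaf.stalk w) = ringKrullDim (X.presheaf.stalk (ι.base w))) := by
  rw [hB, dim_subscheme_stalk_eq_iff_core f ι ιY X' hirr hX'cl hrange hrangeY w v hv η' hη']
  have : IsLocallyNoetherian X := LocallyOfFiniteType.isLocallyNoetherian f
  obtain ⟨nw, hnw⟩ := exists_trdeg_residueField_eq_nat (ι ≫ f) w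
  have hnx : (letI := (f.residueFieldMap (ι.base w)).hom.toAlgebra
      Algebra.trdeg (Y.residueField (f.base (ι.base w))) (X.residueField (ι.base w))) = nw := by
    rw [← trdeg_residueFieldMap_comp ι f w]; exact hnw
  obtain ⟨m, -, hm, -, -, -, -⟩ := exists_ltSeries_fibre_stalk f (ι.base w)
  obtain ⟨m', -, hm', -, -, -, -⟩ := exists_ltSeries_fibre_stalk (ι ≫ f) w
  have h1 := fibreDimAt_eq (ι ≫ f) w nw hnw
  have h2 := fibreDimAt_eq f (ι.base w) nw hnx
  have h3 := fibreDimAt_comp_preimm ι f w X' hrange hmem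
  have key : (FlatMor.localDim ↥(X' ∩ f.base ⁻¹' {f.base (ι.base w)}) ⟨ι.base w, hmem⟩ =
      FlatMor.fibreDimAt f (ι.base w)) ↔
      (ringKrullDim (((ι ≫ f).fiber ((ι ≫ f).base w)).presheaf.stalk ((ι ≫ f).asFiber w)) =
        ringKrullDim ((f.fiber (f.base (ι.base w))).presheaf.stalk (f.asFiber (ι.base w)))) := by
    rw [← h3, h1, h2, hm, hm']
    constructor
    · intro h
      have : m' + nw = m + nw := by exact_mod_cast h
      have : m' = m := by omega
      rw [this]
    · intro h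
      have : m' = m := by exact_mod_cast h
      rw [this]
  rw [key]

end Groth.Agent.Lib.Helper73.SchemeDim
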