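/-
helper73: general-base (non-Noetherian) versions of the ring-level Chevalley lemmas, part 0.
* `DimFormula.trdeg_quotient_add_one_le`: for a domain `D` over `R` and a nonzero prime `Q` with `R → D/Q` injective,
  `trdeg R (D/Q) + 1 ≤ trdeg R D`.
* `DimFormula.trdeg_quotient_add_one_le_of_lt'`: strict drop of residue trdeg along `q₀ < q` over the same `p` (any base ring).
* `DimFormula.finite_isMin_primesOver`, `exists_isMin_primesOver_le`: minimal primes of the fibre over `p` (finite type algebra).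
-/
import Groth.Agent.Lib.Helper73.Chevalley
set_option linter.style.haveILetI false
set_option autoImplicit false
universe u
open Cardinal Polynomial

namespace Groth.Agent.Lib.Helper73.DimFormula

/-- transcendence degree strictly drops on passing to the quotient of a domain by a nonzero prime
(no finiteness hypotheses). -/
theorem trdeg_quotient_add_one_le {R D : Type u} [CommRing R] [CommRing D] [IsDomain D] [Algebra R D]
    (Q : Ideal D) [Q.IsPrime] (hQ : Q ≠ ⊥) (hinj : Function.Injective (algebraMap R (D ⧸ Q))) :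
    Algebra.trdeg R (D ⧸ Q) + 1 ≤ Algebra.trdeg R D := by
  haveI : FaithfulSMul R (D ⧸ Q) := (faithfulSMul_iff_algebraMap_injective R (D ⧸ Q)).mpr hinj
  haveI : Nontrivial (D ⧸ Q) := Ideal.Quotient.nontrivial_iff.mpr (Ideal.IsPrime.ne_top inferInstance)
  haveI : Nontrivial R := (algebraMap R (D ⧸ Q)).domain_nontrivial
  obtain ⟨s, hs⟩ := exists_isTranscendenceBasis R (D ⧸ Q)
  choose lift hlift using (Ideal.Quotient.mk_surjective (I := Q))
  let y : s → D := fun i => lift i.1
  have hcomp : (Ideal.Quotient.mkₐ R Q) ∘ y = ((↑) : s → D ⧸ Q) := by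
    funext i
    exact hlift i.1
  have hy : AlgebraicIndependent R y :=
    AlgebraicIndependent.of_comp (Ideal.Quotient.mkₐ R Q) (by rw [hcomp]; exact hs.1)
  obtain ⟨t, htQ, ht0⟩ := Submodule.exists_mem_ne_zero_of_ne_bot hQ
  have htr : Transcendental (Algebra.adjoin R (Set.range y)) t := by
    intro halg
    obtain ⟨F, hF0, hF⟩ := halg.exists_nonzero_coeff_and_aeval_eq_zero
      (mem_nonZeroDivisors_of_ne_zero ht0)
    -- constant coefficient lies in Q
    have hc : ((F.coeff 0 : Algebra.adjoin R (Set.range y)) : D) ∈ Q := by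
      obtain ⟨G, hG⟩ := Polynomial.X_dvd_sub_C (p := F)
      have h1 : aeval t F - aeval t (C (F.coeff 0)) = aeval t (X * G) := by
        rw [← map_sub, hG]
      rw [hF, aeval_C, map_mul, aeval_X, zero_sub] at h1
      have h2 : (algebraMap (Algebra.adjoin R (Set.range y)) D (F.coeff 0)) = -(t * aeval t G) := by
        rw [← h1, neg_neg]
      change algebraMap (Algebra.adjoin R (Set.range y)) D (F.coeff 0) ∈ Q
      rw [h2]
      exact Q.neg_mem (Q.mul_mem_right _ htQ)
    have hmem : ∀ c : Algebra.adjoin R (Set.range y), ∃ P : MvPolynomial s R, MvPolynomial.aeval y P = (c : D) := by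
      intro c
      have h0 : (c : D) ∈ (MvPolynomial.aeval y : MvPolynomial s R →ₐ[R] D).range := by
        rw [← Algebra.adjoin_range_eq_range_aeval]; exact c.2
      exact h0
    obtain ⟨P, hP⟩ := hmem (F.coeff 0)
    have h3 : MvPolynomial.aeval ((↑) : s → D ⧸ Q) P = 0 := by
      have : MvPolynomial.aeval ((↑) : s → D ⧸ Q) P =
          Ideal.Quotient.mkₐ R Q (MvPolynomial.aeval y P) := by
        rw [← hcomp]
        exact (MvPolynomial.comp_aeval_apply (f := y) (Ideal.Quotient.mkₐ R Q) P).symm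
      rw [this]
      change Ideal.Quotient.mkₐ R Q ((MvPolynomial.aeval y) P) = 0
      rw [Ideal.Quotient.mkₐ_eq_mk, Ideal.Quotient.eq_zero_iff_mem]
      have hP' : (MvPolynomial.aeval y) P = ((F.coeff 0 : Algebra.adjoin R (Set.range y)) : D) := hP
      rw [hP']; exact hc
    have hP0 : P = 0 := by
      have := hs.1
      rw [algebraicIndependent_iff_injective_aeval] at this
      exact this (by rw [h3, map_zero])
    apply hF0
    apply Subtype.ext
    have hP' : (MvPolynomial.aeval y) P = ((F.coeff 0 : Algebra.adjoin R (Set.range y)) : D) := hP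
    rw [← hP', hP0, map_zero]
    rfl
  have hopt : AlgebraicIndependent R (fun o : Option s => o.elim t y) :=
    (hy.option_iff_transcendental t).mpr htr
  have h1 := hopt.cardinalMk_le_trdeg
  have h2 := hs.cardinalMk_eq_trdeg
  rw [← h2]
  simpa [Cardinal.mk_option] using h1

end Groth.Agent.Lib.Helper73.DimFormula

namespace Groth.Agent.Lib.Helper73.DimFormula

/-- residue transcendence degrees strictly decrease along strict specializations inside a fibre
(general base ring). -/
theorem trdeg_quotient_add_one_le_of_lt' {A B : Type u} [CommRing A] [CommRing B] [Algebra A B]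
    (q₀ q : Ideal B) [hq₀ : q₀.IsPrime] [hq : q.IsPrime] (hlt : q₀ < q)
    (p : Ideal A) [p.IsPrime] [q₀.LiesOver p] [q.LiesOver p] :
    Algebra.trdeg (A ⧸ p) (B ⧸ q) + 1 ≤ Algebra.trdeg (A ⧸ p) (B ⧸ q₀) := by
  set Q := q.map (Ideal.Quotient.mk q₀) with hQdef
  haveI hQ : Q.IsPrime :=
    Ideal.map_isPrime_of_surjective Ideal.Quotient.mk_surjective (by rw [Ideal.mk_ker]; exact hlt.le)
  let e₀ : ((B ⧸ q₀) ⧸ Q) ≃+* B ⧸ q := DoubleQuot.quotQuotEquivQuotOfLE hlt.le
  let e : ((B ⧸ q₀) ⧸ Q) ≃ₐ[A ⧸ p] B ⧸ q := AlgEquiv.ofRingEquiv (f := e₀) (by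
    rintro ⟨a⟩
    rfl)
  have hne : Q ≠ ⊥ := by
    intro h
    rw [hQdef, Ideal.map_eq_bot_iff_le_ker, Ideal.mk_ker] at h
    exact (not_le_of_gt hlt) h
  have hinj : Function.Injective (algebraMap (A ⧸ p) ((B ⧸ q₀) ⧸ Q)) := by
    have h1 : Function.Injective (algebraMap (A ⧸ p) (B ⧸ q)) :=
      FaithfulSMul.algebraMap_injective _ _
    have h2 : (algebraMap (A ⧸ p) (B ⧸ q)) = e.toAlgHom.toRingHom.comp (algebraMap (A ⧸ p) ((B ⧸ q₀) ⧸ Q)) := by
      ext x
      simp
    intro x y hxy
    apply h1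
    rw [h2]
    simp [hxy]
  have key := trdeg_quotient_add_one_le (R := A ⧸ p) Q hne hinj
  rwa [e.trdeg_eq] at key

end Groth.Agent.Lib.Helper73.DimFormula

namespace Groth.Agent.Lib.Helper73.DimFormula

theorem finite_isMin_primesOver {A B : Type u} [CommRing A] [CommRing B] [Algebra A B]
    [Algebra.FiniteType A B] (p : Ideal A) [p.IsPrime] :
    {Q : p.primesOver B | IsMin Q}.Finite := by
  haveI : IsNoetherianRing (p.Fiber B) :=
    Algebra.FiniteType.isNoetherianRing p.ResidueField (p.Fiber B)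
  let e := PrimeSpectrum.primesOverOrderIsoFiber A B p
  have h := PrimeSpectrum.finite_setOfPred_isMin (p.Fiber B)
  refine Set.Finite.of_finite_image (f := e) ?_ e.injective.injOn
  refine h.subset ?_
  rintro _ ⟨Q, hQ, rfl⟩
  exact (OrderIso.isMin_apply e).mpr hQ

theorem exists_isMin_primesOver_le {A B : Type u} [CommRing A] [CommRing B] [Algebra A B]
    (p : Ideal A) [p.IsPrime] (Q : p.primesOver B) :
    ∃ Q₀ : p.primesOver B, IsMin Q₀ ∧ Q₀ ≤ Q := by
  let e := PrimeSpectrum.primesOverOrderIsoFiber A B p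
  obtain ⟨m, hm, hmle⟩ := Ideal.exists_minimalPrimes_le (I := ⊥) (J := (e Q).asIdeal) bot_le
  have hmp : m.IsPrime := hm.1.1
  let y : PrimeSpectrum (p.Fiber B) := ⟨m, hmp⟩
  have hy : IsMin y := by
    rw [PrimeSpectrum.isMin_iff]
    exact hm
  refine ⟨e.symm y, (OrderIso.isMin_apply e.symm).mpr hy, ?_⟩
  rw [← e.le_iff_le, e.apply_symm_apply]
  exact hmle

end Groth.Agent.Lib.Helper73.DimFormula
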