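/-
helper73: general-base (non-Noetherian) Chevalley semicontinuity, ring level.
* `DimFormula.quasiFiniteAt_of_forall_trdeg_eq_zero'`: if all generizations of `q` in its fibre have algebraic residue field
  extension then `B` is quasi-finite over `A` at `q` (any base ring `A`, `B` of finite type).
* `DimFormula.exists_notMem_forall_trdeg_eq_zero_of_quasiFiniteAt`: ZMT in open form.
* `DimFormula.exists_notMem_forall_trdeg_le`: **Chevalley, open form**: if all generizations of `q` in its fibre have residue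
  trdeg `≤ d` then so have all primes of a basic open nbhd `D(r)` of `q`.
-/
import Groth.Agent.Lib.Helper73.ChevalleyGen0
set_option linter.style.haveILetI false
set_option autoImplicit false
universe u
open Cardinal Polynomial

namespace Groth.Agent.Lib.Helper73.DimFormula

/-- general-base version of `quasiFiniteAt_of_forall_trdeg_eq_zero`. -/
theorem quasiFiniteAt_of_forall_trdeg_eq_zero' {A B : Type u} [CommRing A]
    [CommRing B] [Algebra A B] [Algebra.FiniteType A B] (q : Ideal B) [hq : q.IsPrime]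
    (h : ∀ q' : Ideal B, ∀ [q'.IsPrime], q' ≤ q → ∀ [q'.LiesOver (q.under A)],
      Algebra.trdeg (A ⧸ q.under A) (B ⧸ q') = 0) :
    Algebra.QuasiFiniteAt A q := by
  classical
  set p := q.under A with hp
  haveI : p.IsPrime := Ideal.IsPrime.under A q
  haveI hqp : q.LiesOver p := ⟨rfl⟩
  have hfin := finite_isMin_primesOver (B := B) p
  -- no strict inclusions between primes over `p` below `q`
  have hnolt : ∀ Q Q' : Ideal B, ∀ [Q.IsPrime], ∀ [Q'.IsPrime], ∀ [Q.LiesOver p], ∀ [Q'.LiesOver p],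
      Q ≤ q → Q < Q' → False := by
    intro Q Q' _ _ _ _ hQq hlt
    have h1 := trdeg_quotient_add_one_le_of_lt' Q Q' hlt p
    rw [h Q hQq] at h1
    simp at h1
  let qq : p.primesOver B := ⟨q, hq, hqp⟩
  -- choose `g`
  set s : Finset (Ideal B) := (hfin.toFinset.erase qq).image (fun Q => Q.1) with hs
  have hmem_s : ∀ Q : Ideal B, Q ∈ s ↔ ∃ Q' : p.primesOver B, IsMin Q' ∧ Q' ≠ qq ∧ Q'.1 = Q := by
    intro Q
    rw [hs, Finset.mem_image]
    constructor
    · rintro ⟨Q', hQ', rfl⟩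
      rw [Finset.mem_erase, Set.Finite.mem_toFinset] at hQ'
      exact ⟨Q', hQ'.2, hQ'.1, rfl⟩
    · rintro ⟨Q', h1, h2, rfl⟩
      exact ⟨Q', by rw [Finset.mem_erase, Set.Finite.mem_toFinset]; exact ⟨h2, h1⟩, rfl⟩
  have hnot : ¬ (s.inf id ≤ q) := by
    intro hle
    obtain ⟨Q, hQs, hQq⟩ := (Ideal.IsPrime.inf_le' hq).mp hle
    obtain ⟨Q', -, hne, rfl⟩ := (hmem_s Q).mp hQs
    haveI : Q'.1.IsPrime := Q'.2.1
    haveI : Q'.1.LiesOver p := Q'.2.2
    have hne' : Q'.1 ≠ q := fun h => hne (Subtype.ext h)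
    exact hnolt Q'.1 q hQq (lt_of_le_of_ne hQq hne')
  obtain ⟨g, hgs, hgq⟩ := SetLike.not_le_iff_exists.mp hnot
  refine Algebra.QuasiFiniteAt.of_isOpen_singleton_fiber (R := A) (⟨q, hq⟩ : PrimeSpectrum B) ?_
  rw [isOpen_induced_iff]
  refine ⟨PrimeSpectrum.basicOpen g, (PrimeSpectrum.basicOpen g).isOpen, ?_⟩
  ext ⟨q₁, hq₁⟩
  simp only [Set.mem_preimage, Set.mem_singleton_iff]
  constructor
  · intro hg
    have hg' : g ∉ q₁.asIdeal := hg
    have hq₁p : q₁.asIdeal.under A = p := congrArg PrimeSpectrum.asIdeal hq₁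
    haveI : q₁.asIdeal.LiesOver p := ⟨hq₁p.symm⟩
    obtain ⟨Q₀, hQ₀min, hQ₀le⟩ := exists_isMin_primesOver_le p (⟨q₁.asIdeal, q₁.2, inferInstance⟩ : p.primesOver B)
    haveI : Q₀.1.IsPrime := Q₀.2.1
    haveI : Q₀.1.LiesOver p := Q₀.2.2
    have hQ₀q₁ : Q₀.1 ≤ q₁.asIdeal := hQ₀le
    have hQeq : Q₀ = qq := by
      by_contra hne
      have : Q₀.1 ∈ s := (hmem_s _).mpr ⟨Q₀, hQ₀min, hne, rfl⟩
      have h2 : s.inf id ≤ Q₀.1 := Finset.inf_le (f := id) this
      exact hg' (hQ₀q₁ (h2 hgs))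
    have hqq₁ : q ≤ q₁.asIdeal := by
      have : Q₀.1 = q := congrArg Subtype.val hQeq
      rw [← this]; exact hQ₀q₁
    by_contra hne
    have hne' : q ≠ q₁.asIdeal := fun h => hne (Subtype.ext (PrimeSpectrum.ext h.symm))
    exact hnolt q q₁.asIdeal le_rfl (lt_of_le_of_ne hqq₁ hne')
  · intro heq
    have h1 : q₁ = ⟨q, hq⟩ := congrArg Subtype.val heq
    rw [h1]
    exact hgq

end Groth.Agent.Lib.Helper73.DimFormula

namespace Groth.Agent.Lib.Helper73.DimFormula

/-- (Zariski's main theorem, open form) if `B` is quasi-finite over `A` at `q`, then on a basic open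
neighbourhood of `q` all residue field extensions are algebraic. -/
theorem exists_notMem_forall_trdeg_eq_zero_of_quasiFiniteAt {A B : Type u} [CommRing A] [CommRing B]
    [Algebra A B] [Algebra.FiniteType A B] (q : Ideal B) [q.IsPrime] [Algebra.QuasiFiniteAt A q] :
    ∃ r ∉ q, ∀ q₀ : Ideal B, ∀ [q₀.IsPrime], r ∉ q₀ → ∀ (p₀ : Ideal A) [p₀.IsPrime] [q₀.LiesOver p₀],
      Algebra.trdeg (A ⧸ p₀) (B ⧸ q₀) = 0 := by
  have hZ := Algebra.ZariskisMainProperty.of_finiteType (R := A) q
  rw [Algebra.zariskisMainProperty_iff] at hZ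
  obtain ⟨r, hr, hrint, h⟩ := hZ
  refine ⟨r, hr, ?_⟩
  intro q₀ _ hr₀ p₀ _ _
  rw [trdeg_eq_zero_iff]
  haveI : Nontrivial (A ⧸ p₀) := Ideal.Quotient.nontrivial_iff.mpr (Ideal.IsPrime.ne_top inferInstance)
  have hint : ∀ b : B, IsIntegral A b → IsAlgebraic (A ⧸ p₀) (Ideal.Quotient.mk q₀ b) := by
    intro b hb
    have h1 : IsIntegral A (Ideal.Quotient.mkₐ A q₀ b) := hb.map (Ideal.Quotient.mkₐ A q₀)
    have h2 : IsIntegral (A ⧸ p₀) (Ideal.Quotient.mkₐ A q₀ b) := h1.tower_top
    exact h2.isAlgebraic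
  have hr0 : Ideal.Quotient.mk q₀ r ∈ nonZeroDivisors (B ⧸ q₀) := by
    apply mem_nonZeroDivisors_of_ne_zero
    rw [Ne, Ideal.Quotient.eq_zero_iff_mem]
    exact hr₀
  constructor
  intro b
  obtain ⟨b, rfl⟩ := Ideal.Quotient.mk_surjective b
  obtain ⟨m, hm⟩ := h b
  have h1 := hint _ hm
  rw [map_mul, map_pow] at h1
  exact IsAlgebraic.of_mul (pow_mem hr0 m) ((hint r hrint).pow m) h1

/-- **Chevalley, open form, arbitrary base**: if all generizations `q'` of `q` in the fibre through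
`q` have residue transcendence degree at most `d`, then so has every prime in a basic open
neighbourhood of `q`. -/
theorem exists_notMem_forall_trdeg_le (d : ℕ) :
    ∀ (A B : Type u) [CommRing A] [CommRing B] [Algebra A B]
      [Algebra.FiniteType A B] (q : Ideal B) [q.IsPrime],
      (∀ q' : Ideal B, ∀ [q'.IsPrime], q' ≤ q → ∀ [q'.LiesOver (q.under A)],
        Algebra.trdeg (A ⧸ q.under A) (B ⧸ q') ≤ d) →
      ∃ r ∉ q, ∀ q₀ : Ideal B, ∀ [q₀.IsPrime], r ∉ q₀ →
        Algebra.trdeg (A ⧸ q₀.under A) (B ⧸ q₀) ≤ d := by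
  induction d with
  | zero =>
    intro A B _ _ _ _ q _ h
    haveI := quasiFiniteAt_of_forall_trdeg_eq_zero' (A := A) q
      (fun q' _ hq' _ => le_antisymm (by simpa using h q' hq') zero_le)
    obtain ⟨r, hr, hrr⟩ := exists_notMem_forall_trdeg_eq_zero_of_quasiFiniteAt (A := A) q
    refine ⟨r, hr, fun q₀ _ hr₀ => ?_⟩
    rw [hrr q₀ hr₀ (q₀.under A)]
    simp
  | succ d ih =>
    intro A B _ _ _ _ q hq h
    classical
    set p := q.under A with hp
    haveI : p.IsPrime := Ideal.IsPrime.under A q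
    haveI hqp : q.LiesOver p := ⟨rfl⟩
    by_cases hall : ∀ q' : Ideal B, ∀ [q'.IsPrime], q' ≤ q → ∀ [q'.LiesOver p],
        Algebra.trdeg (A ⧸ p) (B ⧸ q') ≤ d
    · obtain ⟨r, hr, hrr⟩ := ih A B q hall
      refine ⟨r, hr, fun q₀ _ hr₀ => le_trans (hrr q₀ hr₀) ?_⟩
      exact_mod_cast Nat.le_succ d
    push Not at hall
    obtain ⟨qs, hqs, hqsq, hqsp, hqsd⟩ := hall
    have hfin := finite_isMin_primesOver (B := B) p
    -- the key: find `t`
    obtain ⟨t, ht⟩ : ∃ t : B, (Transcendental (A ⧸ p) (Ideal.Quotient.mk q t)) ∨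
        (t ∈ q ∧ ∀ Q : p.primesOver B, IsMin Q → Q.1 ≤ q → t ∉ Q.1) := by
      by_cases h0 : Algebra.trdeg (A ⧸ p) (B ⧸ q) = 0
      · -- case B
        have hqnot : ∀ Q : p.primesOver B, IsMin Q → Q.1 ≠ q := by
          intro Q hQ hQq
          have h1 : (⟨qs, hqs, hqsp⟩ : p.primesOver B) ≤ Q := by
            change qs ≤ Q.1
            rw [hQq]; exact hqsq
          have h2 := hQ h1
          have h3 : Q.1 ≤ qs := h2
          have h4 : qs = q := le_antisymm hqsq (hQq ▸ h3)
          subst h4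
          rw [h0] at hqsd
          simp at hqsd
        set s : Finset (Ideal B) := (hfin.toFinset.image (fun Q => Q.1)).filter (fun Q => Q ≤ q) with hs
        have hmem_s : ∀ Q : Ideal B, Q ∈ s ↔ (∃ Q' : p.primesOver B, IsMin Q' ∧ Q'.1 = Q) ∧ Q ≤ q := by
          intro Q
          rw [hs, Finset.mem_filter, Finset.mem_image]
          constructor
          · rintro ⟨⟨Q', hQ', rfl⟩, h2⟩
            rw [Set.Finite.mem_toFinset] at hQ'
            exact ⟨⟨Q', hQ', rfl⟩, h2⟩
          · rintro ⟨⟨Q', h1, rfl⟩, h2⟩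
            exact ⟨⟨Q', by rw [Set.Finite.mem_toFinset]; exact h1, rfl⟩, h2⟩
        have hnot : ¬ ((q : Set B) ⊆ ⋃ Q ∈ (↑s : Set (Ideal B)), (Q : Set B)) := by
          intro hsub
          have := (Ideal.subset_union_prime (R := B) (s := s) (f := fun Q => Q) q q
            (fun Q hQ _ _ => by
              obtain ⟨⟨Q', -, rfl⟩, -⟩ := (hmem_s Q).mp hQ
              exact Q'.2.1)).mp hsub
          obtain ⟨Q, hQs, hqQ⟩ := this
          obtain ⟨⟨Q', hQ'min, rfl⟩, hQq⟩ := (hmem_s Q).mp hQs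
          exact hqnot Q' hQ'min (le_antisymm hQq hqQ)
        rw [Set.not_subset] at hnot
        obtain ⟨t, htq, htQ⟩ := hnot
        refine ⟨t, Or.inr ⟨htq, fun Q hQ hQq htQ' => htQ ?_⟩⟩
        simp only [Set.mem_iUnion]
        refine ⟨Q.1, ?_, htQ'⟩
        rw [Finset.mem_coe]
        exact (hmem_s _).mpr ⟨⟨Q, hQ, rfl⟩, hQq⟩
      · -- case A
        rw [← Ne, trdeg_ne_zero_iff] at h0
        obtain ⟨tb, htb⟩ := h0.transcendental
        obtain ⟨t, rfl⟩ := Ideal.Quotient.mk_surjective tb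
        exact ⟨t, Or.inl htb⟩
    -- the polynomial algebra structure
    letI : Algebra A[X] B := (Polynomial.aeval t : A[X] →ₐ[A] B).toRingHom.toAlgebra
    have hX : algebraMap A[X] B X = t := Polynomial.aeval_X t
    haveI : IsScalarTower A A[X] B := IsScalarTower.of_algebraMap_eq (fun a => by
      change algebraMap A B a = Polynomial.aeval t (Polynomial.C a)
      rw [Polynomial.aeval_C])
    haveI : Algebra.FiniteType A[X] B := Algebra.FiniteType.of_restrictScalars_finiteType A A[X] B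
    set P := q.under A[X] with hP
    haveI : P.IsPrime := Ideal.IsPrime.under A[X] q
    have hPp : P.under A = p := Ideal.under_under q
    haveI : P.LiesOver p := ⟨hPp.symm⟩
    -- the hypothesis at level `d` over `A[X]`
    have hstep : ∀ q' : Ideal B, ∀ [q'.IsPrime], q' ≤ q → ∀ [q'.LiesOver P],
        Algebra.trdeg (A[X] ⧸ P) (B ⧸ q') ≤ d := by
      intro q' hq'prime hq'q _
      haveI : q'.LiesOver p := Ideal.LiesOver.trans q' P p
      have h1 := h q' hq'q
      have h2 := trdeg_quotient_tower p P q'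
      obtain ⟨a, ha⟩ := exists_nat_trdeg_quotient q' p
      obtain ⟨b, hb⟩ := exists_nat_trdeg_quotient q' P
      obtain ⟨c, hc⟩ := exists_nat_trdeg_quotient P p
      rw [ha, hb, hc] at h2
      rw [ha] at h1
      rw [hb]
      have h1' : a ≤ d + 1 := by exact_mod_cast h1
      have h2' : c + b = a := by exact_mod_cast h2
      rcases ht with ht | ⟨htq, htQ⟩
      · -- case A
        have h3 : Algebra.trdeg (A ⧸ p) (A[X] ⧸ P) = 1 := by
          refine trdeg_quotient_polynomial_eq_one q p P ?_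
          rw [hX]; exact ht
        rw [hc] at h3
        have h3' : c = 1 := by exact_mod_cast h3
        have : b ≤ d := by omega
        exact_mod_cast this
      · -- case B
        have htq' : t ∈ q' := by
          have h3 : (X : A[X]) ∈ P := by
            rw [hP, Ideal.under_def, Ideal.mem_comap, hX]; exact htq
          have h4 : (X : A[X]) ∈ q'.under A[X] := by
            rw [← Ideal.over_def q' P]; exact h3
          rw [Ideal.under_def, Ideal.mem_comap, hX] at h4
          exact h4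
        obtain ⟨Q₀, hQ₀min, hQ₀le⟩ := exists_isMin_primesOver_le p
          (⟨q', hq'prime, inferInstance⟩ : p.primesOver B)
        haveI : Q₀.1.IsPrime := Q₀.2.1
        haveI : Q₀.1.LiesOver p := Q₀.2.2
        have hQq' : Q₀.1 ≤ q' := hQ₀le
        have hQq : Q₀.1 ≤ q := hQq'.trans hq'q
        have hne : Q₀.1 ≠ q' := fun heq => htQ Q₀ hQ₀min hQq (heq ▸ htq')
        have h5 := trdeg_quotient_add_one_le_of_lt' Q₀.1 q' (lt_of_le_of_ne hQq' hne) p
        have h6 := h Q₀.1 hQq
        obtain ⟨e, he⟩ := exists_nat_trdeg_quotient Q₀.1 p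
        rw [ha, he] at h5
        rw [he] at h6
        have h5' : a + 1 ≤ e := by exact_mod_cast h5
        have h6' : e ≤ d + 1 := by exact_mod_cast h6
        have : b ≤ d := by omega
        exact_mod_cast this
    obtain ⟨r, hr, hrr⟩ := ih A[X] B q hstep
    refine ⟨r, hr, fun q₀ _ hr₀ => ?_⟩
    have hih := hrr q₀ hr₀
    -- conclude via the tower for `q₀`
    set P₀ := q₀.under A[X] with hP₀
    haveI : P₀.IsPrime := Ideal.IsPrime.under A[X] q₀
    set p₀ := q₀.under A with hp₀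
    haveI : p₀.IsPrime := Ideal.IsPrime.under A q₀
    have hP₀p₀ : P₀.under A = p₀ := Ideal.under_under q₀
    haveI : P₀.LiesOver p₀ := ⟨hP₀p₀.symm⟩
    have h2 := trdeg_quotient_tower p₀ P₀ q₀
    have h3 := trdeg_quotient_polynomial_le_one p₀ P₀
    obtain ⟨a, ha⟩ := exists_nat_trdeg_quotient q₀ p₀
    obtain ⟨b, hb⟩ := exists_nat_trdeg_quotient q₀ P₀
    obtain ⟨c, hc⟩ := exists_nat_trdeg_quotient P₀ p₀
    rw [ha, hb, hc] at h2
    rw [hc] at h3
    rw [hb] at hih
    rw [ha]
    have h2' : c + b = a := by exact_mod_cast h2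
    have h3' : c ≤ 1 := by exact_mod_cast h3
    have hih' : b ≤ d := by exact_mod_cast hih
    have : a ≤ d + 1 := by omega
    exact_mod_cast this

end Groth.Agent.Lib.Helper73.DimFormula
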