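/-
helper73: fibre dimension for morphisms locally of finite type over an ARBITRARY base (no Noetherian hypotheses).
* `SchemeDim.trdeg_residueFieldMap_comp_right`, `trdeg_residueFieldMap_congr`, `trdeg_fiberToSpecResidueField`: residue
  transcendence degrees computed in the fibre `f.fiber s → Spec κ(s)` agree with those of `f`.
* `SchemeDim.fibreDimAt_eq_localDim_of_subsingleton`, `fibreDimAt_eq_fibreDimAt_fiberToSpecResidueField`.
* `SchemeDim.trdeg_le_fibreDimAt_of_fibre'`: `ζ ⤳ x` in the same fibre ⇒ `trdeg κ(ζ)/κ(fζ) ≤ fibreDimAt f x`.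
* `SchemeDim.exists_specializes_trdeg_eq_fibreDimAt`: the local fibre dimension is attained by such a `ζ`.
* `SchemeDim.exists_trdeg_residueField_eq_nat'`: residue trdeg is finite (no Noetherian hypothesis).
* `SchemeDim.isOpen_setOf_fibreDimAt_le`: **Chevalley's upper semicontinuity theorem** `IsOpen {x | fibreDimAt f x ≤ n}`.
-/
import Groth.Agent.Lib.Helper73.ChevalleyGen
import Groth.Agent.Lib.Helper73.LocalDimHomeo
set_option linter.style.haveILetI false
set_option autoImplicit false
universe u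
open Cardinal CategoryTheory AlgebraicGeometry

namespace Groth.Agent.Lib.Helper73.SchemeDim

open Groth.Agent.Lib.Helper73.DimFormula Groth.Agent.Lib.Helper73.RelHt

variable {X S Z T : Scheme.{u}}

/-- residue transcendence degrees are unchanged by composing with a morphism that is surjective on
stalks on the target side. -/
theorem trdeg_residueFieldMap_comp_right (h : Z ⟶ T) (j : T ⟶ S) [SurjectiveOnStalks j] (z : Z) :
    @Algebra.trdeg (S.residueField ((h ≫ j).base z)) (Z.residueField z) _ _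
      ((h ≫ j).residueFieldMap z).hom.toAlgebra =
    @Algebra.trdeg (T.residueField (h.base z)) (Z.residueField z) _ _
      (h.residueFieldMap z).hom.toAlgebra := by
  letI a1 : Algebra (S.residueField ((h ≫ j).base z)) (Z.residueField z) :=
    ((h ≫ j).residueFieldMap z).hom.toAlgebra
  letI a2 : Algebra (T.residueField (h.base z)) (Z.residueField z) :=
    (h.residueFieldMap z).hom.toAlgebra
  have hsurj : Function.Surjective (j.residueFieldMap (h.base z)).hom := by
    have h1 := Scheme.residue_residueFieldMap j (h.base z)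
    have h2 : Function.Surjective (j.stalkMap (h.base z) ≫ T.residue (h.base z)).hom := by
      change Function.Surjective ((T.residue (h.base z)).hom ∘ (j.stalkMap (h.base z)).hom)
      exact (T.residue_surjective (h.base z)).comp (j.stalkMap_surjective (h.base z))
    rw [← h1] at h2
    have h3 : Function.Surjective ((j.residueFieldMap (h.base z)).hom ∘
        (S.residue (j.base (h.base z))).hom) := h2
    exact Function.Surjective.of_comp h3
  have hbij : Function.Bijective (j.residueFieldMap (h.base z)).hom :=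
    ⟨(j.residueFieldMap (h.base z)).hom.injective, hsurj⟩
  let e₁ : S.residueField (j.base (h.base z)) ≃+* T.residueField (h.base z) :=
    RingEquiv.ofBijective (j.residueFieldMap (h.base z)).hom hbij
  refine trdeg_eq_of_ringEquiv e₁ (RingEquiv.refl _) ?_
  intro d
  change ((h ≫ j).residueFieldMap z).hom d =
    (h.residueFieldMap z).hom ((j.residueFieldMap (h.base z)).hom d)
  rw [Scheme.residueFieldMap_comp]
  rfl

theorem trdeg_residueFieldMap_congr {f g : X ⟶ S} (e : f = g) (x : X) :
    @Algebra.trdeg (S.residueField (f.base x)) (X.residueField x) _ _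
      (f.residueFieldMap x).hom.toAlgebra =
    @Algebra.trdeg (S.residueField (g.base x)) (X.residueField x) _ _
      (g.residueFieldMap x).hom.toAlgebra := by
  subst e; rfl

/-- over a one-point base, the local fibre dimension is the local dimension of the source. -/
theorem fibreDimAt_eq_localDim_of_subsingleton (h : Z ⟶ T) [Subsingleton T] (z : Z) :
    FlatMor.fibreDimAt h z = FlatMor.localDim Z z := by
  unfold FlatMor.fibreDimAt
  have hφ : IsHomeomorph (h.fiberι (h.base z)).base := by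
    rw [isHomeomorph_iff_isEmbedding_surjective]
    refine ⟨(h.fiberι (h.base z)).isEmbedding, ?_⟩
    rw [← Set.range_eq_univ, Scheme.Hom.range_fiberι]
    ext z'
    simp only [Set.mem_preimage, Set.mem_singleton_iff, Set.mem_univ, iff_true]
    exact Subsingleton.elim _ _
  rw [localDim_eq_of_isHomeomorph _ hφ, Scheme.Hom.fiberι_asFiber]

theorem fibreDimAt_eq_fibreDimAt_fiberToSpecResidueField (f : X ⟶ S) (x : X) :
    FlatMor.fibreDimAt f x =
      FlatMor.fibreDimAt (f.fiberToSpecResidueField (f.base x)) (f.asFiber x) := by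
  haveI : Subsingleton ↥(Spec (S.residueField (f.base x))) :=
    inferInstanceAs (Subsingleton (PrimeSpectrum (S.residueField (f.base x))))
  rw [fibreDimAt_eq_localDim_of_subsingleton (f.fiberToSpecResidueField (f.base x))]
  rfl

theorem trdeg_fiberToSpecResidueField (f : X ⟶ S) (s : S) (z : f.fiber s) :
    @Algebra.trdeg ((Spec (S.residueField s)).residueField ((f.fiberToSpecResidueField s).base z))
      ((f.fiber s).residueField z) _ _ ((f.fiberToSpecResidueField s).residueFieldMap z).hom.toAlgebra =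
    @Algebra.trdeg (S.residueField (f.base ((f.fiberι s).base z))) (X.residueField ((f.fiberι s).base z)) _ _
      (f.residueFieldMap ((f.fiberι s).base z)).hom.toAlgebra := by
  rw [← trdeg_residueFieldMap_comp (f.fiberι s) f z,
    ← trdeg_residueFieldMap_comp_right (f.fiberToSpecResidueField s) (S.fromSpecResidueField s) z]
  exact trdeg_residueFieldMap_congr (Limits.pullback.condition).symm z

set_option backward.isDefEq.respectTransparency.types false in
theorem locallyOfFiniteType_fiberToSpecResidueField (f : X ⟶ S) [LocallyOfFiniteType f] (s : S) :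
    LocallyOfFiniteType (f.fiberToSpecResidueField s) :=
  MorphismProperty.pullback_snd _ _ inferInstance

/-- the point of the fibre `f.fiber s` over a point `x` with `f x = s`. -/
theorem exists_fiberι_eq (f : X ⟶ S) {s : S} {x : X} (hx : f.base x = s) :
    ∃ z : f.fiber s, (f.fiberι s).base z = x := by
  have : x ∈ Set.range (f.fiberι s).base := by
    rw [Scheme.Hom.range_fiberι]; exact hx
  exact this

theorem base_fiberι' (f : X ⟶ S) (s : S) (z : f.fiber s) : f.base ((f.fiberι s).base z) = s := by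
  have : (f.fiberι s).base z ∈ Set.range (f.fiberι s).base := Set.mem_range_self z
  rw [Scheme.Hom.range_fiberι] at this
  exact this

/-- (general base) residue transcendence degrees of generizations in the fibre are bounded by the
local fibre dimension. -/
theorem trdeg_le_fibreDimAt_of_fibre' (f : X ⟶ S) [LocallyOfFiniteType f]
    {x' x : X} (h : x' ⤳ x) (hf : f.base x' = f.base x) (n' : ℕ)
    (hn' : letI := (f.residueFieldMap x').hom.toAlgebra
      Algebra.trdeg (S.residueField (f.base x')) (X.residueField x') = n') :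
    (n' : WithBot ℕ∞) ≤ FlatMor.fibreDimAt f x := by
  set s := f.base x with hs
  haveI : LocallyOfFiniteType (f.fiberToSpecResidueField s) :=
    locallyOfFiniteType_fiberToSpecResidueField f s
  obtain ⟨z', hz'⟩ := exists_fiberι_eq f hf
  rw [fibreDimAt_eq_fibreDimAt_fiberToSpecResidueField]
  have hsp : z' ⤳ f.asFiber x := by
    rw [← (f.fiberι s).isEmbedding.isInducing.specializes_iff, hz', Scheme.Hom.fiberι_asFiber]
    exact h
  refine trdeg_le_fibreDimAt_of_fibre (f.fiberToSpecResidueField s) hsp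
    (Subsingleton.elim (α := PrimeSpectrum _) _ _) n' ?_
  have := trdeg_fiberToSpecResidueField f s z'
  rw [this]
  subst hz'
  exact hn'

/-- (general base) the local fibre dimension is attained as the residue transcendence degree of a
generization in the fibre. -/
theorem exists_specializes_trdeg_eq_fibreDimAt (f : X ⟶ S) [LocallyOfFiniteType f] (x : X) :
    ∃ (ζ : X) (n : ℕ), ζ ⤳ x ∧ f.base ζ = f.base x ∧
      @Algebra.trdeg (S.residueField (f.base ζ)) (X.residueField ζ) _ _
        (f.residueFieldMap ζ).hom.toAlgebra = n ∧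
      FlatMor.fibreDimAt f x = (n : WithBot ℕ∞) := by
  set s := f.base x with hs
  haveI : LocallyOfFiniteType (f.fiberToSpecResidueField s) :=
    locallyOfFiniteType_fiberToSpecResidueField f s
  set h := f.fiberToSpecResidueField s with hh
  set z := f.asFiber x with hz
  obtain ⟨n, hn⟩ := exists_trdeg_residueField_eq_nat h z
  obtain ⟨m, c₁, hm, hc₁len, hc₁head, hc₁f, -⟩ := exists_ltSeries_fibre_stalk h z
  have hF := fibreDimAt_eq h z n hn
  rw [hm] at hF
  set ζ' := c₁.last with hζ'
  have hfζ' : h.base ζ' = h.base z := hc₁f _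
  have hsp : ζ' ⤳ z := by
    have : c₁.head ≤ c₁.last := LTSeries.head_le_last c₁
    rw [hc₁head] at this
    exact this
  obtain ⟨n', hn'⟩ := exists_trdeg_residueField_eq_nat h ζ'
  have h1 := relHt_add_trdeg_eq_of_fibre h hsp hfζ' n' n hn' hn
  have h2 : (m : ℕ∞) ≤ relHt z ζ' := by
    rw [← hc₁len]
    exact length_le_relHt' c₁ hc₁head rfl
  have h3 : (m : ℕ∞) + n ≤ n' := by
    rw [← h1]
    exact add_le_add_left h2 _
  have h3' : m + n ≤ n' := by exact_mod_cast h3
  have h4 := trdeg_le_fibreDimAt_of_fibre h hsp hfζ' n' hn'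
  rw [hF] at h4
  have h4' : n' ≤ m + n := by exact_mod_cast h4
  have hn'eq : n' = m + n := le_antisymm h4' h3'
  refine ⟨(f.fiberι s).base ζ', n', ?_, base_fiberι' f s ζ', ?_, ?_⟩
  · have := (f.fiberι s).isEmbedding.isInducing.specializes_iff.mpr hsp
    rwa [hz, Scheme.Hom.fiberι_asFiber] at this
  · rw [← trdeg_fiberToSpecResidueField f s ζ']
    exact hn'
  · rw [fibreDimAt_eq_fibreDimAt_fiberToSpecResidueField, hF, hn'eq]
    push_cast
    rfl

/-- the residue transcendence degree of a morphism locally of finite type is finite. -/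
theorem exists_trdeg_residueField_eq_nat' {X S : Scheme.{u}}
    (f : X ⟶ S) [LocallyOfFiniteType f] (x : X) :
    ∃ n : ℕ, @Algebra.trdeg (S.residueField (f.base x)) (X.residueField x) _ _
      (f.residueFieldMap x).hom.toAlgebra = n := by
  obtain ⟨_, ⟨V, hV : IsAffineOpen V, rfl⟩, hfxV, -⟩ :=
    (S.isBasis_affineOpens).exists_subset_of_mem_open (Set.mem_univ (f.base x)) isOpen_univ
  obtain ⟨_, ⟨U, hU : IsAffineOpen U, rfl⟩, hxU, hUV⟩ :=
    (X.isBasis_affineOpens).exists_subset_of_mem_open (show x ∈ (f ⁻¹ᵁ V : Set X) from hfxV)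
      (f ⁻¹ᵁ V).isOpen
  have e : U ≤ f ⁻¹ᵁ V := hUV
  letI : Algebra Γ(S, V) Γ(X, U) := (f.appLE V U e).hom.toAlgebra
  have halg : algebraMap Γ(S, V) Γ(X, U) = (f.appLE V U e).hom := rfl
  haveI : Algebra.FiniteType Γ(S, V) Γ(X, U) := f.finiteType_appLE hV hU e
  set q := (hU.primeIdealOf ⟨x, hxU⟩).asIdeal with hq
  set p := (hV.primeIdealOf ⟨f x, e hxU⟩).asIdeal with hp
  haveI hlo : q.LiesOver p := liesOver_primeIdealOf f x hV hU e hxU halg
  have h1 := trdeg_residueFieldMap_eq f x hV hU e hxU halg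
  haveI : Algebra.FiniteType Γ(S, V) (Γ(X, U) ⧸ q) :=
    Algebra.FiniteType.of_surjective (Ideal.Quotient.mkₐ _ q) (Ideal.Quotient.mkₐ_surjective _ q)
  haveI : Algebra.FiniteType (Γ(S, V) ⧸ p) (Γ(X, U) ⧸ q) :=
    Algebra.FiniteType.of_restrictScalars_finiteType Γ(S, V) (Γ(S, V) ⧸ p) (Γ(X, U) ⧸ q)
  have hlt : Algebra.trdeg (Γ(S, V) ⧸ p) (Γ(X, U) ⧸ q) < Cardinal.aleph0 :=
    trdeg_lt_aleph0_of_finiteType
  obtain ⟨n, hn⟩ := Cardinal.lt_aleph0.mp hlt
  exact ⟨n, by rw [h1, hn]⟩

theorem mem_basicOpen_iff_notMem_primeIdealOf {U : X.Opens} (hU : IsAffineOpen U) (r : Γ(X, U))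
    (x : X) (hx : x ∈ U) :
    x ∈ X.basicOpen r ↔ r ∉ (hU.primeIdealOf ⟨x, hx⟩).asIdeal := by
  have h1 : hU.fromSpec (hU.primeIdealOf ⟨x, hx⟩) = x := hU.fromSpec_primeIdealOf ⟨x, hx⟩
  have h2 := hU.fromSpec_preimage_basicOpen r
  constructor
  · intro h
    have h3 : hU.primeIdealOf ⟨x, hx⟩ ∈ hU.fromSpec ⁻¹ᵁ X.basicOpen r := by
      change hU.fromSpec (hU.primeIdealOf ⟨x, hx⟩) ∈ X.basicOpen r
      rw [h1]; exact h
    rw [h2] at h3
    exact h3
  · intro h
    have h3 : hU.primeIdealOf ⟨x, hx⟩ ∈ hU.fromSpec ⁻¹ᵁ X.basicOpen r := by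
      rw [h2]; exact h
    have h4 : hU.fromSpec (hU.primeIdealOf ⟨x, hx⟩) ∈ X.basicOpen r := h3
    rwa [h1] at h4

/-- **Chevalley's upper semicontinuity theorem** (arbitrary base): for `f` locally of finite type the
set of points where the local fibre dimension is at most `n` is open. -/
theorem isOpen_setOf_fibreDimAt_le (f : X ⟶ S) [LocallyOfFiniteType f] (n : ℕ) :
    IsOpen {x : X | FlatMor.fibreDimAt f x ≤ n} := by
  rw [isOpen_iff_forall_mem_open]
  intro x hx
  have hxn : FlatMor.fibreDimAt f x ≤ n := hx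
  obtain ⟨_, ⟨V, hV : IsAffineOpen V, rfl⟩, hfxV, -⟩ :=
    (S.isBasis_affineOpens).exists_subset_of_mem_open (Set.mem_univ (f.base x)) isOpen_univ
  obtain ⟨_, ⟨U, hU : IsAffineOpen U, rfl⟩, hxU, hUV⟩ :=
    (X.isBasis_affineOpens).exists_subset_of_mem_open
      (show x ∈ (f ⁻¹ᵁ V : Set X) from hfxV) (f ⁻¹ᵁ V).isOpen
  have e : U ≤ f ⁻¹ᵁ V := hUV
  letI : Algebra Γ(S, V) Γ(X, U) := (f.appLE V U e).hom.toAlgebra
  have halg : algebraMap Γ(S, V) Γ(X, U) = (f.appLE V U e).hom := rfl
  haveI : Algebra.FiniteType Γ(S, V) Γ(X, U) := f.finiteType_appLE hV hU e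
  set q := (hU.primeIdealOf ⟨x, hxU⟩).asIdeal with hq
  set p := (hV.primeIdealOf ⟨f.base x, e hxU⟩).asIdeal with hp
  haveI hlo : q.LiesOver p := liesOver_primeIdealOf f x hV hU e hxU halg
  have hpq : q.under Γ(S, V) = p := (Ideal.over_def q p).symm
  -- transfer between points of `U` and primes
  have hpt : ∀ (x' : X) (hx'U : x' ∈ U) (n' : ℕ),
      @Algebra.trdeg (S.residueField (f.base x')) (X.residueField x') _ _
        (f.residueFieldMap x').hom.toAlgebra = n' →
      Algebra.trdeg (Γ(S, V) ⧸ (hU.primeIdealOf ⟨x', hx'U⟩).asIdeal.under Γ(S, V))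
        (Γ(X, U) ⧸ (hU.primeIdealOf ⟨x', hx'U⟩).asIdeal) = n' := by
    intro x' hx'U n' hn'
    haveI hlo' : (hU.primeIdealOf ⟨x', hx'U⟩).asIdeal.LiesOver
        (hV.primeIdealOf ⟨f.base x', e hx'U⟩).asIdeal := liesOver_primeIdealOf f x' hV hU e hx'U halg
    have h2 := trdeg_residueFieldMap_eq f x' hV hU e hx'U halg
    have hpp : (hV.primeIdealOf ⟨f.base x', e hx'U⟩).asIdeal =
        (hU.primeIdealOf ⟨x', hx'U⟩).asIdeal.under Γ(S, V) :=
      Ideal.over_def _ _
    rw [← trdeg_quotient_congr rfl hpp, ← h2]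
    exact hn'
  have hyp : ∀ q' : Ideal Γ(X, U), ∀ [q'.IsPrime], q' ≤ q → ∀ [q'.LiesOver (q.under Γ(S, V))],
      Algebra.trdeg (Γ(S, V) ⧸ q.under Γ(S, V)) (Γ(X, U) ⧸ q') ≤ n := by
    intro q' hq' hq'q hq'lo
    obtain ⟨x', hx'U, hx'⟩ := exists_primeIdealOf_eq hU ⟨q', hq'⟩
    have hx'q' : (hU.primeIdealOf ⟨x', hx'U⟩).asIdeal = q' := congrArg PrimeSpectrum.asIdeal hx'
    have hsp : x' ⤳ x := by
      rw [← primeIdealOf_le_iff_specializes hU x x' hxU hx'U, hx']
      exact hq'q
    have hfx' : f.base x' = f.base x := by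
      refine base_eq_of_comap_primeIdealOf_eq f hV hU e hx'U hxU ?_
      rw [hx'q', ← halg]
      change q'.under Γ(S, V) = q.under Γ(S, V)
      rw [← Ideal.over_def q' (q.under Γ(S, V))]
    obtain ⟨n', hn'⟩ := exists_trdeg_residueField_eq_nat' f x'
    have h1 := trdeg_le_fibreDimAt_of_fibre' f hsp hfx' n' hn'
    have h1' : n' ≤ n := by exact_mod_cast h1.trans hxn
    have h3 := hpt x' hx'U n' hn'
    have h4 : Algebra.trdeg (Γ(S, V) ⧸ q.under Γ(S, V)) (Γ(X, U) ⧸ q') =
        Algebra.trdeg (Γ(S, V) ⧸ (hU.primeIdealOf ⟨x', hx'U⟩).asIdeal.under Γ(S, V))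
          (Γ(X, U) ⧸ (hU.primeIdealOf ⟨x', hx'U⟩).asIdeal) := by
      refine trdeg_quotient_congr hx'q'.symm ?_
      rw [hx'q']
      exact Ideal.over_def q' (q.under Γ(S, V))
    rw [h4, h3]
    exact_mod_cast h1'
  obtain ⟨r, hr, hrr⟩ := exists_notMem_forall_trdeg_le n Γ(S, V) Γ(X, U) q hyp
  refine ⟨X.basicOpen r, ?_, (X.basicOpen r).isOpen,
    (mem_basicOpen_iff_notMem_primeIdealOf hU r x hxU).mpr hr⟩
  intro x'' hx''
  have hx''U : x'' ∈ U := X.basicOpen_le r hx''
  obtain ⟨ζ, nζ, hζsp, -, hnζ, hFζ⟩ := exists_specializes_trdeg_eq_fibreDimAt f x''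
  have hζ : ζ ∈ X.basicOpen r := hζsp.mem_open (X.basicOpen r).isOpen hx''
  have hζU : ζ ∈ U := X.basicOpen_le r hζ
  have h1 := hrr (hU.primeIdealOf ⟨ζ, hζU⟩).asIdeal
    ((mem_basicOpen_iff_notMem_primeIdealOf hU r ζ hζU).mp hζ)
  rw [hpt ζ hζU nζ hnζ] at h1
  have h1' : nζ ≤ n := by exact_mod_cast h1
  change FlatMor.fibreDimAt f x'' ≤ n
  rw [hFζ]
  exact_mod_cast h1'

end Groth.Agent.Lib.Helper73.SchemeDim
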