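/-
helper73: consequences of Chevalley's semicontinuity theorem (arbitrary base).
* `SchemeDim.natCast_le_topologicalKrullDim_iff_exists_localDim`: `n ≤ dim Z ↔ ∃ z, n ≤ localDim Z z`.
* `SchemeDim.localDim_fiber_eq_fibreDimAt`, `natCast_le_topologicalKrullDim_fiber_iff`:
  `n ≤ dim (f.fiber y) ↔ ∃ x, f x = y ∧ n ≤ fibreDimAt f x`.
* `SchemeDim.isClosed_setOf_le_fibreDimAt`: `{x | n ≤ fibreDimAt f x}` is closed.
* `SchemeDim.isClosed_setOf_le_topologicalKrullDim_fiber`: for a closed map `f`, `{y | n ≤ dim f⁻¹(y)}` is closed.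
-/
import Groth.Agent.Lib.Helper73.FibreDimGen
set_option linter.style.haveILetI false
set_option autoImplicit false
universe u
open Cardinal CategoryTheory AlgebraicGeometry

namespace Groth.Agent.Lib.Helper73.SchemeDim

open Groth.Agent.Lib.Helper73.DimFormula Groth.Agent.Lib.Helper73.RelHt

variable {X S : Scheme.{u}}

theorem natCast_le_of_pred_lt (n : ℕ) (b : WithBot ℕ∞)
    (h : (if n = 0 then (⊥ : WithBot ℕ∞) else ((n - 1 : ℕ) : WithBot ℕ∞)) < b) :
    (n : WithBot ℕ∞) ≤ b := by
  cases b with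
  | bot => exact absurd h (not_lt_bot)
  | coe c =>
    by_cases hn : n = 0
    · subst hn
      have h0 : (0 : ℕ∞) ≤ c := bot_le
      exact_mod_cast WithBot.coe_le_coe.mpr h0
    · rw [if_neg hn] at h
      have h1' : (((n - 1 : ℕ) : ℕ∞) : WithBot ℕ∞) < (c : WithBot ℕ∞) := h
      have h1 : ((n - 1 : ℕ) : ℕ∞) < c := WithBot.coe_lt_coe.mp h1'
      have h2 : ((n - 1 : ℕ) : ℕ∞) + 1 ≤ c := Order.add_one_le_of_lt h1
      have h3 : (n : ℕ∞) ≤ c := by
        refine le_trans ?_ h2
        have : n = (n - 1) + 1 := by omega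
        conv_lhs => rw [this]
        push_cast
        exact le_rfl
      exact_mod_cast WithBot.coe_le_coe.mpr h3

theorem pred_lt_natCast (n : ℕ) :
    (if n = 0 then (⊥ : WithBot ℕ∞) else ((n - 1 : ℕ) : WithBot ℕ∞)) < (n : WithBot ℕ∞) := by
  by_cases hn : n = 0
  · subst hn
    simp
  · rw [if_neg hn]
    have : n - 1 < n := by omega
    exact_mod_cast this

theorem natCast_le_topologicalKrullDim_iff_exists_localDim {Z : Type u} [TopologicalSpace Z] (n : ℕ) :
    (n : WithBot ℕ∞) ≤ topologicalKrullDim Z ↔ ∃ z : Z, (n : WithBot ℕ∞) ≤ FlatMor.localDim Z z := by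
  constructor
  · intro h
    rw [Groth.Agent.Lib.Helper29.topologicalKrullDim_eq_iSup_localDim] at h
    have h1 := lt_of_lt_of_le (pred_lt_natCast n) h
    rw [lt_iSup_iff] at h1
    obtain ⟨z, hz⟩ := h1
    exact ⟨z, natCast_le_of_pred_lt n _ hz⟩
  · rintro ⟨z, hz⟩
    exact hz.trans (Groth.Agent.Lib.Helper29.localDim_le_dim z)

theorem localDim_fiber_eq_fibreDimAt (f : X ⟶ S) (x : X) (y : S) (hy : f.base x = y) (z : f.fiber y)
    (hz : (f.fiberι y).base z = x) : FlatMor.localDim (f.fiber y) z = FlatMor.fibreDimAt f x := by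
  subst hy
  have : f.asFiber x = z := by
    apply (f.fiberι _).isEmbedding.injective
    rw [Scheme.Hom.fiberι_asFiber, hz]
  unfold FlatMor.fibreDimAt
  rw [this]

theorem natCast_le_topologicalKrullDim_fiber_iff (f : X ⟶ S) (y : S) (n : ℕ) :
    (n : WithBot ℕ∞) ≤ topologicalKrullDim (f.fiber y) ↔
      ∃ x, f.base x = y ∧ (n : WithBot ℕ∞) ≤ FlatMor.fibreDimAt f x := by
  rw [natCast_le_topologicalKrullDim_iff_exists_localDim]
  constructor
  · rintro ⟨z, hz⟩
    refine ⟨(f.fiberι y).base z, base_fiberι' f y z, ?_⟩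
    rw [← localDim_fiber_eq_fibreDimAt f _ y (base_fiberι' f y z) z rfl]
    exact hz
  · rintro ⟨x, rfl, hx⟩
    exact ⟨f.asFiber x, hx⟩

/-- the set of points where the local fibre dimension is at least `n` is closed. -/
theorem isClosed_setOf_le_fibreDimAt (f : X ⟶ S) [LocallyOfFiniteType f] (n : ℕ) :
    IsClosed {x : X | (n : WithBot ℕ∞) ≤ FlatMor.fibreDimAt f x} := by
  by_cases hn : n = 0
  · subst hn
    convert isClosed_univ
    ext x
    simp only [Set.mem_ofPred_eq, Set.mem_univ, iff_true]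
    obtain ⟨ζ, m, -, -, -, hm⟩ := exists_specializes_trdeg_eq_fibreDimAt f x
    rw [hm]
    exact_mod_cast Nat.zero_le m
  · have h := isOpen_setOf_fibreDimAt_le f (n - 1)
    rw [← isClosed_compl_iff] at h
    convert h using 1
    ext x
    simp only [Set.mem_ofPred_eq, Set.mem_compl_iff, not_le]
    obtain ⟨ζ, m, -, -, -, hm⟩ := exists_specializes_trdeg_eq_fibreDimAt f x
    rw [hm]
    constructor
    · intro h1
      have : n ≤ m := by exact_mod_cast h1
      have : n - 1 < m := by omega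
      exact_mod_cast this
    · intro h1
      have : n - 1 < m := by exact_mod_cast h1
      have : n ≤ m := by omega
      exact_mod_cast this

/-- fibre dimension is upper semicontinuous on the target of a closed morphism locally of finite type. -/
theorem isClosed_setOf_le_topologicalKrullDim_fiber (f : X ⟶ S) [LocallyOfFiniteType f]
    (hf : IsClosedMap f.base) (n : ℕ) :
    IsClosed {y : S | (n : WithBot ℕ∞) ≤ topologicalKrullDim ↥(f.fiber y)} := by
  have : {y : S | (n : WithBot ℕ∞) ≤ topologicalKrullDim ↥(f.fiber y)} =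
      f.base '' {x : X | (n : WithBot ℕ∞) ≤ FlatMor.fibreDimAt f x} := by
    ext y
    simp only [Set.mem_ofPred_eq, Set.mem_image]
    rw [natCast_le_topologicalKrullDim_fiber_iff]
    constructor
    · rintro ⟨x, hx, h⟩
      exact ⟨x, h, hx⟩
    · rintro ⟨x, h, hx⟩
      exact ⟨x, hx, h⟩
  rw [this]
  exact hf _ (isClosed_setOf_le_fibreDimAt f n)

end Groth.Agent.Lib.Helper73.SchemeDim
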