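/-
helper73: more on fibre dimension over an arbitrary base.
* `SchemeDim.trdeg_residueFieldMap_congr_pt`.
* `SchemeDim.trdeg_le_trdeg_of_specializes_of_fibre'`: residue trdeg decreases under specialization inside a fibre.
* `SchemeDim.map_genericPoint_of_isDominant`.
* `SchemeDim.topologicalKrullDim_fiber_genericPoint_le_fibreDimAt`: generic fibre dimension ≤ every local fibre dimension
  (dominant morphism of irreducible schemes, l.f.t.).
-/
import Groth.Agent.Lib.Helper73.FibreDimGen2
set_option linter.style.haveILetI false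
set_option autoImplicit false
universe u
open Cardinal CategoryTheory AlgebraicGeometry

namespace Groth.Agent.Lib.Helper73.SchemeDim

open Groth.Agent.Lib.Helper73.DimFormula Groth.Agent.Lib.Helper73.RelHt

variable {X S Y : Scheme.{u}}

theorem trdeg_residueFieldMap_congr_pt (f : X ⟶ S) {x x' : X} (e : x = x') :
    @Algebra.trdeg (S.residueField (f.base x)) (X.residueField x) _ _
      (f.residueFieldMap x).hom.toAlgebra =
    @Algebra.trdeg (S.residueField (f.base x')) (X.residueField x') _ _
      (f.residueFieldMap x').hom.toAlgebra := by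
  subst e; rfl

/-- (general base) residue transcendence degrees decrease under specialization within a fibre;
more precisely `relHt x x' + n_x = n_{x'}` where the relative height is computed in the fibre. -/
theorem trdeg_le_trdeg_of_specializes_of_fibre' (f : X ⟶ S) [LocallyOfFiniteType f]
    {x' x : X} (h : x' ⤳ x) (hf : f.base x' = f.base x) (n' n : ℕ)
    (hn' : @Algebra.trdeg (S.residueField (f.base x')) (X.residueField x') _ _
      (f.residueFieldMap x').hom.toAlgebra = n')
    (hn : @Algebra.trdeg (S.residueField (f.base x)) (X.residueField x) _ _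
      (f.residueFieldMap x).hom.toAlgebra = n) :
    n ≤ n' := by
  set s := f.base x with hs
  haveI : LocallyOfFiniteType (f.fiberToSpecResidueField s) :=
    locallyOfFiniteType_fiberToSpecResidueField f s
  obtain ⟨z', hz'⟩ := exists_fiberι_eq f hf
  obtain ⟨z, hz⟩ := exists_fiberι_eq f (x := x) (s := s) rfl
  have hsp : z' ⤳ z := by
    rw [← (f.fiberι s).isEmbedding.isInducing.specializes_iff, hz', hz]
    exact h
  have h1 := relHt_add_trdeg_eq_of_fibre (f.fiberToSpecResidueField s) hsp
    (Subsingleton.elim (α := PrimeSpectrum _) _ _) n' n ?_ ?_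
  · have : (n : ℕ∞) ≤ n' := by
      rw [← h1]; exact le_add_self
    exact_mod_cast this
  · have := trdeg_fiberToSpecResidueField f s z'
    rw [this, trdeg_residueFieldMap_congr_pt f hz']
    exact hn'
  · have := trdeg_fiberToSpecResidueField f s z
    rw [this, trdeg_residueFieldMap_congr_pt f hz]
    exact hn

theorem map_genericPoint_of_isDominant [IrreducibleSpace X] [IrreducibleSpace Y] (f : X ⟶ Y)
    [IsDominant f] : f.base (genericPoint X) = genericPoint Y := by
  apply ((genericPoint_spec Y).eq _).symm
  have h := (genericPoint_spec X).image f.continuous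
  have h2 : closure (f.base '' Set.univ) = Set.univ := by
    rw [Set.image_univ]
    exact f.denseRange.closure_range
  rw [h2] at h
  exact h

/-- EGA IV 13.1.1-type statement: for a dominant morphism of irreducible schemes the generic fibre dimension
is a lower bound for all local fibre dimensions. -/
theorem topologicalKrullDim_fiber_genericPoint_le_fibreDimAt [IrreducibleSpace X] [IrreducibleSpace Y]
    (f : X ⟶ Y) [LocallyOfFiniteType f] [IsDominant f] (x : X) :
    topologicalKrullDim ↥(f.fiber (genericPoint Y)) ≤ FlatMor.fibreDimAt f x := by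
  obtain ⟨-, m, -, -, -, hm⟩ := exists_specializes_trdeg_eq_fibreDimAt f x
  rw [hm]
  by_contra hlt
  rw [not_le] at hlt
  have h1 : ((m + 1 : ℕ) : WithBot ℕ∞) ≤ topologicalKrullDim ↥(f.fiber (genericPoint Y)) := by
    cases hd : topologicalKrullDim ↥(f.fiber (genericPoint Y)) with
    | bot => rw [hd] at hlt; exact absurd hlt (not_lt_bot)
    | coe d =>
      rw [hd] at hlt
      have h2 : ((m : ℕ) : ℕ∞) < d := by
        have : (((m : ℕ) : ℕ∞) : WithBot ℕ∞) < (d : WithBot ℕ∞) := hlt
        exact WithBot.coe_lt_coe.mp this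
      have h3 : ((m : ℕ) : ℕ∞) + 1 ≤ d := Order.add_one_le_of_lt h2
      have h4 : ((m + 1 : ℕ) : ℕ∞) ≤ d := by push_cast; exact h3
      exact_mod_cast WithBot.coe_le_coe.mpr h4
  rw [natCast_le_topologicalKrullDim_fiber_iff] at h1
  obtain ⟨x₁, hx₁, hx₁d⟩ := h1
  obtain ⟨ζ, nζ, hζsp, hζf, hnζ, hFζ⟩ := exists_specializes_trdeg_eq_fibreDimAt f x₁
  rw [hFζ] at hx₁d
  have hnζ' : m + 1 ≤ nζ := by exact_mod_cast hx₁d
  set ξ := genericPoint X with hξ
  have hfξ : f.base ξ = genericPoint Y := map_genericPoint_of_isDominant f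
  have hξζ : ξ ⤳ ζ := genericPoint_specializes ζ
  obtain ⟨nξ, hnξ⟩ := exists_trdeg_residueField_eq_nat' f ξ
  have h5 := trdeg_le_trdeg_of_specializes_of_fibre' f hξζ (by rw [hfξ, hζf, hx₁]) nξ nζ hnξ hnζ
  -- `ξ` lies in the open set where the fibre dimension is `≤ m`
  have hopen := isOpen_setOf_fibreDimAt_le f m
  have hxmem : x ∈ {x : X | FlatMor.fibreDimAt f x ≤ m} := by
    change FlatMor.fibreDimAt f x ≤ m
    rw [hm]
  have hξmem : ξ ∈ {x : X | FlatMor.fibreDimAt f x ≤ m} :=
    (genericPoint_specializes x).mem_open hopen hxmem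
  have h6 := trdeg_le_fibreDimAt_of_fibre' f (specializes_refl ξ) rfl nξ hnξ
  have h7 : (nξ : WithBot ℕ∞) ≤ m := h6.trans hξmem
  have h7' : nξ ≤ m := by exact_mod_cast h7
  omega

end Groth.Agent.Lib.Helper73.SchemeDim
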