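/-
helper73: the dimension formula (Stacks 02IJ), ring level.
`height_add_trdeg_le`: R ⊆ S f.t. extension of domains, R Noetherian, q over p:
  ht q + trdeg (S/q over R/p) ≤ ht p + trdeg (S over R).
-/
import Mathlib.RingTheory.KrullDimension.Polynomial
import Mathlib.RingTheory.AlgebraicIndependent.TranscendenceBasis
import Mathlib.RingTheory.Algebraic.Integral
import Mathlib.RingTheory.Polynomial.Quotient
import Mathlib.RingTheory.FiniteType
import Mathlib.RingTheory.KrullDimension.Field

set_option linter.style.haveILetI false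
open Polynomial Cardinal
universe u v

namespace Groth.Agent.Lib.Helper73.DimFormula

/-- A nonzero prime of `D[X]` (D a domain) meeting `D` trivially has height one. -/
theorem height_eq_one_of_comap_C_eq_bot {D : Type*} [CommRing D] [IsDomain D]
    (P : Ideal D[X]) [P.IsPrime] (hP : P ≠ ⊥) (hPD : P.comap (C : D →+* D[X]) = ⊥) :
    P.height = 1 := by
  apply le_antisymm
  · -- localize at nonzero constants
    let K := FractionRing D
    let M : Submonoid D := nonZeroDivisors D
    letI : Algebra D[X] K[X] := Polynomial.algebra D K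
    haveI : IsLocalization (Submonoid.map (C : D →+* D[X]) M) K[X] := Polynomial.isLocalization M K
    have hdisj : Disjoint (↑(Submonoid.map (C : D →+* D[X]) M) : Set D[X]) (↑P : Set D[X]) := by
      rw [Set.disjoint_left]
      rintro _ ⟨d, hd, rfl⟩ hdP
      have : d ∈ P.comap (C : D →+* D[X]) := hdP
      rw [hPD] at this
      exact (nonZeroDivisors.ne_zero hd) this
    have h1 := IsLocalization.height_map_of_disjoint (Submonoid.map (C : D →+* D[X]) M) (S := K[X]) P hdisj
    have hprime := IsLocalization.isPrime_of_isPrime_disjoint (Submonoid.map (C : D →+* D[X]) M) K[X] P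
      inferInstance hdisj
    rw [← h1]
    have h2 := Ideal.height_le_ringKrullDim_of_ne_top hprime.ne_top
    rw [Polynomial.ringKrullDim_of_isNoetherianRing, ringKrullDim_eq_zero_of_field, zero_add] at h2
    exact_mod_cast h2
  · rw [Order.one_le_iff_pos, pos_iff_ne_zero, Ne, Ideal.height_eq_zero_iff_eq_bot]
    exact hP

/-- Lemma B': `D ⊆ T` domains, `T = D[t]`. Then `ht (ker (D[X] → T)) + trdeg_D T = 1`. -/
theorem height_ker_aeval_add_trdeg {D : Type u} {T : Type v} [CommRing D] [IsDomain D]
    [CommRing T] [IsDomain T] [Algebra D T] [FaithfulSMul D T] (t : T)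
    (ht : Function.Surjective (aeval t : D[X] →ₐ[D] T)) :
    ((RingHom.ker (aeval t : D[X] →ₐ[D] T)).height : Cardinal.{v}) + Algebra.trdeg D T = 1 := by
  have hprime : (RingHom.ker (aeval t : D[X] →ₐ[D] T)).IsPrime := RingHom.ker_isPrime _
  by_cases htr : Transcendental D t
  · have hinj : Function.Injective (aeval t : D[X] →ₐ[D] T) := transcendental_iff_injective.mp htr
    have hker : RingHom.ker (aeval t : D[X] →ₐ[D] T) = ⊥ :=
      (RingHom.injective_iff_ker_eq_bot _).mp hinj
    let e : D[X] ≃ₐ[D] T := AlgEquiv.ofBijective (aeval t) ⟨hinj, ht⟩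
    have h1 : Algebra.trdeg D T = 1 := by
      have := e.lift_trdeg_eq
      rw [Polynomial.trdeg_of_isDomain] at this
      simpa using this.symm
    rw [hker, h1]
    have : (⊥ : Ideal D[X]).height = 0 := Ideal.height_eq_zero_iff_eq_bot.mpr rfl
    rw [this]; simp
  · have halg : IsAlgebraic D t := by rwa [Transcendental, not_not] at htr
    have hA : Algebra.IsAlgebraic D T := by
      have h1 : (Algebra.adjoin D {t}).IsAlgebraic :=
        Algebra.isAlgebraic_adjoin_singleton_iff.mpr halg
      have htop : Algebra.adjoin D {t} = ⊤ := by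
        rw [Algebra.adjoin_singleton_eq_range_aeval]
        exact (AlgHom.range_eq_top _).mpr ht
      rw [htop] at h1
      exact Algebra.isAlgebraic_iff.mpr h1
    have h0 : Algebra.trdeg D T = 0 := trdeg_eq_zero
    have hne : RingHom.ker (aeval t : D[X] →ₐ[D] T) ≠ ⊥ := by
      intro h
      exact htr (transcendental_iff_injective.mpr ((RingHom.injective_iff_ker_eq_bot _).mpr h))
    have hC : (RingHom.ker (aeval t : D[X] →ₐ[D] T)).comap (C : D →+* D[X]) = ⊥ := by
      rw [eq_bot_iff]
      intro d hd
      have : aeval t (C d) = 0 := hd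
      rw [aeval_C] at this
      exact (FaithfulSMul.algebraMap_injective D T) (by simpa using this)
    rw [height_eq_one_of_comap_C_eq_bot _ hne hC, h0]
    simp

/-- Lemma A'. -/
theorem height_ker_aeval_add_trdeg_quotient {R : Type u} {T : Type v} [CommRing R]
    [IsNoetherianRing R] (p : Ideal R) [p.IsPrime]
    [CommRing T] [IsDomain T] [Algebra R T] [Algebra (R ⧸ p) T] [IsScalarTower R (R ⧸ p) T]
    [FaithfulSMul (R ⧸ p) T] (t : T)
    (ht : Function.Surjective (aeval t : R[X] →ₐ[R] T)) :
    ((RingHom.ker (aeval t : R[X] →ₐ[R] T)).height : Cardinal.{v}) + Algebra.trdeg (R ⧸ p) T =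
      (p.height : Cardinal.{v}) + 1 := by
  set P : Ideal R[X] := RingHom.ker (aeval t : R[X] →ₐ[R] T) with hPdef
  have hprime : P.IsPrime := RingHom.ker_isPrime _
  have hmemP : ∀ f : R[X], f ∈ P ↔ aeval t f = 0 := fun f => RingHom.mem_ker
  -- P lies over p
  have hkerRT : ∀ r : R, algebraMap R T r = 0 ↔ r ∈ p := by
    intro r
    rw [IsScalarTower.algebraMap_apply R (R ⧸ p) T, ← map_zero (algebraMap (R ⧸ p) T),
      (FaithfulSMul.algebraMap_injective (R ⧸ p) T).eq_iff, Ideal.Quotient.algebraMap_eq,
      Ideal.Quotient.eq_zero_iff_mem]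
  haveI hlo : P.LiesOver p := by
    constructor
    ext r
    rw [Ideal.under_def, Ideal.mem_comap, hmemP, Polynomial.algebraMap_apply, aeval_C, hkerRT]
    rfl
  have hle : p.map (C : R →+* R[X]) ≤ P := by
    rw [Ideal.map_le_iff_le_comap]
    intro r hr
    rw [Ideal.mem_comap, hmemP, aeval_C, hkerRT]
    exact hr
  have h1 : P.height = p.height + (P.map (Ideal.Quotient.mk (p.map (C : R →+* R[X])))).height :=
    Ideal.height_eq_height_add_of_liesOver_of_hasGoingDown p P
  -- the image of P in (R/p)[X]
  set Pbar : Ideal (R ⧸ p)[X] := RingHom.ker (aeval t : (R ⧸ p)[X] →ₐ[R ⧸ p] T) with hPbar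
  have hsurj' : Function.Surjective (aeval t : (R ⧸ p)[X] →ₐ[R ⧸ p] T) := by
    intro y
    obtain ⟨f, rfl⟩ := ht y
    exact ⟨f.map (algebraMap R (R ⧸ p)), aeval_map_algebraMap _ _ _⟩
  have h2 := height_ker_aeval_add_trdeg (D := R ⧸ p) t hsurj'
  have h3 : (P.map (Ideal.Quotient.mk (p.map (C : R →+* R[X])))).height = Pbar.height := by
    rw [← RingEquiv.height_comap (Ideal.polynomialQuotientEquivQuotientPolynomial p)]
    congr 1
    ext fbar
    obtain ⟨f, rfl⟩ := Polynomial.map_surjective _ (Ideal.Quotient.mk_surjective (I := p)) fbar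
    rw [Ideal.mem_comap, Ideal.polynomialQuotientEquivQuotientPolynomial_map_mk]
    rw [Ideal.mem_quotient_iff_mem hle, hmemP, hPbar, RingHom.mem_ker]
    rw [← Ideal.Quotient.algebraMap_eq, aeval_map_algebraMap]
  rw [h1, h3, Cardinal.ofENat_add, add_assoc, h2]

/-- Height drops by at least one under a non-injective surjection from a domain. -/
theorem height_add_one_le_height_comap {A B : Type*} [CommRing A] [IsDomain A] [CommRing B]
    (f : A →+* B) (hf : Function.Surjective f) (hker : RingHom.ker f ≠ ⊥)
    (q : Ideal B) [q.IsPrime] : q.height + 1 ≤ (q.comap f).height := by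
  have key : ∀ n : ℕ, ∀ q : Ideal B, q.IsPrime → (n : ℕ∞) ≤ q.height →
      ((n + 1 : ℕ) : ℕ∞) ≤ (q.comap f).height := by
    intro n
    induction n with
    | zero =>
      intro q hq _
      have : (q.comap f).height ≠ 0 := by
        rw [Ne, Ideal.height_eq_zero_iff_eq_bot]
        intro h
        apply hker
        rw [eq_bot_iff, ← h]
        exact Ideal.comap_mono bot_le
      simpa [Order.one_le_iff_pos, pos_iff_ne_zero] using this
    | succ n ih =>
      intro q hq hn
      have : ¬ q.height ≤ n := by
        intro h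
        have := hn.trans h
        norm_cast at this
        omega
      rw [Ideal.height_le_iff] at this
      push Not at this
      obtain ⟨q', hq', hlt, hh⟩ := this
      have h1 := ih q' hq' hh
      have hlt' : q'.comap f < q.comap f := by
        refine lt_of_le_of_ne (Ideal.comap_mono hlt.le) ?_
        intro h
        apply hlt.ne
        rw [← Ideal.map_comap_of_surjective f hf q', h, Ideal.map_comap_of_surjective f hf q]
      have h2 := Ideal.height_add_one_le_of_lt_of_isPrime hlt'
      calc ((n + 1 + 1 : ℕ) : ℕ∞) = ((n + 1 : ℕ) : ℕ∞) + 1 := by push_cast; rfl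
        _ ≤ (q'.comap f).height + 1 := by gcongr
        _ ≤ _ := h2
  rw [← ENat.forall_natCast_le_iff_le]
  intro a ha
  cases a with
  | zero => simp
  | succ a =>
    apply key a q inferInstance
    have : ((a : ℕ∞) + 1) ≤ q.height + 1 := by exact_mod_cast ha
    exact (ENat.add_le_add_iff_right ENat.one_ne_top).mp this

/-- Lemma C0: for `S = R[x]`, `ht (q ∩ R[X]) + trdeg (S/q over R/p) = ht p + 1`. -/
theorem height_comap_aeval_add_trdeg {R : Type u} {S : Type v} [CommRing R]
    [IsNoetherianRing R] [CommRing S] [Algebra R S] (x : S)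
    (hx : Function.Surjective (aeval x : R[X] →ₐ[R] S))
    (p : Ideal R) [p.IsPrime] (q : Ideal S) [q.IsPrime] [q.LiesOver p] :
    ((q.comap (aeval x : R[X] →ₐ[R] S).toRingHom).height : Cardinal.{v}) +
      Algebra.trdeg (R ⧸ p) (S ⧸ q) = (p.height : Cardinal.{v}) + 1 := by
  have ht : Function.Surjective (aeval (Ideal.Quotient.mk q x) : R[X] →ₐ[R] (S ⧸ q)) := by
    intro y
    obtain ⟨s, rfl⟩ := Ideal.Quotient.mk_surjective y
    obtain ⟨f, rfl⟩ := hx s
    refine ⟨f, ?_⟩
    rw [← Ideal.Quotient.algebraMap_eq, aeval_algebraMap_apply]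
  have h := height_ker_aeval_add_trdeg_quotient (R := R) (T := S ⧸ q) p (Ideal.Quotient.mk q x) ht
  have hker : RingHom.ker (aeval (Ideal.Quotient.mk q x) : R[X] →ₐ[R] (S ⧸ q)) =
      q.comap (aeval x : R[X] →ₐ[R] S).toRingHom := by
    ext f
    rw [RingHom.mem_ker, Ideal.mem_comap, ← Ideal.Quotient.algebraMap_eq, aeval_algebraMap_apply,
      Ideal.Quotient.algebraMap_eq, Ideal.Quotient.eq_zero_iff_mem]
    rfl
  rw [hker] at h
  exact h

/-- Lemma C: the one-generator case of the dimension inequality, with equality in the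
transcendental case. -/
theorem height_add_trdeg_le_of_aeval_surjective {R : Type u} {S : Type v} [CommRing R] [IsDomain R]
    [IsNoetherianRing R] [CommRing S] [IsDomain S] [Algebra R S] [FaithfulSMul R S] (x : S)
    (hx : Function.Surjective (aeval x : R[X] →ₐ[R] S))
    (p : Ideal R) [p.IsPrime] (q : Ideal S) [q.IsPrime] [q.LiesOver p] :
    (q.height : Cardinal.{v}) + Algebra.trdeg (R ⧸ p) (S ⧸ q) ≤
      (p.height : Cardinal.{v}) + Algebra.trdeg R S := by
  have h0 := height_comap_aeval_add_trdeg x hx p q
  by_cases htr : Transcendental R x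
  · have hinj : Function.Injective (aeval x : R[X] →ₐ[R] S) := transcendental_iff_injective.mp htr
    let e : R[X] ≃ₐ[R] S := AlgEquiv.ofBijective (aeval x) ⟨hinj, hx⟩
    have h1 : Algebra.trdeg R S = 1 := by
      have := e.lift_trdeg_eq
      rw [Polynomial.trdeg_of_isDomain] at this
      simpa using this.symm
    have h2 : (q.comap (aeval x : R[X] →ₐ[R] S).toRingHom).height = q.height :=
      RingEquiv.height_comap e.toRingEquiv q
    rw [h2] at h0
    rw [h0, h1]
  · have halg : IsAlgebraic R x := by rwa [Transcendental, not_not] at htr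
    have hA : Algebra.IsAlgebraic R S := by
      have h1 : (Algebra.adjoin R {x}).IsAlgebraic :=
        Algebra.isAlgebraic_adjoin_singleton_iff.mpr halg
      have htop : Algebra.adjoin R {x} = ⊤ := by
        rw [Algebra.adjoin_singleton_eq_range_aeval]
        exact (AlgHom.range_eq_top _).mpr hx
      rw [htop] at h1
      exact Algebra.isAlgebraic_iff.mpr h1
    have h1 : Algebra.trdeg R S = 0 := trdeg_eq_zero
    have hne : RingHom.ker (aeval x : R[X] →ₐ[R] S).toRingHom ≠ ⊥ := by
      intro h
      exact htr (transcendental_iff_injective.mpr ((RingHom.injective_iff_ker_eq_bot (aeval x : R[X] →ₐ[R] S).toRingHom).mpr h))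
    have h2 := height_add_one_le_height_comap (aeval x : R[X] →ₐ[R] S).toRingHom hx hne q
    rw [h1, add_zero]
    have h3 : (q.height : Cardinal.{v}) + 1 + Algebra.trdeg (R ⧸ p) (S ⧸ q) ≤
        (p.height : Cardinal.{v}) + 1 := by
      rw [← h0]
      gcongr
      have : ((q.height + 1 : ℕ∞) : Cardinal.{v}) ≤
          ((q.comap (aeval x : R[X] →ₐ[R] S).toRingHom).height : Cardinal.{v}) := by
        exact_mod_cast h2
      simpa using this
    rw [add_right_comm] at h3
    exact Cardinal.add_one_le_add_one_iff.mp h3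

theorem isScalarTower_quotient {R : Type*} {S' : Type*} {S : Type*} [CommRing R] [CommRing S'] [CommRing S]
    [Algebra R S'] [Algebra S' S] [Algebra R S] [IsScalarTower R S' S] (p : Ideal R) (q' : Ideal S')
    (q : Ideal S) [q.LiesOver p] [q.LiesOver q'] [q'.LiesOver p] :
    IsScalarTower (R ⧸ p) (S' ⧸ q') (S ⧸ q) := by
  refine IsScalarTower.of_algebraMap_eq' ?_
  refine Ideal.Quotient.ringHom_ext ?_
  ext r
  simp only [RingHom.comp_apply, Ideal.Quotient.algebraMap_mk_of_liesOver]
  rw [← IsScalarTower.algebraMap_apply]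

/-- Additivity of the left hand side of the dimension formula in towers. -/
theorem trdeg_quotient_add {R : Type u} {S' S : Type v} [CommRing R] [CommRing S'] [CommRing S]
    [Algebra R S'] [Algebra S' S] [Algebra R S] [IsScalarTower R S' S] (p : Ideal R) (q' : Ideal S')
    (q : Ideal S) [p.IsPrime] [q.IsPrime] [q.LiesOver p] [q.LiesOver q'] [q'.LiesOver p] :
    Algebra.trdeg (R ⧸ p) (S' ⧸ q') + Algebra.trdeg (S' ⧸ q') (S ⧸ q) =
      Algebra.trdeg (R ⧸ p) (S ⧸ q) := by
  haveI := isScalarTower_quotient p q' q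
  exact trdeg_add_eq (R ⧸ p) (S' ⧸ q') (A := S ⧸ q)

theorem aeval_surjective_of_adjoin_insert {R : Type u} {S : Type v} [CommRing R] [CommRing S] [Algebra R S]
    (s' : Set S) (x : S) (h : Algebra.adjoin R (insert x s') = ⊤) :
    Function.Surjective (aeval x : (Algebra.adjoin R s')[X] →ₐ[Algebra.adjoin R s'] S) := by
  rw [← AlgHom.range_eq_top, ← Algebra.adjoin_singleton_eq_range_aeval]
  apply Subalgebra.restrictScalars_injective R
  rw [Subalgebra.restrictScalars_top, ← Algebra.adjoin_union_eq_adjoin_adjoin, Set.union_singleton, h]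

theorem faithfulSMul_adjoin {R : Type u} {S : Type v} [CommRing R] [CommRing S] [Algebra R S]
    [FaithfulSMul R S] (S' : Subalgebra R S) : FaithfulSMul R S' := by
  rw [faithfulSMul_iff_algebraMap_injective]
  intro a b hab
  apply FaithfulSMul.algebraMap_injective R S
  have := congrArg (Subtype.val) hab
  simpa using this

theorem height_add_trdeg_le_aux (n : ℕ) : ∀ (R : Type u) (S : Type v) [CommRing R] [IsDomain R]
    [IsNoetherianRing R] [CommRing S] [IsDomain S] [Algebra R S] [FaithfulSMul R S]
    (s : Finset S), s.card ≤ n → Algebra.adjoin R (↑s : Set S) = ⊤ →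
    ∀ (p : Ideal R) [p.IsPrime] (q : Ideal S) [q.IsPrime] [q.LiesOver p],
    (q.height : Cardinal.{v}) + Algebra.trdeg (R ⧸ p) (S ⧸ q) ≤
      (p.height : Cardinal.{v}) + Algebra.trdeg R S := by
  induction n with
  | zero =>
    intro R S _ _ _ _ _ _ _ s hs hadj p _ q _ _
    have hs0 : s = ∅ := Finset.card_eq_zero.mp (Nat.le_zero.mp hs)
    subst hs0
    rw [Finset.coe_empty, Algebra.adjoin_empty] at hadj
    have hsurj : Function.Surjective (algebraMap R S) :=
      Algebra.surjective_algebraMap_iff.mpr hadj.symm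
    refine height_add_trdeg_le_of_aeval_surjective (0 : S) ?_ p q
    intro y
    obtain ⟨r, rfl⟩ := hsurj y
    exact ⟨C r, by simp⟩
  | succ n ih =>
    intro R S _ _ _ _ _ _ _ s hs hadj p _ q _ _
    classical
    by_cases hse : s = ∅
    · subst hse
      rw [Finset.coe_empty, Algebra.adjoin_empty] at hadj
      have hsurj : Function.Surjective (algebraMap R S) :=
        Algebra.surjective_algebraMap_iff.mpr hadj.symm
      refine height_add_trdeg_le_of_aeval_surjective (0 : S) ?_ p q
      intro y
      obtain ⟨r, rfl⟩ := hsurj y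
      exact ⟨C r, by simp⟩
    obtain ⟨x, hxs⟩ := Finset.nonempty_iff_ne_empty.mpr hse
    set s' : Finset S := s.erase x with hs'
    have hcard : s'.card ≤ n := by
      rw [hs', Finset.card_erase_of_mem hxs]; omega
    have hins : insert x (↑s' : Set S) = ↑s := by
      rw [hs', ← Finset.coe_insert, Finset.insert_erase hxs]
    set S' : Subalgebra R S := Algebra.adjoin R (↑s' : Set S) with hS'
    haveI : FaithfulSMul R S' := faithfulSMul_adjoin S'
    haveI : Algebra.FiniteType R S' := by
      rw [← Subalgebra.fg_iff_finiteType]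
      exact ⟨s', rfl⟩
    haveI : IsNoetherianRing S' := Algebra.FiniteType.isNoetherianRing R S'
    -- generators of S'
    let t : Finset S' := s'.subtype (· ∈ S')
    have htcard : t.card ≤ n := by
      refine le_trans ?_ hcard
      rw [Finset.card_subtype]
      exact Finset.card_filter_le _ _
    have htadj : Algebra.adjoin R (↑t : Set S') = ⊤ := by
      have : (↑t : Set S') = (Subtype.val ⁻¹' (↑s' : Set S)) := by
        ext y
        simp [t]
      rw [this]
      exact Algebra.adjoin_adjoin_coe_preimage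
    set q' : Ideal S' := q.under S' with hq'
    haveI : q.LiesOver q' := ⟨rfl⟩
    haveI : q'.LiesOver p := Ideal.LiesOver.tower_bot q q' p
    have h1 := ih R S' t htcard htadj p q'
    have hx : Function.Surjective (aeval x : S'[X] →ₐ[S'] S) :=
      aeval_surjective_of_adjoin_insert (↑s' : Set S) x (by rw [hins, hadj])
    have h2 := height_add_trdeg_le_of_aeval_surjective (R := S') (S := S) x hx q' q
    have h3 := trdeg_quotient_add (R := R) (S' := S') (S := S) p q' q
    have h4 : Algebra.trdeg R S' + Algebra.trdeg S' S = Algebra.trdeg R S :=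
      trdeg_add_eq R S' (A := S)
    calc (q.height : Cardinal.{v}) + Algebra.trdeg (R ⧸ p) (S ⧸ q)
        = ((q.height : Cardinal.{v}) + Algebra.trdeg (S' ⧸ q') (S ⧸ q)) +
            Algebra.trdeg (R ⧸ p) (S' ⧸ q') := by rw [← h3]; ring
      _ ≤ ((q'.height : Cardinal.{v}) + Algebra.trdeg S' S) + Algebra.trdeg (R ⧸ p) (S' ⧸ q') := by
          gcongr
      _ = ((q'.height : Cardinal.{v}) + Algebra.trdeg (R ⧸ p) (S' ⧸ q')) + Algebra.trdeg S' S := by
          ring
      _ ≤ ((p.height : Cardinal.{v}) + Algebra.trdeg R S') + Algebra.trdeg S' S := by gcongr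
      _ = (p.height : Cardinal.{v}) + Algebra.trdeg R S := by rw [← h4]; ring

/-- **Dimension formula, inequality** (Stacks 02IJ). -/
theorem height_add_trdeg_le (R : Type u) (S : Type v) [CommRing R] [IsDomain R]
    [IsNoetherianRing R] [CommRing S] [IsDomain S] [Algebra R S] [FaithfulSMul R S]
    [Algebra.FiniteType R S] (p : Ideal R) [p.IsPrime] (q : Ideal S) [q.IsPrime] [q.LiesOver p] :
    (q.height : Cardinal.{v}) + Algebra.trdeg (R ⧸ p) (S ⧸ q) ≤
      (p.height : Cardinal.{v}) + Algebra.trdeg R S := by
  obtain ⟨s, hs⟩ := (Algebra.FiniteType.out : (⊤ : Subalgebra R S).FG)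
  exact height_add_trdeg_le_aux s.card R S s le_rfl hs p q

end Groth.Agent.Lib.Helper73.DimFormula
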