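/-
helper73: local dimension inequality (Stacks 02JU), ring level, without domain hypotheses.
* `trdeg_eq_of_ringEquiv`: `trdeg` is invariant under compatible ring isomorphisms.
* `trdeg_eq_of_algebraic_square`: `trdeg_K L = trdeg_D T` when `K/D`, `L/T` are algebraic.
* `height_quotient_add_trdeg_le`: for primes `q₀ ≤ q` of a f.t. algebra `B` over Noetherian `A`:
  `ht (q/q₀) + trdeg (κ(q)/κ(p)) ≤ ht (p/p₀) + trdeg (κ(q₀)/κ(p₀))`.
* `height_add_le_of_forall_minimalPrimes`: `ht q + n ≤ ht p + E`.
-/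
import Groth.Agent.Lib.Helper73.DimFormula
import Groth.Agent.Lib.Helper34.Catenary
import Mathlib.RingTheory.Ideal.Quotient.Operations

set_option linter.style.haveILetI false
universe u v w
open Cardinal Groth.Agent.Lib.Helper34

namespace Groth.Agent.Lib.Helper73.DimFormula

/-- Monotonicity of `trdeg` along a compatible pair (surjection on the base, injection on top). -/
theorem trdeg_le_of_ringHom_of_comp_eq {D : Type u} {D' : Type v} {T T' : Type w} [CommRing D]
    [CommRing D'] [CommRing T] [CommRing T'] [Algebra D T] [Algebra D' T'] [Nontrivial D']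
    (f : D →+* D') (g : T →+* T') (hf : Function.Surjective f) (hg : Function.Injective g)
    (h : (algebraMap D' T').comp f = g.comp (algebraMap D T)) :
    Algebra.trdeg D T ≤ Algebra.trdeg D' T' := by
  rw [Algebra.trdeg]
  refine ciSup_le' fun s => ?_
  have hs : AlgebraicIndependent D ((↑) : s.1 → T) := s.2
  have := (hs.ringHom_of_comp_eq f g hf hg h).cardinalMk_le_trdeg
  exact this

/-- `trdeg` is invariant under compatible ring isomorphisms of base and top. -/
theorem trdeg_eq_of_ringEquiv {D : Type u} {D' : Type v} {T T' : Type w} [CommRing D]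
    [CommRing D'] [CommRing T] [CommRing T'] [Algebra D T] [Algebra D' T'] [Nontrivial D]
    [Nontrivial D']
    (e₁ : D ≃+* D') (e₂ : T ≃+* T')
    (h : ∀ d, e₂ (algebraMap D T d) = algebraMap D' T' (e₁ d)) :
    Algebra.trdeg D T = Algebra.trdeg D' T' := by
  apply le_antisymm
  · refine trdeg_le_of_ringHom_of_comp_eq (e₁ : D →+* D') (e₂ : T →+* T') e₁.surjective
      e₂.injective ?_
    ext d
    exact (h d).symm
  · refine trdeg_le_of_ringHom_of_comp_eq (e₁.symm : D' →+* D) (e₂.symm : T' →+* T)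
      e₁.symm.surjective e₂.symm.injective ?_
    ext d
    simp only [RingHom.coe_comp, RingHom.coe_coe, Function.comp_apply]
    apply e₂.injective
    rw [h, RingEquiv.apply_symm_apply, RingEquiv.apply_symm_apply]

/-- The algebraic square: if `K/D` and `L/T` are algebraic (injective), then
`trdeg_K L = trdeg_D T`. -/
theorem trdeg_eq_of_algebraic_square {D : Type u} {K T L : Type w} [CommRing D] [CommRing T]
    [CommRing K] [CommRing L] [Nontrivial D] [NoZeroDivisors L]
    [Algebra D T] [Algebra D K] [Algebra K L] [Algebra T L] [Algebra D L]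
    [IsScalarTower D K L] [IsScalarTower D T L]
    [FaithfulSMul D K] [FaithfulSMul K L] [FaithfulSMul D T] [FaithfulSMul T L]
    [Algebra.IsAlgebraic D K] [Algebra.IsAlgebraic T L] :
    Algebra.trdeg K L = Algebra.trdeg D T := by
  have h1 := trdeg_add_eq D K (A := L)
  have h2 := trdeg_add_eq D T (A := L)
  have h3 : Algebra.trdeg D K = 0 := trdeg_eq_zero
  have h4 : Algebra.trdeg T L = 0 := trdeg_eq_zero
  rw [h3, zero_add] at h1
  rw [h4, add_zero] at h2
  rw [h1, h2]

/-- A chain of primes above `q₀` ending at `q` has length at most `ht (q / q₀)`. -/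
theorem length_le_height_map_quotient {B : Type*} [CommRing B] (q₀ q : Ideal B)
    [q.IsPrime] (hle : q₀ ≤ q) [hq' : (q.map (Ideal.Quotient.mk q₀)).IsPrime]
    (l : LTSeries (PrimeSpectrum B)) (hlast : l.last = ⟨q, inferInstance⟩)
    (hhead : q₀ ≤ l.head.asIdeal) :
    (l.length : ℕ∞) ≤ (q.map (Ideal.Quotient.mk q₀)).height := by
  let iso := q₀.primeSpectrumQuotientOrderIsoZeroLocus
  have hT : IsUpperSet (PrimeSpectrum.zeroLocus (R := B) q₀) := by
    intro a b hab ha
    rw [PrimeSpectrum.mem_zeroLocus] at ha ⊢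
    exact ha.trans hab
  have hh : l.head ∈ PrimeSpectrum.zeroLocus (R := B) q₀ := by
    rw [PrimeSpectrum.mem_zeroLocus]; exact hhead
  let l' := liftSeries _ hT l hh
  let l'' : LTSeries (PrimeSpectrum (B ⧸ q₀)) := l'.map iso.symm iso.symm.strictMono
  have hl''last : l''.last = ⟨q.map (Ideal.Quotient.mk q₀), hq'⟩ := by
    rw [LTSeries.last_map, OrderIso.symm_apply_eq]
    apply Subtype.ext
    rw [liftSeries_last, hlast]
    apply PrimeSpectrum.ext
    change q = (q.map (Ideal.Quotient.mk q₀)).comap (Ideal.Quotient.mk q₀)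
    rw [Ideal.comap_map_of_surjective _ Ideal.Quotient.mk_surjective, ← RingHom.ker_eq_comap_bot,
      Ideal.mk_ker]
    exact (sup_eq_left.mpr hle).symm
  have := Order.length_le_height_last (p := l'')
  rw [hl''last, ← PrimeSpectrum.height_eq_orderHeight] at this
  simpa [l'', l'] using this

/-- Height does not increase when passing to a quotient. -/
theorem height_map_quotient_le {A : Type*} [CommRing A] (p₀ p : Ideal A) [p.IsPrime]
    (hle : p₀ ≤ p) [hp' : (p.map (Ideal.Quotient.mk p₀)).IsPrime] :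
    (p.map (Ideal.Quotient.mk p₀)).height ≤ p.height := by
  have hsm := RingHom.strictMono_comap_of_surjective (f := Ideal.Quotient.mk p₀)
    Ideal.Quotient.mk_surjective
  have := Order.height_le_height_apply_of_strictMono _ hsm
    (⟨p.map (Ideal.Quotient.mk p₀), hp'⟩ : PrimeSpectrum (A ⧸ p₀))
  rw [← PrimeSpectrum.height_eq_orderHeight, ← PrimeSpectrum.height_eq_orderHeight] at this
  have h2 : ((PrimeSpectrum.comap (Ideal.Quotient.mk p₀))
      (⟨p.map (Ideal.Quotient.mk p₀), hp'⟩ : PrimeSpectrum (A ⧸ p₀))).asIdeal = p := by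
    change (p.map (Ideal.Quotient.mk p₀)).comap (Ideal.Quotient.mk p₀) = p
    rw [Ideal.comap_map_of_surjective _ Ideal.Quotient.mk_surjective, ← RingHom.ker_eq_comap_bot,
      Ideal.mk_ker]
    exact sup_eq_left.mpr hle
  rw [h2] at this
  exact this

/-- Dimension inequality relative to a pair of primes `q₀ ≤ q` (no domain hypotheses). -/
theorem height_quotient_add_trdeg_le {A : Type u} {B : Type v} [CommRing A] [IsNoetherianRing A]
    [CommRing B] [Algebra A B] [Algebra.FiniteType A B]
    (q₀ q : Ideal B) [q₀.IsPrime] [q.IsPrime] (hle : q₀ ≤ q)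
    (p₀ p : Ideal A) [p₀.IsPrime] [p.IsPrime] [q₀.LiesOver p₀] [q.LiesOver p]
    [hq' : (q.map (Ideal.Quotient.mk q₀)).IsPrime] [hp' : (p.map (Ideal.Quotient.mk p₀)).IsPrime] :
    ((q.map (Ideal.Quotient.mk q₀)).height : Cardinal.{v}) + Algebra.trdeg (A ⧸ p) (B ⧸ q) ≤
      ((p.map (Ideal.Quotient.mk p₀)).height : Cardinal.{v}) + Algebra.trdeg (A ⧸ p₀) (B ⧸ q₀) := by
  have hple : p₀ ≤ p := by
    rw [Ideal.over_def q₀ p₀, Ideal.over_def q p]
    exact Ideal.comap_mono hle
  haveI : Algebra.FiniteType A (B ⧸ q₀) :=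
    Algebra.FiniteType.of_surjective (Ideal.Quotient.mkₐ A q₀) (Ideal.Quotient.mkₐ_surjective A q₀)
  haveI : Algebra.FiniteType (A ⧸ p₀) (B ⧸ q₀) :=
    Algebra.FiniteType.of_restrictScalars_finiteType A (A ⧸ p₀) (B ⧸ q₀)
  haveI hlo : (q.map (Ideal.Quotient.mk q₀)).LiesOver (p.map (Ideal.Quotient.mk p₀)) := by
    constructor
    ext r
    obtain ⟨r, rfl⟩ := Ideal.Quotient.mk_surjective r
    rw [Ideal.under_def, Ideal.mem_comap, Ideal.Quotient.algebraMap_mk_of_liesOver,
      Ideal.mem_quotient_iff_mem hple, Ideal.mem_quotient_iff_mem hle, Ideal.over_def q p,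
      Ideal.under_def, Ideal.mem_comap]
  have h := height_add_trdeg_le (A ⧸ p₀) (B ⧸ q₀) (p.map (Ideal.Quotient.mk p₀))
    (q.map (Ideal.Quotient.mk q₀))
  have hinv : Algebra.trdeg ((A ⧸ p₀) ⧸ p.map (Ideal.Quotient.mk p₀))
      ((B ⧸ q₀) ⧸ q.map (Ideal.Quotient.mk q₀)) = Algebra.trdeg (A ⧸ p) (B ⧸ q) := by
    haveI : Nontrivial ((A ⧸ p₀) ⧸ p.map (Ideal.Quotient.mk p₀)) :=
      Ideal.Quotient.nontrivial_iff.mpr hp'.ne_top
    haveI : Nontrivial (A ⧸ p) := Ideal.Quotient.nontrivial_iff.mpr (Ideal.IsPrime.ne_top inferInstance)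
    refine trdeg_eq_of_ringEquiv (DoubleQuot.quotQuotEquivQuotOfLE hple)
      (DoubleQuot.quotQuotEquivQuotOfLE hle) ?_
    intro d
    obtain ⟨d, rfl⟩ := Ideal.Quotient.mk_surjective d
    obtain ⟨d, rfl⟩ := Ideal.Quotient.mk_surjective d
    rfl
  rw [hinv] at h
  exact h

/-- **Local dimension inequality** (Stacks 02JU, ring form): if the residue transcendence degrees
at all minimal primes below `q` are at most `E`, then `ht q + trdeg (κ(q)/κ(p)) ≤ ht p + E`. -/
theorem height_add_le_of_forall_minimalPrimes {A : Type u} {B : Type v} [CommRing A]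
    [IsNoetherianRing A] [CommRing B] [Algebra A B] [Algebra.FiniteType A B]
    (q : Ideal B) [q.IsPrime] (p : Ideal A) [p.IsPrime] [q.LiesOver p] (n E : ℕ)
    (hn : Algebra.trdeg (A ⧸ p) (B ⧸ q) = n)
    (hE : ∀ (q₀ : Ideal B) [q₀.IsPrime], q₀ ∈ minimalPrimes B → q₀ ≤ q →
      Algebra.trdeg (A ⧸ q₀.under A) (B ⧸ q₀) ≤ E) :
    q.height + n ≤ p.height + E := by
  -- the bound for each chain
  have key : ∀ l : LTSeries (PrimeSpectrum B), l.last = ⟨q, inferInstance⟩ →
      (l.length : ℕ∞) + n ≤ p.height + E := by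
    intro l hlast
    obtain ⟨q₀, hq₀min, hq₀le⟩ := Ideal.exists_minimalPrimes_le (bot_le : (⊥ : Ideal B) ≤ l.head.asIdeal)
    haveI hq₀p : q₀.IsPrime := hq₀min.1.1
    have hle : q₀ ≤ q := by
      have h1 : l.head ≤ l.last := LTSeries.head_le_last l
      rw [hlast] at h1
      exact hq₀le.trans h1
    have hple : q₀.under A ≤ p := by
      rw [Ideal.over_def q p]
      exact Ideal.comap_mono hle
    haveI hq' : (q.map (Ideal.Quotient.mk q₀)).IsPrime :=
      Ideal.map_isPrime_of_surjective Ideal.Quotient.mk_surjective (by rwa [Ideal.mk_ker])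
    haveI hp' : (p.map (Ideal.Quotient.mk (q₀.under A))).IsPrime :=
      Ideal.map_isPrime_of_surjective Ideal.Quotient.mk_surjective (by rwa [Ideal.mk_ker])
    have h1 := length_le_height_map_quotient q₀ q hle l hlast hq₀le
    have h2 := height_quotient_add_trdeg_le q₀ q hle (q₀.under A) p
    have h3 := height_map_quotient_le (q₀.under A) p hple
    have h4 := hE q₀ hq₀min hle
    rw [hn] at h2
    have h5 : (((l.length : ℕ∞) + n : ℕ∞) : Cardinal.{v}) ≤ ((p.height + E : ℕ∞) : Cardinal.{v}) := by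
      calc (((l.length : ℕ∞) + n : ℕ∞) : Cardinal.{v})
          = ((l.length : ℕ∞) : Cardinal.{v}) + n := by simp
        _ ≤ ((q.map (Ideal.Quotient.mk q₀)).height : Cardinal.{v}) + n := by
            gcongr
        _ ≤ _ := h2
        _ ≤ (p.height : Cardinal.{v}) + E := by
            gcongr
        _ = _ := by simp
    exact_mod_cast h5
  -- take the supremum over chains
  by_cases htop : p.height = ⊤
  · rw [htop]; simp
  obtain ⟨h, hh⟩ := ENat.ne_top_iff_exists.mp htop
  have hq : q.height = Order.height (⟨q, inferInstance⟩ : PrimeSpectrum B) :=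
    PrimeSpectrum.height_eq_orderHeight ⟨q, inferInstance⟩
  have h0 : n ≤ h + E := by
    have := key (RelSeries.singleton _ ⟨q, inferInstance⟩) rfl
    rw [← hh] at this
    simp only [RelSeries.singleton_length, Nat.cast_zero, zero_add] at this
    exact_mod_cast this
  have hle : q.height ≤ ((h + E - n : ℕ) : ℕ∞) := by
    rw [hq]
    apply Order.height_le
    intro l hl
    have := key l hl
    rw [← hh] at this
    have h2 : l.length + n ≤ h + E := by exact_mod_cast this
    have : l.length ≤ h + E - n := by omega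
    exact_mod_cast this
  rw [← hh]
  calc q.height + n ≤ ((h + E - n : ℕ) : ℕ∞) + n := by gcongr
    _ = ((h + E - n + n : ℕ) : ℕ∞) := by push_cast; rfl
    _ = ((h + E : ℕ) : ℕ∞) := by rw [Nat.sub_add_cancel h0]
    _ = _ := by push_cast; rfl

end Groth.Agent.Lib.Helper73.DimFormula
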