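/-
helper73: dimension theory of local homomorphisms of Noetherian local rings (ring level).
* `HasChain J n`, `hasChain_iff` (`n ≤ dim R/J`), `HasChain.succ_of_avoid`, `HasChain.of_succ` (Krull).
* `hasChain_map_of_hasChain`, `ringKrullDim_le_of_surjective_of_fibre`: if `Spec B → Spec A` is surjective and the
  closed fibre is one point then `dim A ≤ dim B`.
* `ringKrullDim_le_add_of_chains`: `dim B ≤ dim A + dim B/m_A B`.
* `le_of_forall_natCast_le`.
-/
import Groth.Agent.Lib.Helper73.DimLocal
import Mathlib.RingTheory.Ideal.KrullsHeightTheorem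
import Mathlib.RingTheory.Ideal.MinimalPrime.Noetherian

set_option linter.style.haveILetI false
set_option autoImplicit false
universe u

namespace Groth.Agent.Lib.Helper73.LocalHomDim

open Groth.Agent.Lib.Helper34

variable {R : Type*} [CommRing R]

/-- there is a chain of `n + 1` primes all containing `J`. -/
def HasChain (J : Ideal R) (n : ℕ) : Prop :=
  ∃ l : LTSeries (PrimeSpectrum R), l.length = n ∧ J ≤ l.head.asIdeal

theorem hasChain_iff (J : Ideal R) (n : ℕ) :
    HasChain J n ↔ (n : WithBot ℕ∞) ≤ ringKrullDim (R ⧸ J) := by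
  rw [ringKrullDim_quotient, Order.le_krullDim_iff]
  constructor
  · rintro ⟨l, hl, hJ⟩
    have hT : IsUpperSet (PrimeSpectrum.zeroLocus (R := R) J) := by
      intro a b hab ha
      rw [PrimeSpectrum.mem_zeroLocus] at ha ⊢
      exact ha.trans hab
    have hh : l.head ∈ PrimeSpectrum.zeroLocus (R := R) J := by
      rw [PrimeSpectrum.mem_zeroLocus]; exact hJ
    exact ⟨liftSeries _ hT l hh, by rw [liftSeries_length, hl]⟩
  · rintro ⟨l, hl⟩
    refine ⟨l.map Subtype.val (Subtype.strictMono_coe _), by rw [LTSeries.map_length, hl], ?_⟩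
    rw [LTSeries.head_map]
    exact (PrimeSpectrum.mem_zeroLocus _ _).mp l.head.2

theorem hasChain_bot_iff (n : ℕ) :
    HasChain (⊥ : Ideal R) n ↔ (n : WithBot ℕ∞) ≤ ringKrullDim R := by
  rw [ringKrullDim, Order.le_krullDim_iff]
  constructor
  · rintro ⟨l, hl, -⟩; exact ⟨l, hl⟩
  · rintro ⟨l, hl⟩; exact ⟨l, hl, bot_le⟩

/-- if `a` avoids the minimal primes over `J`, chains in `V(J + (a))` extend downwards. -/
theorem HasChain.succ_of_avoid {J : Ideal R} {a : R} (ha : ∀ P ∈ J.minimalPrimes, a ∉ P) {n : ℕ}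
    (h : HasChain (J ⊔ Ideal.span {a}) n) : HasChain J (n + 1) := by
  obtain ⟨l, hl, hJ⟩ := h
  have hJle : J ≤ l.head.asIdeal := le_sup_left.trans hJ
  have haQ : a ∈ l.head.asIdeal := hJ (Ideal.mem_sup_right (Ideal.subset_span rfl))
  haveI := l.head.2
  obtain ⟨P, hP, hPle⟩ := Ideal.exists_minimalPrimes_le hJle
  have hPp : P.IsPrime := hP.1.1
  have hlt : (⟨P, hPp⟩ : PrimeSpectrum R) < l.head := by
    refine lt_of_le_of_ne hPle ?_
    intro h
    apply ha P hP
    have : P = l.head.asIdeal := congrArg PrimeSpectrum.asIdeal h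
    rw [this]; exact haQ
  refine ⟨l.cons ⟨P, hPp⟩ hlt, by rw [RelSeries.cons_length, hl], ?_⟩
  rw [RelSeries.head_cons]
  exact hP.1.2

theorem natCast_le_of_succ_le_add_one {n : ℕ} {D : WithBot ℕ∞}
    (h : ((n + 1 : ℕ) : WithBot ℕ∞) ≤ D + 1) : (n : WithBot ℕ∞) ≤ D := by
  cases D with
  | bot => simp at h
  | coe c =>
    have h1 : ((n + 1 : ℕ) : ℕ∞) ≤ c + 1 := by exact_mod_cast h
    have h2 : (n : ℕ∞) ≤ c := by
      cases c with
      | top => exact le_top
      | coe m =>
        have : n + 1 ≤ m + 1 := by exact_mod_cast h1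
        exact_mod_cast Nat.le_of_succ_le_succ this
    exact_mod_cast h2

/-- Krull: cutting by an element of the maximal ideal drops the dimension by at most one. -/
theorem HasChain.of_succ [IsNoetherianRing R] [IsLocalRing R] {J : Ideal R} {a : R}
    (ha : a ∈ IsLocalRing.maximalIdeal R) {n : ℕ} (h : HasChain J (n + 1)) :
    HasChain (J ⊔ Ideal.span {a}) n := by
  rw [hasChain_iff] at h ⊢
  have hjac : ((({Ideal.Quotient.mk J a} : Finset (R ⧸ J)) : Set (R ⧸ J))) ⊆ Ring.jacobson (R ⧸ J) := by
    rw [Finset.coe_singleton, Set.singleton_subset_iff]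
    rw [SetLike.mem_coe, Ring.jacobson_eq_sInf_isMaximal, Ideal.mem_sInf]
    intro M hM
    haveI : M.IsMaximal := hM
    have hMc : (M.comap (Ideal.Quotient.mk J)).IsMaximal :=
      Ideal.comap_isMaximal_of_surjective _ Ideal.Quotient.mk_surjective
    have : M.comap (Ideal.Quotient.mk J) = IsLocalRing.maximalIdeal R :=
      IsLocalRing.eq_maximalIdeal hMc
    have h2 : a ∈ M.comap (Ideal.Quotient.mk J) := by rw [this]; exact ha
    exact h2
  have h1 := ringKrullDim_le_ringKrullDim_quotient_add_card (R := R ⧸ J) {Ideal.Quotient.mk J a} hjac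
  rw [Finset.coe_singleton, Finset.card_singleton] at h1
  have e := DoubleQuot.quotQuotEquivQuotSup J (Ideal.span {a})
  rw [Ideal.map_span, Set.image_singleton] at e
  rw [← ringKrullDim_eq_of_ringEquiv e]
  apply natCast_le_of_succ_le_add_one
  exact h.trans (by exact_mod_cast h1)

/-- **dimension of a local homomorphism surjective on spectra with one-point closed fibre**. -/
theorem hasChain_map_of_hasChain {A B : Type*} [CommRing A] [CommRing B] [IsNoetherianRing A]
    [IsLocalRing A] [IsNoetherianRing B] [IsLocalRing B] (φ : A →+* B) [IsLocalHom φ]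
    (hsurj : ∀ P : PrimeSpectrum A, ∃ Q : PrimeSpectrum B, Q.asIdeal.comap φ = P.asIdeal)
    (hfib : ∀ Q : PrimeSpectrum B, Q.asIdeal.comap φ = IsLocalRing.maximalIdeal A →
      Q.asIdeal = IsLocalRing.maximalIdeal B) :
    ∀ (n : ℕ) (I : Ideal A), I ≤ IsLocalRing.maximalIdeal A → HasChain I n →
      HasChain (I.map φ) n := by
  classical
  have hcomap : (IsLocalRing.maximalIdeal B).comap φ = IsLocalRing.maximalIdeal A := by
    have := IsLocalRing.comap_closedPoint φ
    exact congrArg PrimeSpectrum.asIdeal this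
  intro n
  induction n with
  | zero =>
    intro I hI _
    refine ⟨RelSeries.singleton _ (IsLocalRing.closedPoint B), rfl, ?_⟩
    rw [RelSeries.head_singleton]
    change I.map φ ≤ IsLocalRing.maximalIdeal B
    rw [Ideal.map_le_iff_le_comap, hcomap]
    exact hI
  | succ n ih =>
    intro I hI hch
    obtain ⟨l, hl, hIl⟩ := hch
    -- the head of the chain is not the maximal ideal
    have hheadne : l.head.asIdeal ≠ IsLocalRing.maximalIdeal A := by
      intro heq
      have h01 : l.head < l ⟨1, by omega⟩ := l.strictMono (by simp [Fin.lt_def])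
      have h1 : (l ⟨1, by omega⟩).asIdeal ≤ IsLocalRing.maximalIdeal A :=
        IsLocalRing.le_maximalIdeal (l ⟨1, by omega⟩).2.ne_top
      have : l ⟨1, by omega⟩ ≤ l.head := by
        change (l ⟨1, by omega⟩).asIdeal ≤ l.head.asIdeal
        rw [heq]; exact h1
      exact absurd (lt_of_lt_of_le h01 this) (lt_irrefl _)
    have hSA := Ideal.finite_minimalPrimes_of_isNoetherianRing A I
    have hSB := Ideal.finite_minimalPrimes_of_isNoetherianRing B (I.map φ)
    let T : Finset (Ideal A) := hSA.toFinset ∪ (hSB.toFinset.image (Ideal.comap φ))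
    have hTprime : ∀ P ∈ T, P.IsPrime := by
      intro P hP
      rw [Finset.mem_union, Set.Finite.mem_toFinset, Finset.mem_image] at hP
      rcases hP with hP | ⟨𝔮, h𝔮, rfl⟩
      · exact hP.1.1
      · rw [Set.Finite.mem_toFinset] at h𝔮
        haveI := h𝔮.1.1
        exact Ideal.comap_isPrime φ 𝔮
    have havoid : ¬ ((IsLocalRing.maximalIdeal A : Set A) ⊆ ⋃ P ∈ (↑T : Set (Ideal A)), (P : Set A)) := by
      rw [Ideal.subset_union_prime (f := fun P : Ideal A => P) ⊥ ⊥ (fun P hP _ _ => hTprime P hP)]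
      rintro ⟨P, hP, hle⟩
      have hPp := hTprime P hP
      have hPeq : P = IsLocalRing.maximalIdeal A :=
        le_antisymm (IsLocalRing.le_maximalIdeal hPp.ne_top) hle
      rw [Finset.mem_union, Set.Finite.mem_toFinset, Finset.mem_image] at hP
      rcases hP with hP | ⟨𝔮, h𝔮, h𝔮P⟩
      · -- `m_A` minimal over `I`
        apply hheadne
        have h2 : l.head.asIdeal ≤ P := by
          rw [hPeq]; exact IsLocalRing.le_maximalIdeal l.head.2.ne_top
        have := hP.2 ⟨l.head.2, hIl⟩ h2
        rw [← hPeq]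
        exact le_antisymm h2 this
      · rw [Set.Finite.mem_toFinset] at h𝔮
        have h𝔮p : 𝔮.IsPrime := h𝔮.1.1
        have h𝔮eq : 𝔮 = IsLocalRing.maximalIdeal B :=
          hfib ⟨𝔮, h𝔮p⟩ (h𝔮P.trans hPeq)
        obtain ⟨Q, hQ⟩ := hsurj l.head
        have hIQ : I.map φ ≤ Q.asIdeal := by
          rw [Ideal.map_le_iff_le_comap, hQ]; exact hIl
        have hQle : Q.asIdeal ≤ 𝔮 := by
          rw [h𝔮eq]; exact IsLocalRing.le_maximalIdeal Q.2.ne_top
        have h𝔮le := h𝔮.2 ⟨Q.2, hIQ⟩ hQle
        have hQeq : Q.asIdeal = IsLocalRing.maximalIdeal B := by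
          rw [← h𝔮eq]; exact le_antisymm hQle h𝔮le
        apply hheadne
        rw [← hQ, hQeq, hcomap]
    rw [Set.not_subset] at havoid
    obtain ⟨a, haM, ha⟩ := havoid
    have ha' : ∀ P ∈ T, a ∉ P := by
      intro P hP haP
      apply ha
      simp only [Set.mem_iUnion]
      exact ⟨P, hP, haP⟩
    have hI' : I ⊔ Ideal.span {a} ≤ IsLocalRing.maximalIdeal A :=
      sup_le hI ((Ideal.span_singleton_le_iff_mem _).mpr haM)
    have h1 : HasChain (I ⊔ Ideal.span {a}) n := HasChain.of_succ haM ⟨l, hl, hIl⟩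
    have h2 := ih _ hI' h1
    rw [Ideal.map_sup, Ideal.map_span, Set.image_singleton] at h2
    refine HasChain.succ_of_avoid ?_ h2
    intro 𝔮 h𝔮 hφa
    have : Ideal.comap φ 𝔮 ∈ T := by
      rw [Finset.mem_union]
      right
      rw [Finset.mem_image]
      exact ⟨𝔮, by rw [Set.Finite.mem_toFinset]; exact h𝔮, rfl⟩
    exact ha' _ this hφa

/-- consequence: `dim A ≤ dim B`. -/
theorem ringKrullDim_le_of_surjective_of_fibre {A B : Type*} [CommRing A] [CommRing B]
    [IsNoetherianRing A] [IsLocalRing A] [IsNoetherianRing B] [IsLocalRing B] (φ : A →+* B)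
    [IsLocalHom φ]
    (hsurj : ∀ P : PrimeSpectrum A, ∃ Q : PrimeSpectrum B, Q.asIdeal.comap φ = P.asIdeal)
    (hfib : ∀ Q : PrimeSpectrum B, Q.asIdeal.comap φ = IsLocalRing.maximalIdeal A →
      Q.asIdeal = IsLocalRing.maximalIdeal B) (n : ℕ)
    (hn : (n : WithBot ℕ∞) ≤ ringKrullDim A) : (n : WithBot ℕ∞) ≤ ringKrullDim B := by
  rw [← hasChain_bot_iff] at hn ⊢
  have := hasChain_map_of_hasChain φ hsurj hfib n ⊥ bot_le hn
  rwa [Ideal.map_bot] at this

theorem le_of_forall_natCast_le {a b : WithBot ℕ∞}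
    (hab : ∀ n : ℕ, (n : WithBot ℕ∞) ≤ a → (n : WithBot ℕ∞) ≤ b) : a ≤ b := by
  cases a with
  | bot => exact bot_le
  | coe c =>
    have h0 := hab 0 (by exact_mod_cast (bot_le : (0 : ℕ∞) ≤ c))
    cases b with
    | bot => exact absurd h0 (by simp)
    | coe c' =>
      have : c ≤ c' := by
        apply ENat.forall_natCast_le_iff_le.mp
        intro n hn
        have h2 : ((n : ℕ∞) : WithBot ℕ∞) ≤ (c : WithBot ℕ∞) := by exact_mod_cast hn
        have h3 := hab n h2
        exact_mod_cast h3
      exact_mod_cast this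

/-- `dim B ≤ dim A + dim (B / m_A B)` for a local homomorphism of Noetherian local rings, the last
dimension being given as a bound on chains of primes containing `m_A B`. -/
theorem ringKrullDim_le_add_of_chains {A B : Type*} [CommRing A] [CommRing B]
    [IsNoetherianRing A] [IsLocalRing A] [IsNoetherianRing B] [IsLocalRing B] (φ : A →+* B)
    [IsLocalHom φ] (d : ℕ)
    (hd : ∀ l : LTSeries (PrimeSpectrum B),
      (IsLocalRing.maximalIdeal A).map φ ≤ l.head.asIdeal → l.length ≤ d) :
    ringKrullDim B ≤ ringKrullDim A + d := by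
  classical
  have hcomap : (IsLocalRing.maximalIdeal B).comap φ = IsLocalRing.maximalIdeal A := by
    have := IsLocalRing.comap_closedPoint φ
    exact congrArg PrimeSpectrum.asIdeal this
  have hht : (IsLocalRing.maximalIdeal A).height ≠ ⊤ :=
    Ideal.height_ne_top (IsLocalRing.maximalIdeal.isMaximal A).ne_top
  obtain ⟨n, hn⟩ := ENat.ne_top_iff_exists.mp hht
  have hdimA : ringKrullDim A = (n : WithBot ℕ∞) := by
    rw [← IsLocalRing.maximalIdeal_height_eq_ringKrullDim, ← hn]; rfl
  obtain ⟨I, hmin, hrank⟩ := (Ideal.height_le_iff_exists_minimalPrimes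
    (IsLocalRing.maximalIdeal A) n).mp (le_of_eq hn.symm)
  have hIfg : I.FG := IsNoetherian.noetherian I
  obtain ⟨s, hscard, hsspan⟩ := Submodule.FG.exists_span_finset_card_eq_spanFinrank hIfg
  have hsn : s.card ≤ n := by
    rw [hscard]
    have h1 := Submodule.FG.spanRank_eq_spanFinrank hIfg
    rw [h1] at hrank
    exact_mod_cast hrank
  have hIle : I ≤ IsLocalRing.maximalIdeal A := hmin.1.2
  let t : Finset B := s.image φ
  have htspan : Ideal.span (t : Set B) = I.map φ := by
    rw [← hsspan]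
    change Ideal.span (t : Set B) = (Ideal.span (s : Set A)).map φ
    rw [Ideal.map_span, Finset.coe_image]
  have htjac : (t : Set B) ⊆ Ring.jacobson B := by
    rw [IsLocalRing.ringJacobson_eq_maximalIdeal]
    intro b hb
    rw [Finset.coe_image] at hb
    obtain ⟨a, ha, rfl⟩ := hb
    have haI : a ∈ I := by
      rw [← hsspan]; exact Submodule.subset_span ha
    have : a ∈ (IsLocalRing.maximalIdeal B).comap φ := by rw [hcomap]; exact hIle haI
    exact this
  have h1 := ringKrullDim_le_ringKrullDim_quotient_add_card t htjac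
  rw [htspan] at h1
  have h2 : ringKrullDim (B ⧸ I.map φ) ≤ (d : WithBot ℕ∞) := by
    apply le_of_forall_natCast_le
    intro k hk
    rw [← hasChain_iff] at hk
    obtain ⟨l, hl, hIl⟩ := hk
    have hIc : I ≤ l.head.asIdeal.comap φ := Ideal.map_le_iff_le_comap.mp hIl
    haveI := l.head.2
    obtain ⟨P', hP', hP'le⟩ := Ideal.exists_minimalPrimes_le hIc
    have hP'm : P' ≤ IsLocalRing.maximalIdeal A := IsLocalRing.le_maximalIdeal hP'.1.1.ne_top
    have hmP' : IsLocalRing.maximalIdeal A ≤ P' := hmin.2 hP'.1 hP'm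
    have hml : (IsLocalRing.maximalIdeal A).map φ ≤ l.head.asIdeal :=
      Ideal.map_le_iff_le_comap.mpr (hmP'.trans hP'le)
    have := hd l hml
    rw [← hl]
    exact_mod_cast this
  have h3 : (t.card : WithBot ℕ∞) ≤ (n : WithBot ℕ∞) := by
    have : t.card ≤ n := le_trans Finset.card_image_le hsn
    exact_mod_cast this
  calc ringKrullDim B ≤ ringKrullDim (B ⧸ I.map φ) + t.card := h1
    _ ≤ (d : WithBot ℕ∞) + (n : WithBot ℕ∞) := add_le_add h2 h3
    _ = ringKrullDim A + d := by rw [hdimA, add_comm]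

end Groth.Agent.Lib.Helper73.LocalHomDim
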