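import Groth.Agent.Lib.Helper73.StalkChains
import Groth.Agent.Lib.Helper73.LocalHomDim
import Mathlib.AlgebraicGeometry.Morphisms.Flat
set_option linter.style.haveILetI false
set_option autoImplicit false
universe u
open CategoryTheory AlgebraicGeometry

namespace Groth.Agent.Lib.Helper73.SchemeDim

open Groth.Agent.Lib.Helper73.RelHt Groth.Agent.Lib.Helper73.LocalHomDim

variable {X Y : Scheme.{u}}

/-- a prime of `O_{X,x}` lies in the fibre through `x` iff it contains `𝔪_{f x} O_{X,x}`. -/
theorem base_fromSpecStalk_eq_iff (f : X ⟶ Y) (x : X) (Q : PrimeSpectrum (X.presheaf.stalk x)) :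
    f.base ((X.fromSpecStalk x).base Q) = f.base x ↔
      (IsLocalRing.maximalIdeal (Y.presheaf.stalk (f.base x))).map (f.stalkMap x).hom ≤ Q.asIdeal := by
  rw [base_fromSpecStalk]
  constructor
  · intro h
    have h5 : (Y.fromSpecStalk (f.base x)).base (IsLocalRing.closedPoint _) = f.base x :=
      Scheme.fromSpecStalk_closedPoint
    have h6 : PrimeSpectrum.comap (f.stalkMap x).hom Q = IsLocalRing.closedPoint _ := by
      apply (Y.fromSpecStalk (f.base x)).isEmbedding.injective
      rw [h, h5]
    rw [Ideal.map_le_iff_le_comap]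
    have := congrArg PrimeSpectrum.asIdeal h6
    exact this.ge
  · intro h
    rw [Ideal.map_le_iff_le_comap] at h
    haveI := Q.2
    have h2 : Q.asIdeal.comap (f.stalkMap x).hom =
        IsLocalRing.maximalIdeal (Y.presheaf.stalk (f.base x)) :=
      ((IsLocalRing.maximalIdeal.isMaximal _).eq_of_le (Ideal.comap_ne_top _ Q.2.ne_top) h).symm
    have h3 : PrimeSpectrum.comap (f.stalkMap x).hom Q =
        IsLocalRing.closedPoint (Y.presheaf.stalk (f.base x)) := PrimeSpectrum.ext h2
    rw [h3]
    exact Scheme.fromSpecStalk_closedPoint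

/-- every point has a generization in its fibre which is maximal in the fibre. -/
theorem exists_maximal_in_fibre (f : X ⟶ Y) (x₀ : X) :
    ∃ x : X, x ⤳ x₀ ∧ f.base x = f.base x₀ ∧ ∀ t : X, t ⤳ x → f.base t = f.base x → t = x := by
  set J := (IsLocalRing.maximalIdeal (Y.presheaf.stalk (f.base x₀))).map (f.stalkMap x₀).hom with hJ
  have hJle : J ≤ IsLocalRing.maximalIdeal (X.presheaf.stalk x₀) := by
    rw [hJ, Ideal.map_le_iff_le_comap]
    intro a ha
    exact (IsLocalRing.mem_maximalIdeal _).mpr
      (fun hu => ((IsLocalRing.mem_maximalIdeal _).mp ha) (isUnit_of_map_unit (f.stalkMap x₀).hom a hu))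
  obtain ⟨P, hP, -⟩ := Ideal.exists_minimalPrimes_le hJle
  haveI hPp : P.IsPrime := hP.1.1
  set P' : PrimeSpectrum (X.presheaf.stalk x₀) := ⟨P, hPp⟩ with hP'
  refine ⟨(X.fromSpecStalk x₀).base P', fromSpecStalk_specializes x₀ P', ?_, ?_⟩
  · rw [base_fromSpecStalk_eq_iff]
    exact hP.1.2
  · intro t ht hft
    have hfx : f.base ((X.fromSpecStalk x₀).base P') = f.base x₀ := by
      rw [base_fromSpecStalk_eq_iff]; exact hP.1.2
    obtain ⟨Q, rfl⟩ := exists_fromSpecStalk_eq (ht.trans (fromSpecStalk_specializes x₀ P'))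
    have hQP : Q ≤ P' := (fromSpecStalk_specializes_iff x₀ Q P').mp ht
    have hJQ : J ≤ Q.asIdeal := by
      rw [hJ, ← base_fromSpecStalk_eq_iff, hft, hfx]
    have : P' ≤ Q := hP.2 ⟨Q.2, hJQ⟩ hQP
    rw [le_antisymm hQP this]

/-- at a point maximal in its fibre, `dim O_{X,x} ≤ dim O_{Y,f x}`. -/
theorem ringKrullDim_stalk_le_of_maximal_in_fibre [IsLocallyNoetherian X] [IsLocallyNoetherian Y]
    (f : X ⟶ Y) (x : X) (hmax : ∀ t : X, t ⤳ x → f.base t = f.base x → t = x) :
    ringKrullDim (X.presheaf.stalk x) ≤ ringKrullDim (Y.presheaf.stalk (f.base x)) := by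
  have := ringKrullDim_le_add_of_chains (f.stalkMap x).hom 0 (fun l hl => ?_)
  · simpa using this
  · obtain ⟨d, hdlen, -, -, hdmem⟩ := exists_ltSeries_of_primes_stalk x l
    have hall : ∀ i, d i = x := by
      intro i
      obtain ⟨j, hj⟩ := hdmem i
      rw [hj]
      apply hmax _ (fromSpecStalk_specializes x _)
      rw [base_fromSpecStalk_eq_iff]
      exact hl.trans (l.monotone (Fin.zero_le j) : l.head ≤ l j)
    rw [← hdlen]
    by_contra hpos
    push Not at hpos
    have hlt : d.head < d.last := by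
      apply d.strictMono
      rw [Fin.lt_def]; simp; omega
    have h1 : d.head = x := hall _
    have h2 : d.last = x := hall _
    rw [h1, h2] at hlt
    exact lt_irrefl _ hlt

/-- flat local homomorphisms do not decrease the dimension. -/
theorem ringKrullDim_le_of_flat_isLocalHom {A B : Type*} [CommRing A] [CommRing B] [IsLocalRing A]
    [IsLocalRing B] [IsNoetherianRing A] [IsNoetherianRing B] (φ : A →+* B) [IsLocalHom φ]
    (hφ : φ.Flat) : ringKrullDim A ≤ ringKrullDim B := by
  letI := φ.toAlgebra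
  haveI : Module.Flat A B := hφ
  haveI : (IsLocalRing.maximalIdeal B).LiesOver (IsLocalRing.maximalIdeal A) := by
    refine ⟨?_⟩
    change _ = (IsLocalRing.maximalIdeal B).comap φ
    have := IsLocalRing.comap_closedPoint φ
    exact (congrArg PrimeSpectrum.asIdeal this).symm
  have := Ideal.height_eq_height_add_of_liesOver_of_hasGoingDown (IsLocalRing.maximalIdeal A)
    (IsLocalRing.maximalIdeal B)
  rw [← IsLocalRing.maximalIdeal_height_eq_ringKrullDim,
    ← IsLocalRing.maximalIdeal_height_eq_ringKrullDim, this]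
  exact_mod_cast le_self_add

/-- flat morphisms of locally Noetherian schemes do not decrease the dimension of local rings. -/
theorem ringKrullDim_stalk_le_of_flat [IsLocallyNoetherian X] [IsLocallyNoetherian Y]
    (f : X ⟶ Y) [Flat f] (x : X) :
    ringKrullDim (Y.presheaf.stalk (f.base x)) ≤ ringKrullDim (X.presheaf.stalk x) :=
  ringKrullDim_le_of_flat_isLocalHom (f.stalkMap x).hom (Flat.stalkMap f x)

end Groth.Agent.Lib.Helper73.SchemeDim
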