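/-
helper73: relative height `relHt a b` in a preorder = supremum of lengths of chains from `a` to `b`.
* `length_le_relHt'`, `relHt_le`, `exists_length_eq_relHt`, `one_le_relHt`, `relHt_eq_one`.
* `eq_add_relHt`: a function dropping by one along covering pairs is additive in `relHt`.
-/
import Mathlib.Order.KrullDimension
import Mathlib.Data.ENat.Lattice
import Mathlib.Tactic.Ring

set_option linter.style.haveILetI false
set_option autoImplicit false
universe u

namespace Groth.Agent.Lib.Helper73.RelHt

variable {α : Type*} [Preorder α]

/-- supremum of the lengths of chains from `a` to `b`. -/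
noncomputable def relHt (a b : α) : ℕ∞ :=
  ⨆ c : {c : LTSeries α // c.head = a ∧ c.last = b}, (c.1.length : ℕ∞)

theorem length_le_relHt (c : LTSeries α) : (c.length : ℕ∞) ≤ relHt c.head c.last :=
  le_iSup (fun c' : {c' : LTSeries α // c'.head = c.head ∧ c'.last = c.last} =>
    (c'.1.length : ℕ∞)) ⟨c, rfl, rfl⟩

theorem length_le_relHt' {a b : α} (c : LTSeries α) (h1 : c.head = a) (h2 : c.last = b) :
    (c.length : ℕ∞) ≤ relHt a b := by
  subst h1 h2; exact length_le_relHt c

theorem relHt_le {a b : α} {n : ℕ∞}
    (h : ∀ c : LTSeries α, c.head = a → c.last = b → (c.length : ℕ∞) ≤ n) : relHt a b ≤ n :=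
  iSup_le fun c => h c.1 c.2.1 c.2.2

/-- the two-element chain. -/
noncomputable def pair {a b : α} (hab : a < b) : LTSeries α :=
  (RelSeries.singleton _ b).cons a hab

@[simp] theorem pair_head {a b : α} (hab : a < b) : (pair hab).head = a :=
  RelSeries.head_cons _ _ _

@[simp] theorem pair_last {a b : α} (hab : a < b) : (pair hab).last = b :=
  (RelSeries.last_cons _ _ _).trans rfl

@[simp] theorem pair_length {a b : α} (hab : a < b) : (pair hab).length = 1 := rfl

theorem exists_length_eq_relHt {a b : α} (hab : a ≤ b) (hanti : a ≤ b → b ≤ a → a = b)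
    (hfin : relHt a b < ⊤) :
    ∃ c : LTSeries α, c.head = a ∧ c.last = b ∧ (c.length : ℕ∞) = relHt a b := by
  haveI : Nonempty {c : LTSeries α // c.head = a ∧ c.last = b} := by
    by_cases h : b ≤ a
    · have := hanti hab h
      subst this
      exact ⟨⟨RelSeries.singleton _ a, rfl, rfl⟩⟩
    · exact ⟨⟨pair (lt_of_le_not_ge hab h), pair_head _, pair_last _⟩⟩
  obtain ⟨c, hc⟩ := ENat.exists_eq_iSup_of_lt_top hfin
  exact ⟨c.1, c.2.1, c.2.2, hc⟩

theorem one_le_relHt {a b : α} (hab : a < b) : 1 ≤ relHt a b := by
  have := length_le_relHt' (a := a) (b := b) (pair hab) (pair_head _) (pair_last _)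
  simpa using this

theorem relHt_eq_one {a b : α} (hab : a < b)
    (himm : ∀ z, a < z → z < b → False) : relHt a b = 1 := by
  refine le_antisymm (relHt_le fun c h1 h2 => ?_) (one_le_relHt hab)
  by_contra hlen
  have h2' : 2 ≤ c.length := by
    have : ¬ (c.length ≤ 1) := by
      intro h; apply hlen; exact_mod_cast h
    omega
  have hlt1 : c.head < c ⟨1, by omega⟩ := c.strictMono (by simp [Fin.lt_def])
  have hlt2 : c ⟨1, by omega⟩ < c.last := c.strictMono (by simp [Fin.lt_def]; omega)
  rw [h1] at hlt1
  rw [h2] at hlt2
  exact himm _ hlt1 hlt2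

/-- additivity of a dimension-type function along chains of maximal length. -/
theorem eq_add_relHt (hanti : ∀ a b : α, a ≤ b → b ≤ a → a = b) (δ : α → ℤ)
    (hδ : ∀ a b : α, a < b → (∀ z, a < z → z < b → False) → δ b = δ a + 1) :
    ∀ (r : ℕ) (a b : α), a ≤ b → relHt a b = r → δ b = δ a + r := by
  intro r
  induction r with
  | zero =>
    intro a b hab h
    have : b ≤ a := by
      by_contra hba
      have := one_le_relHt (lt_of_le_not_ge hab hba)
      rw [h] at this
      simp at this
    rw [hanti a b hab this]; simp
  | succ r ih =>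
    intro a b hab h
    obtain ⟨c, hc1, hc2, hc3⟩ := exists_length_eq_relHt hab (hanti a b)
      (by rw [h]; exact ENat.natCast_lt_top _)
    rw [h] at hc3
    have hlen : c.length = r + 1 := by exact_mod_cast hc3
    have h0 : c.length ≠ 0 := by omega
    -- the tail chain from `z` to `b`
    have ht2 : (c.tail h0).last = b := by rw [RelSeries.last_tail, hc2]
    have ht3 : (c.tail h0).length = r := by simp [hlen]
    have hcons := RelSeries.cons_self_tail h0
    have haz : a < (c.tail h0).head := by
      rw [← hc1, RelSeries.head_tail]
      apply c.strictMono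
      haveI : NeZero c.length := ⟨h0⟩
      exact Fin.one_pos'
    set z := (c.tail h0).head with hz
    have hzb : z ≤ b := by
      rw [← ht2]
      exact LTSeries.head_le_last _
    have hrel : relHt z b = r := by
      apply le_antisymm
      · refine relHt_le fun d hd1 hd2 => ?_
        have := length_le_relHt' (a := a) (b := b) (d.cons a (by rw [hd1]; exact haz))
          (RelSeries.head_cons _ _ _) (by rw [RelSeries.last_cons, hd2])
        rw [h] at this
        simp only [RelSeries.cons_length] at this
        have h5 : d.length + 1 ≤ r + 1 := by exact_mod_cast this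
        exact_mod_cast Nat.le_of_succ_le_succ h5
      · have := length_le_relHt' (c.tail h0) hz.symm ht2
        rw [ht3] at this
        exact this
    have himm : ∀ w, a < w → w < z → False := by
      intro w haw hwz
      have := length_le_relHt' (a := a) (b := b) (((c.tail h0).cons w hwz).cons a
        (by rw [RelSeries.head_cons]; exact haw)) (RelSeries.head_cons _ _ _)
        (by rw [RelSeries.last_cons, RelSeries.last_cons, ht2])
      rw [h] at this
      simp only [RelSeries.cons_length, ht3] at this
      have : r + 1 + 1 ≤ r + 1 := by exact_mod_cast this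
      omega
    rw [ih z b hzb hrel, hδ a z haz himm]
    push_cast
    ring

end Groth.Agent.Lib.Helper73.RelHt
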