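/-
helper73: more on relative heights.
* `relHt_self`, `length_le_relHt_of_le`, `coheight_eq_relHt_of_isTop`.
-/
import Groth.Agent.Lib.Helper73.RelHt

set_option linter.style.haveILetI false
set_option autoImplicit false
universe u

namespace Groth.Agent.Lib.Helper73.RelHt

variable {α : Type*} [Preorder α]

theorem relHt_self (a : α) : relHt a a = 0 := by
  refine le_antisymm (relHt_le fun c h1 h2 => ?_) zero_le
  by_contra hlen
  have h0 : c.length ≠ 0 := by
    intro h; apply hlen; rw [h]; simp
  have hlt : c.head < c.last := c.strictMono (by
    rw [Fin.lt_def]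
    simp only [Fin.val_zero, Fin.val_last]
    exact Nat.pos_of_ne_zero h0)
  rw [h1, h2] at hlt
  exact lt_irrefl _ hlt

/-- a chain from `a` ending below `t` has length at most `relHt a t`. -/
theorem length_le_relHt_of_le (hanti : ∀ a b : α, a ≤ b → b ≤ a → a = b) (c : LTSeries α) {t : α}
    (h : c.last ≤ t) : (c.length : ℕ∞) ≤ relHt c.head t := by
  by_cases hlast : t ≤ c.last
  · have := hanti _ _ h hlast
    subst this
    exact length_le_relHt c
  · have hlt : c.last < t := lt_of_le_not_ge h hlast
    have := length_le_relHt' (a := c.head) (b := t) (c.snoc t hlt) (RelSeries.head_snoc _ _ _)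
      (RelSeries.last_snoc _ _ _)
    refine le_trans ?_ this
    simp

/-- if `t` is a top element, the coheight of `a` is the relative height from `a` to `t`. -/
theorem coheight_eq_relHt_of_isTop (hanti : ∀ a b : α, a ≤ b → b ≤ a → a = b) {t : α}
    (ht : ∀ a : α, a ≤ t) (a : α) : Order.coheight a = relHt a t := by
  apply le_antisymm
  · apply Order.coheight_le
    intro c hc
    have := length_le_relHt_of_le hanti c (ht c.last)
    rw [hc] at this
    exact this
  · refine relHt_le fun c h1 h2 => ?_
    rw [← h1]
    exact Order.length_le_coheight_head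

end Groth.Agent.Lib.Helper73.RelHt
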