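/-
helper73: dimension theory for schemes with a generic point `ξ` (`∀ x, ξ ⤳ x`), relative to a
morphism `f : X ⟶ S` locally of finite type to a locally Noetherian scheme.
* `ringKrullDim_stalk_eq_relHt`: `dim O_{X,x} = relHt x ξ`.
* `length_le_trdeg_of_fibre`, `topologicalKrullDim_fiber_eq_of_top`: the fibre through `ξ` has dimension
  `trdeg κ(ξ)/κ(f ξ)`.
* `relHt_add_trdeg_le_topologicalKrullDim`: `relHt x ξ + trdeg κ(x)/κ(f x) ≤ dim X`.
* `exists_sub_bound`, `add_natCast_cancel`: arithmetic in `WithBot ℕ∞`.
-/
import Groth.Agent.Lib.Helper73.SchemeDimFormula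
import Groth.Agent.Lib.Helper73.RelHt2

set_option linter.style.haveILetI false
set_option autoImplicit false
universe u
open Cardinal CategoryTheory AlgebraicGeometry

namespace Groth.Agent.Lib.Helper73.SchemeDim

open Groth.Agent.Lib.Helper73.DimFormula Groth.Agent.Lib.Helper73.RelHt

variable {X S : Scheme.{u}}

theorem anti (Z : Scheme.{u}) : ∀ a b : Z, a ≤ b → b ≤ a → a = b := fun _ _ => eq_of_le_of_le

/-- the dimension of the local ring at `x` is the relative height from `x` to a generic point. -/
theorem ringKrullDim_stalk_eq_relHt (ξ : X) (hξ : ∀ x : X, ξ ⤳ x) (x : X) :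
    ringKrullDim (X.presheaf.stalk x) = relHt x ξ := by
  rw [ringKrullDim_stalk_eq_coheight, coheight_eq_relHt_of_isTop (anti X) hξ x]

/-- a chain inside a fibre is no longer than the residue transcendence degree at its generic end;
more precisely, if `ξ` generalizes the whole chain and lies in the same fibre. -/
theorem length_le_trdeg_of_fibre [IsLocallyNoetherian S] (f : X ⟶ S) [LocallyOfFiniteType f]
    (c : LTSeries X) (ξ : X) (hξ : c.last ≤ ξ) (hf : f.base c.head = f.base ξ) (n : ℕ)
    (hn : letI := (f.residueFieldMap ξ).hom.toAlgebra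
      Algebra.trdeg (S.residueField (f.base ξ)) (X.residueField ξ) = n) :
    c.length ≤ n := by
  obtain ⟨m, hm⟩ := exists_trdeg_residueField_eq_nat f c.head
  have hsp : ξ ⤳ c.head := show c.head ≤ ξ from le_trans (LTSeries.head_le_last c) hξ
  have h1 := (relHt_add_trdeg_aux f hsp n m hn hm).1
  rw [hf, relHt_self, zero_add] at h1
  have h2 := length_le_relHt_of_le (anti X) c hξ
  have h3 : (c.length : ℕ∞) ≤ n := le_trans (le_trans h2 le_self_add) h1
  exact_mod_cast h3

/-- the dimension of the fibre through a generic point `ξ` of `X` is the residue transcendence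
degree at `ξ`. -/
theorem topologicalKrullDim_fiber_eq_of_top [IsLocallyNoetherian S] (f : X ⟶ S)
    [LocallyOfFiniteType f] (ξ : X) (hξ : ∀ x : X, ξ ⤳ x) (n : ℕ)
    (hn : letI := (f.residueFieldMap ξ).hom.toAlgebra
      Algebra.trdeg (S.residueField (f.base ξ)) (X.residueField ξ) = n) :
    topologicalKrullDim (f.fiber (f.base ξ)) = n := by
  apply le_antisymm
  · apply topologicalKrullDim_fiber_le
    intro c hc
    have := length_le_trdeg_of_fibre f c ξ (hξ _) (hc 0) n hn
    exact_mod_cast this
  · exact trdeg_le_topologicalKrullDim_fiber f ξ n hn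

/-- lower bound for the dimension of `X`: a chain from `x` up to `ξ` followed downwards by a chain
in the fibre of `x`. -/
theorem relHt_add_trdeg_le_topologicalKrullDim [IsLocallyNoetherian S] (f : X ⟶ S)
    [LocallyOfFiniteType f] {x ξ : X} (hξx : ξ ⤳ x) (n : ℕ)
    (hn : letI := (f.residueFieldMap x).hom.toAlgebra
      Algebra.trdeg (S.residueField (f.base x)) (X.residueField x) = n) :
    ((relHt x ξ : ℕ∞) : WithBot ℕ∞) + n ≤ topologicalKrullDim X := by
  haveI : IsLocallyNoetherian X := LocallyOfFiniteType.isLocallyNoetherian f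
  obtain ⟨c, hc1, hc2, hc3⟩ := exists_length_eq_relHt (show x ≤ ξ from hξx) (anti X x ξ)
    (relHt_lt_top hξx)
  obtain ⟨c', hc'len, hc'last, -⟩ := exists_ltSeries_fibre f x n hn
  have h1 := Order.LTSeries.length_le_krullDim (c'.smash c (by rw [hc'last, hc1]))
  rw [krullDim_eq_topologicalKrullDim] at h1
  rw [← hc3]
  refine le_trans (le_of_eq ?_) h1
  simp only [RelSeries.smash_length, hc'len]
  push_cast
  rw [add_comm]

/-- "subtraction" of a natural number in `WithBot ℕ∞`. -/
theorem exists_sub_bound (D : WithBot ℕ∞) (n : ℕ) :
    ∃ D' : WithBot ℕ∞, (∀ a : WithBot ℕ∞, a + n ≤ D → a ≤ D') ∧ D' + n ≤ D := by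
  induction D with
  | bot =>
    refine ⟨⊥, fun a ha => ?_, by simp⟩
    induction a with
    | bot => exact le_rfl
    | coe a =>
      exfalso
      have : ((a + n : ℕ∞) : WithBot ℕ∞) ≤ ⊥ := by exact_mod_cast ha
      simp at this
  | coe D =>
    induction D with
    | top => exact ⟨⊤, fun a _ => le_top, le_top⟩
    | coe d =>
      by_cases hnd : n ≤ d
      · refine ⟨((d - n : ℕ) : ℕ∞), fun a ha => ?_, ?_⟩
        · induction a with
          | bot => exact bot_le
          | coe a =>
            have h1 : a + n ≤ (d : ℕ∞) := by exact_mod_cast ha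
            induction a with
            | top => simp at h1
            | coe a =>
              have h2 : a + n ≤ d := by exact_mod_cast h1
              have h3 : a ≤ d - n := by omega
              exact_mod_cast h3
        · have : (d - n) + n = d := by omega
          exact_mod_cast this.le
      · refine ⟨⊥, fun a ha => ?_, by simp⟩
        induction a with
        | bot => exact le_rfl
        | coe a =>
          exfalso
          have h1 : a + n ≤ (d : ℕ∞) := by exact_mod_cast ha
          induction a with
          | top => simp at h1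
          | coe a =>
            have h2 : a + n ≤ d := by exact_mod_cast h1
            omega

theorem add_natCast_cancel {a b : WithBot ℕ∞} (n : ℕ) (h : a + n = b + n) : a = b := by
  induction a with
  | bot =>
    induction b with
    | bot => rfl
    | coe b =>
      exfalso
      have : (⊥ : WithBot ℕ∞) = ((b + n : ℕ∞) : WithBot ℕ∞) := by
        simpa using h
      exact WithBot.bot_ne_coe this
  | coe a =>
    induction b with
    | bot =>
      exfalso
      have : ((a + n : ℕ∞) : WithBot ℕ∞) = (⊥ : WithBot ℕ∞) := by
        simpa using h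
      exact WithBot.coe_ne_bot this
    | coe b =>
      have h1 : a + n = b + n := by exact_mod_cast h
      have h2 : a = b := by
        have hn : (n : ℕ∞) ≠ ⊤ := ENat.natCast_ne_top n
        exact ENat.add_left_injective_of_ne_top hn h1
      rw [h2]

end Groth.Agent.Lib.Helper73.SchemeDim
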