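/-
helper73: dimension theory over Jacobson, universally catenary bases (EGA IV 10.6).
* `RelHt.length_le_relHt_of_le_of_le`.
* `DimFormula.posetCatenary_Iic_of_finiteType`, `DimFormula.height_quotient_add` (additivity of heights
  `ht(p/p₀) = ht(p₁/p₀) + ht(p/p₁)` when `A_p` is universally catenary).
* `SchemeDim.isJacobsonRing_of_isAffineOpen`, `isClosed_singleton_of_isMaximal`,
  `isClosed_base_of_isClosed` (l.f.t. over Jacobson: closed points go to closed points, trdeg 0).
* `SchemeDim.relHt_add_of_specializes` (additivity of `relHt`).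
* `SchemeDim.quasiSober_of_closed_inter_generalizing`, `topologicalKrullDim_eq_krullDim_specialization`,
  `topologicalKrullDim_generalizations_eq_relHt`.
-/
import Groth.Agent.Lib.Helper73.IrredDim
import Mathlib.RingTheory.Spectrum.Prime.Jacobson
import Mathlib.Topology.JacobsonSpace

set_option linter.style.haveILetI false
set_option autoImplicit false
universe u
open Cardinal CategoryTheory AlgebraicGeometry

namespace Groth.Agent.Lib.Helper73.RelHt

variable {α : Type*} [Preorder α]

theorem length_le_relHt_of_le_of_le (hanti : ∀ a b : α, a ≤ b → b ≤ a → a = b) (c : LTSeries α)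
    {a b : α} (h1 : a ≤ c.head) (h2 : c.last ≤ b) : (c.length : ℕ∞) ≤ relHt a b := by
  by_cases hhead : c.head ≤ a
  · have := hanti _ _ h1 hhead
    subst this
    exact length_le_relHt_of_le hanti c h2
  · have hlt : a < c.head := lt_of_le_not_ge h1 hhead
    have := length_le_relHt_of_le hanti (c.cons a hlt) (t := b)
      (by rw [RelSeries.last_cons]; exact h2)
    rw [RelSeries.head_cons] at this
    refine le_trans ?_ this
    simp

end Groth.Agent.Lib.Helper73.RelHt

namespace Groth.Agent.Lib.Helper73.DimFormula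

open Groth.Agent.Lib.Helper34

/-- primes below a prime `I` of a finite type `A`-algebra `C` lying over a prime contained in `p`,
where `A_p` is universally catenary, form a catenary poset. -/
theorem posetCatenary_Iic_of_finiteType {A C : Type u} [CommRing A] [CommRing C] [Algebra A C]
    [Algebra.FiniteType A C] (p : Ideal A) [p.IsPrime]
    (hcat : CAlg.IsUniversallyCatenary (Localization.AtPrime p))
    (I : Ideal C) [hI : I.IsPrime] (hIp : I.comap (algebraMap A C) ≤ p) :
    PosetCatenary (Set.Iic (⟨I, hI⟩ : PrimeSpectrum C)) := by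
  let M : Submonoid C := Algebra.algebraMapSubmonoid C p.primeCompl
  let C' := Localization M
  haveI : Algebra.FiniteType (Localization.AtPrime p) C' := by
    have h1 : (algebraMap A C).FiniteType := RingHom.finiteType_algebraMap.mpr inferInstance
    haveI : IsLocalization (Submonoid.map (algebraMap A C) p.primeCompl) C' :=
      (Localization.isLocalization (M := M))
    have h2 := RingHom.finiteType_localizationPreserves (algebraMap A C) p.primeCompl
      (Localization.AtPrime p) C' h1
    exact h2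
  have hC' : CAlg.IsCatenary C' := hcat.2 C' inferInstance
  refine posetCatenary_Iic_of_isLocalization M C' hC' I ?_
  rw [Set.disjoint_left]
  rintro _ ⟨a, ha, rfl⟩ hmem
  exact ha (hIp hmem)

/-- **additivity of heights in a catenary local situation.** -/
theorem height_quotient_add {A : Type u} [CommRing A] [IsNoetherianRing A] (p₀ p₁ p : Ideal A)
    [p₀.IsPrime] [p₁.IsPrime] [p.IsPrime] (h01 : p₀ ≤ p₁) (h1 : p₁ ≤ p)
    [h10' : (p₁.map (Ideal.Quotient.mk p₀)).IsPrime] [h0' : (p.map (Ideal.Quotient.mk p₀)).IsPrime]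
    [h1' : (p.map (Ideal.Quotient.mk p₁)).IsPrime]
    (hcat : CAlg.IsUniversallyCatenary (Localization.AtPrime p)) :
    (p.map (Ideal.Quotient.mk p₀)).height =
      (p₁.map (Ideal.Quotient.mk p₀)).height + (p.map (Ideal.Quotient.mk p₁)).height := by
  have h0 : p₀ ≤ p := h01.trans h1
  have hker : RingHom.ker (Ideal.Quotient.factor h01) = p₁.map (Ideal.Quotient.mk p₀) :=
    Ideal.Quotient.factor_ker h01
  haveI : (RingHom.ker (Ideal.Quotient.factor h01)).IsPrime := by rw [hker]; exact h10'
  have hcomap : (p.map (Ideal.Quotient.mk p₁)).comap (Ideal.Quotient.factor h01) =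
      p.map (Ideal.Quotient.mk p₀) := by
    ext x
    obtain ⟨x, rfl⟩ := Ideal.Quotient.mk_surjective x
    rw [Ideal.mem_comap, Ideal.Quotient.factor_mk, Ideal.mem_quotient_iff_mem h1,
      Ideal.mem_quotient_iff_mem h0]
  have key := height_comap_eq_add_of_posetCatenary_Iic (Ideal.Quotient.factor h01)
    (Ideal.Quotient.factor_surjective h01) (p.map (Ideal.Quotient.mk p₁)) ?_ ?_
  · rw [hker] at key
    rw [← key]
    congr 1
    exact hcomap.symm
  · have hprime : ((p.map (Ideal.Quotient.mk p₁)).comap (Ideal.Quotient.factor h01)).IsPrime :=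
      inferInstance
    refine posetCatenary_Iic_of_finiteType (A := A) (C := A ⧸ p₀) p hcat _ ?_
    rw [hcomap]
    intro a ha
    rw [Ideal.mem_comap, Ideal.Quotient.algebraMap_eq, Ideal.mem_quotient_iff_mem h0] at ha
    exact ha
  · rw [hcomap]
    exact Ideal.height_lt_top h0'.ne_top

end Groth.Agent.Lib.Helper73.DimFormula

namespace Groth.Agent.Lib.Helper73.SchemeDim

open Groth.Agent.Lib.Helper73.DimFormula Groth.Agent.Lib.Helper73.RelHt

variable {X S : Scheme.{u}}

/-- sections over an affine open of a Jacobson scheme form a Jacobson ring. -/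
theorem isJacobsonRing_of_isAffineOpen [JacobsonSpace S] {V : S.Opens} (hV : IsAffineOpen V) :
    IsJacobsonRing Γ(S, V) := by
  haveI : JacobsonSpace ↥(V : Scheme.{u}) := JacobsonSpace.of_isOpenEmbedding V.ι.isOpenEmbedding
  rw [PrimeSpectrum.isJacobsonRing_iff_jacobsonSpace]
  let e := Scheme.homeoOfIso hV.isoSpec
  exact JacobsonSpace.of_isClosedEmbedding e.symm.isClosedEmbedding

/-- a point of an affine open of a Jacobson scheme whose prime is maximal is closed. -/
theorem isClosed_singleton_of_isMaximal [JacobsonSpace S] {V : S.Opens} (hV : IsAffineOpen V)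
    {s : S} (hs : s ∈ V) (hmax : (hV.primeIdealOf ⟨s, hs⟩).asIdeal.IsMaximal) :
    IsClosed ({s} : Set S) := by
  have h1 : IsClosed ({hV.primeIdealOf ⟨s, hs⟩} : Set (PrimeSpectrum Γ(S, V))) :=
    (PrimeSpectrum.isClosed_singleton_iff_isMaximal _).mpr hmax
  let e := Scheme.homeoOfIso hV.isoSpec
  let x : ↥(V : Scheme.{u}) := ⟨s, hs⟩
  have h2 : IsClosed ({x} : Set ↥(V : Scheme.{u})) := by
    rw [← e.isClosed_image, Set.image_singleton]
    exact h1
  have h3 : x ∈ closedPoints ↥(V : Scheme.{u}) := h2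
  rw [← V.ι.isOpenEmbedding.preimage_closedPoints] at h3
  exact h3

/-- **closed points go to closed points** with algebraic residue extension, for morphisms locally
of finite type to a Jacobson scheme. -/
theorem isClosed_base_of_isClosed [JacobsonSpace S] (g : X ⟶ S) [LocallyOfFiniteType g] {z : X}
    (hz : IsClosed ({z} : Set X)) :
    IsClosed ({g.base z} : Set S) ∧
      @Algebra.trdeg (S.residueField (g.base z)) (X.residueField z) _ _
        (g.residueFieldMap z).hom.toAlgebra = 0 := by
  obtain ⟨_, ⟨V, hV : IsAffineOpen V, rfl⟩, hgzV, -⟩ :=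
    (S.isBasis_affineOpens).exists_subset_of_mem_open (Set.mem_univ (g.base z)) isOpen_univ
  obtain ⟨_, ⟨U, hU : IsAffineOpen U, rfl⟩, hzU, hUV⟩ :=
    (X.isBasis_affineOpens).exists_subset_of_mem_open
      (show z ∈ (g ⁻¹ᵁ V : Set X) from hgzV) (g ⁻¹ᵁ V).isOpen
  have e : U ≤ g ⁻¹ᵁ V := hUV
  letI : Algebra Γ(S, V) Γ(X, U) := (g.appLE V U e).hom.toAlgebra
  have halg : algebraMap Γ(S, V) Γ(X, U) = (g.appLE V U e).hom := rfl
  haveI : Algebra.FiniteType Γ(S, V) Γ(X, U) := g.finiteType_appLE hV hU e
  haveI : IsJacobsonRing Γ(S, V) := isJacobsonRing_of_isAffineOpen hV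
  set q := (hU.primeIdealOf ⟨z, hzU⟩).asIdeal with hq
  set p := (hV.primeIdealOf ⟨g.base z, e hzU⟩).asIdeal with hp
  haveI hlo : q.LiesOver p := liesOver_primeIdealOf g z hV hU e hzU halg
  haveI hqmax : q.IsMaximal := hU.primeIdealOf_isMaximal_of_isClosed ⟨z, hzU⟩ hz
  letI : Field (Γ(X, U) ⧸ q) := Ideal.Quotient.field q
  haveI : Algebra.FiniteType Γ(S, V) (Γ(X, U) ⧸ q) :=
    Algebra.FiniteType.of_surjective (Ideal.Quotient.mkₐ Γ(S, V) q)
      (Ideal.Quotient.mkₐ_surjective Γ(S, V) q)
  haveI hfin : Module.Finite Γ(S, V) (Γ(X, U) ⧸ q) :=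
    finite_of_finite_type_of_isJacobsonRing Γ(S, V) (Γ(X, U) ⧸ q)
  haveI : Module.Finite (Γ(S, V) ⧸ p) (Γ(X, U) ⧸ q) :=
    Module.Finite.of_restrictScalars_finite Γ(S, V) (Γ(S, V) ⧸ p) (Γ(X, U) ⧸ q)
  haveI : Algebra.IsIntegral (Γ(S, V) ⧸ p) (Γ(X, U) ⧸ q) := Algebra.IsIntegral.of_finite _ _
  have hfield : IsField (Γ(S, V) ⧸ p) :=
    isField_of_isIntegral_of_isField (FaithfulSMul.algebraMap_injective _ _)
      (Field.toIsField (Γ(X, U) ⧸ q))
  have hpmax : p.IsMaximal := Ideal.Quotient.maximal_of_isField p hfield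
  refine ⟨isClosed_singleton_of_isMaximal hV (e hzU) hpmax, ?_⟩
  rw [trdeg_residueFieldMap_eq g z hV hU e hzU halg]
  haveI : Algebra.IsAlgebraic (Γ(S, V) ⧸ p) (Γ(X, U) ⧸ q) := Algebra.IsIntegral.isAlgebraic
  exact trdeg_eq_zero

/-- transport of the universally catenary hypothesis from the stalk to the localization. -/
theorem isUniversallyCatenary_localization_of_stalk {V : S.Opens} (hV : IsAffineOpen V) {s : S}
    (hs : s ∈ V) (hcat : CAlg.IsUniversallyCatenary (S.presheaf.stalk s)) :
    CAlg.IsUniversallyCatenary (Localization.AtPrime (hV.primeIdealOf ⟨s, hs⟩).asIdeal) := by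
  letI := S.presheaf.algebra_section_stalk ⟨s, hs⟩
  haveI := hV.isLocalization_stalk ⟨s, hs⟩
  exact isUniversallyCatenary_of_ringEquiv
    (IsLocalization.algEquiv (hV.primeIdealOf ⟨s, hs⟩).asIdeal.primeCompl (S.presheaf.stalk s)
      (Localization.AtPrime (hV.primeIdealOf ⟨s, hs⟩).asIdeal)).toRingEquiv hcat

/-- **additivity of relative heights** at a point with universally catenary local ring. -/
theorem relHt_add_of_specializes [IsLocallyNoetherian S] {s t u : S} (h1 : u ⤳ t) (h2 : t ⤳ s)
    (hcat : CAlg.IsUniversallyCatenary (S.presheaf.stalk s)) :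
    relHt s u = relHt t u + relHt s t := by
  obtain ⟨_, ⟨V, hV : IsAffineOpen V, rfl⟩, hsV, -⟩ :=
    (S.isBasis_affineOpens).exists_subset_of_mem_open (Set.mem_univ s) isOpen_univ
  have htV : t ∈ V := h2.mem_open V.isOpen hsV
  have huV : u ∈ V := h1.mem_open V.isOpen htV
  haveI : IsNoetherianRing Γ(S, V) := IsLocallyNoetherian.component_noetherian ⟨V, hV⟩
  set p := (hV.primeIdealOf ⟨s, hsV⟩).asIdeal with hp
  set p₁ := (hV.primeIdealOf ⟨t, htV⟩).asIdeal with hp₁
  set p₀ := (hV.primeIdealOf ⟨u, huV⟩).asIdeal with hp₀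
  have h01 : p₀ ≤ p₁ := (primeIdealOf_le_iff_specializes hV t u htV huV).mpr h1
  have h1p : p₁ ≤ p := (primeIdealOf_le_iff_specializes hV s t hsV htV).mpr h2
  have h0p : p₀ ≤ p := h01.trans h1p
  haveI h10' : (p₁.map (Ideal.Quotient.mk p₀)).IsPrime :=
    Ideal.map_isPrime_of_surjective Ideal.Quotient.mk_surjective (by rwa [Ideal.mk_ker])
  haveI h0' : (p.map (Ideal.Quotient.mk p₀)).IsPrime :=
    Ideal.map_isPrime_of_surjective Ideal.Quotient.mk_surjective (by rwa [Ideal.mk_ker])
  haveI h1' : (p.map (Ideal.Quotient.mk p₁)).IsPrime :=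
    Ideal.map_isPrime_of_surjective Ideal.Quotient.mk_surjective (by rwa [Ideal.mk_ker])
  have hcat' := isUniversallyCatenary_localization_of_stalk hV hsV hcat
  rw [relHt_eq_height hV hsV huV (h1.trans h2), relHt_eq_height hV htV huV h1,
    relHt_eq_height hV hsV htV h2]
  exact height_quotient_add p₀ p₁ p h01 h1p hcat'

/-- the intersection of a closed set with a set stable under generalization is quasi-sober. -/
theorem quasiSober_of_closed_inter_generalizing {α : Type*} [TopologicalSpace α] [QuasiSober α]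
    (T C G : Set α) (hT : ∀ t, t ∈ T ↔ t ∈ C ∧ t ∈ G) (hC : IsClosed C)
    (hG : ∀ a ∈ G, ∀ b, b ⤳ a → b ∈ G) : QuasiSober ↥T := by
  constructor
  intro Z hZirr hZcl
  have hirr : IsIrreducible (closure (Subtype.val '' Z)) :=
    (hZirr.image Subtype.val continuous_subtype_val.continuousOn).closure
  obtain ⟨ζ, hζ⟩ := QuasiSober.sober hirr isClosed_closure
  have hζmem : ζ ∈ closure (Subtype.val '' Z) := hζ.mem
  have hζC : ζ ∈ C := by
    refine closure_minimal ?_ hC hζmem
    rintro _ ⟨z, -, rfl⟩
    exact ((hT z.1).mp z.2).1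
  obtain ⟨z, hz⟩ := hZirr.nonempty
  have hζz : ζ ⤳ z.1 := by
    rw [specializes_iff_mem_closure, hζ.def]
    exact subset_closure ⟨z, hz, rfl⟩
  have hζG : ζ ∈ G := hG z.1 ((hT z.1).mp z.2).2 ζ hζz
  have hζT : ζ ∈ T := (hT ζ).mpr ⟨hζC, hζG⟩
  refine ⟨⟨ζ, hζT⟩, ?_⟩
  rw [IsGenericPoint]
  have h1 : closure ({⟨ζ, hζT⟩} : Set ↥T) = Subtype.val ⁻¹' closure (Subtype.val '' {⟨ζ, hζT⟩}) :=
    Topology.IsInducing.subtypeVal.closure_eq_preimage_closure_image _
  have h2 : Z = Subtype.val ⁻¹' closure (Subtype.val '' Z) := by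
    rw [← Topology.IsInducing.subtypeVal.closure_eq_preimage_closure_image, hZcl.closure_eq]
  rw [h1, Set.image_singleton, hζ.def, ← h2]

theorem topologicalKrullDim_eq_krullDim_specialization (T : Type*) [TopologicalSpace T]
    [QuasiSober T] [T0Space T] :
    topologicalKrullDim T = @Order.krullDim T (specializationPreorder T) := by
  letI := specializationOrder T
  exact Order.krullDim_eq_of_orderIso (irreducibleSetEquivPoints (α := T))

/-- the dimension of the space of generalizations of `s` inside the closure of `σ'`. -/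
theorem topologicalKrullDim_generalizations_eq_relHt {S : Scheme.{u}} (C : Set S) (σ' s : S)
    (hσ' : C = closure {σ'}) (hs : s ∈ C) :
    topologicalKrullDim ↥{t : S | t ∈ C ∧ t ⤳ s} = (relHt s σ' : ℕ∞) := by
  have hC : IsClosed C := hσ' ▸ isClosed_closure
  haveI : QuasiSober ↥{t : S | t ∈ C ∧ t ⤳ s} :=
    quasiSober_of_closed_inter_generalizing {t : S | t ∈ C ∧ t ⤳ s} C {t | t ⤳ s}
      (fun t => Iff.rfl) hC (fun a ha b hba => hba.trans ha)
  rw [topologicalKrullDim_eq_krullDim_specialization]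
  letI : Preorder ↥{t : S | t ∈ C ∧ t ⤳ s} := specializationPreorder _
  have hmono : StrictMono (Subtype.val : ↥{t : S | t ∈ C ∧ t ⤳ s} → S) := by
    intro a b hab
    rw [lt_iff_le_not_ge] at hab ⊢
    exact ⟨(subtype_specializes_iff _ _).mp hab.1, fun h => hab.2 ((subtype_specializes_iff _ _).mpr h)⟩
  apply le_antisymm
  · apply iSup_le
    intro c
    have h1 := length_le_relHt_of_le_of_le (anti S) (c.map Subtype.val hmono) (a := s) (b := σ') ?_ ?_
    · rw [LTSeries.map_length] at h1
      exact_mod_cast h1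
    · rw [LTSeries.head_map]
      exact c.head.2.2
    · rw [LTSeries.last_map]
      have h3 : (c.last : S) ∈ closure {σ'} := hσ' ▸ c.last.2.1
      exact specializes_iff_mem_closure.mpr h3
  · have hkey : relHt s σ' ≤ (⨆ c : LTSeries ↥{t : S | t ∈ C ∧ t ⤳ s}, (c.length : ℕ∞)) := by
      refine relHt_le fun c h1 h2 => ?_
      have hmem : ∀ i, c i ∈ {t : S | t ∈ C ∧ t ⤳ s} := by
        intro i
        constructor
        · rw [hσ']
          apply specializes_iff_mem_closure.mp
          have : c i ≤ c.last := c.monotone (Fin.le_last i)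
          rw [h2] at this
          exact this
        · have : c.head ≤ c i := c.monotone (Fin.zero_le i)
          rw [h1] at this
          exact this
      let c' : LTSeries ↥{t : S | t ∈ C ∧ t ⤳ s} :=
        LTSeries.mk c.length (fun i => ⟨c i, hmem i⟩) (by
          intro i j hij
          have := c.strictMono hij
          rw [lt_iff_le_not_ge] at this ⊢
          exact ⟨(subtype_specializes_iff _ _).mpr this.1,
            fun h => this.2 ((subtype_specializes_iff _ _).mp h)⟩)
      exact le_iSup (fun c : LTSeries ↥{t : S | t ∈ C ∧ t ⤳ s} => (c.length : ℕ∞)) c'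
    haveI : Nonempty ↥{t : S | t ∈ C ∧ t ⤳ s} := ⟨⟨s, hs, specializes_rfl⟩⟩
    rw [Order.krullDim_eq_iSup_length]
    exact_mod_cast hkey

end Groth.Agent.Lib.Helper73.SchemeDim
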