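/-
helper73: equidimensionality at closed points over Jacobson universally catenary bases (EGA IV 10.6.1).
* `exists_isClosed_specializes`.
* `relHt_closedPoint_eq_topologicalKrullDim`: for `Z` irreducible (generic point `ζ`) locally of finite
  type over `S` (locally Noetherian, Jacobson, universally catenary local rings, irreducible components
  equidimensional at closed points): `relHt z ζ = dim Z` for every closed point `z`.
-/
import Groth.Agent.Lib.Helper73.JacobsonDim

set_option linter.style.haveILetI false
set_option autoImplicit false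
universe u
open Cardinal CategoryTheory AlgebraicGeometry

namespace Groth.Agent.Lib.Helper73.SchemeDim

open Groth.Agent.Lib.Helper73.DimFormula Groth.Agent.Lib.Helper73.RelHt

variable {Z S : Scheme.{u}}

/-- every point of a Jacobson scheme specializes to a closed point. -/
theorem exists_isClosed_specializes [JacobsonSpace Z] (a : Z) :
    ∃ z : Z, IsClosed ({z} : Set Z) ∧ a ⤳ z := by
  obtain ⟨z, hz1, hz2⟩ := nonempty_inter_closedPoints (X := Z) (Z := closure {a})
    ⟨a, subset_closure rfl⟩ isClosed_closure.isLocallyClosed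
  exact ⟨z, hz2, specializes_iff_mem_closure.mpr hz1⟩

/-- **Equidimensionality at closed points** (EGA IV 10.6.1). Over a locally Noetherian Jacobson
scheme `S` with universally catenary local rings whose irreducible components are equidimensional
at closed points, an irreducible scheme `Z` locally of finite type over `S` has the same local
dimension `dim Z` at all of its closed points. -/
theorem relHt_closedPoint_eq_topologicalKrullDim [IsLocallyNoetherian S] [JacobsonSpace S]
    (h2 : ∀ s : S, CAlg.IsUniversallyCatenary (S.presheaf.stalk s))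
    (h3 : ∀ S' ∈ irreducibleComponents (S : Type u), ∀ s ∈ S', IsClosed ({s} : Set S) →
      topologicalKrullDim (↥S' : Type u) = topologicalKrullDim ↥{t : S | t ∈ S' ∧ t ⤳ s})
    (g : Z ⟶ S) [LocallyOfFiniteType g] (ζ : Z) (hζ : ∀ z : Z, ζ ⤳ z) (z : Z)
    (hz : IsClosed ({z} : Set Z)) :
    ((relHt z ζ : ℕ∞) : WithBot ℕ∞) = topologicalKrullDim Z := by
  haveI : JacobsonSpace Z := LocallyOfFiniteType.jacobsonSpace g
  -- the irreducible component of `S` through `σ = g ζ` and its generic point
  set S' := irreducibleComponent (g.base ζ) with hS'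
  have hS'mem : S' ∈ irreducibleComponents (S : Type u) :=
    irreducibleComponent_mem_irreducibleComponents _
  have hS'cl : IsClosed S' := isClosed_irreducibleComponent
  obtain ⟨σ', hσ'⟩ := QuasiSober.sober (isIrreducible_irreducibleComponent (x := g.base ζ)) hS'cl
  have hσ'eq : S' = closure {σ'} := hσ'.def.symm
  have hσS' : g.base ζ ∈ S' := mem_irreducibleComponent
  have hσ'σ : σ' ⤳ g.base ζ := by
    rw [specializes_iff_mem_closure, ← hσ'eq]; exact hσS'
  obtain ⟨nζ, hnζ⟩ := exists_trdeg_residueField_eq_nat g ζ
  -- the key identity at closed points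
  have key : ∀ z₁ : Z, IsClosed ({z₁} : Set Z) →
      ((relHt z₁ ζ + relHt (g.base ζ) σ' : ℕ∞) : WithBot ℕ∞) =
        topologicalKrullDim (↥S' : Type u) + (nζ : WithBot ℕ∞) := by
    intro z₁ hz₁
    obtain ⟨hcl, htr⟩ := isClosed_base_of_isClosed g hz₁
    have hsp : g.base ζ ⤳ g.base z₁ := (hζ z₁).map g.continuous
    have hs₁S' : g.base z₁ ∈ S' := by
      rw [hσ'eq]
      exact specializes_iff_mem_closure.mp (hσ'σ.trans hsp)
    have hdim := h3 S' hS'mem (g.base z₁) hs₁S' hcl
    rw [topologicalKrullDim_generalizations_eq_relHt S' σ' (g.base z₁) hσ'eq hs₁S'] at hdim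
    have hadd := relHt_add_of_specializes hσ'σ hsp (h2 _)
    have hDF := (relHt_add_trdeg_aux g (hζ z₁) nζ 0 hnζ (by exact_mod_cast htr)).2 (h2 _)
    rw [hdim, hadd]
    have : relHt z₁ ζ + relHt (g.base ζ) σ' =
        relHt (g.base ζ) σ' + relHt (g.base z₁) (g.base ζ) + nζ := by
      have h5 : relHt z₁ ζ = relHt (g.base z₁) (g.base ζ) + nζ := by simpa using hDF
      rw [h5]
      ring
    rw [this]
    push_cast
    rfl
  -- all closed points have the same relative height
  have hr_fin : relHt (g.base ζ) σ' ≠ ⊤ := (relHt_lt_top hσ'σ).ne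
  have hconst : ∀ z₁ : Z, IsClosed ({z₁} : Set Z) → relHt z₁ ζ = relHt z ζ := by
    intro z₁ hz₁
    have h5 := (key z₁ hz₁).trans (key z hz).symm
    have h6 : relHt z₁ ζ + relHt (g.base ζ) σ' = relHt z ζ + relHt (g.base ζ) σ' :=
      WithBot.coe_injective h5
    exact ENat.add_left_injective_of_ne_top hr_fin h6
  -- the dimension of `Z`
  haveI : Nonempty Z := ⟨z⟩
  rw [← krullDim_eq_topologicalKrullDim, Order.krullDim_eq_iSup_coheight_of_nonempty]
  congr 1
  apply le_antisymm
  · rw [← coheight_eq_relHt_of_isTop (anti Z) hζ z]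
    exact le_iSup (fun a : Z => Order.coheight a) z
  · apply iSup_le
    intro a
    rw [coheight_eq_relHt_of_isTop (anti Z) hζ a]
    obtain ⟨z₁, hz₁, haz₁⟩ := exists_isClosed_specializes a
    rw [← hconst z₁ hz₁]
    refine relHt_le fun c h1 h2 => ?_
    refine length_le_relHt_of_le_of_le (anti Z) c ?_ ?_
    · rw [h1]; exact haz₁
    · rw [h2]

end Groth.Agent.Lib.Helper73.SchemeDim
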