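/-
helper73: dimension of subspaces of a scheme via chains of points; dense opens.
* `length_le_topologicalKrullDim_subtype`, `topologicalKrullDim_subtype_le` (for quasi-sober subspaces).
* `mem_of_dense_of_isOpen_of_maximal`: maximal points of a locally Noetherian scheme lie in every
  dense open.
-/
import Groth.Agent.Lib.Helper73.JacobsonDim2
import Groth.Agent.S9682

set_option linter.style.haveILetI false
set_option autoImplicit false
universe u
open Cardinal CategoryTheory AlgebraicGeometry

namespace Groth.Agent.Lib.Helper73.SchemeDim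

open Groth.Agent.Lib.Helper73.DimFormula Groth.Agent.Lib.Helper73.RelHt

variable {X : Scheme.{u}}

/-- a chain of points of a scheme lying in a quasi-sober subspace bounds its dimension below. -/
theorem length_le_topologicalKrullDim_subtype (T : Set X) [QuasiSober ↥T] (c : LTSeries X)
    (hc : ∀ i, c i ∈ T) : (c.length : WithBot ℕ∞) ≤ topologicalKrullDim ↥T := by
  rw [topologicalKrullDim_eq_krullDim_specialization]
  letI : Preorder ↥T := specializationPreorder _
  let c' : LTSeries ↥T :=
    LTSeries.mk c.length (fun i => ⟨c i, hc i⟩) (by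
      intro i j hij
      have := c.strictMono hij
      rw [lt_iff_le_not_ge] at this ⊢
      exact ⟨(subtype_specializes_iff _ _).mpr this.1,
        fun h => this.2 ((subtype_specializes_iff _ _).mp h)⟩)
  exact Order.LTSeries.length_le_krullDim c'

theorem topologicalKrullDim_subtype_le (T : Set X) [QuasiSober ↥T] (d : WithBot ℕ∞)
    (h : ∀ c : LTSeries X, (∀ i, c i ∈ T) → (c.length : WithBot ℕ∞) ≤ d) :
    topologicalKrullDim ↥T ≤ d := by
  rw [topologicalKrullDim_eq_krullDim_specialization]
  letI : Preorder ↥T := specializationPreorder _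
  have hmono : StrictMono (Subtype.val : ↥T → X) := by
    intro a b hab
    rw [lt_iff_le_not_ge] at hab ⊢
    exact ⟨(subtype_specializes_iff _ _).mp hab.1, fun h => hab.2 ((subtype_specializes_iff _ _).mpr h)⟩
  apply iSup_le
  intro c
  have := h (c.map Subtype.val hmono) (fun i => (c i).2)
  rwa [LTSeries.map_length] at this

/-- a maximal point (generic point of an irreducible component) of a locally Noetherian scheme lies
in every dense open subset. -/
theorem mem_of_dense_of_isOpen_of_maximal [IsLocallyNoetherian X] {U : Set X} (hU : IsOpen U)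
    (hd : Dense U) {ξ : X} (hmax : ∀ x' : X, x' ⤳ ξ → x' = ξ) : ξ ∈ U := by
  obtain ⟨_, ⟨V, hV : IsAffineOpen V, rfl⟩, hξV, -⟩ :=
    X.isBasis_affineOpens.exists_subset_of_mem_open (Set.mem_univ ξ) isOpen_univ
  haveI : IsNoetherianRing Γ(X, V) := IsLocallyNoetherian.component_noetherian ⟨V, hV⟩
  haveI : TopologicalSpace.NoetherianSpace ↥(V : Scheme.{u}) := noetherianSpace_of_isAffineOpen V hV
  let ξV : ↥(V : Scheme.{u}) := ⟨ξ, hξV⟩
  have hsp : ∀ a b : ↥(V : Scheme.{u}), a ⤳ b ↔ (Scheme.Opens.ι (X := X) V).base a ⤳ (Scheme.Opens.ι (X := X) V).base b := fun a b =>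
    ((Scheme.Opens.ι (X := X) V).isOpenEmbedding.isInducing.specializes_iff).symm
  have hcomp : closure {ξV} ∈ irreducibleComponents ↥(V : Scheme.{u}) := by
    rw [Groth.Agent.S9682.closure_singleton_mem_irreducibleComponents_iff]
    intro x' hx'
    have h1 := hmax ((Scheme.Opens.ι (X := X) V).base x') ((hsp _ _).mp hx')
    exact (Scheme.Opens.ι (X := X) V).isOpenEmbedding.injective h1
  obtain ⟨o, ho, hone, hoZ⟩ :=
    TopologicalSpace.NoetherianSpace.exists_isOpen_nonempty_subset_irreducibleComponent _ hcomp
  have ho' : IsOpen ((Scheme.Opens.ι (X := X) V).base '' o) := (Scheme.Opens.ι (X := X) V).isOpenEmbedding.isOpenMap _ ho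
  obtain ⟨w, ⟨w', hw'o, rfl⟩, hwU⟩ := hd.inter_open_nonempty _ ho' (hone.image _)
  have h1 : ξV ⤳ w' := specializes_iff_mem_closure.mpr (hoZ hw'o)
  have h2 : ξ ⤳ (Scheme.Opens.ι (X := X) V).base w' := (hsp _ _).mp h1
  exact h2.mem_open hU hwU

end Groth.Agent.Lib.Helper73.SchemeDim
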