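import Groth.Agent.Lib.Helper73.ComponentDims
import Groth.Agent.Lib.Helper73.FibreClosure
import Groth.Agent.Lib.Helper73.SubspaceDim

set_option linter.style.haveILetI false
set_option autoImplicit false
universe u
open CategoryTheory AlgebraicGeometry
open scoped Set.Notation

namespace Groth.Agent.Lib.Helper73.SchemeDim

open Groth.Agent.Lib.Helper73.RelHt Groth.Agent.Lib.Helper73.DimFormula

variable {X Y : Scheme.{u}}

/-- open subsets of a set-theoretic fibre are quasi-sober. -/
theorem quasiSober_open_inter_fibre (f : X ⟶ Y) (y : Y) (U : Set X) (hU : IsOpen U) :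
    QuasiSober ↥(U ∩ f.base ⁻¹' {y}) := by
  haveI := quasiSober_preimage_singleton f y
  have hop : IsOpen ((f.base ⁻¹' {y}) ↓∩ (U ∩ f.base ⁻¹' {y})) := by
    have : ((f.base ⁻¹' {y}) ↓∩ (U ∩ f.base ⁻¹' {y})) = Subtype.val ⁻¹' U := by
      ext a
      simp only [Set.mem_preimage, Set.mem_inter_iff]
      exact ⟨fun h => h.1, fun h => ⟨h, a.2⟩⟩
    rw [this]
    exact hU.preimage continuous_subtype_val
  exact (Topology.IsOpenEmbedding.inclusion Set.inter_subset_right hop).quasiSober

/-- the part of a fibre where the local fibre dimension is `≤ n` has dimension exactly `n` as soon as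
the value `n` is attained. -/
theorem topologicalKrullDim_setOf_fibreDimAt_le_inter_fibre [IsLocallyNoetherian Y] (f : X ⟶ Y)
    [LocallyOfFiniteType f] (n : ℕ) (z : Y)
    (hz : ∃ x : X, f.base x = z ∧ FlatMor.fibreDimAt f x = (n : WithBot ℕ∞)) :
    topologicalKrullDim ↥({x : X | FlatMor.fibreDimAt f x ≤ (n : WithBot ℕ∞)} ∩ f.base ⁻¹' {z}) =
      (n : WithBot ℕ∞) := by
  have hUo : IsOpen {x : X | FlatMor.fibreDimAt f x ≤ (n : WithBot ℕ∞)} := isOpen_setOf_fibreDimAt_le f n
  haveI := quasiSober_open_inter_fibre f z _ hUo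
  apply le_antisymm
  · refine topologicalKrullDim_subtype_le _ _ (fun c hc => ?_)
    obtain ⟨m, hm⟩ := exists_trdeg_residueField_eq_nat' f c.last
    have h1 : c.length ≤ m := by
      refine length_le_trdeg_of_fibre f c c.last le_rfl ?_ m hm
      have e1 : f.base c.head = z := (hc 0).2
      have e2 : f.base c.last = z := (hc (Fin.last _)).2
      rw [e1, e2]
    have h2 := trdeg_le_fibreDimAt_of_fibre' f (specializes_refl c.last) rfl m hm
    have h3 : FlatMor.fibreDimAt f c.last ≤ (n : WithBot ℕ∞) := (hc (Fin.last _)).1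
    have h4 : m ≤ n := by exact_mod_cast h2.trans h3
    have : c.length ≤ n := h1.trans h4
    exact_mod_cast this
  · obtain ⟨x, hx, hFx⟩ := hz
    obtain ⟨ζ, m, hζx, hζf, hζmax, hm, hF⟩ := exists_maximal_in_fibre_trdeg_eq_fibreDimAt f x
    have hmn : m = n := by
      have : (m : WithBot ℕ∞) = (n : WithBot ℕ∞) := by rw [← hF, hFx]
      exact_mod_cast this
    have hζU : FlatMor.fibreDimAt f ζ ≤ (n : WithBot ℕ∞) := by
      rw [fibreDimAt_eq_trdeg_of_maximal_in_fibre f ζ hζmax m hm, hmn]
    let W : X.Opens := ⟨{x : X | FlatMor.fibreDimAt f x ≤ (n : WithBot ℕ∞)}, hUo⟩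
    obtain ⟨c, hclen, hclast, hcf, hcW⟩ := exists_ltSeries_fibre_mem f ζ W hζU m hm
    have := length_le_topologicalKrullDim_subtype
      ({x : X | FlatMor.fibreDimAt f x ≤ (n : WithBot ℕ∞)} ∩ f.base ⁻¹' {z}) c
      (fun i => ⟨hcW i, by
        change f.base (c i) = z
        rw [hcf i, hζf, hx]⟩)
    rw [hclen, hmn] at this
    exact this

end Groth.Agent.Lib.Helper73.SchemeDim
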