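/-
helper73: flat morphisms of relative dimension `d` between locally Noetherian schemes:
`dim_x X = dim_{f x} Y + d`.
-/
import Groth.Agent.Lib.Helper73.OpenFibreDim
import Groth.Agent.Lib.Helper73.FibreMaximal
import Groth.Agent.Lib.Helper73.FibreDimGen3
import Groth.Agent.Lib.Helper73.FibreComponents
import Groth.Prelude.Def_Cyc
import Groth.Agent.Lib.Helper29.TopDimZero

set_option linter.style.haveILetI false
set_option autoImplicit false
universe u
open CategoryTheory AlgebraicGeometry

namespace Groth.Agent.Lib.Helper73.FlatRelDim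

open Groth.Agent.Lib.Helper73.RelHt Groth.Agent.Lib.Helper73.DimFormula
  Groth.Agent.Lib.Helper73.SchemeDim Groth.Agent.Lib.Helper73.LocalHomDim

/-- a space all of whose irreducible components have dimension `≤ D` has dimension `≤ D`. -/
theorem topologicalKrullDim_le_of_irreducibleComponents {Z : Type u} [TopologicalSpace Z]
    (D : WithBot ℕ∞) (h : ∀ T ∈ irreducibleComponents Z, topologicalKrullDim T ≤ D) :
    topologicalKrullDim Z ≤ D := by
  rw [Groth.Agent.Lib.Helper29.topologicalKrullDim_le_iff_forall_chain]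
  intro p
  obtain ⟨T, hT, hsub⟩ :=
    exists_mem_irreducibleComponents_subset_of_isIrreducible _ p.last.isIrreducible
  exact (Groth.Agent.Lib.Helper29.length_le_dim_of_subset T p hsub).trans (h T hT)

variable {X Y : Scheme.{u}}

/-- a chain of points bounds the dimension of the local ring at its head from below. -/
theorem length_le_ringKrullDim_stalk (c : LTSeries X) :
    (c.length : WithBot ℕ∞) ≤ ringKrullDim (X.presheaf.stalk c.head) := by
  rw [AlgebraicGeometry.ringKrullDim_stalk_eq_coheight]
  have := Order.length_le_coheight (x := c.head) (p := c) le_rfl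
  exact_mod_cast this

/-- the dimension of a local ring is at most the dimension of any open neighbourhood. -/
theorem ringKrullDim_stalk_le_dim_open (U : Set X) (hU : IsOpen U) (x : X) (hx : x ∈ U) :
    ringKrullDim (X.presheaf.stalk x) ≤ topologicalKrullDim U := by
  haveI : QuasiSober ↥U := hU.isOpenEmbedding_subtypeVal.quasiSober
  rw [AlgebraicGeometry.ringKrullDim_stalk_eq_coheight]
  have hnn : (0 : WithBot ℕ∞) ≤ topologicalKrullDim U := by
    haveI : Nonempty ↥U := ⟨⟨x, hx⟩⟩
    exact Groth.Agent.Lib.Helper29.topologicalKrullDim_nonneg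
  have key : ∀ p : LTSeries X, p.head = x → (p.length : WithBot ℕ∞) ≤ topologicalKrullDim U := by
    intro p hp
    refine length_le_topologicalKrullDim_subtype U p (fun i => ?_)
    have h1 : p.head ≤ p i := p.monotone (Fin.zero_le _)
    rw [hp] at h1
    exact (h1 : p i ⤳ x).mem_open hU hx
  generalize topologicalKrullDim ↥U = D at hnn key ⊢
  induction D with
  | bot => simp at hnn
  | coe D =>
    have : Order.coheight x ≤ D := by
      refine Order.coheight_le fun p hp => ?_
      exact_mod_cast key p hp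
    exact_mod_cast this

/-- if all fibres have dimension `≤ d` then `dim O_{X,x} ≤ dim O_{Y,f x} + d`. -/
theorem ringKrullDim_stalk_le_add_of_fibre_dim_le [IsLocallyNoetherian X] [IsLocallyNoetherian Y]
    (f : X ⟶ Y) (d : ℕ) (hd : ∀ y, topologicalKrullDim (f.fiber y) ≤ d) (x : X) :
    ringKrullDim (X.presheaf.stalk x) ≤ ringKrullDim (Y.presheaf.stalk (f.base x)) + d := by
  refine ringKrullDim_le_add_of_chains (f.stalkMap x).hom d (fun l hl => ?_)
  obtain ⟨c, hclen, -, -, hcmem⟩ := exists_ltSeries_of_primes_stalk x l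
  have hall : ∀ i, f.base (c i) = f.base x := by
    intro i
    obtain ⟨j, hj⟩ := hcmem i
    rw [hj, base_fromSpecStalk_eq_iff]
    exact hl.trans (l.monotone (Fin.zero_le j) : l.head ≤ l j)
  have := (length_le_topologicalKrullDim_fiber f (f.base x) c hall).trans (hd _)
  rw [← hclen]
  exact_mod_cast this

/-- flat local homomorphism: `dim A + (length of a chain of primes containing m_A B) ≤ dim B`. -/
theorem ringKrullDim_add_length_le_of_flat {A B : Type*} [CommRing A] [CommRing B] [IsLocalRing A]
    [IsLocalRing B] [IsNoetherianRing A] (φ : A →+* B) [IsLocalHom φ] (hφ : φ.Flat)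
    (l : LTSeries (PrimeSpectrum B)) (hl : (IsLocalRing.maximalIdeal A).map φ ≤ l.head.asIdeal) :
    ringKrullDim A + l.length ≤ ringKrullDim B := by
  letI := φ.toAlgebra
  haveI : Module.Flat A B := hφ
  obtain ⟨lp, hlp, hlen⟩ := (IsLocalRing.maximalIdeal A).exists_ltSeries_length_eq_height
  haveI := l.head.2
  haveI : l.head.asIdeal.LiesOver lp.last.asIdeal := by
    refine ⟨?_⟩
    rw [hlp]
    change _ = l.head.asIdeal.comap φ
    rw [Ideal.map_le_iff_le_comap] at hl
    exact (IsLocalRing.maximalIdeal.isMaximal A).eq_of_le (Ideal.comap_ne_top _ l.head.2.ne_top) hl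
  obtain ⟨L, hLlen, hLlast, -⟩ := Ideal.exists_ltSeries_of_hasGoingDown lp l.head.asIdeal
  have := Order.LTSeries.length_le_krullDim (L.smash l (by rw [hLlast]))
  rw [← IsLocalRing.maximalIdeal_height_eq_ringKrullDim, ← hlen]
  simp only [RelSeries.smash_length, hLlen] at this
  unfold ringKrullDim
  exact_mod_cast this

/-- flat morphisms: a chain of points in one fibre gives
`dim O_{Y,f u} + length ≤ dim O_{X,u}` at its head `u`. -/
theorem ringKrullDim_stalk_add_length_le_of_flat [IsLocallyNoetherian Y] (f : X ⟶ Y) [Flat f]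
    (c : LTSeries X) (hc : ∀ i, f.base (c i) = f.base c.head) :
    ringKrullDim (Y.presheaf.stalk (f.base c.head)) + c.length ≤
      ringKrullDim (X.presheaf.stalk c.head) := by
  obtain ⟨l, hllen, -, -, hlmem⟩ := exists_ltSeries_primes_stalk c.head c le_rfl
  rw [← hllen]
  refine ringKrullDim_add_length_le_of_flat (f.stalkMap c.head).hom (Flat.stalkMap f c.head) l ?_
  rw [← base_fromSpecStalk_eq_iff]
  obtain ⟨i, hi⟩ := hlmem 0
  change f.base ((X.fromSpecStalk c.head).base (l 0)) = _
  rw [hi, hc]

/-- relative dimension `d` (all components of all fibres of dimension `d`) gives local fibre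
dimension `d` everywhere. -/
theorem fibreDimAt_eq_of_hasRelDim [IsLocallyNoetherian Y] (f : X ⟶ Y) [LocallyOfFiniteType f]
    (d : ℕ) (hd : Cyc.HasRelDim f d) (u : X) : FlatMor.fibreDimAt f u = d := by
  obtain ⟨ζ, m, hζu, hζf, hζmax, hm, hF⟩ := exists_maximal_in_fibre_trdeg_eq_fibreDimAt f u
  rw [hF]
  have hzι : (f.fiberι (f.base ζ)).base (f.asFiber ζ) = ζ := f.fiberι_asFiber ζ
  have hzmax : ∀ z' : f.fiber (f.base ζ), z' ⤳ f.asFiber ζ → z' = f.asFiber ζ := by
    intro z' h
    apply (f.fiberι (f.base ζ)).isEmbedding.injective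
    rw [hzι]
    apply hζmax
    · have := h.map (f.fiberι (f.base ζ)).continuous
      rwa [hzι] at this
    · exact base_fiberι' f (f.base ζ) z'
  have hcomp := closure_singleton_mem_irreducibleComponents_of_maximal (f.asFiber ζ) hzmax
  have h1 := hd (f.base ζ) _ hcomp
  have h2 := topologicalKrullDim_closure_singleton_fiber f (f.base ζ) (f.asFiber ζ) m
    (by rw [trdeg_residueFieldMap_congr_pt f hzι]; exact hm)
  rw [h1] at h2
  exact_mod_cast h2.symm

/-- a quasi-sober subspace of dimension `≥ n` contains a chain of points of length `≥ n`. -/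
theorem exists_ltSeries_of_natCast_le_dim (T : Set X) [QuasiSober ↥T] (n : ℕ)
    (hn : (n : WithBot ℕ∞) ≤ topologicalKrullDim ↥T) (hne : T.Nonempty) :
    ∃ c : LTSeries X, (∀ i, c i ∈ T) ∧ n ≤ c.length := by
  by_contra h
  push Not at h
  obtain ⟨t, ht⟩ := hne
  have hn0 : n ≠ 0 := by
    rintro rfl
    have := h (RelSeries.singleton _ t) (fun i => ht)
    simp at this
  have hle : topologicalKrullDim ↥T ≤ ((n - 1 : ℕ) : WithBot ℕ∞) := by
    refine topologicalKrullDim_subtype_le T _ (fun c hc => ?_)
    have := h c hc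
    have : c.length ≤ n - 1 := by omega
    exact_mod_cast this
  have := hn.trans hle
  have : n ≤ n - 1 := by exact_mod_cast this
  omega

theorem add_le_of_forall_natCast_le {A B : WithBot ℕ∞} (d : ℕ)
    (h : ∀ n : ℕ, (n : WithBot ℕ∞) ≤ A → (n : WithBot ℕ∞) + d ≤ B) : A + d ≤ B := by
  apply le_of_forall_natCast_le
  intro k hk
  induction A with
  | bot => simp at hk
  | coe a =>
    induction a with
    | top =>
      have := h k (by exact_mod_cast le_top)
      exact le_trans (by exact_mod_cast Nat.le_add_right k d) this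
    | coe a =>
      exact hk.trans (h a le_rfl)

/-- **flat of relative dimension `d`**: `dim_x X = dim_{f x} Y + d`. -/
theorem localDim_eq_add_of_flat_hasRelDim [IsLocallyNoetherian X] [IsLocallyNoetherian Y]
    (f : X ⟶ Y) [Flat f] [LocallyOfFiniteType f] (d : ℕ) (hd : Cyc.HasRelDim f d) (x : X) :
    FlatMor.localDim ↑X x = FlatMor.localDim ↑Y (f.base x) + (d : WithBot ℕ∞) := by
  have hfib : ∀ y, topologicalKrullDim (f.fiber y) ≤ d := fun y =>
    topologicalKrullDim_le_of_irreducibleComponents _ (fun T hT => (hd y T hT).le)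
  apply le_antisymm
  · obtain ⟨V0, hV0⟩ : ∃ V0 : {U : TopologicalSpace.Opens Y // f.base x ∈ U},
        topologicalKrullDim (V0.1 : Set Y) = FlatMor.localDim Y (f.base x) := by
      haveI : Nonempty {U : TopologicalSpace.Opens Y // f.base x ∈ U} := ⟨⟨⊤, trivial⟩⟩
      exact ciInf_mem (fun U : {U : TopologicalSpace.Opens Y // f.base x ∈ U} =>
        topologicalKrullDim (U.1 : Set Y))
    rw [← hV0]
    refine (Groth.Agent.Lib.Helper29.localDim_le_dim_of_mem x (f ⁻¹ᵁ V0.1) V0.2).trans ?_
    haveI : QuasiSober ↥((f ⁻¹ᵁ V0.1 : X.Opens) : Set X) :=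
      (f ⁻¹ᵁ V0.1).isOpen.isOpenEmbedding_subtypeVal.quasiSober
    refine topologicalKrullDim_subtype_le _ _ (fun c hc => ?_)
    calc (c.length : WithBot ℕ∞) ≤ ringKrullDim (X.presheaf.stalk c.head) :=
          length_le_ringKrullDim_stalk c
      _ ≤ ringKrullDim (Y.presheaf.stalk (f.base c.head)) + d :=
          ringKrullDim_stalk_le_add_of_fibre_dim_le f d hfib _
      _ ≤ topologicalKrullDim (V0.1 : Set Y) + d := by
          gcongr
          exact ringKrullDim_stalk_le_dim_open _ V0.1.isOpen _ (hc 0)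
  · unfold FlatMor.localDim
    refine le_iInf fun U => ?_
    have hopen : IsOpen (f.base '' (U.1 : Set X)) := f.isOpenMap _ U.1.isOpen
    let V : TopologicalSpace.Opens Y := ⟨f.base '' (U.1 : Set X), hopen⟩
    have hyV : f.base x ∈ V := ⟨x, U.2, rfl⟩
    have hle : (⨅ U : {U : TopologicalSpace.Opens Y // f.base x ∈ U},
        topologicalKrullDim (U.1 : Set Y)) ≤ topologicalKrullDim (V : Set Y) :=
      Groth.Agent.Lib.Helper29.localDim_le_dim_of_mem (f.base x) V hyV
    refine le_trans (by gcongr) (?_ : topologicalKrullDim (V : Set Y) + (d : WithBot ℕ∞) ≤ _)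
    apply add_le_of_forall_natCast_le
    intro n hn
    haveI : QuasiSober ↥(V : Set Y) := V.isOpen.isOpenEmbedding_subtypeVal.quasiSober
    obtain ⟨c, hcV, hcn⟩ := exists_ltSeries_of_natCast_le_dim (V : Set Y) n hn ⟨_, hyV⟩
    obtain ⟨u', hu'U, hu'⟩ := hcV 0
    obtain ⟨ζ, m, hζu, hζf, hζmax, hm, hF⟩ := exists_maximal_in_fibre_trdeg_eq_fibreDimAt f u'
    have hmd : m = d := by
      rw [fibreDimAt_eq_of_hasRelDim f d hd u'] at hF
      exact_mod_cast hF.symm
    subst hmd
    obtain ⟨e, helen, helast, hef, heU⟩ :=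
      exists_ltSeries_fibre_mem f ζ U.1 (hζu.mem_open U.1.isOpen hu'U) m hm
    have h1 := ringKrullDim_stalk_add_length_le_of_flat f e
      (fun i => by rw [hef i]; exact (hef 0).symm)
    have h2 : f.base e.head = c.head := by
      rw [show e.head = e 0 from rfl, hef 0, hζf, hu']
      rfl
    have h3 := length_le_ringKrullDim_stalk c
    have h4 := ringKrullDim_stalk_le_dim_open (U.1 : Set X) U.1.isOpen e.head (heU 0)
    calc (n : WithBot ℕ∞) + m ≤ c.length + m := by
          gcongr
      _ ≤ ringKrullDim (Y.presheaf.stalk c.head) + m := by gcongr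
      _ = ringKrullDim (Y.presheaf.stalk (f.base e.head)) + e.length := by rw [h2, helen]
      _ ≤ ringKrullDim (X.presheaf.stalk e.head) := h1
      _ ≤ _ := h4

end Groth.Agent.Lib.Helper73.FlatRelDim
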