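/-
helper73: relative dimension `d`: residue transcendence degree at maximal points of fibres.
-/
import Groth.Agent.Lib.Helper73.FlatRelDim

set_option linter.style.haveILetI false
set_option autoImplicit false
universe u
open CategoryTheory AlgebraicGeometry

namespace Groth.Agent.Lib.Helper73.FlatRelDim

open Groth.Agent.Lib.Helper73.RelHt Groth.Agent.Lib.Helper73.DimFormula
  Groth.Agent.Lib.Helper73.SchemeDim Groth.Agent.Lib.Helper73.LocalHomDim

variable {X Y : Scheme.{u}}

/-- relative dimension `d`: the residue field of a point maximal in its fibre has transcendence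
degree `d` over the residue field of its image. -/
theorem trdeg_eq_of_hasRelDim_of_maximal [IsLocallyNoetherian Y] (f : X ⟶ Y)
    [LocallyOfFiniteType f] (d : ℕ) (hd : Cyc.HasRelDim f d) (ζ : X)
    (hζmax : ∀ z' : X, z' ⤳ ζ → f.base z' = f.base ζ → z' = ζ) (m : ℕ)
    (hm : @Algebra.trdeg (Y.residueField (f.base ζ)) (X.residueField ζ) _ _
      (f.residueFieldMap ζ).hom.toAlgebra = m) : m = d := by
  have hzι : (f.fiberι (f.base ζ)).base (f.asFiber ζ) = ζ := f.fiberι_asFiber ζ
  have hzmax : ∀ z' : f.fiber (f.base ζ), z' ⤳ f.asFiber ζ → z' = f.asFiber ζ := by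
    intro z' h
    apply (f.fiberι (f.base ζ)).isEmbedding.injective
    rw [hzι]
    apply hζmax
    · have := h.map (f.fiberι (f.base ζ)).continuous
      rwa [hzι] at this
    · exact base_fiberι' f (f.base ζ) z'
  have hcomp := closure_singleton_mem_irreducibleComponents_of_maximal (f.asFiber ζ) hzmax
  have h1 := hd (f.base ζ) _ hcomp
  have h2 := topologicalKrullDim_closure_singleton_fiber f (f.base ζ) (f.asFiber ζ) m
    (by rw [trdeg_residueFieldMap_congr_pt f hzι]; exact hm)
  rw [h1] at h2
  exact_mod_cast h2.symm

end Groth.Agent.Lib.Helper73.FlatRelDim
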