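/-
helper73: equidimensional morphisms (EGA IV 13.3): dictionary in terms of maximal points.
* topology: `closure_singleton_mem_irreducibleComponents_of_maximal`, `maximal_of_closure_singleton_mem_irreducibleComponents`,
  `exists_maximal_closure_eq_of_mem_irreducibleComponents`.
* `SchemeDim.isEquidimAt_iff`: `EGA43.IsEquidimAt f x ↔ ∃ e U ∋ x, (maximal points ξ ∈ U of X map to maximal points of Y
  specializing to f x) ∧ (points z ∈ U maximal in their fibre have residue trdeg e)`  (Y loc. Noetherian, f l.f.t.).
-/
import Groth.Agent.Lib.Helper73.FibreDimGen3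
import Groth.Agent.Lib.Helper73.FibreComponents
import Groth.Prelude.Def_EGA43
set_option linter.style.haveILetI false
set_option autoImplicit false
universe u
open Cardinal CategoryTheory AlgebraicGeometry

namespace Groth.Agent.Lib.Helper73.SchemeDim

open Groth.Agent.Lib.Helper73.DimFormula Groth.Agent.Lib.Helper73.RelHt

section topology

variable {A : Type*} [TopologicalSpace A]

theorem closure_singleton_mem_irreducibleComponents_of_maximal [QuasiSober A] (ξ : A)
    (h : ∀ ξ' : A, ξ' ⤳ ξ → ξ' = ξ) : closure ({ξ} : Set A) ∈ irreducibleComponents A := by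
  let Z : irreducibleComponents A :=
    ⟨irreducibleComponent ξ, irreducibleComponent_mem_irreducibleComponents ξ⟩
  have hg := genericPoints.isGenericPoint_ofComponent Z
  have hξZ : ξ ∈ (Z : Set A) := mem_irreducibleComponent
  have hsp : (genericPoints.ofComponent Z).1 ⤳ ξ := by
    rw [specializes_iff_mem_closure, hg.def]
    exact hξZ
  have := h _ hsp
  rw [← this]
  exact (genericPoints.ofComponent Z).2

theorem maximal_of_closure_singleton_mem_irreducibleComponents [T0Space A] (ξ : A)
    (hξ : closure ({ξ} : Set A) ∈ irreducibleComponents A) : ∀ ξ' : A, ξ' ⤳ ξ → ξ' = ξ := by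
  intro ξ' h
  have h1 : closure {ξ} ⊆ closure {ξ'} := h.closure_subset
  have h2 : IsIrreducible (closure ({ξ'} : Set A)) := isIrreducible_singleton.closure
  have h3 : closure {ξ'} ⊆ closure ({ξ} : Set A) := by
    have hmax : Maximal IsIrreducible (closure ({ξ} : Set A)) := hξ
    exact hmax.2 h2 h1
  have h4 : closure ({ξ'} : Set A) = closure {ξ} := le_antisymm h3 h1
  have : IsGenericPoint ξ' (closure {ξ}) := h4
  exact this.eq rfl

theorem exists_maximal_closure_eq_of_mem_irreducibleComponents [QuasiSober A] [T0Space A]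
    {Z : Set A} (hZ : Z ∈ irreducibleComponents A) :
    ∃ ξ : A, (∀ ξ' : A, ξ' ⤳ ξ → ξ' = ξ) ∧ closure ({ξ} : Set A) = Z := by
  obtain ⟨ξ, hξ⟩ := QuasiSober.sober hZ.1 (isClosed_of_mem_irreducibleComponents Z hZ)
  refine ⟨ξ, ?_, hξ.def⟩
  apply maximal_of_closure_singleton_mem_irreducibleComponents
  rw [hξ.def]; exact hZ

end topology

variable {X Y : Scheme.{u}}

/-- the trdeg of `U.ι ≫ f` at a point of `U` is that of `f`. -/
theorem trdeg_opensι_comp (f : X ⟶ Y) (U : X.Opens) (x' : ↥U) :
    @Algebra.trdeg (Y.residueField ((U.ι ≫ f).base x')) ((U : Scheme.{u}).residueField x') _ _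
      ((U.ι ≫ f).residueFieldMap x').hom.toAlgebra =
    @Algebra.trdeg (Y.residueField (f.base (U.ι.base x'))) (X.residueField (U.ι.base x')) _ _
      (f.residueFieldMap (U.ι.base x')).hom.toAlgebra :=
  trdeg_residueFieldMap_comp U.ι f x'

/-- **Dictionary** for equidimensionality at a point, in terms of maximal points. -/
theorem isEquidimAt_iff [IsLocallyNoetherian Y] (f : X ⟶ Y) [LocallyOfFiniteType f] (x : X) :
    EGA43.IsEquidimAt f x ↔ ∃ (e : ℕ) (U : X.Opens), x ∈ U ∧
      (∀ ξ : X, ξ ∈ U → (∀ ξ' : X, ξ' ⤳ ξ → ξ' = ξ) →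
        (∀ η' : Y, η' ⤳ f.base ξ → η' = f.base ξ) ∧ f.base ξ ⤳ f.base x) ∧
      (∀ z : X, z ∈ U → (∀ z' : X, z' ⤳ z → f.base z' = f.base z → z' = z) →
        @Algebra.trdeg (Y.residueField (f.base z)) (X.residueField z) _ _
          (f.residueFieldMap z).hom.toAlgebra = e) := by
  unfold EGA43.IsEquidimAt
  refine exists_congr fun e => exists_congr fun U => and_congr_right fun hxU => ?_
  set g := U.ι ≫ f with hg
  have hgval : ∀ a : ↥U, g.base a = f.base a.1 := fun a => rfl
  have hind : Topology.IsInducing (U.ι.base : ↥U → X) := U.ι.isEmbedding.isInducing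
  have hιval : ∀ a : ↥U, U.ι.base a = a.1 := fun a => rfl
  haveI : QuasiSober ↥U := U.isOpen.isOpenEmbedding_subtypeVal.quasiSober
  let gf : ↥U → Y := fun a => f.base a.1
  have hgfc : Continuous gf := f.continuous.comp continuous_subtype_val
  constructor
  · rintro ⟨hA, hB⟩
    constructor
    · intro ξ hξU hξmax
      let ξU : ↥U := ⟨ξ, hξU⟩
      have hξUmax : ∀ ξ'' : ↥U, ξ'' ⤳ ξU → ξ'' = ξU := by
        intro ξ'' hsp
        have : ξ''.1 ⤳ ξ := hind.specializes_iff.mpr hsp
        exact Subtype.ext (hξmax _ this)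
      obtain ⟨W, hW, hfxW, hcl⟩ := hA _ (closure_singleton_mem_irreducibleComponents_of_maximal ξU hξUmax)
      have hcl2 : closure (gf '' closure {ξU}) = W := hcl
      have hcl' : closure ({f.base ξ} : Set Y) = W := by
        rw [← hcl2, closure_image_closure hgfc, Set.image_singleton]
      refine ⟨maximal_of_closure_singleton_mem_irreducibleComponents _ (hcl' ▸ hW), ?_⟩
      rw [specializes_iff_mem_closure, hcl']
      exact hfxW
    · intro z hzU hzmax
      let x' : ↥U := ⟨z, hzU⟩
      set zF := g.asFiber x' with hzF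
      have hzFι : (g.fiberι (g.base x')).base zF = x' := Scheme.Hom.fiberι_asFiber g x'
      have hzFmax : ∀ w : ↥(g.fiber (g.base x')), w ⤳ zF → w = zF := by
        intro w hsp
        have h1 : (g.fiberι (g.base x')).base w ⤳ x' := by
          have := hsp.map (g.fiberι (g.base x')).continuous
          rwa [hzFι] at this
        have h2 : ((g.fiberι (g.base x')).base w).1 ⤳ z := hind.specializes_iff.mpr h1
        have h3 : f.base ((g.fiberι (g.base x')).base w).1 = f.base z :=
          base_fiberι' g (g.base x') w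
        have h4 := hzmax _ h2 h3
        apply (g.fiberι (g.base x')).isEmbedding.injective
        rw [hzFι]
        exact Subtype.ext h4
      have hdim := hB x' _ (closure_singleton_mem_irreducibleComponents_of_maximal zF hzFmax)
      obtain ⟨n, hn⟩ := exists_trdeg_residueField_eq_nat f z
      have hdim2 := topologicalKrullDim_closure_singleton_fiber g (g.base x') zF n (by
        rw [trdeg_residueFieldMap_congr_pt g hzFι]
        rw [trdeg_opensι_comp f U x']
        exact hn)
      rw [hdim2] at hdim
      have : n = e := by exact_mod_cast hdim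
      rw [hn, this]
  · rintro ⟨hA, hB⟩
    constructor
    · intro Z hZ
      obtain ⟨ξU, hξUmax, hξUZ⟩ := exists_maximal_closure_eq_of_mem_irreducibleComponents hZ
      have hξmax : ∀ ξ' : X, ξ' ⤳ ξU.1 → ξ' = ξU.1 := by
        intro ξ' hsp
        have hξ'U : ξ' ∈ U := hsp.mem_open U.isOpen ξU.2
        have : (⟨ξ', hξ'U⟩ : ↥U) ⤳ ξU := hind.specializes_iff.mp hsp
        exact congrArg Subtype.val (hξUmax _ this)
      obtain ⟨h1, h2⟩ := hA ξU.1 ξU.2 hξmax
      refine ⟨closure {f.base ξU.1}, closure_singleton_mem_irreducibleComponents_of_maximal _ h1,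
        h2.mem_closure, ?_⟩
      change closure (gf '' Z) = closure {f.base ξU.1}
      rw [← hξUZ, closure_image_closure hgfc, Set.image_singleton]
    · intro x' Z hZ
      obtain ⟨zF, hzFmax, hzFZ⟩ := exists_maximal_closure_eq_of_mem_irreducibleComponents hZ
      set zU := (g.fiberι (g.base x')).base zF with hzU
      have hgzU : g.base zU = g.base x' := base_fiberι' g (g.base x') zF
      have hzmax : ∀ z' : X, z' ⤳ zU.1 → f.base z' = f.base zU.1 → z' = zU.1 := by
        intro z' hsp hfz'
        have hz'U : z' ∈ U := hsp.mem_open U.isOpen zU.2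
        let z'U : ↥U := ⟨z', hz'U⟩
        have hsp' : z'U ⤳ zU := hind.specializes_iff.mp hsp
        have hgz' : g.base z'U = g.base x' := by
          rw [← hgzU]
          exact hfz'
        obtain ⟨w, hw⟩ := exists_fiberι_eq g hgz'
        have hwsp : w ⤳ zF := by
          rw [← (g.fiberι (g.base x')).isEmbedding.isInducing.specializes_iff, hw]
          exact hsp'
        have := hzFmax w hwsp
        rw [this] at hw
        exact (congrArg Subtype.val hw).symm
      have htr := hB zU.1 zU.2 hzmax
      rw [← hzFZ]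
      have hdim2 := topologicalKrullDim_closure_singleton_fiber g (g.base x') zF e (by
        rw [trdeg_opensι_comp f U zU]
        exact htr)
      exact hdim2

end Groth.Agent.Lib.Helper73.SchemeDim
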