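/-
helper73: more tools on maximal points of fibres (arbitrary base, f l.f.t.).
* `exists_maximal_specializes`: every point of a quasi-sober T0 space has a maximal generization.
* `fibreDimAt_mono'`, `trdeg_le_fibreDimAt'`: Chevalley along arbitrary specializations (no Noetherian hyp).
* `trdeg_lt_trdeg_of_specializes_of_fibre'`: strict drop of residue trdeg inside a fibre.
* `fibreDimAt_eq_trdeg_of_maximal_in_fibre`, `exists_maximal_in_fibre_trdeg_eq_fibreDimAt`.
* `localDim_closed_inter_fibre`: `localDim_x (T ∩ f⁻¹(f x))` for closed `T` = max residue trdeg of generizations of `x` in it.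
-/
import Groth.Agent.Lib.Helper73.Equidim
set_option linter.style.haveILetI false
set_option autoImplicit false
universe u
open Cardinal CategoryTheory AlgebraicGeometry

namespace Groth.Agent.Lib.Helper73.SchemeDim

open Groth.Agent.Lib.Helper73.DimFormula Groth.Agent.Lib.Helper73.RelHt

variable {X Y : Scheme.{u}}

/-- every point of a quasi-sober space has a maximal generization. -/
theorem exists_maximal_specializes {A : Type*} [TopologicalSpace A] [QuasiSober A] [T0Space A] (z : A) :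
    ∃ ξ : A, (∀ ξ' : A, ξ' ⤳ ξ → ξ' = ξ) ∧ ξ ⤳ z := by
  obtain ⟨ξ, hmax, hcl⟩ := exists_maximal_closure_eq_of_mem_irreducibleComponents
    (irreducibleComponent_mem_irreducibleComponents z)
  refine ⟨ξ, hmax, ?_⟩
  rw [specializes_iff_mem_closure, hcl]
  exact mem_irreducibleComponent

/-- (general base) Chevalley along arbitrary specializations. -/
theorem fibreDimAt_mono' (f : X ⟶ Y) [LocallyOfFiniteType f] {ξ x : X} (h : ξ ⤳ x) :
    FlatMor.fibreDimAt f ξ ≤ FlatMor.fibreDimAt f x := by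
  obtain ⟨-, m, -, -, -, hm⟩ := exists_specializes_trdeg_eq_fibreDimAt f x
  have hopen := isOpen_setOf_fibreDimAt_le f m
  have hx : x ∈ {x : X | FlatMor.fibreDimAt f x ≤ m} := by
    change FlatMor.fibreDimAt f x ≤ m
    rw [hm]
  have hξ : ξ ∈ {x : X | FlatMor.fibreDimAt f x ≤ m} := h.mem_open hopen hx
  rw [hm]
  exact hξ

theorem trdeg_le_fibreDimAt' (f : X ⟶ Y) [LocallyOfFiniteType f] {ξ x : X} (h : ξ ⤳ x) (nξ : ℕ)
    (hnξ : @Algebra.trdeg (Y.residueField (f.base ξ)) (X.residueField ξ) _ _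
      (f.residueFieldMap ξ).hom.toAlgebra = nξ) :
    (nξ : WithBot ℕ∞) ≤ FlatMor.fibreDimAt f x :=
  (trdeg_le_fibreDimAt_of_fibre' f (specializes_refl ξ) rfl nξ hnξ).trans (fibreDimAt_mono' f h)

/-- strict drop of residue trdeg along strict specializations in a fibre (general base). -/
theorem trdeg_lt_trdeg_of_specializes_of_fibre' (f : X ⟶ Y) [LocallyOfFiniteType f]
    {x' x : X} (h : x' ⤳ x) (hne : x' ≠ x) (hf : f.base x' = f.base x) (n' n : ℕ)
    (hn' : @Algebra.trdeg (Y.residueField (f.base x')) (X.residueField x') _ _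
      (f.residueFieldMap x').hom.toAlgebra = n')
    (hn : @Algebra.trdeg (Y.residueField (f.base x)) (X.residueField x) _ _
      (f.residueFieldMap x).hom.toAlgebra = n) :
    n < n' := by
  set s := f.base x with hs
  haveI : LocallyOfFiniteType (f.fiberToSpecResidueField s) :=
    locallyOfFiniteType_fiberToSpecResidueField f s
  obtain ⟨z', hz'⟩ := exists_fiberι_eq f hf
  obtain ⟨z, hz⟩ := exists_fiberι_eq f (x := x) (s := s) rfl
  have hsp : z' ⤳ z := by
    rw [← (f.fiberι s).isEmbedding.isInducing.specializes_iff, hz', hz]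
    exact h
  have hzne : z' ≠ z := by
    intro heq
    apply hne
    rw [← hz', ← hz, heq]
  have h1 := relHt_add_trdeg_eq_of_fibre (f.fiberToSpecResidueField s) hsp
    (Subsingleton.elim (α := PrimeSpectrum _) _ _) n' n ?_ ?_
  · have hle : z ≤ z' := hsp
    have hlt : z < z' := lt_iff_le_not_ge.mpr ⟨hle, fun h => hzne (anti _ z' z h hle)⟩
    have h2 : (1 : ℕ∞) ≤ relHt z z' := by
      let c : LTSeries (f.fiber s) := RelSeries.fromListIsChain [z, z'] (List.cons_ne_nil _ _)
        (List.isChain_pair.mpr hlt)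
      have := length_le_relHt' c rfl rfl
      exact this
    have : (1 : ℕ∞) + n ≤ n' := by
      rw [← h1]
      exact add_le_add_left h2 _
    have : 1 + n ≤ n' := by exact_mod_cast this
    omega
  · have := trdeg_fiberToSpecResidueField f s z'
    rw [this, trdeg_residueFieldMap_congr_pt f hz']
    exact hn'
  · have := trdeg_fiberToSpecResidueField f s z
    rw [this, trdeg_residueFieldMap_congr_pt f hz]
    exact hn

/-- a point maximal in its fibre has local fibre dimension equal to its residue trdeg. -/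
theorem fibreDimAt_eq_trdeg_of_maximal_in_fibre (f : X ⟶ Y) [LocallyOfFiniteType f] (z : X)
    (hz : ∀ z' : X, z' ⤳ z → f.base z' = f.base z → z' = z) (n : ℕ)
    (hn : @Algebra.trdeg (Y.residueField (f.base z)) (X.residueField z) _ _
      (f.residueFieldMap z).hom.toAlgebra = n) :
    FlatMor.fibreDimAt f z = n := by
  obtain ⟨ζ, nζ, hζsp, hζf, hnζ, hFζ⟩ := exists_specializes_trdeg_eq_fibreDimAt f z
  have := hz ζ hζsp hζf
  subst this
  rw [hFζ]
  have : ((nζ : ℕ) : Cardinal.{u}) = n := by rw [← hnζ, ← hn]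
  have : nζ = n := by exact_mod_cast this
  rw [this]

/-- the local fibre dimension is attained at a generization which is maximal in the fibre. -/
theorem exists_maximal_in_fibre_trdeg_eq_fibreDimAt (f : X ⟶ Y) [LocallyOfFiniteType f] (x : X) :
    ∃ (ζ : X) (n : ℕ), ζ ⤳ x ∧ f.base ζ = f.base x ∧
      (∀ z' : X, z' ⤳ ζ → f.base z' = f.base ζ → z' = ζ) ∧
      @Algebra.trdeg (Y.residueField (f.base ζ)) (X.residueField ζ) _ _
        (f.residueFieldMap ζ).hom.toAlgebra = n ∧
      FlatMor.fibreDimAt f x = (n : WithBot ℕ∞) := by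
  obtain ⟨ζ, nζ, hζsp, hζf, hnζ, hFζ⟩ := exists_specializes_trdeg_eq_fibreDimAt f x
  refine ⟨ζ, nζ, hζsp, hζf, ?_, hnζ, hFζ⟩
  intro z' hsp hfz'
  by_contra hne
  obtain ⟨n', hn'⟩ := exists_trdeg_residueField_eq_nat' f z'
  have h1 := trdeg_lt_trdeg_of_specializes_of_fibre' f hsp hne hfz' n' nζ hn' hnζ
  have h2 := trdeg_le_fibreDimAt_of_fibre' f (hsp.trans hζsp) (hfz'.trans hζf) n' hn'
  rw [hFζ] at h2
  have : n' ≤ nζ := by exact_mod_cast h2
  omega

/-- the local dimension at `x` of `T ∩ f⁻¹(f x)` (`T` closed) is the maximal residue trdeg of the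
generizations of `x` inside `T ∩ f⁻¹(f x)`. -/
theorem localDim_closed_inter_fibre (f : X ⟶ Y) [LocallyOfFiniteType f] (T : Set X) (hT : IsClosed T)
    (x : X) (hx : x ∈ T ∩ f.base ⁻¹' {f.base x}) :
    (∀ ζ : X, ζ ∈ T → ζ ⤳ x → f.base ζ = f.base x → ∀ n : ℕ,
      @Algebra.trdeg (Y.residueField (f.base ζ)) (X.residueField ζ) _ _
        (f.residueFieldMap ζ).hom.toAlgebra = n →
      (n : WithBot ℕ∞) ≤ FlatMor.localDim ↥(T ∩ f.base ⁻¹' {f.base x}) ⟨x, hx⟩) ∧
    (∃ (ζ : X) (n : ℕ), ζ ∈ T ∧ ζ ⤳ x ∧ f.base ζ = f.base x ∧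
      @Algebra.trdeg (Y.residueField (f.base ζ)) (X.residueField ζ) _ _
        (f.residueFieldMap ζ).hom.toAlgebra = n ∧
      FlatMor.localDim ↥(T ∩ f.base ⁻¹' {f.base x}) ⟨x, hx⟩ = n) := by
  set ι := (Scheme.IdealSheafData.vanishingIdeal (⟨T, hT⟩ : TopologicalSpace.Closeds X)).subschemeι
    with hι
  have hrange : Set.range ι.base = T := by
    rw [hι, Scheme.IdealSheafData.range_subschemeι, Scheme.IdealSheafData.coe_support_vanishingIdeal]
    rfl
  have hxr : x ∈ Set.range ι.base := hrange.superset hx.1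
  obtain ⟨w, rfl⟩ := hxr
  have key := fibreDimAt_comp_preimm ι f w T hrange hx
  rw [← key]
  constructor
  · intro ζ hζT hζsp hζf n hn
    have hζr : ζ ∈ Set.range ι.base := hrange.superset hζT
    obtain ⟨ω, rfl⟩ := hζr
    have hsp : ω ⤳ w := ι.isEmbedding.isInducing.specializes_iff.mp hζsp
    refine trdeg_le_fibreDimAt_of_fibre' (ι ≫ f) hsp hζf n ?_
    rw [trdeg_residueFieldMap_comp ι f ω]
    exact hn
  · obtain ⟨ω, n, hsp, hωf, hnω, hF⟩ := exists_specializes_trdeg_eq_fibreDimAt (ι ≫ f) w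
    refine ⟨ι.base ω, n, ?_, ι.isEmbedding.isInducing.specializes_iff.mpr hsp, hωf, ?_, hF⟩
    · exact hrange.subset (Set.mem_range_self ω)
    · rw [← trdeg_residueFieldMap_comp ι f ω]
      exact hnω

end Groth.Agent.Lib.Helper73.SchemeDim
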