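import Groth.Agent.Lib.Helper73.Equidim2
import Groth.Agent.Lib.Helper73.FibreDimGen2
import Mathlib.AlgebraicGeometry.Noetherian
set_option linter.style.haveILetI false
set_option autoImplicit false
universe u v
open Cardinal CategoryTheory AlgebraicGeometry

namespace Groth.Agent.Lib.Helper73.FieldDim

open Groth.Agent.Lib.Helper73.DimFormula Groth.Agent.Lib.Helper73.RelHt
  Groth.Agent.Lib.Helper73.SchemeDim

variable {X Y Z : Scheme.{u}}

/-- additivity of residue transcendence degrees along a composition. -/
theorem trdeg_residueFieldMap_comp_add (f : X ⟶ Y) (g : Y ⟶ Z) (x : X) :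
    @Algebra.trdeg (Z.residueField (g.base (f.base x))) (Y.residueField (f.base x)) _ _
        (g.residueFieldMap (f.base x)).hom.toAlgebra +
      @Algebra.trdeg (Y.residueField (f.base x)) (X.residueField x) _ _
        (f.residueFieldMap x).hom.toAlgebra =
      @Algebra.trdeg (Z.residueField ((f ≫ g).base x)) (X.residueField x) _ _
        ((f ≫ g).residueFieldMap x).hom.toAlgebra := by
  letI algYX : Algebra (Y.residueField (f.base x)) (X.residueField x) :=
    (f.residueFieldMap x).hom.toAlgebra
  letI algZY : Algebra (Z.residueField (g.base (f.base x))) (Y.residueField (f.base x)) :=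
    (g.residueFieldMap (f.base x)).hom.toAlgebra
  letI algZX : Algebra (Z.residueField (g.base (f.base x))) (X.residueField x) :=
    ((f ≫ g).residueFieldMap x).hom.toAlgebra
  haveI hST : IsScalarTower (Z.residueField (g.base (f.base x))) (Y.residueField (f.base x))
      (X.residueField x) :=
    IsScalarTower.of_algebraMap_eq' (by
      change ((f ≫ g).residueFieldMap x).hom =
        (f.residueFieldMap x).hom.comp (g.residueFieldMap (f.base x)).hom
      rw [Scheme.residueFieldMap_comp]; rfl)
  haveI h1 : FaithfulSMul (Z.residueField (g.base (f.base x))) (Y.residueField (f.base x)) :=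
    (faithfulSMul_iff_algebraMap_injective _ _).mpr (RingHom.injective _)
  haveI h2 : FaithfulSMul (Y.residueField (f.base x)) (X.residueField x) :=
    (faithfulSMul_iff_algebraMap_injective _ _).mpr (RingHom.injective _)
  exact _root_.trdeg_add_eq (Z.residueField (g.base (f.base x))) (Y.residueField (f.base x))
    (A := X.residueField x)

/-- In a Noetherian space, the closure of the image of a closed set consists of specializations of
images of points of that set. -/
theorem exists_specializes_of_mem_closure_image {A B : Type*} [TopologicalSpace A]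
    [TopologicalSpace B] [TopologicalSpace.NoetherianSpace A] [QuasiSober A] (φ : A → B)
    (hφ : Continuous φ) (E : Set A) (hE : IsClosed E) (b : B) (hb : b ∈ closure (φ '' E)) :
    ∃ ε ∈ E, φ ε ⤳ b := by
  obtain ⟨S, hSf, hSc, hSi, hSU⟩ :=
    TopologicalSpace.NoetherianSpace.exists_finite_set_isClosed_irreducible hE
  have hsub : φ '' E ⊆ ⋃ t ∈ S, closure (φ '' t) := by
    rintro _ ⟨a, ha, rfl⟩
    rw [hSU] at ha
    obtain ⟨t, ht, hat⟩ := ha
    exact Set.mem_biUnion ht (subset_closure ⟨a, hat, rfl⟩)
  have hcl : IsClosed (⋃ t ∈ S, closure (φ '' t)) := hSf.isClosed_biUnion fun _ _ => isClosed_closure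
  have hb' := closure_minimal hsub hcl hb
  obtain ⟨t, ht, hbt⟩ := Set.mem_iUnion₂.mp hb'
  obtain ⟨ε, hε⟩ := QuasiSober.sober (hSi t ht) (hSc t ht)
  have hεt : ε ∈ t := hε.mem
  refine ⟨ε, by rw [hSU]; exact ⟨t, ht, hεt⟩, ?_⟩
  rw [specializes_iff_mem_closure]
  have h1 : φ '' t ⊆ closure {φ ε} := by
    have : t = closure {ε} := hε.def.symm
    rw [this]
    refine (image_closure_subset_closure_image hφ).trans ?_
    rw [Set.image_singleton]
  exact closure_minimal h1 isClosed_closure hbt

end Groth.Agent.Lib.Helper73.FieldDim
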