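/-
helper73: morphisms of schemes locally of finite type over a field, irreducible source:
generic fibre dimension `dim X - dim (closure of the image)` is the minimum of the local fibre
dimension, attained on a dense open.
-/
import Groth.Agent.Lib.Helper73.FieldDim2
import Groth.Agent.Lib.Helper73.FibreClosure
import Groth.Agent.Lib.Helper73.Equidim2

set_option linter.style.haveILetI false
set_option autoImplicit false
universe u
open CategoryTheory CategoryTheory.Limits AlgebraicGeometry

namespace Groth.Agent.Lib.Helper73.FieldDim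

open Groth.Agent.Lib.Helper73.SchemeDim Groth.Agent.Lib.Helper73.DimFormula

theorem trdeg_residueFieldMap_congr_hom {X S : Scheme.{u}} {f g : X ⟶ S} (e : f = g) (x : X) :
    @Algebra.trdeg (S.residueField (f.base x)) (X.residueField x) _ _
      (f.residueFieldMap x).hom.toAlgebra =
    @Algebra.trdeg (S.residueField (g.base x)) (X.residueField x) _ _
      (g.residueFieldMap x).hom.toAlgebra := by
  subst e; rfl

/-- over a subsingleton (e.g. the spectrum of a field) `dim closure {ξ} = trdeg κ(ξ)`. -/
theorem topologicalKrullDim_closure_singleton_of_subsingleton {X S : Scheme.{u}}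
    [IsLocallyNoetherian S] [Subsingleton S] (p : X ⟶ S) [LocallyOfFiniteType p] (ξ : X) (n : ℕ)
    (hn : @Algebra.trdeg (S.residueField (p.base ξ)) (X.residueField ξ) _ _
      (p.residueFieldMap ξ).hom.toAlgebra = n) :
    topologicalKrullDim ↥(closure ({ξ} : Set X)) = n := by
  have h := topologicalKrullDim_closure_inter_fibre p ξ n hn
  have : p.base ⁻¹' {p.base ξ} = Set.univ := by
    ext x
    simp only [Set.mem_preimage, Set.mem_singleton_iff, Set.mem_univ, iff_true]
    exact Subsingleton.elim _ _
  rwa [this, Set.inter_univ] at h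

theorem fibreDim_generic_of_subsingleton {X Y S : Scheme.{u}} [IsLocallyNoetherian S] [Subsingleton S]
    (pX : X ⟶ S) (pY : Y ⟶ S) [LocallyOfFiniteType pX] [LocallyOfFiniteType pY]
    [IrreducibleSpace X] (f : X ⟶ Y) (hf : f ≫ pY = pX) (a b : ℕ)
    (ha : topologicalKrullDim X = a)
    (hb : topologicalKrullDim (closure (Set.range f.base)) = b) :
    (∀ x : X, ((a - b : ℕ) : WithBot ℕ∞) ≤ FlatMor.fibreDimAt f x) ∧
      IsOpen {x : X | FlatMor.fibreDimAt f x = (a - b : ℕ)} ∧
      Dense {x : X | FlatMor.fibreDimAt f x = (a - b : ℕ)} := by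
  haveI : LocallyOfFiniteType (f ≫ pY) := by rw [hf]; infer_instance
  haveI : LocallyOfFiniteType f := locallyOfFiniteType_of_comp f pY
  set ξ := genericPoint X with hξ
  have hξsp : ∀ x : X, ξ ⤳ x := fun x => genericPoint_specializes x
  have hξcl : closure ({ξ} : Set X) = Set.univ := (genericPoint_spec X).def
  obtain ⟨nX, hnX⟩ := exists_trdeg_residueField_eq_nat' pX ξ
  have hdimX := topologicalKrullDim_closure_singleton_of_subsingleton pX ξ nX hnX
  rw [hξcl] at hdimX
  have h2 : topologicalKrullDim ↥(Set.univ : Set X) = topologicalKrullDim X :=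
    IsHomeomorph.topologicalKrullDim_eq _ (Homeomorph.Set.univ X).isHomeomorph
  have hnXa : nX = a := by
    rw [h2, ha] at hdimX
    exact_mod_cast hdimX.symm
  obtain ⟨nY, hnY⟩ := exists_trdeg_residueField_eq_nat' pY (f.base ξ)
  have hdimY := topologicalKrullDim_closure_singleton_of_subsingleton pY (f.base ξ) nY hnY
  have h3 : closure ({f.base ξ} : Set Y) = closure (Set.range f.base) := by
    apply Set.Subset.antisymm
    · exact closure_mono (Set.singleton_subset_iff.mpr ⟨ξ, rfl⟩)
    · apply closure_minimal _ isClosed_closure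
      rintro _ ⟨x, rfl⟩
      exact ((hξsp x).map f.continuous).mem_closure
  rw [h3, hb] at hdimY
  have hnYb : nY = b := by exact_mod_cast hdimY.symm
  obtain ⟨m, hm⟩ := exists_trdeg_residueField_eq_nat' f ξ
  have hadd := trdeg_residueFieldMap_comp_add f pY ξ
  rw [trdeg_residueFieldMap_congr_hom hf ξ, hnX, hnY, hm] at hadd
  have hm' : m = a - b := by
    have : nY + m = nX := by exact_mod_cast hadd
    omega
  rw [← hm']
  have hξmax : ∀ z' : X, z' ⤳ ξ → f.base z' = f.base ξ → z' = ξ :=
    fun z' h _ => (h.antisymm (hξsp z')).eq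
  have hFξ := fibreDimAt_eq_trdeg_of_maximal_in_fibre f ξ hξmax m hm
  have hge : ∀ x : X, (m : WithBot ℕ∞) ≤ FlatMor.fibreDimAt f x := fun x => by
    rw [← hFξ]; exact fibreDimAt_mono' f (hξsp x)
  have hset : {x : X | FlatMor.fibreDimAt f x = (m : WithBot ℕ∞)} =
      {x : X | FlatMor.fibreDimAt f x ≤ (m : WithBot ℕ∞)} := by
    ext x
    simp only [Set.mem_ofPred_eq]
    exact ⟨fun h => h.le, fun h => le_antisymm h (hge x)⟩
  refine ⟨hge, ?_, ?_⟩
  · rw [hset]; exact isOpen_setOf_fibreDimAt_le f m
  · rw [hset]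
    have hop := isOpen_setOf_fibreDimAt_le f m
    have hne : {x : X | FlatMor.fibreDimAt f x ≤ (m : WithBot ℕ∞)}.Nonempty := ⟨ξ, hFξ.le⟩
    exact hop.dense hne

end Groth.Agent.Lib.Helper73.FieldDim
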