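/-
helper73: `Cyc.HasRelDim` in terms of residue transcendence degrees at maximal points of fibres
(general base).
-/
import Groth.Agent.Lib.Helper73.FlatRelDim2
import Groth.Agent.Lib.Helper73.GenericFibreDimField

set_option linter.style.haveILetI false
set_option autoImplicit false
universe u
open CategoryTheory AlgebraicGeometry

namespace Groth.Agent.Lib.Helper73.FlatRelDim

open Groth.Agent.Lib.Helper73.RelHt Groth.Agent.Lib.Helper73.DimFormula
  Groth.Agent.Lib.Helper73.SchemeDim Groth.Agent.Lib.Helper73.LocalHomDim
  Groth.Agent.Lib.Helper73.FieldDim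

variable {X Y : Scheme.{u}}

/-- (general base) the closure of a point of a fibre has dimension the residue transcendence
degree. -/
theorem topologicalKrullDim_closure_singleton_fiber' (f : X ⟶ Y) [LocallyOfFiniteType f] (y : Y)
    (z : f.fiber y) (n : ℕ)
    (hn : @Algebra.trdeg (Y.residueField (f.base ((f.fiberι y).base z)))
      (X.residueField ((f.fiberι y).base z)) _ _
      (f.residueFieldMap ((f.fiberι y).base z)).hom.toAlgebra = n) :
    topologicalKrullDim ↥(closure ({z} : Set (f.fiber y))) = n := by
  haveI : LocallyOfFiniteType (f.fiberToSpecResidueField y) :=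
    locallyOfFiniteType_fiberToSpecResidueField f y
  haveI : Subsingleton ↥(Spec (Y.residueField y)) :=
    inferInstanceAs (Subsingleton (PrimeSpectrum (Y.residueField y)))
  refine topologicalKrullDim_closure_singleton_of_subsingleton (f.fiberToSpecResidueField y) z n ?_
  rw [trdeg_fiberToSpecResidueField]
  exact hn

/-- a point of a fibre scheme is maximal iff its image is maximal in the set-theoretic fibre. -/
theorem fiberι_maximal_iff (f : X ⟶ Y) (y : Y) (z : f.fiber y) :
    (∀ z' : f.fiber y, z' ⤳ z → z' = z) ↔
      ∀ x' : X, x' ⤳ (f.fiberι y).base z → f.base x' = f.base ((f.fiberι y).base z) →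
        x' = (f.fiberι y).base z := by
  constructor
  · intro h x' hsp hfx'
    rw [base_fiberι'] at hfx'
    obtain ⟨w, rfl⟩ := exists_fiberι_eq f hfx'
    rw [h w ((f.fiberι y).isEmbedding.isInducing.specializes_iff.mp hsp)]
  · intro h z' hsp
    apply (f.fiberι y).isEmbedding.injective
    apply h _ (hsp.map (f.fiberι y).continuous)
    rw [base_fiberι', base_fiberι']

/-- **relative dimension via maximal points of fibres**. -/
theorem hasRelDim_iff (f : X ⟶ Y) [LocallyOfFiniteType f] (d : ℕ) :
    Cyc.HasRelDim f d ↔ ∀ ζ : X, (∀ z' : X, z' ⤳ ζ → f.base z' = f.base ζ → z' = ζ) →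
      @Algebra.trdeg (Y.residueField (f.base ζ)) (X.residueField ζ) _ _
        (f.residueFieldMap ζ).hom.toAlgebra = d := by
  constructor
  · intro hd ζ hζmax
    obtain ⟨m, hm⟩ := exists_trdeg_residueField_eq_nat' f ζ
    have hzι : (f.fiberι (f.base ζ)).base (f.asFiber ζ) = ζ := f.fiberι_asFiber ζ
    have hzmax : ∀ z' : f.fiber (f.base ζ), z' ⤳ f.asFiber ζ → z' = f.asFiber ζ := by
      rw [fiberι_maximal_iff]
      rw [hzι]
      exact hζmax
    have hcomp := closure_singleton_mem_irreducibleComponents_of_maximal (f.asFiber ζ) hzmax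
    have h1 := hd (f.base ζ) _ hcomp
    have h2 := topologicalKrullDim_closure_singleton_fiber' f (f.base ζ) (f.asFiber ζ) m
      (by rw [trdeg_residueFieldMap_congr_pt f hzι]; exact hm)
    rw [h1] at h2
    have : d = m := by exact_mod_cast h2
    rw [hm, this]
  · intro h y T hT
    obtain ⟨z, hzmax, rfl⟩ := exists_maximal_closure_eq_of_mem_irreducibleComponents hT
    refine topologicalKrullDim_closure_singleton_fiber' f y z d ?_
    exact h _ ((fiberι_maximal_iff f y z).mp hzmax)

end Groth.Agent.Lib.Helper73.FlatRelDim
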