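/-
helper73: retrocompactness of the locus where the local fibre dimension is `≤ n`
(morphisms locally of finite presentation), by Noetherian descent.
-/
import Groth.Agent.S9358
import Groth.Agent.Lib.Helper73.FibreDimGen
import Groth.Agent.Lib.Helper73.LocalDimHomeo
import Groth.Agent.Lib.Helper62.DimLoc4

set_option linter.style.haveILetI false
set_option autoImplicit false
universe u
open CategoryTheory CategoryTheory.Limits AlgebraicGeometry TensorProduct

namespace Groth.Agent.Lib.Helper73.FibreDimRetro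

open Groth.Agent.Lib.Helper73.SchemeDim

/-- affine case, by descent to a Noetherian base. -/
theorem isCompact_setOf_fibreDimAt_le_Spec (R S : Type u) [CommRing R] [CommRing S] [Algebra R S]
    [Algebra.FinitePresentation R S] (n : ℕ) :
    IsCompact {q : Spec (CommRingCat.of S) |
      FlatMor.fibreDimAt (Spec.map (CommRingCat.ofHom (algebraMap R S))) q ≤ n} := by
  let P := Algebra.Presentation.ofFinitePresentation R S
  let R₀ := P.Core
  let S₀ := P.ModelOfHasCoeffs R₀
  let e : R ⊗[R₀] S₀ ≃ₐ[R] S := P.tensorModelOfHasCoeffsEquiv R₀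
  let ψ : S₀ →+* S := (e : R ⊗[R₀] S₀ →+* S).comp
    (Algebra.TensorProduct.includeRight : S₀ →ₐ[R₀] R ⊗[R₀] S₀).toRingHom
  have hpo : IsPushout (CommRingCat.ofHom (algebraMap R₀ R)) (CommRingCat.ofHom (algebraMap R₀ S₀))
      (CommRingCat.ofHom (algebraMap R S)) (CommRingCat.ofHom ψ) := by
    refine (CommRingCat.isPushout_tensorProduct R₀ R S₀).of_iso (Iso.refl _) (Iso.refl _)
      (Iso.refl _) e.toRingEquiv.toCommRingCatIso (by simp) (by simp) ?_ ?_
    · ext x
      simpa [Algebra.TensorProduct.algebraMap_apply] using e.commutes x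
    · rw [Iso.refl_hom, Category.id_comp]
      rfl
  have hpb := (isPullback_SpecMap_of_isPushout _ _ _ _ hpo).flip
  haveI : IsNoetherianRing R₀ := Algebra.FiniteType.isNoetherianRing ℤ R₀
  haveI : IsNoetherianRing S₀ := Algebra.FiniteType.isNoetherianRing R₀ S₀
  haveI : LocallyOfFiniteType (Spec.map (CommRingCat.ofHom (algebraMap R₀ S₀))) := by
    rw [HasRingHomProperty.Spec_iff (P := @LocallyOfFiniteType)]
    exact RingHom.finiteType_algebraMap.mpr inferInstance
  have key := (Groth.Agent.S9358.result (Spec.map (CommRingCat.ofHom (algebraMap R₀ S₀)))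
    (Spec.map (CommRingCat.ofHom (algebraMap R₀ R))) (Spec.map (CommRingCat.ofHom ψ))
    (Spec.map (CommRingCat.ofHom (algebraMap R S))) hpb n).1
  have hset : {q : Spec (CommRingCat.of S) |
      FlatMor.fibreDimAt (Spec.map (CommRingCat.ofHom (algebraMap R S))) q ≤ n} =
      (Spec.map (CommRingCat.ofHom ψ)).base ⁻¹' {q₀ : Spec (CommRingCat.of S₀) |
        FlatMor.fibreDimAt (Spec.map (CommRingCat.ofHom (algebraMap R₀ S₀))) q₀ ≤ n} := by
    ext q
    simp only [Set.mem_ofPred_eq, Set.mem_preimage]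
    rw [key q]
  rw [hset]
  have hop := isOpen_setOf_fibreDimAt_le (Spec.map (CommRingCat.ofHom (algebraMap R₀ S₀))) n
  haveI : TopologicalSpace.NoetherianSpace ↥(Spec (CommRingCat.of S₀)) :=
    inferInstanceAs (TopologicalSpace.NoetherianSpace (PrimeSpectrum S₀))
  exact QuasiCompact.isCompact_preimage (f := Spec.map (CommRingCat.ofHom ψ)) _ hop
    (TopologicalSpace.NoetherianSpace.isCompact _)

variable {X Y S W V : Scheme.{u}}

/-- post-composition with a monomorphism does not change the local fibre dimension. -/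
theorem fibreDimAt_comp_mono (h : W ⟶ V) (j : V ⟶ S) [Mono j] [LocallyOfFiniteType (h ≫ j)]
    (w : W) : FlatMor.fibreDimAt (h ≫ j) w = FlatMor.fibreDimAt h w := by
  have sq : IsPullback (𝟙 W) h (h ≫ j) j := IsPullback.of_horiz_isIso_mono ⟨by simp⟩
  have := (Groth.Agent.S9358.result (h ≫ j) j (𝟙 W) h sq 0).1 w
  rw [this]
  rfl

open scoped Set.Notation in
/-- pre-composition with an open immersion does not change the local fibre dimension. -/
theorem fibreDimAt_comp_openImmersion (ι : W ⟶ X) [IsOpenImmersion ι] (f : X ⟶ S) (w : W) :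
    FlatMor.fibreDimAt (ι ≫ f) w = FlatMor.fibreDimAt f (ι.base w) := by
  have h1 := fibreDimAt_comp_preimm ι f w (Set.range ι.base) rfl ⟨Set.mem_range_self w, rfl⟩
  have h2 := fibreDimAt_comp_preimm (𝟙 X) f (ι.base w) Set.univ
    (by simp) ⟨Set.mem_univ _, rfl⟩
  rw [Category.id_comp] at h2
  rw [h1, h2]
  have hsub : Set.range ι.base ∩ f.base ⁻¹' {f.base (ι.base w)} ⊆
      Set.univ ∩ f.base ⁻¹' {f.base ((𝟙 X : X ⟶ X).base (ι.base w))} :=
    fun a ha => ⟨Set.mem_univ _, ha.2⟩
  have hop : IsOpen ((Set.univ ∩ f.base ⁻¹' {f.base ((𝟙 X : X ⟶ X).base (ι.base w))}) ↓∩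
      (Set.range ι.base ∩ f.base ⁻¹' {f.base (ι.base w)})) := by
    have : ((Set.univ ∩ f.base ⁻¹' {f.base ((𝟙 X : X ⟶ X).base (ι.base w))}) ↓∩
        (Set.range ι.base ∩ f.base ⁻¹' {f.base (ι.base w)})) = Subtype.val ⁻¹' Set.range ι.base := by
      ext a
      simp only [Set.mem_preimage, Set.mem_inter_iff]
      exact ⟨fun h => h.1, fun h => ⟨h, a.2.2⟩⟩
    rw [this]
    exact ι.isOpenEmbedding.isOpen_range.preimage continuous_subtype_val
  exact Groth.Agent.Lib.Helper62.DimLoc.localDim_eq_of_isOpenEmbedding _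
    (Topology.IsOpenEmbedding.inclusion hsub hop) _

/-- compactness of the locus inside an affine open mapping into an affine open. -/
theorem isCompact_setOf_fibreDimAt_le_inter_affine (f : X ⟶ S) [LocallyOfFinitePresentation f]
    (n : ℕ) {V : S.Opens} (hV : IsAffineOpen V) {W : X.Opens} (hW : IsAffineOpen W)
    (e : W ≤ f ⁻¹ᵁ V) :
    IsCompact ({x : X | FlatMor.fibreDimAt f x ≤ n} ∩ (W : Set X)) := by
  letI : Algebra Γ(S, V) Γ(X, W) := (f.appLE V W e).hom.toAlgebra
  haveI : Algebra.FinitePresentation Γ(S, V) Γ(X, W) := f.finitePresentation_appLE hV hW e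
  have hA := isCompact_setOf_fibreDimAt_le_Spec Γ(S, V) Γ(X, W) n
  have hcomm := IsAffineOpen.SpecMap_appLE_fromSpec f hV hW e
  have key : ∀ q : Spec Γ(X, W), FlatMor.fibreDimAt (Spec.map (f.appLE V W e)) q =
      FlatMor.fibreDimAt f (hW.fromSpec.base q) := by
    intro q
    haveI : LocallyOfFiniteType (Spec.map (f.appLE V W e) ≫ hV.fromSpec) := by
      rw [hcomm]; infer_instance
    rw [← fibreDimAt_comp_mono (Spec.map (f.appLE V W e)) hV.fromSpec q,
      congrArg (fun g => FlatMor.fibreDimAt g q) hcomm]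
    exact fibreDimAt_comp_openImmersion hW.fromSpec f q
  have hset : {x : X | FlatMor.fibreDimAt f x ≤ n} ∩ (W : Set X) =
      hW.fromSpec.base '' {q : Spec Γ(X, W) |
        FlatMor.fibreDimAt (Spec.map (f.appLE V W e)) q ≤ n} := by
    ext x
    constructor
    · rintro ⟨hx, hxW⟩
      have : x ∈ Set.range hW.fromSpec.base := by rw [hW.range_fromSpec]; exact hxW
      obtain ⟨q, rfl⟩ := this
      exact ⟨q, by simpa only [Set.mem_ofPred_eq, key q] using hx, rfl⟩
    · rintro ⟨q, hq, rfl⟩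
      refine ⟨by simpa only [Set.mem_ofPred_eq, key q] using hq, ?_⟩
      have : hW.fromSpec.base q ∈ Set.range hW.fromSpec.base := Set.mem_range_self q
      rwa [hW.range_fromSpec] at this
  rw [hset]
  exact hA.image hW.fromSpec.continuous

/-- **retrocompactness** of `{x | dim_x X_{f x} ≤ n}` for `f` locally of finite presentation. -/
theorem isRetrocompact_setOf_fibreDimAt_le (f : X ⟶ S) [LocallyOfFinitePresentation f] (n : ℕ) :
    IsRetrocompact {x : X | FlatMor.fibreDimAt f x ≤ n} := by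
  intro K hK hKo
  have hloc : ∀ x ∈ K, ∃ W : X.Opens, x ∈ W ∧ (W : Set X) ⊆ K ∧
      IsCompact ({x : X | FlatMor.fibreDimAt f x ≤ n} ∩ (W : Set X)) := by
    intro x hxK
    obtain ⟨_, ⟨V, hV : IsAffineOpen V, rfl⟩, hfxV, -⟩ :=
      (S.isBasis_affineOpens).exists_subset_of_mem_open (Set.mem_univ (f.base x)) isOpen_univ
    obtain ⟨_, ⟨W, hW : IsAffineOpen W, rfl⟩, hxW, hWsub⟩ :=
      (X.isBasis_affineOpens).exists_subset_of_mem_open
        (show x ∈ ((f ⁻¹ᵁ V : X.Opens) : Set X) ∩ K from ⟨hfxV, hxK⟩)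
        ((f ⁻¹ᵁ V).isOpen.inter hKo)
    exact ⟨W, hxW, fun a ha => (hWsub ha).2,
      isCompact_setOf_fibreDimAt_le_inter_affine f n hV hW (fun a ha => (hWsub ha).1)⟩
  choose W hxW hWK hWc using hloc
  obtain ⟨t, ht⟩ := hK.elim_finite_subcover (fun x : K => ((W x.1 x.2 : X.Opens) : Set X))
    (fun x => (W x.1 x.2).isOpen) (fun x hx => Set.mem_iUnion.mpr ⟨⟨x, hx⟩, hxW x hx⟩)
  have hset : {x : X | FlatMor.fibreDimAt f x ≤ n} ∩ K =
      ⋃ x ∈ t, {x : X | FlatMor.fibreDimAt f x ≤ n} ∩ ((W x.1 x.2 : X.Opens) : Set X) := by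
    ext a
    simp only [Set.mem_inter_iff, Set.mem_iUnion, exists_prop]
    constructor
    · rintro ⟨ha, haK⟩
      obtain ⟨x, hxt, hax⟩ := Set.mem_iUnion₂.mp (ht haK)
      exact ⟨x, hxt, ha, hax⟩
    · rintro ⟨x, hxt, ha, hax⟩
      exact ⟨ha, hWK x.1 x.2 hax⟩
  rw [hset]
  exact t.finite_toSet.isCompact_biUnion (fun x _ => hWc x.1 x.2)

end Groth.Agent.Lib.Helper73.FibreDimRetro
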