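/-
helper73: heights along going-down / integral extensions.
-/
import Mathlib.RingTheory.IntegralClosure.GoingDown
import Mathlib.RingTheory.Ideal.KrullsHeightTheorem
import Mathlib.RingTheory.Ideal.GoingUp

set_option linter.style.haveILetI false

namespace Groth.Agent.Lib.Helper73

/-- Going down implies `ht p ≤ ht P` for `P` over `p`. -/
theorem height_le_height_of_hasGoingDown {R S : Type*} [CommRing R] [CommRing S] [Algebra R S]
    [Algebra.HasGoingDown R S] (p : Ideal R) [p.IsPrime] (P : Ideal S) [P.IsPrime] [P.LiesOver p] :
    p.height ≤ P.height := by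
  have h1 : p.height = Order.height (⟨p, inferInstance⟩ : PrimeSpectrum R) :=
    PrimeSpectrum.height_eq_orderHeight ⟨p, inferInstance⟩
  have h2 : P.height = Order.height (⟨P, inferInstance⟩ : PrimeSpectrum S) :=
    PrimeSpectrum.height_eq_orderHeight ⟨P, inferInstance⟩
  rw [h1, h2]
  apply Order.height_le
  intro l hl
  haveI : P.LiesOver l.last.asIdeal := by rw [hl]; infer_instance
  obtain ⟨L, hlen, hlast, -⟩ := Ideal.exists_ltSeries_of_hasGoingDown l P
  rw [← hlen]
  exact Order.length_le_height (le_of_eq hlast)

/-- Integral extension: `ht P ≤ ht (P ∩ R)`. -/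
theorem height_le_height_under_of_isIntegral {R S : Type*} [CommRing R] [CommRing S] [Algebra R S]
    [Algebra.IsIntegral R S] (P : Ideal S) [P.IsPrime] :
    P.height ≤ (P.under R).height := by
  have hsm : StrictMono (PrimeSpectrum.comap (algebraMap R S)) := by
    intro P Q hPQ
    exact Ideal.IsIntegral.comap_lt_comap (R := R) (I := P.asIdeal) (J := Q.asIdeal) hPQ
  have := Order.height_le_height_apply_of_strictMono _ hsm ⟨P, inferInstance⟩
  rw [← PrimeSpectrum.height_eq_orderHeight, ← PrimeSpectrum.height_eq_orderHeight] at this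
  exact this

end Groth.Agent.Lib.Helper73
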