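import Mathlib.AlgebraicGeometry.Noetherian
import Mathlib.AlgebraicGeometry.Morphisms.FinitePresentation
import Mathlib.RingTheory.Spectrum.Prime.ConstructibleSet
set_option linter.style.haveILetI false
set_option autoImplicit false
universe u
open CategoryTheory AlgebraicGeometry Topology
open scoped Set.Notation

namespace Groth.Agent.Lib.Helper73.ConstructibleNhds

/-- points of the closure of a constructible subset of `Spec R` are specializations of points of
the set. -/
theorem exists_specializes_of_mem_closure_of_isConstructible {R : Type u} [CommRing R]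
    {E : Set (PrimeSpectrum R)} (hE : IsConstructible E) {y : PrimeSpectrum R}
    (hy : y ∈ closure E) : ∃ e ∈ E, e ⤳ y := by
  obtain ⟨S, _, g, rfl⟩ := PrimeSpectrum.exists_range_eq_of_isConstructible hE
  rw [PrimeSpectrum.closure_range_comap, PrimeSpectrum.mem_zeroLocus] at hy
  obtain ⟨Q, -, hQ, hQle⟩ := Ideal.exists_ideal_comap_le_prime (f := g) y.asIdeal (⊥ : Ideal S)
    (by rw [← RingHom.ker_eq_comap_bot]; exact hy)
  refine ⟨PrimeSpectrum.comap g ⟨Q, hQ⟩, ⟨_, rfl⟩, ?_⟩
  rw [← PrimeSpectrum.le_iff_specializes]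
  exact hQle

/-- a locally constructible subset of a scheme containing all generizations of `y` is a
neighbourhood of `y`. -/
theorem mem_nhds_of_isLocallyConstructible {Y : Scheme.{u}} {E : Set Y}
    (hE : IsLocallyConstructible E) (y : Y) (h : ∀ z : Y, z ⤳ y → z ∈ E) : E ∈ nhds y := by
  obtain ⟨_, ⟨V, hV : IsAffineOpen V, rfl⟩, hyV, -⟩ :=
    (Y.isBasis_affineOpens).exists_subset_of_mem_open (Set.mem_univ y) isOpen_univ
  set j := hV.fromSpec with hj
  have hjemb : IsOpenEmbedding j.base := j.isOpenEmbedding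
  have hE' : IsConstructible (j.base ⁻¹' E) :=
    (hE.preimage_of_isOpenEmbedding hjemb).isConstructible
  have hrange : Set.range j.base = V := hV.range_fromSpec
  obtain ⟨y', hy'⟩ : y ∈ Set.range j.base := by rw [hrange]; exact hyV
  have hnot : y' ∉ closure (j.base ⁻¹' E)ᶜ := by
    intro hmem
    obtain ⟨e, he, hsp⟩ := exists_specializes_of_mem_closure_of_isConstructible hE'.compl hmem
    apply he
    change j.base e ∈ E
    apply h
    rw [← hy']
    exact hsp.map j.continuous
  have hW : IsOpen (closure (j.base ⁻¹' E)ᶜ)ᶜ := isClosed_closure.isOpen_compl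
  have hsub : (closure (j.base ⁻¹' E)ᶜ)ᶜ ⊆ j.base ⁻¹' E := by
    intro a ha
    by_contra hcon
    exact ha (subset_closure hcon)
  have hopen : IsOpen (j.base '' (closure (j.base ⁻¹' E)ᶜ)ᶜ) := hjemb.isOpenMap _ hW
  refine Filter.mem_of_superset (hopen.mem_nhds ⟨y', hnot, hy'⟩) ?_
  rintro _ ⟨a, ha, rfl⟩
  exact hsub ha

/-- closed subsets of locally Noetherian schemes are locally constructible. -/
theorem isLocallyConstructible_of_isClosed {X : Scheme.{u}} [IsLocallyNoetherian X] {F : Set X}
    (hF : IsClosed F) : IsLocallyConstructible F := by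
  intro x
  obtain ⟨_, ⟨U, hU : IsAffineOpen U, rfl⟩, hxU, -⟩ :=
    (X.isBasis_affineOpens).exists_subset_of_mem_open (Set.mem_univ x) isOpen_univ
  haveI : IsNoetherianRing Γ(X, U) := IsLocallyNoetherian.component_noetherian ⟨U, hU⟩
  haveI : TopologicalSpace.NoetherianSpace ↥(U : Scheme.{u}) := noetherianSpace_of_isAffineOpen U hU
  refine ⟨U, U.isOpen.mem_nhds hxU, U.isOpen, ?_⟩
  have hcl : IsClosed ((U : Set X) ↓∩ F) := hF.preimage continuous_subtype_val
  have hretro : IsRetrocompact ((U : Set X) ↓∩ F)ᶜ := fun K _ _ =>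
    TopologicalSpace.NoetherianSpace.isCompact (α := ↥(U : Scheme.{u})) _
  have := (hretro.isConstructible hcl.isOpen_compl).compl
  rwa [compl_compl] at this

theorem isLocallyConstructible_compl {T : Type*} [TopologicalSpace T] {s : Set T}
    (hs : IsLocallyConstructible s) : IsLocallyConstructible sᶜ := by
  intro x
  obtain ⟨U, hU, hUo, hUs⟩ := hs x
  refine ⟨U, hU, hUo, ?_⟩
  have : (U ↓∩ sᶜ) = (U ↓∩ s)ᶜ := rfl
  rw [this]
  exact hUs.compl

end Groth.Agent.Lib.Helper73.ConstructibleNhds
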