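/-
helper73: dimension theory of finite type domains over a field.
* `height_add_trdeg_eq_of_field`: `ht q + trdeg_k (S/q) = trdeg_k S` (S f.t. k-domain, q prime).
* `HtTrdeg.mvPolynomial`: the same for polynomial rings, by induction on the number of variables.
* `exists_trdeg_eq_ringKrullDim`: `dim S = trdeg_k S = ht m` for all maximal `m`.
* `trdeg_quotient_eq_zero_of_isMaximal`, `height_eq_trdeg_of_isMaximal`, `trdeg_fractionRing`.
-/
import Groth.Agent.Lib.Helper73.DimFormula
import Mathlib.RingTheory.NoetherNormalization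
import Mathlib.RingTheory.IntegralClosure.GoingDown
import Mathlib.RingTheory.Jacobson.Ring
import Mathlib.RingTheory.Polynomial.UniqueFactorization
import Mathlib.RingTheory.Localization.Integral
import Mathlib.RingTheory.Polynomial.RationalRoot

set_option linter.style.haveILetI false
universe u v
open Polynomial Cardinal

namespace Groth.Agent.Lib.Helper73.DimFormula

variable (k : Type u) [Field k]

/-- The property: every prime `q` of `A` satisfies `ht q + trdeg_k (A/q) = n`. -/
def HtTrdeg (n : ℕ) (A : Type v) [CommRing A] [Algebra k A] : Prop :=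
  ∀ (q : Ideal A) [q.IsPrime], (q.height : Cardinal.{v}) + Algebra.trdeg k (A ⧸ q) = n

theorem HtTrdeg.of_algEquiv {n : ℕ} {A A' : Type v} [CommRing A] [Algebra k A] [CommRing A']
    [Algebra k A'] (e : A ≃ₐ[k] A') (h : HtTrdeg k n A') : HtTrdeg k n A := by
  intro q _
  haveI : (q.map (e : A →+* A')).IsPrime := by
    have : q.map (e : A →+* A') = q.map e.toRingEquiv := rfl
    rw [this]
    exact Ideal.map_isPrime_of_equiv e.toRingEquiv
  have h1 := h (q.map (e : A →+* A'))
  have h2 : (q.map (e : A →+* A')).height = q.height := RingEquiv.height_map e.toRingEquiv q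
  have h3 : Algebra.trdeg k (A ⧸ q) = Algebra.trdeg k (A' ⧸ q.map (e : A →+* A')) :=
    (Ideal.quotientEquivAlg q (q.map (e : A →+* A')) e rfl).trdeg_eq
  rw [h3, ← h2]
  exact h1

theorem HtTrdeg.field : HtTrdeg k 0 k := by
  intro q _
  have hq : q = ⊥ := (Ideal.eq_bot_or_top q).resolve_right (Ideal.IsPrime.ne_top inferInstance)
  have h1 : q.height = 0 := by rw [hq]; exact Ideal.height_eq_zero_iff_eq_bot.mpr rfl
  have h2 : Algebra.trdeg k (k ⧸ q) = 0 := by
    have := trdeg_le_of_surjective (Ideal.Quotient.mkₐ k q) (Ideal.Quotient.mkₐ_surjective k q)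
    have h0 : Algebra.trdeg k k = 0 := trdeg_eq_zero
    rw [h0] at this
    exact le_antisymm this zero_le
  rw [h1, h2]; simp

theorem HtTrdeg.polynomial {n : ℕ} {B : Type v} [CommRing B] [IsNoetherianRing B] [Algebra k B]
    (h : HtTrdeg k n B) : HtTrdeg k (n + 1) B[X] := by
  intro q _
  set p : Ideal B := q.under B with hp
  haveI : q.LiesOver p := ⟨rfl⟩
  have hx : Function.Surjective (Polynomial.aeval (Polynomial.X : B[X]) : B[X] →ₐ[B] B[X]) := by
    rw [Polynomial.aeval_X_left]
    exact Function.surjective_id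
  have h1 := height_comap_aeval_add_trdeg (Polynomial.X : B[X]) hx p q
  have h2 : q.comap (Polynomial.aeval (Polynomial.X : B[X]) : B[X] →ₐ[B] B[X]).toRingHom = q := by
    rw [Polynomial.aeval_X_left]
    exact Ideal.comap_id q
  rw [h2] at h1
  have h3 := h p
  have h4 : Algebra.trdeg k (B ⧸ p) + Algebra.trdeg (B ⧸ p) (B[X] ⧸ q) =
      Algebra.trdeg k (B[X] ⧸ q) := by
    haveI : Nontrivial (B ⧸ p) := Ideal.Quotient.nontrivial_iff.mpr (Ideal.IsPrime.ne_top inferInstance)
    exact trdeg_add_eq k (B ⧸ p) (A := B[X] ⧸ q)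
  rw [← h4]
  calc (q.height : Cardinal.{v}) + (Algebra.trdeg k (B ⧸ p) + Algebra.trdeg (B ⧸ p) (B[X] ⧸ q))
      = ((q.height : Cardinal.{v}) + Algebra.trdeg (B ⧸ p) (B[X] ⧸ q)) + Algebra.trdeg k (B ⧸ p) := by
        ring
    _ = ((p.height : Cardinal.{v}) + 1) + Algebra.trdeg k (B ⧸ p) := by rw [h1]
    _ = ((p.height : Cardinal.{v}) + Algebra.trdeg k (B ⧸ p)) + 1 := by ring
    _ = ((n + 1 : ℕ) : Cardinal.{v}) := by rw [h3]; push_cast; rfl

theorem HtTrdeg.mvPolynomial (n : ℕ) : HtTrdeg k n (MvPolynomial (Fin n) k) := by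
  induction n with
  | zero => exact HtTrdeg.of_algEquiv k (MvPolynomial.isEmptyAlgEquiv k (Fin 0)) (HtTrdeg.field k)
  | succ n ih =>
    exact HtTrdeg.of_algEquiv k (MvPolynomial.finSuccEquiv k n) (HtTrdeg.polynomial k ih)

/-- trdeg is unchanged by an integral (algebraic) injective extension on top. -/
theorem trdeg_eq_of_isAlgebraic_top {A B : Type u} [CommRing A] [CommRing B] [Nontrivial A]
    [Algebra k A] [Algebra k B] [Algebra A B] [IsScalarTower k A B] [FaithfulSMul A B]
    [NoZeroDivisors B] [Algebra.IsAlgebraic A B] :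
    Algebra.trdeg k B = Algebra.trdeg k A := by
  haveI : Nontrivial B := (FaithfulSMul.algebraMap_injective A B).nontrivial
  have h := trdeg_add_eq k A (A := B)
  have h0 : Algebra.trdeg A B = 0 := trdeg_eq_zero
  rw [h0, add_zero] at h
  exact h.symm

/-- **Dimension formula over a field, with equality**: for a domain `S` of finite type over a field
`k` and a prime `q`, `ht q + trdeg_k (S/q) = trdeg_k S`. -/
theorem height_add_trdeg_eq_of_field (S : Type u) [CommRing S] [IsDomain S] [Algebra k S]
    [Algebra.FiniteType k S] (q : Ideal S) [q.IsPrime] :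
    (q.height : Cardinal.{u}) + Algebra.trdeg k (S ⧸ q) = Algebra.trdeg k S := by
  obtain ⟨n, g, hinj, hfin⟩ := exists_finite_inj_algHom_of_fg k S
  letI : Algebra (MvPolynomial (Fin n) k) S := g.toRingHom.toAlgebra
  haveI : IsScalarTower k (MvPolynomial (Fin n) k) S :=
    IsScalarTower.of_algebraMap_eq' g.comp_algebraMap.symm
  haveI : FaithfulSMul (MvPolynomial (Fin n) k) S := (faithfulSMul_iff_algebraMap_injective _ _).mpr hinj
  haveI : Module.Finite (MvPolynomial (Fin n) k) S := hfin
  haveI : Algebra.IsIntegral (MvPolynomial (Fin n) k) S := inferInstance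
  haveI : IsNoetherianRing S := Algebra.FiniteType.isNoetherianRing k S
  set q0 : Ideal (MvPolynomial (Fin n) k) := q.under (MvPolynomial (Fin n) k) with hq0
  haveI : q.LiesOver q0 := ⟨rfl⟩
  -- going down: ht q0 ≤ ht q
  have hgd : q0.height ≤ q.height := by
    rw [Ideal.height_eq_height_add_of_liesOver_of_hasGoingDown q0 q]
    exact le_self_add
  -- incomparability: ht q ≤ ht q0
  have hgu : q.height ≤ q0.height := by
    have hsm : StrictMono (PrimeSpectrum.comap (algebraMap (MvPolynomial (Fin n) k) S)) := by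
      intro P Q hPQ
      exact Ideal.IsIntegral.comap_lt_comap (R := MvPolynomial (Fin n) k) (I := P.asIdeal)
        (J := Q.asIdeal) hPQ
    have := Order.height_le_height_apply_of_strictMono _ hsm ⟨q, inferInstance⟩
    rw [← PrimeSpectrum.height_eq_orderHeight, ← PrimeSpectrum.height_eq_orderHeight] at this
    exact this
  have hht : q.height = q0.height := le_antisymm hgu hgd
  -- residue transcendence degrees agree
  haveI : Algebra.IsIntegral (MvPolynomial (Fin n) k ⧸ q0) (S ⧸ q) := inferInstance
  have h1 : Algebra.trdeg k (S ⧸ q) = Algebra.trdeg k (MvPolynomial (Fin n) k ⧸ q0) :=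
    trdeg_eq_of_isAlgebraic_top k
  have h2 : Algebra.trdeg k S = Algebra.trdeg k (MvPolynomial (Fin n) k) :=
    trdeg_eq_of_isAlgebraic_top k
  have h3 : Algebra.trdeg k (MvPolynomial (Fin n) k) = n := by
    rw [MvPolynomial.trdeg_of_isDomain]; simp
  have h4 := HtTrdeg.mvPolynomial k n q0
  rw [h2, h3, ← h4, h1, hht]

theorem trdeg_fractionRing (S : Type u) [CommRing S] [IsDomain S] [Algebra k S] :
    Algebra.trdeg k (FractionRing S) = Algebra.trdeg k S := by
  haveI : Algebra.IsAlgebraic S (FractionRing S) := IsLocalization.isAlgebraic (FractionRing S) (nonZeroDivisors S)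
  exact trdeg_eq_of_isAlgebraic_top k

theorem trdeg_quotient_eq_zero_of_isMaximal (S : Type u) [CommRing S] [Algebra k S]
    [Algebra.FiniteType k S] (m : Ideal S) [hm : m.IsMaximal] :
    Algebra.trdeg k (S ⧸ m) = 0 := by
  letI : Field (S ⧸ m) := Ideal.Quotient.field m
  haveI : Algebra.FiniteType k (S ⧸ m) :=
    Algebra.FiniteType.of_surjective (Ideal.Quotient.mkₐ k m) (Ideal.Quotient.mkₐ_surjective k m)
  haveI : Module.Finite k (S ⧸ m) := finite_of_finite_type_of_isJacobsonRing k (S ⧸ m)
  haveI : Algebra.IsAlgebraic k (S ⧸ m) := Algebra.IsAlgebraic.of_finite k (S ⧸ m)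
  exact trdeg_eq_zero

theorem height_eq_trdeg_of_isMaximal (S : Type u) [CommRing S] [IsDomain S] [Algebra k S]
    [Algebra.FiniteType k S] (m : Ideal S) [hm : m.IsMaximal] :
    (m.height : Cardinal.{u}) = Algebra.trdeg k S := by
  have h := height_add_trdeg_eq_of_field k S m
  rwa [trdeg_quotient_eq_zero_of_isMaximal, add_zero] at h

/-- For a domain of finite type over a field, `dim S = trdeg_k S` (a natural number), and every
maximal ideal has this height. -/
theorem exists_trdeg_eq_ringKrullDim (S : Type u) [CommRing S] [IsDomain S] [Algebra k S]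
    [Algebra.FiniteType k S] :
    ∃ n : ℕ, Algebra.trdeg k S = n ∧ ringKrullDim S = n ∧
      (∀ (m : Ideal S) [m.IsMaximal], m.height = n) ∧
      ∀ (q : Ideal S) [q.IsPrime], q.height ≤ n := by
  have hlt : Algebra.trdeg k S < ℵ₀ := trdeg_lt_aleph0_of_finiteType
  obtain ⟨n, hn⟩ := Cardinal.lt_aleph0.mp hlt
  have hmax : ∀ (m : Ideal S) [m.IsMaximal], m.height = n := by
    intro m _
    have := height_eq_trdeg_of_isMaximal k S m
    rw [hn] at this
    exact_mod_cast this
  have hprime : ∀ (q : Ideal S) [q.IsPrime], q.height ≤ n := by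
    intro q _
    have := height_add_trdeg_eq_of_field k S q
    rw [hn] at this
    have h2 : (q.height : Cardinal.{u}) ≤ n := by
      rw [← this]; exact le_self_add
    exact_mod_cast h2
  refine ⟨n, hn, ?_, hmax, hprime⟩
  apply le_antisymm
  · rw [ringKrullDim_le_iff_height_le]
    intro q hq
    exact_mod_cast hprime q
  · obtain ⟨m, hm⟩ := Ideal.exists_maximal S
    have := Ideal.height_le_ringKrullDim_of_ne_top hm.ne_top
    rw [hmax m] at this
    exact_mod_cast this

end Groth.Agent.Lib.Helper73.DimFormula
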