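/-
helper73: dictionary between points of affine opens of schemes and prime ideals, for dimension
theory.  For `x ∈ U` affine open, `q_x := (hU.primeIdealOf ⟨x,hx⟩).asIdeal`:
* `ker_evaluation`: `q_x = ker (Γ(X,U) → κ(x))`;
* `ringKrullDim_stalk_eq_height`: `dim O_{X,x} = ht q_x`;
* `exists_evaluation_frac`: `κ(x)` consists of fractions of evaluations;
* `evaluation_residueFieldMap_appLE`: naturality square for `f.appLE`;
* `exists_primeIdealOf_eq`, `primeIdealOf_le_iff_specializes`: points of `U` ↔ primes, order;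
* `liesOver_primeIdealOf`, `trdeg_residueFieldMap_eq`:
  `trdeg (κ(x)/κ(f x)) = trdeg (Γ(Y,V)/p) (Γ(X,U)/q)`.
* `DimFormula.trdeg_eq_trdeg_quotient_ker`: the underlying algebra lemma.
-/
import Groth.Agent.Lib.Helper73.DimLocal
import Mathlib.AlgebraicGeometry.ResidueField
import Mathlib.AlgebraicGeometry.AffineScheme
import Mathlib.AlgebraicGeometry.Properties

set_option linter.style.haveILetI false
universe u v w
open CategoryTheory AlgebraicGeometry Cardinal

namespace Groth.Agent.Lib.Helper73.DimFormula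

/-- General comparison: residue extension `L/K` generated by the images of `B`, `A`; then
`trdeg_K L = trdeg (A/p) (B/q)` where `p`, `q` are the kernels. -/
theorem trdeg_eq_trdeg_quotient_ker {A : Type v} {B K L : Type u} [CommRing A] [CommRing B]
    [Field K] [Field L] [Algebra A B] [Algebra K L] (α : A →+* K) (β : B →+* L)
    (hsq : (algebraMap K L).comp α = β.comp (algebraMap A B))
    (hα : ∀ k : K, ∃ a s : A, α s ≠ 0 ∧ k * α s = α a)
    (hβ : ∀ l : L, ∃ b s : B, β s ≠ 0 ∧ l * β s = β b)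
    (p : Ideal A) (q : Ideal B) [p.IsPrime] [q.IsPrime] [q.LiesOver p]
    (hp : RingHom.ker α = p) (hq : RingHom.ker β = q) :
    Algebra.trdeg K L = Algebra.trdeg (A ⧸ p) (B ⧸ q) := by
  subst hp hq
  letI : Algebra (A ⧸ RingHom.ker α) K := (Ideal.Quotient.lift (RingHom.ker α) α (fun a ha => ha)).toAlgebra
  letI : Algebra (B ⧸ RingHom.ker β) L := (Ideal.Quotient.lift (RingHom.ker β) β (fun a ha => ha)).toAlgebra
  letI : Algebra (A ⧸ RingHom.ker α) L :=
    ((algebraMap K L).comp (algebraMap (A ⧸ RingHom.ker α) K)).toAlgebra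
  haveI : IsScalarTower (A ⧸ RingHom.ker α) K L := IsScalarTower.of_algebraMap_eq (fun _ => rfl)
  haveI : IsScalarTower (A ⧸ RingHom.ker α) (B ⧸ RingHom.ker β) L := by
    refine IsScalarTower.of_algebraMap_eq ?_
    intro d
    obtain ⟨a, rfl⟩ := Ideal.Quotient.mk_surjective d
    change algebraMap K L (α a) = β (algebraMap A B a)
    exact RingHom.congr_fun hsq a
  haveI : FaithfulSMul (A ⧸ RingHom.ker α) K := by
    rw [faithfulSMul_iff_algebraMap_injective]
    exact RingHom.lift_injective_of_ker_le_ideal (RingHom.ker α) (fun a ha => ha) le_rfl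
  haveI : FaithfulSMul (B ⧸ RingHom.ker β) L := by
    rw [faithfulSMul_iff_algebraMap_injective]
    exact RingHom.lift_injective_of_ker_le_ideal (RingHom.ker β) (fun a ha => ha) le_rfl
  haveI : Nontrivial (A ⧸ RingHom.ker α) :=
    Ideal.Quotient.nontrivial_iff.mpr (Ideal.IsPrime.ne_top inferInstance)
  haveI : Algebra.IsAlgebraic (A ⧸ RingHom.ker α) K := by
    constructor
    intro k
    obtain ⟨a, s, hs, hk⟩ := hα k
    refine ⟨Polynomial.C (Ideal.Quotient.mk _ s) * Polynomial.X - Polynomial.C (Ideal.Quotient.mk _ a), ?_, ?_⟩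
    · intro h0
      have := congrArg (fun g => Polynomial.coeff g 1) h0
      simp only [Polynomial.coeff_sub, Polynomial.coeff_C_mul, Polynomial.coeff_X_one, mul_one,
        Polynomial.coeff_C_succ, sub_zero, Polynomial.coeff_zero] at this
      apply hs
      rw [Ideal.Quotient.eq_zero_iff_mem] at this
      exact this
    · simp only [map_sub, map_mul, Polynomial.aeval_C, Polynomial.aeval_X]
      change α s * k - α a = 0
      rw [mul_comm, hk, sub_self]
  haveI : Algebra.IsAlgebraic (B ⧸ RingHom.ker β) L := by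
    constructor
    intro k
    obtain ⟨a, s, hs, hk⟩ := hβ k
    refine ⟨Polynomial.C (Ideal.Quotient.mk _ s) * Polynomial.X - Polynomial.C (Ideal.Quotient.mk _ a), ?_, ?_⟩
    · intro h0
      have := congrArg (fun g => Polynomial.coeff g 1) h0
      simp only [Polynomial.coeff_sub, Polynomial.coeff_C_mul, Polynomial.coeff_X_one, mul_one,
        Polynomial.coeff_C_succ, sub_zero, Polynomial.coeff_zero] at this
      apply hs
      rw [Ideal.Quotient.eq_zero_iff_mem] at this
      exact this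
    · simp only [map_sub, map_mul, Polynomial.aeval_C, Polynomial.aeval_X]
      change β s * k - β a = 0
      rw [mul_comm, hk, sub_self]
  exact trdeg_eq_of_algebraic_square

/-- Congruence for the residue transcendence degree in the ideals. -/
theorem trdeg_quotient_congr {A : Type v} {B : Type u} [CommRing A] [CommRing B] [Algebra A B]
    {p₀ p₁ : Ideal A} {q₀ q₁ : Ideal B} [q₀.LiesOver p₀] [q₁.LiesOver p₁] (hq : q₀ = q₁)
    (hp : p₀ = p₁) :
    Algebra.trdeg (A ⧸ p₀) (B ⧸ q₀) = Algebra.trdeg (A ⧸ p₁) (B ⧸ q₁) := by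
  subst hq hp; rfl

end Groth.Agent.Lib.Helper73.DimFormula

namespace Groth.Agent.Lib.Helper73.SchemeDim

open Groth.Agent.Lib.Helper73.DimFormula

variable {X Y : Scheme.{u}}

/-- (P1) the kernel of evaluation at `x` is the prime ideal of `x`. -/
theorem ker_evaluation {U : X.Opens} (hU : IsAffineOpen U) (x : X) (hx : x ∈ U) :
    RingHom.ker (X.evaluation U x hx).hom = (hU.primeIdealOf ⟨x, hx⟩).asIdeal := by
  ext s
  rw [RingHom.mem_ker, hU.primeIdealOf_eq_map_closedPoint]
  change X.residue x (X.presheaf.germ U x hx s) = 0 ↔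
    (X.presheaf.germ U x hx).hom s ∈ IsLocalRing.maximalIdeal _
  exact IsLocalRing.residue_eq_zero_iff _

/-- (P3) dimension of the stalk = height of the prime. -/
theorem ringKrullDim_stalk_eq_height {U : X.Opens} (hU : IsAffineOpen U) (x : X) (hx : x ∈ U) :
    ringKrullDim (X.presheaf.stalk x) = (hU.primeIdealOf ⟨x, hx⟩).asIdeal.height := by
  letI := X.presheaf.algebra_section_stalk ⟨x, hx⟩
  haveI := hU.isLocalization_stalk ⟨x, hx⟩
  exact IsLocalization.AtPrime.ringKrullDim_eq_height (hU.primeIdealOf ⟨x, hx⟩).asIdeal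
    (X.presheaf.stalk x)

/-- (P2) every element of the residue field is a fraction of evaluations. -/
theorem exists_evaluation_frac {U : X.Opens} (hU : IsAffineOpen U) (x : X) (hx : x ∈ U)
    (k : X.residueField x) :
    ∃ a s : Γ(X, U), (X.evaluation U x hx).hom s ≠ 0 ∧
      k * (X.evaluation U x hx).hom s = (X.evaluation U x hx).hom a := by
  letI := X.presheaf.algebra_section_stalk ⟨x, hx⟩
  haveI := hU.isLocalization_stalk ⟨x, hx⟩
  obtain ⟨z, rfl⟩ := X.residue_surjective x k
  obtain ⟨⟨a, s⟩, hz⟩ := IsLocalization.surj (hU.primeIdealOf ⟨x, hx⟩).asIdeal.primeCompl z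
  refine ⟨a, s.1, ?_, ?_⟩
  · intro h0
    have : s.1 ∈ RingHom.ker (X.evaluation U x hx).hom := h0
    rw [ker_evaluation hU x hx] at this
    exact s.2 this
  · have := congrArg (X.residue x).hom hz
    rw [map_mul] at this
    exact this

/-- (P4) naturality square for `appLE`. -/
theorem evaluation_residueFieldMap_appLE (f : X ⟶ Y) (x : X) {V : Y.Opens} {U : X.Opens}
    (e : U ≤ f ⁻¹ᵁ V) (hx : x ∈ U) (hfx : f x ∈ V) :
    Y.evaluation V (f x) hfx ≫ f.residueFieldMap x =
      f.appLE V U e ≫ X.evaluation U x hx := by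
  rw [Scheme.evaluation_naturality f x hfx, Scheme.Hom.appLE, Category.assoc]
  congr 1
  simp only [Scheme.evaluation, ← Category.assoc]
  congr 1
  exact (X.presheaf.germ_res (homOfLE e) x hx).symm

/-- (P5a) every prime of `Γ(X,U)` is the prime of a point of `U`. -/
theorem exists_primeIdealOf_eq {U : X.Opens} (hU : IsAffineOpen U) (P : PrimeSpectrum Γ(X, U)) :
    ∃ (x : X) (hx : x ∈ U), hU.primeIdealOf ⟨x, hx⟩ = P := by
  let P' : ↥(Spec Γ(X, U)) := P
  refine ⟨(hU.isoSpec.inv P').1, (hU.isoSpec.inv P').2, ?_⟩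
  have : hU.isoSpec.hom (hU.isoSpec.inv P') = P' := by
    rw [← Scheme.Hom.comp_apply, Iso.inv_hom_id]
    rfl
  exact this

/-- (P5b) specialization of points of an affine open = inclusion of primes. -/
theorem primeIdealOf_le_iff_specializes {U : X.Opens} (hU : IsAffineOpen U) (x x' : X)
    (hx : x ∈ U) (hx' : x' ∈ U) :
    hU.primeIdealOf ⟨x', hx'⟩ ≤ hU.primeIdealOf ⟨x, hx⟩ ↔ x' ⤳ x := by
  rw [PrimeSpectrum.le_iff_specializes]
  have h1 : (hU.primeIdealOf ⟨x', hx'⟩ ⤳ hU.primeIdealOf ⟨x, hx⟩) ↔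
      ((⟨x', hx'⟩ : U) ⤳ (⟨x, hx⟩ : U)) :=
    (Scheme.homeoOfIso hU.isoSpec).isInducing.specializes_iff
  rw [h1, subtype_specializes_iff]

/-- the prime of `x` lies over the prime of `f x` (w.r.t. an algebra structure given by `appLE`). -/
theorem liesOver_primeIdealOf (f : X ⟶ Y) (x : X) {V : Y.Opens} (hV : IsAffineOpen V)
    {U : X.Opens} (hU : IsAffineOpen U) (e : U ≤ f ⁻¹ᵁ V) (hx : x ∈ U)
    [Algebra Γ(Y, V) Γ(X, U)] (halg : algebraMap Γ(Y, V) Γ(X, U) = (f.appLE V U e).hom) :
    (hU.primeIdealOf ⟨x, hx⟩).asIdeal.LiesOver (hV.primeIdealOf ⟨f x, e hx⟩).asIdeal := by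
  constructor
  rw [Ideal.under_def, halg]
  exact (congrArg PrimeSpectrum.asIdeal (IsAffineOpen.comap_primeIdealOf_appLE V hV U hU e hx)).symm

/-- (P6) The transcendence degree of the residue field extension at `x` equals that of the
quotient domains of the section rings of affine opens. -/
theorem trdeg_residueFieldMap_eq (f : X ⟶ Y) (x : X) {V : Y.Opens} (hV : IsAffineOpen V)
    {U : X.Opens} (hU : IsAffineOpen U) (e : U ≤ f ⁻¹ᵁ V) (hx : x ∈ U)
    [Algebra Γ(Y, V) Γ(X, U)] (halg : algebraMap Γ(Y, V) Γ(X, U) = (f.appLE V U e).hom)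
    [(hU.primeIdealOf ⟨x, hx⟩).asIdeal.LiesOver (hV.primeIdealOf ⟨f x, e hx⟩).asIdeal] :
    @Algebra.trdeg (Y.residueField (f x)) (X.residueField x) _ _
        (f.residueFieldMap x).hom.toAlgebra =
      Algebra.trdeg (Γ(Y, V) ⧸ (hV.primeIdealOf ⟨f x, e hx⟩).asIdeal)
        (Γ(X, U) ⧸ (hU.primeIdealOf ⟨x, hx⟩).asIdeal) := by
  letI : Algebra (Y.residueField (f x)) (X.residueField x) := (f.residueFieldMap x).hom.toAlgebra
  refine trdeg_eq_trdeg_quotient_ker (Y.evaluation V (f x) (e hx)).hom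
    (X.evaluation U x hx).hom ?_ (exists_evaluation_frac hV (f x) (e hx))
    (exists_evaluation_frac hU x hx) _ _ (ker_evaluation hV (f x) (e hx)) (ker_evaluation hU x hx)
  rw [halg]
  have := evaluation_residueFieldMap_appLE f x e hx (e hx)
  exact congrArg CommRingCat.Hom.hom this

end Groth.Agent.Lib.Helper73.SchemeDim
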