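/-
helper73: scheme-level consequences of the dimension dictionary.
* `exists_trdeg_residueField_eq_nat`: residue transcendence degrees of l.f.t. morphisms are finite.
* `topologicalKrullDim_le_of_forall_stalk`: `dim X ≤ D` if all local rings have dimension `≤ D`.
-/
import Groth.Agent.Lib.Helper73.SchemeDimDict
import Mathlib.AlgebraicGeometry.Noetherian
import Mathlib.AlgebraicGeometry.Morphisms.FiniteType
import Mathlib.Topology.KrullDimension

set_option linter.style.haveILetI false
universe u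
open CategoryTheory AlgebraicGeometry

namespace Groth.Agent.Lib.Helper73.SchemeDim

open Groth.Agent.Lib.Helper73.DimFormula

/-- the residue transcendence degree of a morphism locally of finite type is finite. -/
theorem exists_trdeg_residueField_eq_nat {X S : Scheme.{u}} [IsLocallyNoetherian S]
    (f : X ⟶ S) [LocallyOfFiniteType f] (x : X) :
    ∃ n : ℕ, @Algebra.trdeg (S.residueField (f.base x)) (X.residueField x) _ _
      (f.residueFieldMap x).hom.toAlgebra = n := by
  obtain ⟨_, ⟨V, hV : IsAffineOpen V, rfl⟩, hfxV, -⟩ :=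
    (S.isBasis_affineOpens).exists_subset_of_mem_open (Set.mem_univ (f.base x)) isOpen_univ
  obtain ⟨_, ⟨U, hU : IsAffineOpen U, rfl⟩, hxU, hUV⟩ :=
    (X.isBasis_affineOpens).exists_subset_of_mem_open (show x ∈ (f ⁻¹ᵁ V : Set X) from hfxV)
      (f ⁻¹ᵁ V).isOpen
  have e : U ≤ f ⁻¹ᵁ V := hUV
  letI : Algebra Γ(S, V) Γ(X, U) := (f.appLE V U e).hom.toAlgebra
  have halg : algebraMap Γ(S, V) Γ(X, U) = (f.appLE V U e).hom := rfl
  haveI : Algebra.FiniteType Γ(S, V) Γ(X, U) := f.finiteType_appLE hV hU e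
  set q := (hU.primeIdealOf ⟨x, hxU⟩).asIdeal with hq
  set p := (hV.primeIdealOf ⟨f x, e hxU⟩).asIdeal with hp
  haveI hlo : q.LiesOver p := liesOver_primeIdealOf f x hV hU e hxU halg
  have h1 := trdeg_residueFieldMap_eq f x hV hU e hxU halg
  haveI : Algebra.FiniteType Γ(S, V) (Γ(X, U) ⧸ q) :=
    Algebra.FiniteType.of_surjective (Ideal.Quotient.mkₐ _ q) (Ideal.Quotient.mkₐ_surjective _ q)
  haveI : Algebra.FiniteType (Γ(S, V) ⧸ p) (Γ(X, U) ⧸ q) :=
    Algebra.FiniteType.of_restrictScalars_finiteType Γ(S, V) (Γ(S, V) ⧸ p) (Γ(X, U) ⧸ q)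
  have hlt : Algebra.trdeg (Γ(S, V) ⧸ p) (Γ(X, U) ⧸ q) < Cardinal.aleph0 :=
    trdeg_lt_aleph0_of_finiteType
  obtain ⟨n, hn⟩ := Cardinal.lt_aleph0.mp hlt
  exact ⟨n, by rw [h1, hn]⟩

theorem topologicalKrullDim_le_of_forall_stalk {X : Scheme.{u}} (D : WithBot ℕ∞)
    (h : ∀ x : X, ringKrullDim (X.presheaf.stalk x) ≤ D) : topologicalKrullDim X ≤ D := by
  let _ := specializationOrder X
  have h2 : Order.krullDim X = topologicalKrullDim X :=
    (Order.krullDim_eq_of_orderIso (irreducibleSetEquivPoints (α := X))).symm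
  rw [← h2]
  rcases isEmpty_or_nonempty X with hX | hX
  · rw [Order.krullDim_eq_bot]; exact bot_le
  rw [Order.krullDim_eq_iSup_coheight_of_nonempty]
  have h' : ∀ a : X, ((Order.coheight a : ℕ∞) : WithBot ℕ∞) ≤ D := fun a => by
    rw [← ringKrullDim_stalk_eq_coheight]; exact h a
  cases D with
  | bot => exact absurd (h' hX.some) (by simp)
  | coe d =>
    rw [WithBot.coe_le_coe]
    apply iSup_le
    intro a
    exact_mod_cast h' a

end Groth.Agent.Lib.Helper73.SchemeDim
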