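/-
helper73: chains in the generic fibre.
* `DimFormula.exists_ltSeries_comap_eq_bot`: f.t. extension of domains `A ⊆ B` with `trdeg_A B = n` has a
  chain of `n + 1` primes of `B` all lying over `0`.
* `DimFormula.trdeg_quotient_bot`.
* `SchemeDim.height_head_add_length_le`, `SchemeDim.height_apply_le_of_specializingMap`.
* `SchemeDim.exists_point_over_generic`: dominant l.f.t. morphism of integral schemes with generic
  residue transcendence degree `n`: a point `z` over the generic point of `Y` with
  `height z + n ≤ height (genericPoint X)` in the specialization order.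
-/
import Groth.Agent.Lib.Helper73.DimField
import Groth.Agent.Lib.Helper73.DimLocal
import Groth.Agent.Lib.Helper73.SchemeDim2
import Mathlib.AlgebraicGeometry.FunctionField
import Mathlib.RingTheory.RingHom.FiniteType

set_option linter.style.haveILetI false
set_option autoImplicit false
universe u
open Cardinal CategoryTheory AlgebraicGeometry

namespace Groth.Agent.Lib.Helper73.DimFormula

/-- **Chain in the generic fibre.** For a finite type extension of domains `A ⊆ B` with
`trdeg_A B = n`, there is a chain of primes of `B` of length `n`, all lying over `0`. -/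
theorem exists_ltSeries_comap_eq_bot {A B : Type u} [CommRing A] [IsDomain A] [CommRing B]
    [IsDomain B] [Algebra A B] [FaithfulSMul A B] [Algebra.FiniteType A B] (n : ℕ)
    (hn : Algebra.trdeg A B = n) :
    ∃ l : LTSeries (PrimeSpectrum B), l.length = n ∧
      ∀ i, (l i).asIdeal.comap (algebraMap A B) = ⊥ := by
  let M : Submonoid A := nonZeroDivisors A
  let MB : Submonoid B := Algebra.algebraMapSubmonoid B M
  let K := FractionRing A
  let BK := Localization MB
  have hMB : MB ≤ nonZeroDivisors B := by
    rintro _ ⟨a, ha, rfl⟩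
    apply mem_nonZeroDivisors_of_ne_zero
    rw [Ne, ← map_zero (algebraMap A B), (FaithfulSMul.algebraMap_injective A B).eq_iff]
    exact nonZeroDivisors.ne_zero ha
  haveI : IsDomain BK := IsLocalization.isDomain_localization hMB
  haveI : Algebra.FiniteType K BK := by
    have h1 : (algebraMap A B).FiniteType := RingHom.finiteType_algebraMap.mpr inferInstance
    haveI : IsLocalization (Submonoid.map (algebraMap A B) M) BK :=
      (Localization.isLocalization (M := MB))
    have h2 := RingHom.finiteType_localizationPreserves (algebraMap A B) M K BK h1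
    exact h2
  haveI : FaithfulSMul B BK := by
    rw [faithfulSMul_iff_algebraMap_injective]
    exact IsLocalization.injective BK hMB
  haveI : FaithfulSMul K BK :=
    (faithfulSMul_iff_algebraMap_injective K BK).mpr (algebraMap K BK).injective
  haveI : Algebra.IsAlgebraic A K := IsLocalization.isAlgebraic K M
  haveI : Algebra.IsAlgebraic B BK := IsLocalization.isAlgebraic BK MB
  have htr : Algebra.trdeg K BK = Algebra.trdeg A B := trdeg_eq_of_algebraic_square
  obtain ⟨n', hn', -, hmax, -⟩ := exists_trdeg_eq_ringKrullDim K BK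
  have hnn : n' = n := by
    have : (n' : Cardinal.{u}) = n := by rw [← hn', htr, hn]
    exact_mod_cast this
  subst hnn
  obtain ⟨m, hm⟩ := Ideal.exists_maximal BK
  haveI : IsNoetherianRing BK := Algebra.FiniteType.isNoetherianRing K BK
  obtain ⟨l, hl1, hl2⟩ := Ideal.exists_ltSeries_length_eq_height m
  have hsm : StrictMono (PrimeSpectrum.comap (algebraMap B BK)) := by
    intro P Q hPQ
    refine lt_of_le_of_ne (Ideal.comap_mono hPQ.le) ?_
    intro h
    exact hPQ.ne (PrimeSpectrum.localization_comap_injective BK MB h)
  refine ⟨l.map _ hsm, ?_, ?_⟩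
  · have : (l.length : ℕ∞) = n' := by rw [hl2, hmax m]
    simpa using this
  · intro i
    rw [eq_bot_iff]
    intro a ha
    by_contra ha0
    have haM : a ∈ M := mem_nonZeroDivisors_of_ne_zero ha0
    have h1 : algebraMap B BK (algebraMap A B a) ∈ (l i).asIdeal := ha
    have h2 : IsUnit (algebraMap B BK (algebraMap A B a)) :=
      IsLocalization.map_units BK (⟨algebraMap A B a, a, haM, rfl⟩ : MB)
    exact (l i).2.ne_top (Ideal.eq_top_of_isUnit_mem _ h1 h2)

/-- trdeg of `A/⊥ → B/⊥` is trdeg of `A → B`. -/
theorem trdeg_quotient_bot {A B : Type u} [CommRing A] [CommRing B] [Nontrivial A] [Algebra A B]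
    [(⊥ : Ideal B).LiesOver (⊥ : Ideal A)] :
    Algebra.trdeg (A ⧸ (⊥ : Ideal A)) (B ⧸ (⊥ : Ideal B)) = Algebra.trdeg A B := by
  haveI : Nontrivial (A ⧸ (⊥ : Ideal A)) := Ideal.Quotient.nontrivial_iff.mpr bot_ne_top
  refine trdeg_eq_of_ringEquiv (RingEquiv.quotientBot A) (RingEquiv.quotientBot B) ?_
  intro d
  obtain ⟨d, rfl⟩ := Ideal.Quotient.mk_surjective d
  rfl

end Groth.Agent.Lib.Helper73.DimFormula

namespace Groth.Agent.Lib.Helper73.SchemeDim

open Groth.Agent.Lib.Helper73.DimFormula

/-- Along an `LTSeries`, heights grow at least by the index. -/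
theorem height_head_add_length_le {α : Type*} [Preorder α] (m : LTSeries α) :
    Order.height m.head + m.length ≤ Order.height m.last := by
  have key : ∀ i : ℕ, (hi : i ≤ m.length) → Order.height m.head + i ≤
      Order.height (m ⟨i, Nat.lt_succ_of_le hi⟩) := by
    intro i
    induction i with
    | zero => intro hi; simp [RelSeries.head]
    | succ i ih =>
      intro hi
      have h1 := ih (Nat.le_of_succ_le hi)
      have hlt : m ⟨i, Nat.lt_succ_of_le (Nat.le_of_succ_le hi)⟩ < m ⟨i + 1, Nat.lt_succ_of_le hi⟩ :=
        m.strictMono (by simp [Fin.lt_def])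
      have h2 := Order.height_add_one_le hlt
      calc Order.height m.head + ((i + 1 : ℕ) : ℕ∞) = Order.height m.head + i + 1 := by
            push_cast; rw [add_assoc]
        _ ≤ Order.height (m ⟨i, _⟩) + 1 := by gcongr
        _ ≤ _ := h2
  exact key m.length le_rfl

/-- For a specializing map between T0 spaces, heights (in the specialization order, where smaller
means more special) do not decrease under taking preimage points. -/
theorem height_apply_le_of_specializingMap {X Y : Type*} [TopologicalSpace X] [TopologicalSpace Y]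
    [PartialOrder X] [PartialOrder Y] (hX : ∀ a b : X, a ≤ b ↔ b ⤳ a)
    (hY : ∀ a b : Y, a ≤ b ↔ b ⤳ a) (f : X → Y) (hf : SpecializingMap f) (z : X) :
    Order.height (f z) ≤ Order.height z := by
  have key : ∀ d : ℕ, ∀ z : X, ∀ l : LTSeries Y, l.length = d → l.last = f z →
      (d : ℕ∞) ≤ Order.height z := by
    intro d
    induction d with
    | zero => intro z l _ _; simp
    | succ d ih =>
      intro z l hlen hlast
      have hpos : l.length ≠ 0 := by omega
      have hlt : l.eraseLast.last < l.last := by
        have : l.eraseLast.last = l ⟨l.length - 1, by omega⟩ := rfl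
        rw [this]
        apply l.strictMono
        simp only [Fin.lt_def, Fin.val_last]
        omega
      rw [hlast] at hlt
      -- `l.eraseLast.last < f z` means `f z ⤳ l.eraseLast.last`
      have hsp : f z ⤳ l.eraseLast.last := (hY _ _).mp hlt.le
      obtain ⟨w, hzw, hfw⟩ := hf hsp
      have hne : w ≠ z := by
        intro h
        rw [h] at hfw
        exact hlt.ne hfw.symm
      have hwz : w < z := lt_of_le_of_ne ((hX _ _).mpr hzw) hne
      have h1 := ih w l.eraseLast (by simp [hlen]) hfw.symm
      have h2 := Order.height_add_one_le hwz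
      calc ((d + 1 : ℕ) : ℕ∞) = (d : ℕ∞) + 1 := by push_cast; rfl
        _ ≤ Order.height w + 1 := by gcongr
        _ ≤ _ := h2
  apply Order.height_le
  intro l hl
  exact key l.length z l rfl hl

/-- Generic fibre chain, scheme version: for a dominant l.f.t. morphism of integral schemes with
generic residue transcendence degree `n` there is `z : X` over the generic point of `Y` with
`height z + n ≤ height (genericPoint X)` in the specialization order. -/
theorem exists_point_over_generic {X Y : Scheme.{u}} [IsIntegral X] [IsIntegral Y]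
    (f : X ⟶ Y) [IsDominant f] [LocallyOfFiniteType f] (n : ℕ)
    (hn : letI := (f.residueFieldMap (genericPoint ↥X)).hom.toAlgebra
      Algebra.trdeg (Y.residueField (f.base (genericPoint ↥X))) (X.residueField (genericPoint ↥X)) = n) :
    letI := specializationOrder X
    ∃ z : X, f.base z = genericPoint Y ∧
      Order.height z + n ≤ Order.height (genericPoint X) := by
  letI := specializationOrder X
  have hfη : f.base (genericPoint X) = genericPoint Y := by
    have h1 := (genericPoint_spec X).image f.continuous
    rw [Set.image_univ, f.denseRange.closure_range] at h1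
    exact h1.eq (genericPoint_spec Y)
  obtain ⟨_, ⟨V, hV : IsAffineOpen V, rfl⟩, hfxV, -⟩ :=
    (Y.isBasis_affineOpens).exists_subset_of_mem_open (Set.mem_univ (f.base (genericPoint X))) isOpen_univ
  obtain ⟨_, ⟨U, hU : IsAffineOpen U, rfl⟩, hxU, hUV⟩ :=
    (X.isBasis_affineOpens).exists_subset_of_mem_open
      (show genericPoint X ∈ (f ⁻¹ᵁ V : Set X) from hfxV) (f ⁻¹ᵁ V).isOpen
  have e : U ≤ f ⁻¹ᵁ V := hUV
  haveI : Nonempty U := ⟨⟨genericPoint X, hxU⟩⟩
  haveI : Nonempty V := ⟨⟨f.base (genericPoint X), hfxV⟩⟩
  letI : Algebra Γ(Y, V) Γ(X, U) := (f.appLE V U e).hom.toAlgebra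
  have halg : algebraMap Γ(Y, V) Γ(X, U) = (f.appLE V U e).hom := rfl
  haveI : Algebra.FiniteType Γ(Y, V) Γ(X, U) := f.finiteType_appLE hV hU e
  -- the primes of the generic points are zero
  have hq : (hU.primeIdealOf ⟨genericPoint X, hxU⟩).asIdeal = ⊥ := by
    have := hU.primeIdealOf_genericPoint
    rw [genericPoint_eq_bot_of_affine] at this
    exact congrArg PrimeSpectrum.asIdeal this
  have hp : (hV.primeIdealOf ⟨f.base (genericPoint X), e hxU⟩).asIdeal = ⊥ := by
    have := hV.primeIdealOf_genericPoint
    rw [genericPoint_eq_bot_of_affine] at this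
    have h2 : (⟨f.base (genericPoint X), e hxU⟩ : V) = ⟨genericPoint Y, hfη ▸ e hxU⟩ :=
      Subtype.ext hfη
    rw [h2]
    exact congrArg PrimeSpectrum.asIdeal this
  haveI hlo := liesOver_primeIdealOf f (genericPoint X) hV hU e hxU halg
  have h1 := trdeg_residueFieldMap_eq f (genericPoint X) hV hU e hxU halg
  haveI hlo' : (⊥ : Ideal Γ(X, U)).LiesOver (⊥ : Ideal Γ(Y, V)) := by
    rw [← hq, ← hp]; exact hlo
  have h2 : Algebra.trdeg Γ(Y, V) Γ(X, U) = n := by
    rw [← trdeg_quotient_bot, ← trdeg_quotient_congr hq hp, ← h1]
    exact hn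
  haveI : FaithfulSMul Γ(Y, V) Γ(X, U) := by
    rw [faithfulSMul_iff_algebraMap_injective, RingHom.injective_iff_ker_eq_bot]
    have := hlo'.over
    rw [Ideal.under_def] at this
    exact this.symm
  obtain ⟨l, hlen, hl⟩ := exists_ltSeries_comap_eq_bot n h2
  -- the points of the chain
  have hmem : ∀ P : PrimeSpectrum Γ(X, U), ∃ z : X, ∃ hz : z ∈ U, hU.primeIdealOf ⟨z, hz⟩ = P :=
    fun P => exists_primeIdealOf_eq hU P
  choose pt hptU hpt using hmem
  have hlt : ∀ P Q : PrimeSpectrum Γ(X, U), P < Q → pt Q < pt P := by
    intro P Q hPQ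
    have hle : pt Q ≤ pt P := by
      change pt P ⤳ pt Q
      rw [← primeIdealOf_le_iff_specializes hU (pt Q) (pt P) (hptU Q) (hptU P), hpt, hpt]
      exact hPQ.le
    refine lt_of_le_of_ne hle ?_
    intro h
    have h3 : hU.primeIdealOf ⟨pt Q, hptU Q⟩ = hU.primeIdealOf ⟨pt P, hptU P⟩ := by
      congr 1
      exact Subtype.ext h
    rw [hpt, hpt] at h3
    exact hPQ.ne h3.symm
  -- the chain in `X`, reversed
  let m : LTSeries X := LTSeries.mk l.length (fun i => pt (l (Fin.rev i))) (by
    intro i j hij
    exact hlt _ _ (l.strictMono (Fin.rev_lt_rev.mpr hij)))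
  have hm := height_head_add_length_le m
  have hmlen : m.length = n := hlen
  -- the head of `m` is the point of `l.last`; the last of `m` is the point of `l.head`
  have hmhead : m.head = pt l.last := by
    change pt (l (Fin.rev 0)) = pt (l (Fin.last _))
    rw [Fin.rev_zero]
  have hmlast : m.last = pt l.head := by
    change pt (l (Fin.rev (Fin.last _))) = pt (l 0)
    rw [Fin.rev_last]
  refine ⟨pt l.last, ?_, ?_⟩
  · -- lies over the generic point
    have h3 := IsAffineOpen.comap_primeIdealOf_appLE V hV U hU e (hptU l.last)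
    rw [hpt] at h3
    have h4 : (hV.primeIdealOf ⟨f.base (pt l.last), e (hptU l.last)⟩).asIdeal = ⊥ := by
      rw [← h3]
      exact hl (Fin.last _)
    have h5 : hV.primeIdealOf ⟨f.base (pt l.last), e (hptU l.last)⟩ =
        hV.primeIdealOf ⟨f.base (genericPoint X), e hxU⟩ := PrimeSpectrum.ext (h4.trans hp.symm)
    have h6 := congrArg hV.fromSpec h5
    rw [hV.fromSpec_primeIdealOf, hV.fromSpec_primeIdealOf] at h6
    exact h6.trans hfη
  · rw [hmhead, hmlen] at hm
    refine le_trans hm ?_
    exact Order.height_mono (show m.last ≤ genericPoint X from genericPoint_specializes _)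

end Groth.Agent.Lib.Helper73.SchemeDim
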