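/-
helper73: dimension of fibres, dictionary between the fibre scheme and chains of points of `X`.
Schemes carry Mathlib's global specialization `Preorder` (`a ≤ b ↔ b ⤳ a`).
* `DimFormula.exists_ltSeries_liesOver`: chain of primes of length `trdeg κ(q)/κ(p)` over `p` from `q`.
* `SchemeDim.exists_ltSeries_fibre`: chain of specializations of `x` inside its fibre of length
  `trdeg κ(x)/κ(f x)`.
* `SchemeDim.krullDim_eq_topologicalKrullDim`, `fiberι_lt_iff`, `fiberSeries`, `exists_fiberSeries_eq`,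
  `length_le_topologicalKrullDim_fiber`, `topologicalKrullDim_fiber_le`,
  `ringKrullDim_stalk_fiber_le`, `le_ringKrullDim_stalk_fiber`.
* `SchemeDim.trdeg_le_topologicalKrullDim_fiber`.
-/
import Groth.Agent.Lib.Helper73.GenericFibre
import Mathlib.AlgebraicGeometry.Fiber

set_option linter.style.haveILetI false
set_option autoImplicit false
universe u
open Cardinal CategoryTheory AlgebraicGeometry

namespace Groth.Agent.Lib.Helper73.DimFormula

/-- replace the head of a chain by a smaller element. -/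
theorem exists_ltSeries_head_eq {α : Type*} [PartialOrder α] (l : LTSeries α) (a : α)
    (ha : a ≤ l.head) :
    ∃ l' : LTSeries α, l'.length = l.length ∧ l'.head = a ∧ ∀ i, l' i = a ∨ ∃ j, l' i = l j := by
  refine ⟨LTSeries.mk l.length (fun i => if i = 0 then a else l i) ?_, rfl, ?_, ?_⟩
  · intro i j hij
    dsimp only
    have hj : j ≠ 0 := by
      rintro rfl
      exact absurd hij (Fin.not_lt_zero i)
    rw [if_neg hj]
    split_ifs with hi
    · subst hi
      exact lt_of_le_of_lt ha (l.strictMono hij)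
    · exact l.strictMono hij
  · change (if (0 : Fin (l.length + 1)) = 0 then a else l 0) = a
    rw [if_pos rfl]
  · intro i
    by_cases hi : i = 0
    · left
      change (if i = 0 then a else l i) = a
      rw [if_pos hi]
    · right
      refine ⟨i, ?_⟩
      change (if i = 0 then a else l i) = l i
      rw [if_neg hi]

/-- **Chain in a fibre** (ring form). For a finite type algebra `A → B` and a prime `q` of `B` over
`p` with residue transcendence degree `m`, there is a chain of primes of `B` of length `m` starting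
at `q`, all lying over `p`. -/
theorem exists_ltSeries_liesOver {A B : Type u} [CommRing A] [CommRing B] [Algebra A B]
    [Algebra.FiniteType A B] (p : Ideal A) [p.IsPrime] (q : Ideal B) [q.IsPrime] [q.LiesOver p]
    (m : ℕ) (hm : Algebra.trdeg (A ⧸ p) (B ⧸ q) = m) :
    ∃ l : LTSeries (PrimeSpectrum B), l.length = m ∧ l.head = ⟨q, inferInstance⟩ ∧
      ∀ i, (l i).asIdeal.comap (algebraMap A B) = p := by
  haveI : Algebra.FiniteType A (B ⧸ q) :=
    Algebra.FiniteType.of_surjective (Ideal.Quotient.mkₐ A q) (Ideal.Quotient.mkₐ_surjective A q)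
  haveI : Algebra.FiniteType (A ⧸ p) (B ⧸ q) :=
    Algebra.FiniteType.of_restrictScalars_finiteType A (A ⧸ p) (B ⧸ q)
  obtain ⟨l₀, hl₀len, hl₀⟩ := exists_ltSeries_comap_eq_bot (A := A ⧸ p) (B := B ⧸ q) m hm
  obtain ⟨l₁, hl₁len, hl₁head, hl₁⟩ := exists_ltSeries_head_eq l₀ (⊥ : PrimeSpectrum (B ⧸ q)) bot_le
  have hbot : ((⊥ : PrimeSpectrum (B ⧸ q)).asIdeal).comap (algebraMap (A ⧸ p) (B ⧸ q)) = ⊥ := by
    change (⊥ : Ideal (B ⧸ q)).comap (algebraMap (A ⧸ p) (B ⧸ q)) = ⊥
    rw [← RingHom.ker_eq_comap_bot, ← RingHom.injective_iff_ker_eq_bot]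
    exact FaithfulSMul.algebraMap_injective _ _
  have hl₁' : ∀ i, (l₁ i).asIdeal.comap (algebraMap (A ⧸ p) (B ⧸ q)) = ⊥ := by
    intro i
    rcases hl₁ i with h | ⟨j, h⟩
    · rw [h]; exact hbot
    · rw [h]; exact hl₀ j
  have hsm : StrictMono (PrimeSpectrum.comap (Ideal.Quotient.mk q)) :=
    RingHom.strictMono_comap_of_surjective (f := Ideal.Quotient.mk q) Ideal.Quotient.mk_surjective
  refine ⟨l₁.map _ hsm, by simp [hl₁len, hl₀len], ?_, ?_⟩
  · rw [LTSeries.head_map, hl₁head]
    apply PrimeSpectrum.ext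
    change (⊥ : Ideal (B ⧸ q)).comap (Ideal.Quotient.mk q) = q
    rw [← RingHom.ker_eq_comap_bot, Ideal.mk_ker]
  · intro i
    change ((l₁ i).asIdeal.comap (Ideal.Quotient.mk q)).comap (algebraMap A B) = p
    rw [Ideal.comap_comap]
    have hcomp : (Ideal.Quotient.mk q).comp (algebraMap A B) =
        (algebraMap (A ⧸ p) (B ⧸ q)).comp (Ideal.Quotient.mk p) := by
      ext a
      rfl
    rw [hcomp, ← Ideal.comap_comap, hl₁' i, ← RingHom.ker_eq_comap_bot, Ideal.mk_ker]

end Groth.Agent.Lib.Helper73.DimFormula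

namespace Groth.Agent.Lib.Helper73.SchemeDim

open Groth.Agent.Lib.Helper73.DimFormula

/-- **Chain in a fibre** (scheme form). For `f : X ⟶ Y` locally of finite type and `x : X` with
residue transcendence degree `m` over `f x`, there is a chain of specializations of `x` of length
`m` inside the fibre through `x` (in the specialization order, `x` is the last = biggest element). -/
theorem exists_ltSeries_fibre {X Y : Scheme.{u}} (f : X ⟶ Y) [LocallyOfFiniteType f] (x : X) (m : ℕ)
    (hm : letI := (f.residueFieldMap x).hom.toAlgebra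
      Algebra.trdeg (Y.residueField (f.base x)) (X.residueField x) = m) :
    ∃ c : LTSeries X, c.length = m ∧ c.last = x ∧ ∀ i, f.base (c i) = f.base x := by
  obtain ⟨_, ⟨V, hV : IsAffineOpen V, rfl⟩, hfxV, -⟩ :=
    (Y.isBasis_affineOpens).exists_subset_of_mem_open (Set.mem_univ (f.base x)) isOpen_univ
  obtain ⟨_, ⟨U, hU : IsAffineOpen U, rfl⟩, hxU, hUV⟩ :=
    (X.isBasis_affineOpens).exists_subset_of_mem_open
      (show x ∈ (f ⁻¹ᵁ V : Set X) from hfxV) (f ⁻¹ᵁ V).isOpen
  have e : U ≤ f ⁻¹ᵁ V := hUV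
  letI : Algebra Γ(Y, V) Γ(X, U) := (f.appLE V U e).hom.toAlgebra
  have halg : algebraMap Γ(Y, V) Γ(X, U) = (f.appLE V U e).hom := rfl
  haveI : Algebra.FiniteType Γ(Y, V) Γ(X, U) := f.finiteType_appLE hV hU e
  haveI hlo := liesOver_primeIdealOf f x hV hU e hxU halg
  have h1 := trdeg_residueFieldMap_eq f x hV hU e hxU halg
  have h2 : Algebra.trdeg (Γ(Y, V) ⧸ (hV.primeIdealOf ⟨f.base x, e hxU⟩).asIdeal)
      (Γ(X, U) ⧸ (hU.primeIdealOf ⟨x, hxU⟩).asIdeal) = m := by
    rw [← h1]; exact hm
  obtain ⟨l, hlen, hhead, hl⟩ := exists_ltSeries_liesOver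
    (hV.primeIdealOf ⟨f.base x, e hxU⟩).asIdeal (hU.primeIdealOf ⟨x, hxU⟩).asIdeal m h2
  have hmem : ∀ P : PrimeSpectrum Γ(X, U), ∃ z : X, ∃ hz : z ∈ U, hU.primeIdealOf ⟨z, hz⟩ = P :=
    fun P => exists_primeIdealOf_eq hU P
  choose pt hptU hpt using hmem
  have hlt : ∀ P Q : PrimeSpectrum Γ(X, U), P < Q → pt Q < pt P := by
    intro P Q hPQ
    rw [lt_iff_le_not_ge]
    constructor
    · change pt P ⤳ pt Q
      rw [← primeIdealOf_le_iff_specializes hU (pt Q) (pt P) (hptU Q) (hptU P), hpt, hpt]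
      exact hPQ.le
    · intro h
      change pt Q ⤳ pt P at h
      rw [← primeIdealOf_le_iff_specializes hU (pt P) (pt Q) (hptU P) (hptU Q), hpt, hpt] at h
      exact (not_le_of_gt hPQ) h
  have hptx : pt l.head = x := by
    have h3 := hpt l.head
    rw [hhead] at h3
    have h4 : hU.primeIdealOf ⟨pt l.head, hptU l.head⟩ = hU.primeIdealOf ⟨x, hxU⟩ := by
      rw [hpt, hhead]
    have h5 := congrArg hU.fromSpec h4
    rw [hU.fromSpec_primeIdealOf, hU.fromSpec_primeIdealOf] at h5
    exact h5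
  let c : LTSeries X := LTSeries.mk l.length (fun i => pt (l (Fin.rev i))) (by
    intro i j hij
    exact hlt _ _ (l.strictMono (Fin.rev_lt_rev.mpr hij)))
  refine ⟨c, hlen, ?_, ?_⟩
  · change pt (l (Fin.rev (Fin.last _))) = x
    rw [Fin.rev_last]
    exact hptx
  · intro i
    change f.base (pt (l (Fin.rev i))) = f.base x
    set P := l (Fin.rev i) with hP
    have h3 := IsAffineOpen.comap_primeIdealOf_appLE V hV U hU e (hptU P)
    rw [hpt] at h3
    have h4 : (hV.primeIdealOf ⟨f.base (pt P), e (hptU P)⟩).asIdeal =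
        (hV.primeIdealOf ⟨f.base x, e hxU⟩).asIdeal := by
      rw [← h3]
      exact hl (Fin.rev i)
    have h5 : hV.primeIdealOf ⟨f.base (pt P), e (hptU P)⟩ =
        hV.primeIdealOf ⟨f.base x, e hxU⟩ := PrimeSpectrum.ext h4
    have h6 := congrArg hV.fromSpec h5
    rw [hV.fromSpec_primeIdealOf, hV.fromSpec_primeIdealOf] at h6
    exact h6

/-- the dimension of a scheme is the Krull dimension of its specialization preorder. -/
theorem krullDim_eq_topologicalKrullDim (Z : Scheme.{u}) :
    Order.krullDim Z = topologicalKrullDim Z := by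
  letI := specializationOrder Z
  exact (Order.krullDim_eq_of_orderIso (irreducibleSetEquivPoints (α := Z))).symm

theorem le_iff_specializes {Z : Scheme.{u}} (a b : Z) : a ≤ b ↔ b ⤳ a := Iff.rfl

theorem fiberι_le_iff {X Y : Scheme.{u}} (f : X ⟶ Y) (y : Y) (z w : f.fiber y) :
    f.fiberι y z ≤ f.fiberι y w ↔ z ≤ w :=
  (f.fiberι y).isEmbedding.isInducing.specializes_iff

theorem fiberι_lt_iff {X Y : Scheme.{u}} (f : X ⟶ Y) (y : Y) (z w : f.fiber y) :
    f.fiberι y z < f.fiberι y w ↔ z < w := by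
  rw [lt_iff_le_not_ge, lt_iff_le_not_ge, fiberι_le_iff, fiberι_le_iff]

theorem base_fiberι {X Y : Scheme.{u}} (f : X ⟶ Y) (y : Y) (z : f.fiber y) :
    f.base (f.fiberι y z) = y := by
  have : f.fiberι y z ∈ Set.range (f.fiberι y) := Set.mem_range_self z
  rw [f.range_fiberι y] at this
  exact this

/-- the chain in `X` underlying a chain in a fibre. -/
noncomputable def fiberSeries {X Y : Scheme.{u}} (f : X ⟶ Y) (y : Y) (c : LTSeries (f.fiber y)) :
    LTSeries X :=
  c.map (f.fiberι y) (fun _ _ h => (fiberι_lt_iff f y _ _).mpr h)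

/-- lift a chain of points of `X` lying in a fibre to the fibre scheme. -/
theorem exists_fiberSeries_eq {X Y : Scheme.{u}} (f : X ⟶ Y) (y : Y) (c : LTSeries X)
    (hc : ∀ i, f.base (c i) = y) :
    ∃ c' : LTSeries (f.fiber y), c'.length = c.length ∧
      f.fiberι y c'.head = c.head ∧ f.fiberι y c'.last = c.last := by
  have hι : ∀ i, f.fiberι y ((f.fiberHomeo y).symm ⟨c i, hc i⟩) = c i := fun i =>
    f.fiberι_fiberHomeo_symm y ⟨c i, hc i⟩
  refine ⟨LTSeries.mk c.length (fun i => (f.fiberHomeo y).symm ⟨c i, hc i⟩) ?_, rfl, ?_, ?_⟩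
  · intro i j hij
    rw [← fiberι_lt_iff, hι, hι]
    exact c.strictMono hij
  · exact hι 0
  · exact hι (Fin.last _)

theorem length_le_topologicalKrullDim_fiber {X Y : Scheme.{u}} (f : X ⟶ Y) (y : Y)
    (c : LTSeries X) (hc : ∀ i, f.base (c i) = y) :
    (c.length : WithBot ℕ∞) ≤ topologicalKrullDim (f.fiber y) := by
  obtain ⟨c', hlen, -, -⟩ := exists_fiberSeries_eq f y c hc
  rw [← krullDim_eq_topologicalKrullDim, ← hlen]
  exact Order.LTSeries.length_le_krullDim c'

theorem topologicalKrullDim_fiber_le {X Y : Scheme.{u}} (f : X ⟶ Y) (y : Y) (d : WithBot ℕ∞)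
    (h : ∀ c : LTSeries X, (∀ i, f.base (c i) = y) → (c.length : WithBot ℕ∞) ≤ d) :
    topologicalKrullDim (f.fiber y) ≤ d := by
  rw [← krullDim_eq_topologicalKrullDim]
  apply iSup_le
  intro c'
  exact h (fiberSeries f y c') (fun i => base_fiberι f y _)

/-- the dimension of the local ring of the fibre at `x` is the supremum of the lengths of chains
of generalizations of `x` inside the fibre. -/
theorem ringKrullDim_stalk_fiber_le {X Y : Scheme.{u}} (f : X ⟶ Y) (x : X) (d : ℕ∞)
    (h : ∀ c : LTSeries X, c.head = x → (∀ i, f.base (c i) = f.base x) → (c.length : ℕ∞) ≤ d) :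
    ringKrullDim ((f.fiber (f.base x)).presheaf.stalk (f.asFiber x)) ≤ d := by
  rw [ringKrullDim_stalk_eq_coheight]
  have : Order.coheight (f.asFiber x) ≤ d := by
    apply Order.coheight_le
    intro c' hc'
    refine h (fiberSeries f _ c') ?_ (fun i => base_fiberι f _ _)
    change f.fiberι _ c'.head = x
    rw [hc']
    exact f.fiberι_asFiber x
  exact_mod_cast this

theorem le_ringKrullDim_stalk_fiber {X Y : Scheme.{u}} (f : X ⟶ Y) (x : X)
    (c : LTSeries X) (hhead : c.head = x) (hc : ∀ i, f.base (c i) = f.base x) :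
    (c.length : WithBot ℕ∞) ≤ ringKrullDim ((f.fiber (f.base x)).presheaf.stalk (f.asFiber x)) := by
  rw [ringKrullDim_stalk_eq_coheight]
  obtain ⟨c', hlen, hh, -⟩ := exists_fiberSeries_eq f _ c hc
  have h1 : c'.head = f.asFiber x := by
    apply (f.fiberι (f.base x)).isEmbedding.injective
    rw [hh, hhead, f.fiberι_asFiber x]
  have h2 : (c'.length : ℕ∞) ≤ Order.coheight (f.asFiber x) := by
    rw [← h1]
    exact Order.length_le_coheight_head
  rw [← hlen]
  exact_mod_cast h2

/-- the residue transcendence degree at `x` is at most the dimension of the fibre through `x`. -/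
theorem trdeg_le_topologicalKrullDim_fiber {X Y : Scheme.{u}} (f : X ⟶ Y) [LocallyOfFiniteType f]
    (x : X) (m : ℕ)
    (hm : letI := (f.residueFieldMap x).hom.toAlgebra
      Algebra.trdeg (Y.residueField (f.base x)) (X.residueField x) = m) :
    (m : WithBot ℕ∞) ≤ topologicalKrullDim (f.fiber (f.base x)) := by
  obtain ⟨c, hlen, -, hc⟩ := exists_ltSeries_fibre f x m hm
  rw [← hlen]
  exact length_le_topologicalKrullDim_fiber f (f.base x) c hc

end Groth.Agent.Lib.Helper73.SchemeDim
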