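/-
helper73: chains of points of a scheme versus chains of primes in an affine open.
* `SchemeDim.primeIdealOf_lt_iff`, `primeIdealOf_injective`, `mem_of_le`.
* `SchemeDim.exists_ltSeries_of_primes`: chain of primes of `Γ(X,U)` ↦ reversed chain of points.
* `SchemeDim.exists_ltSeries_primes_of_points`: chain of points with most special member in `U` ↦ primes.
* `SchemeDim.base_eq_of_comap_primeIdealOf_eq`, `comap_primeIdealOf_eq_of_base_eq`.
* `DimFormula.exists_ltSeries_height_quotient_map`: chain of primes between `pB` and `q` of length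
  `ht (q / pB)`, all lying over `p`.
-/
import Groth.Agent.Lib.Helper73.FibreDim

set_option linter.style.haveILetI false
set_option autoImplicit false
universe u
open Cardinal CategoryTheory AlgebraicGeometry

namespace Groth.Agent.Lib.Helper73.DimFormula

/-- a chain of primes of `B` ending at `q`, all lying over `p`, of length `ht (q / pB)`. -/
theorem exists_ltSeries_height_quotient_map {A B : Type*} [CommRing A] [CommRing B] [Algebra A B]
    [IsNoetherianRing B] (p : Ideal A) [p.IsPrime] (q : Ideal B) [q.IsPrime] [q.LiesOver p] :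
    ∃ l : LTSeries (PrimeSpectrum B), l.last = ⟨q, inferInstance⟩ ∧
      (l.length : ℕ∞) = (q.map (Ideal.Quotient.mk (p.map (algebraMap A B)))).height ∧
      ∀ i, (l i).asIdeal.comap (algebraMap A B) = p := by
  have hle : p.map (algebraMap A B) ≤ q := by
    rw [Ideal.map_le_iff_le_comap, Ideal.LiesOver.over (p := p) (P := q)]
  haveI : (q.map (Ideal.Quotient.mk (p.map (algebraMap A B)))).IsPrime :=
    Ideal.map_isPrime_of_surjective Ideal.Quotient.mk_surjective (by rwa [Ideal.mk_ker])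
  obtain ⟨lq, hlq, hlenq⟩ :=
    (q.map (Ideal.Quotient.mk (p.map (algebraMap A B)))).exists_ltSeries_length_eq_height
  have hsm : StrictMono (PrimeSpectrum.comap (Ideal.Quotient.mk (p.map (algebraMap A B)))) :=
    RingHom.strictMono_comap_of_surjective Ideal.Quotient.mk_surjective
  have hlast : (lq.map _ hsm).last = ⟨q, inferInstance⟩ := by
    rw [LTSeries.last_map, hlq]
    apply PrimeSpectrum.ext
    change (q.map (Ideal.Quotient.mk (p.map (algebraMap A B)))).comap
      (Ideal.Quotient.mk (p.map (algebraMap A B))) = q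
    rw [Ideal.comap_map_of_surjective _ Ideal.Quotient.mk_surjective, ← RingHom.ker_eq_comap_bot,
      Ideal.mk_ker]
    exact sup_eq_left.mpr hle
  refine ⟨lq.map _ hsm, hlast, ?_, ?_⟩
  · rw [LTSeries.map_length, hlenq]
  · intro i
    apply le_antisymm
    · have h1 : (lq.map _ hsm) i ≤ (lq.map _ hsm).last := (lq.map _ hsm).monotone (Fin.le_last i)
      rw [hlast] at h1
      have h2 : p = q.comap (algebraMap A B) := by
        rw [Ideal.LiesOver.over (p := p) (P := q), Ideal.under_def]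
      refine le_trans ?_ h2.ge
      exact Ideal.comap_mono h1
    · rw [← Ideal.map_le_iff_le_comap]
      change p.map (algebraMap A B) ≤ (lq i).asIdeal.comap (Ideal.Quotient.mk (p.map (algebraMap A B)))
      intro b hb
      rw [Ideal.mem_comap, Ideal.Quotient.eq_zero_iff_mem.mpr hb]
      exact Ideal.zero_mem _

end Groth.Agent.Lib.Helper73.DimFormula

namespace Groth.Agent.Lib.Helper73.SchemeDim

open Groth.Agent.Lib.Helper73.DimFormula

variable {X Y : Scheme.{u}}

theorem primeIdealOf_lt_iff {U : X.Opens} (hU : IsAffineOpen U) (x x' : X)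
    (hx : x ∈ U) (hx' : x' ∈ U) :
    hU.primeIdealOf ⟨x', hx'⟩ < hU.primeIdealOf ⟨x, hx⟩ ↔ x < x' := by
  rw [lt_iff_le_not_ge, lt_iff_le_not_ge, primeIdealOf_le_iff_specializes,
    primeIdealOf_le_iff_specializes]
  exact Iff.rfl

theorem primeIdealOf_injective {U : X.Opens} (hU : IsAffineOpen U) {x x' : X}
    (hx : x ∈ U) (hx' : x' ∈ U) (h : hU.primeIdealOf ⟨x, hx⟩ = hU.primeIdealOf ⟨x', hx'⟩) :
    x = x' := by
  have h5 := congrArg hU.fromSpec h
  rw [hU.fromSpec_primeIdealOf, hU.fromSpec_primeIdealOf] at h5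
  exact h5

/-- a chain of primes in an affine open gives a (reversed) chain of points. -/
theorem exists_ltSeries_of_primes {U : X.Opens} (hU : IsAffineOpen U)
    (l : LTSeries (PrimeSpectrum Γ(X, U))) :
    ∃ c : LTSeries X, c.length = l.length ∧
      (∃ h : c.head ∈ U, hU.primeIdealOf ⟨c.head, h⟩ = l.last) ∧
      (∃ h : c.last ∈ U, hU.primeIdealOf ⟨c.last, h⟩ = l.head) ∧
      ∀ i, ∃ (h : c i ∈ U) (j : Fin (l.length + 1)), hU.primeIdealOf ⟨c i, h⟩ = l j := by
  have hmem : ∀ P : PrimeSpectrum Γ(X, U), ∃ z : X, ∃ hz : z ∈ U, hU.primeIdealOf ⟨z, hz⟩ = P :=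
    fun P => exists_primeIdealOf_eq hU P
  choose pt hptU hpt using hmem
  have hlt : ∀ P Q : PrimeSpectrum Γ(X, U), P < Q → pt Q < pt P := by
    intro P Q hPQ
    rw [← primeIdealOf_lt_iff hU (pt Q) (pt P) (hptU Q) (hptU P), hpt, hpt]
    exact hPQ
  refine ⟨LTSeries.mk l.length (fun i => pt (l (Fin.rev i))) (fun i j hij =>
    hlt _ _ (l.strictMono (Fin.rev_lt_rev.mpr hij))), rfl, ?_, ?_, ?_⟩
  · refine ⟨hptU _, ?_⟩
    change hU.primeIdealOf ⟨pt (l (Fin.rev 0)), _⟩ = l (Fin.last _)
    rw [hpt, Fin.rev_zero]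
  · refine ⟨hptU _, ?_⟩
    change hU.primeIdealOf ⟨pt (l (Fin.rev (Fin.last _))), _⟩ = l 0
    rw [hpt, Fin.rev_last]
  · intro i
    exact ⟨hptU _, Fin.rev i, hpt _⟩

/-- generalizations of a point of an open set lie in the open set. -/
theorem mem_of_le {U : X.Opens} {x x' : X} (h : x ≤ x') (hx : x ∈ U) : x' ∈ U :=
  (show x' ⤳ x from h).mem_open U.isOpen hx

/-- a chain of points whose most special member lies in an affine open gives a (reversed) chain
of primes. -/
theorem exists_ltSeries_primes_of_points {U : X.Opens} (hU : IsAffineOpen U) (c : LTSeries X)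
    (hc : c.head ∈ U) :
    ∃ l : LTSeries (PrimeSpectrum Γ(X, U)), l.length = c.length ∧
      l.last = hU.primeIdealOf ⟨c.head, hc⟩ ∧
      (∃ h : c.last ∈ U, l.head = hU.primeIdealOf ⟨c.last, h⟩) ∧
      ∀ j, ∃ (i : Fin (c.length + 1)) (h : c i ∈ U), l j = hU.primeIdealOf ⟨c i, h⟩ := by
  have hall : ∀ i, c i ∈ U := fun i => mem_of_le (c.monotone (Fin.zero_le i)) hc
  refine ⟨LTSeries.mk c.length (fun i => hU.primeIdealOf ⟨c (Fin.rev i), hall _⟩) (fun i j hij => ?_),
    rfl, ?_, ?_, ?_⟩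
  · rw [primeIdealOf_lt_iff]
    exact c.strictMono (Fin.rev_lt_rev.mpr hij)
  · change hU.primeIdealOf ⟨c (Fin.rev (Fin.last _)), _⟩ = hU.primeIdealOf ⟨c 0, _⟩
    congr 2
    rw [Fin.rev_last]
  · refine ⟨hall _, ?_⟩
    change hU.primeIdealOf ⟨c (Fin.rev 0), _⟩ = hU.primeIdealOf ⟨c (Fin.last _), _⟩
    congr 2
  · intro j
    exact ⟨Fin.rev j, hall _, rfl⟩

/-- two points of `U` whose primes have the same contraction have the same image. -/
theorem base_eq_of_comap_primeIdealOf_eq (f : X ⟶ Y) {V : Y.Opens} (hV : IsAffineOpen V)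
    {U : X.Opens} (hU : IsAffineOpen U) (e : U ≤ f ⁻¹ᵁ V) {z x : X} (hz : z ∈ U) (hx : x ∈ U)
    (h : (hU.primeIdealOf ⟨z, hz⟩).asIdeal.comap (f.appLE V U e).hom =
      (hU.primeIdealOf ⟨x, hx⟩).asIdeal.comap (f.appLE V U e).hom) :
    f.base z = f.base x := by
  have h3 := IsAffineOpen.comap_primeIdealOf_appLE V hV U hU e hz
  have h3' := IsAffineOpen.comap_primeIdealOf_appLE V hV U hU e hx
  have h5 : hV.primeIdealOf ⟨f.base z, e hz⟩ = hV.primeIdealOf ⟨f.base x, e hx⟩ := by
    rw [← h3, ← h3']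
    exact PrimeSpectrum.ext h
  exact primeIdealOf_injective hV _ _ h5

theorem comap_primeIdealOf_eq_of_base_eq (f : X ⟶ Y) {V : Y.Opens} (hV : IsAffineOpen V)
    {U : X.Opens} (hU : IsAffineOpen U) (e : U ≤ f ⁻¹ᵁ V) {z x : X} (hz : z ∈ U) (hx : x ∈ U)
    (h : f.base z = f.base x) :
    (hU.primeIdealOf ⟨z, hz⟩).asIdeal.comap (f.appLE V U e).hom =
      (hU.primeIdealOf ⟨x, hx⟩).asIdeal.comap (f.appLE V U e).hom := by
  have h3 := IsAffineOpen.comap_primeIdealOf_appLE V hV U hU e hz
  have h3' := IsAffineOpen.comap_primeIdealOf_appLE V hV U hU e hx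
  have h4 : hV.primeIdealOf ⟨f.base z, e hz⟩ = hV.primeIdealOf ⟨f.base x, e hx⟩ := by
    congr 1
    exact Subtype.ext h
  have h5 := h3.trans (h4.trans h3'.symm)
  exact congrArg PrimeSpectrum.asIdeal h5

end Groth.Agent.Lib.Helper73.SchemeDim
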