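/-
helper73: local rings of fibres, chains.
* `isLocallyNoetherian_fiber`, `smash_forall`, `coheight_last_add_length_le`.
* `exists_ltSeries_fibre_stalk`: a chain of generalizations of `x` inside its fibre of length
  `dim O_{X_y,x}`, ending at a maximal point of the fibre.
-/
import Groth.Agent.Lib.Helper73.AffineChains

set_option linter.style.haveILetI false
set_option autoImplicit false
universe u
open Cardinal CategoryTheory AlgebraicGeometry

namespace Groth.Agent.Lib.Helper73.SchemeDim

open Groth.Agent.Lib.Helper73.DimFormula

variable {X Y : Scheme.{u}}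

set_option backward.isDefEq.respectTransparency.types false in
/-- the fibres of a morphism locally of finite type are locally Noetherian. -/
theorem isLocallyNoetherian_fiber (f : X ⟶ Y) [LocallyOfFiniteType f] (y : Y) :
    IsLocallyNoetherian (f.fiber y) := by
  haveI : LocallyOfFiniteType (f.fiberToSpecResidueField y) :=
    MorphismProperty.pullback_snd _ _ inferInstance
  exact LocallyOfFiniteType.isLocallyNoetherian (f.fiberToSpecResidueField y)

theorem smash_forall {α : Type*} {r : SetRel α α} (p q : RelSeries r) (h : p.last = q.head)
    {P : α → Prop} (hp : ∀ i, P (p i)) (hq : ∀ i, P (q i))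
    (i : Fin (p.length + (q.length + 1))) : P ((p.smash q h).toFun i) := by
  refine Fin.addCases (m := p.length) (n := q.length + 1)
    (motive := fun i => P ((p.smash q h).toFun i)) (fun j => ?_) (fun j => ?_) i
  · change P (Fin.addCases (m := p.length) (n := q.length + 1) (p ∘ Fin.castSucc) q
      (Fin.castAdd _ j))
    rw [Fin.addCases_left]; exact hp _
  · change P (Fin.addCases (m := p.length) (n := q.length + 1) (p ∘ Fin.castSucc) q
      (Fin.natAdd _ j))
    rw [Fin.addCases_right]; exact hq _

/-- along a chain, coheights drop at least by the length. -/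
theorem coheight_last_add_length_le {α : Type*} [Preorder α] (m : LTSeries α) :
    Order.coheight m.last + m.length ≤ Order.coheight m.head := by
  have key : ∀ i : ℕ, (hi : i ≤ m.length) → Order.coheight m.last + i ≤
      Order.coheight (m ⟨m.length - i, by omega⟩) := by
    intro i
    induction i with
    | zero => intro hi; simp [RelSeries.last, Fin.last]
    | succ i ih =>
      intro hi
      have h1 := ih (Nat.le_of_succ_le hi)
      have hlt : m ⟨m.length - (i + 1), by omega⟩ < m ⟨m.length - i, by omega⟩ :=
        m.strictMono (by simp only [Fin.lt_def]; omega)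
      have h2 := Order.coheight_add_one_le hlt
      calc Order.coheight m.last + ((i + 1 : ℕ) : ℕ∞) = Order.coheight m.last + i + 1 := by
            push_cast; rw [add_assoc]
        _ ≤ Order.coheight (m ⟨m.length - i, _⟩) + 1 := by gcongr
        _ ≤ _ := h2
  have := key m.length le_rfl
  simpa [RelSeries.head] using this

/-- a chain of generalizations of `x` inside its fibre, of length `dim O_{X_y,x}`, ending at a
maximal point of the fibre. -/
theorem exists_ltSeries_fibre_stalk (f : X ⟶ Y) [LocallyOfFiniteType f] (x : X) :
    ∃ (m : ℕ) (c : LTSeries X),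
      ringKrullDim ((f.fiber (f.base x)).presheaf.stalk (f.asFiber x)) = m ∧ c.length = m ∧
      c.head = x ∧ (∀ i, f.base (c i) = f.base x) ∧
      ringKrullDim ((f.fiber (f.base c.last)).presheaf.stalk (f.asFiber c.last)) = 0 := by
  haveI : IsLocallyNoetherian (f.fiber (f.base x)) := isLocallyNoetherian_fiber f _
  have hFfin : ringKrullDim ((f.fiber (f.base x)).presheaf.stalk (f.asFiber x)) < ⊤ :=
    ringKrullDim_lt_top
  have hco := ringKrullDim_stalk_eq_coheight (f.asFiber x)
  rw [hco] at hFfin
  have hne : Order.coheight (f.asFiber x) ≠ ⊤ := by
    intro h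
    rw [h] at hFfin
    exact lt_irrefl _ hFfin
  obtain ⟨m, hm⟩ := ENat.ne_top_iff_exists.mp hne
  obtain ⟨c', hc'head, hc'len⟩ := Order.exists_series_of_coheight_eq_coe (f.asFiber x) hm.symm
  have hcf : ∀ i, f.base ((fiberSeries f _ c') i) = f.base x := fun i => base_fiberι f _ _
  have hchead : (fiberSeries f _ c').head = x := by
    change f.fiberι _ c'.head = x
    rw [hc'head]
    exact f.fiberι_asFiber x
  have hstalk : ringKrullDim ((f.fiber (f.base x)).presheaf.stalk (f.asFiber x)) = m := by
    rw [hco, ← hm]; rfl
  refine ⟨m, fiberSeries f _ c', hstalk, hc'len, hchead, hcf, ?_⟩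
  have hlast : f.base (fiberSeries f _ c').last = f.base x := hcf (Fin.last _)
  apply le_antisymm
  · have := ringKrullDim_stalk_fiber_le f (fiberSeries f _ c').last 0 ?_
    · exact_mod_cast this
    · intro d hdhead hd
      have h1 := le_ringKrullDim_stalk_fiber f x ((fiberSeries f _ c').smash d hdhead.symm) ?_ ?_
      · rw [hstalk] at h1
        have h2 : (((fiberSeries f _ c').smash d hdhead.symm).length : WithBot ℕ∞) =
            ((m + d.length : ℕ) : WithBot ℕ∞) := by
          simp only [RelSeries.smash_length]
          rw [show (fiberSeries f _ c').length = m from hc'len]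
        rw [h2] at h1
        have h3 : m + d.length ≤ m := by exact_mod_cast h1
        have h4 : d.length = 0 := by omega
        simp [h4]
      · rw [RelSeries.head_smash]; exact hchead
      · exact fun i => smash_forall (P := fun t => f.base t = f.base x) _ _ _ hcf
          (fun i => (hd i).trans hlast) i
  · have h1 := le_ringKrullDim_stalk_fiber f (fiberSeries f _ c').last
      (RelSeries.singleton _ (fiberSeries f _ c').last) rfl (fun _ => rfl)
    simpa using h1

end Groth.Agent.Lib.Helper73.SchemeDim
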