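/-
helper73: the dimension formula (Stacks 02IJ), equality for universally catenary base rings.
* `height_eq_add_of_posetCatenary`: in a catenary poset with bottom, heights add along an
  embedded upper interval.
* `height_comap_eq_add_of_isCatenary`: catenary domain `A`, `f : A → B` surjective with prime
  kernel: `ht (f⁻¹ q) = ht (ker f) + ht q`.
* `height_add_trdeg_eq`: equality in the dimension formula for universally catenary `R`.
-/
import Groth.Agent.Lib.Helper34.Catenary
import Groth.Agent.Lib.Helper73.DimFormula

set_option linter.style.haveILetI false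
set_option linter.unusedVariables false
universe u v
open Groth.Agent.Lib.Helper34 Polynomial Cardinal

namespace Groth.Agent.Lib.Helper73.DimFormula

/-- A chain of maximal length ending at its last element is saturated. -/
theorem covBy_of_length_eq_height {α : Type*} [PartialOrder α] (p : LTSeries α)
    (hp : (p.length : ℕ∞) = Order.height p.last) (i : Fin p.length) :
    p i.castSucc ⋖ p i.succ := by
  have hidx := Order.height_eq_index_of_length_eq_height_last hp
  refine ⟨p.step i, fun z hz1 hz2 => ?_⟩
  have h1 := Order.height_add_one_le hz1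
  have h2 := Order.height_add_one_le hz2
  rw [hidx] at h1 h2
  have h3 : ((i.castSucc : Fin (p.length + 1)) : ℕ∞) + 1 + 1 ≤ ((i.succ : Fin (p.length + 1)) : ℕ) := by
    calc _ ≤ Order.height z + 1 := by gcongr
      _ ≤ _ := h2
  simp only [Fin.val_castSucc, Fin.val_succ] at h3
  have : ((i : ℕ) + 1 + 1 : ℕ) ≤ (i : ℕ) + 1 := by exact_mod_cast h3
  omega

theorem isMin_head_of_length_eq_height {α : Type*} [PartialOrder α] (p : LTSeries α)
    (hp : (p.length : ℕ∞) = Order.height p.last) : IsMin p.head := by
  have hidx := Order.height_eq_index_of_length_eq_height_last hp 0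
  rw [← Order.height_eq_zero]
  exact (by simpa using hidx : Order.height (p.toFun 0) = 0)

theorem smash_covBy {α : Type*} [PartialOrder α] (p q : LTSeries α) (h : p.last = q.head)
    (hp : ∀ i : Fin p.length, p i.castSucc ⋖ p i.succ)
    (hq : ∀ i : Fin q.length, q i.castSucc ⋖ q i.succ) :
    ∀ i : Fin (p.smash q h).length, (p.smash q h) i.castSucc ⋖ (p.smash q h) i.succ := by
  intro i
  refine Fin.addCases (motive := fun i => (p.smash q h) i.castSucc ⋖ (p.smash q h) i.succ)
    (fun j => ?_) (fun j => ?_) i
  · rw [RelSeries.smash_castAdd, RelSeries.smash_succ_castAdd]; exact hp j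
  · rw [RelSeries.smash_natAdd, RelSeries.smash_succ_natAdd]; exact hq j

/-- In a catenary poset with bottom, height is additive along an embedded upper interval. -/
theorem height_eq_add_of_posetCatenary {α : Type u} {β : Type v} [PartialOrder α] [OrderBot α]
    [PartialOrder β] (hα : PosetCatenary α) (e : β ↪o α) (a : α) (he : Set.range e = Set.Ici a)
    (y : β) (hfin : Order.height (e y) < ⊤) :
    Order.height (e y) = Order.height a + Order.height y := by
  have hay : a ≤ e y := by
    have : e y ∈ Set.Ici a := he ▸ Set.mem_range_self y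
    exact this
  have hfa : Order.height a < ⊤ := lt_of_le_of_lt (Order.height_mono hay) hfin
  have hfy : Order.height y < ⊤ :=
    lt_of_le_of_lt (Order.height_le_height_apply_of_strictMono e e.strictMono y) hfin
  obtain ⟨n, hn⟩ := ENat.ne_top_iff_exists.mp hfin.ne
  obtain ⟨na, hna⟩ := ENat.ne_top_iff_exists.mp hfa.ne
  obtain ⟨ny, hny⟩ := ENat.ne_top_iff_exists.mp hfy.ne
  obtain ⟨d, hdl, hdn⟩ := Order.exists_series_of_height_eq_coe (e y) hn.symm
  obtain ⟨c1, hc1l, hc1n⟩ := Order.exists_series_of_height_eq_coe a hna.symm
  obtain ⟨c2, hc2l, hc2n⟩ := Order.exists_series_of_height_eq_coe y hny.symm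
  have hd : (d.length : ℕ∞) = Order.height d.last := by rw [hdl, hdn, hn]
  have hc1 : (c1.length : ℕ∞) = Order.height c1.last := by rw [hc1l, hc1n, hna]
  have hc2 : (c2.length : ℕ∞) = Order.height c2.last := by rw [hc2l, hc2n, hny]
  have hdhead : d.head = ⊥ := (isMin_head_of_length_eq_height d hd).eq_bot
  have hc1head : c1.head = ⊥ := (isMin_head_of_length_eq_height c1 hc1).eq_bot
  have hc2head : e c2.head = a := by
    obtain ⟨y0, hy0⟩ : a ∈ Set.range e := he ▸ Set.mem_Ici.mpr le_rfl
    have h1 : a ≤ e c2.head := by
      have : e c2.head ∈ Set.Ici a := he ▸ Set.mem_range_self _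
      exact this
    have h2 : y0 ≤ c2.head := by rw [← e.le_iff_le, hy0]; exact h1
    have h3 := (isMin_head_of_length_eq_height c2 hc2) h2
    rw [← hy0]
    exact le_antisymm (e.monotone h3) (e.monotone h2)
  have hrange : (Set.range e).OrdConnected := by rw [he]; exact Set.ordConnected_Ici
  let c2' : LTSeries α := c2.map e e.strictMono
  have hconn : c1.last = c2'.head := by
    rw [hc1l]; exact hc2head.symm
  let c : LTSeries α := c1.smash c2' hconn
  have hcsat : ∀ i : Fin c.length, c i.castSucc ⋖ c i.succ := by
    refine smash_covBy c1 c2' hconn (covBy_of_length_eq_height c1 hc1) ?_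
    intro i
    exact covBy_map_of_ordConnected e hrange (covBy_of_length_eq_height c2 hc2 i)
  have hclen : c.length = c1.length + c2.length := by
    simp [c, c2', RelSeries.smash_length]
  have hchead : c.head = d.head := by
    rw [hdhead]; simp only [c]; rw [RelSeries.head_smash, hc1head]
  have hclast : c.last = d.last := by
    rw [hdl]; simp only [c]; rw [RelSeries.last_smash]
    simp [c2', hc2l]
  have hlen := hα.2 c d hchead hclast hcsat (covBy_of_length_eq_height d hd)
  rw [← hn, ← hna, ← hny, ← hdn, ← hlen, hclen, hc1n, hc2n]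
  push_cast; rfl

/-- In a catenary domain, height is additive along a surjection with prime kernel. -/
theorem height_comap_eq_add_of_isCatenary {A : Type u} {B : Type v} [CommRing A] [IsDomain A]
    [CommRing B] (hA : CAlg.IsCatenary A) (f : A →+* B) (hf : Function.Surjective f)
    [hker : (RingHom.ker f).IsPrime] (q : Ideal B) [hq : q.IsPrime] (hfin : (q.comap f).height < ⊤) :
    (q.comap f).height = (RingHom.ker f).height + q.height := by
  let e : PrimeSpectrum B ↪o PrimeSpectrum A :=
    { toFun := PrimeSpectrum.comap f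
      inj' := PrimeSpectrum.comap_injective_of_surjective f hf
      map_rel_iff' := by
        intro p1 p2
        exact Ideal.comap_le_comap_iff_of_surjective f hf p1.asIdeal p2.asIdeal }
  have he : Set.range e = Set.Ici (⟨RingHom.ker f, hker⟩ : PrimeSpectrum A) := by
    have : Set.range e = Set.range (PrimeSpectrum.comap f) := rfl
    rw [this, _root_.range_comap_of_surjective _ f hf]
    ext P
    simp only [PrimeSpectrum.mem_zeroLocus, Set.mem_Ici, SetLike.coe_subset_coe]
    rfl
  have h := height_eq_add_of_posetCatenary ((isCatenary_iff A).mp hA) e ⟨RingHom.ker f, hker⟩ he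
    ⟨q, hq⟩ (by
      rw [← PrimeSpectrum.height_eq_orderHeight]
      exact hfin)
  rw [← PrimeSpectrum.height_eq_orderHeight, ← PrimeSpectrum.height_eq_orderHeight,
    ← PrimeSpectrum.height_eq_orderHeight] at h
  exact h

/-- One-generator case of the dimension formula with equality when `R[X]` is catenary. -/
theorem height_add_trdeg_eq_of_aeval_surjective {R : Type u} {S : Type v} [CommRing R] [IsDomain R]
    [IsNoetherianRing R] (hcat : CAlg.IsCatenary R[X])
    [CommRing S] [IsDomain S] [Algebra R S] [FaithfulSMul R S] (x : S)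
    (hx : Function.Surjective (aeval x : R[X] →ₐ[R] S))
    (p : Ideal R) [p.IsPrime] (q : Ideal S) [q.IsPrime] [q.LiesOver p] :
    (q.height : Cardinal.{v}) + Algebra.trdeg (R ⧸ p) (S ⧸ q) =
      (p.height : Cardinal.{v}) + Algebra.trdeg R S := by
  have h0 := height_comap_aeval_add_trdeg x hx p q
  by_cases htr : Transcendental R x
  · have hinj : Function.Injective (aeval x : R[X] →ₐ[R] S) := transcendental_iff_injective.mp htr
    let e : R[X] ≃ₐ[R] S := AlgEquiv.ofBijective (aeval x) ⟨hinj, hx⟩
    have h1 : Algebra.trdeg R S = 1 := by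
      have := e.lift_trdeg_eq
      rw [Polynomial.trdeg_of_isDomain] at this
      simpa using this.symm
    have h2 : (q.comap (aeval x : R[X] →ₐ[R] S).toRingHom).height = q.height :=
      RingEquiv.height_comap e.toRingEquiv q
    rw [h2] at h0
    rw [h0, h1]
  · have halg : IsAlgebraic R x := by rwa [Transcendental, not_not] at htr
    have hA : Algebra.IsAlgebraic R S := by
      have h1 : (Algebra.adjoin R {x}).IsAlgebraic :=
        Algebra.isAlgebraic_adjoin_singleton_iff.mpr halg
      have htop : Algebra.adjoin R {x} = ⊤ := by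
        rw [Algebra.adjoin_singleton_eq_range_aeval]
        exact (AlgHom.range_eq_top _).mpr hx
      rw [htop] at h1
      exact Algebra.isAlgebraic_iff.mpr h1
    have h1 : Algebra.trdeg R S = 0 := trdeg_eq_zero
    set f : R[X] →+* S := (aeval x : R[X] →ₐ[R] S).toRingHom with hf
    have hne : RingHom.ker f ≠ ⊥ := by
      intro h
      exact htr (transcendental_iff_injective.mpr ((RingHom.injective_iff_ker_eq_bot f).mpr h))
    haveI hkp : (RingHom.ker f).IsPrime := RingHom.ker_isPrime f
    have hC : (RingHom.ker f).comap (C : R →+* R[X]) = ⊥ := by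
      rw [eq_bot_iff]
      intro d hd
      have : aeval x (C d) = 0 := hd
      rw [aeval_C] at this
      exact (FaithfulSMul.algebraMap_injective R S) (by simpa using this)
    have hk1 : (RingHom.ker f).height = 1 := height_eq_one_of_comap_C_eq_bot _ hne hC
    have hfin : (q.comap f).height < ⊤ := Ideal.height_lt_top_of_isPrime
    have h2 := height_comap_eq_add_of_isCatenary hcat f hx q hfin
    rw [hk1] at h2
    rw [h2, Cardinal.ofENat_add, add_comm ((1 : ℕ∞) : Cardinal.{v}), add_right_comm] at h0
    rw [h1, add_zero]
    have : ((1 : ℕ∞) : Cardinal.{v}) = 1 := by simp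
    rw [this] at h0
    exact Cardinal.add_one_inj.mp h0

theorem height_add_trdeg_eq_aux (n : ℕ) : ∀ (R : Type u) (S : Type u) [CommRing R] [IsDomain R]
    (hR : CAlg.IsUniversallyCatenary R) [CommRing S] [IsDomain S] [Algebra R S] [FaithfulSMul R S]
    (s : Finset S), s.card ≤ n → Algebra.adjoin R (↑s : Set S) = ⊤ →
    ∀ (p : Ideal R) [p.IsPrime] (q : Ideal S) [q.IsPrime] [q.LiesOver p],
    (q.height : Cardinal.{u}) + Algebra.trdeg (R ⧸ p) (S ⧸ q) =
      (p.height : Cardinal.{u}) + Algebra.trdeg R S := by
  induction n with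
  | zero =>
    intro R S _ _ hR _ _ _ _ s hs hadj p _ q _ _
    haveI := hR.1
    have hs0 : s = ∅ := Finset.card_eq_zero.mp (Nat.le_zero.mp hs)
    subst hs0
    rw [Finset.coe_empty, Algebra.adjoin_empty] at hadj
    have hsurj : Function.Surjective (algebraMap R S) :=
      Algebra.surjective_algebraMap_iff.mpr hadj.symm
    refine height_add_trdeg_eq_of_aeval_surjective (hR.2 R[X] inferInstance) (0 : S) ?_ p q
    intro y
    obtain ⟨r, rfl⟩ := hsurj y
    exact ⟨C r, by simp⟩
  | succ n ih =>
    intro R S _ _ hR _ _ _ _ s hs hadj p _ q _ _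
    haveI := hR.1
    classical
    by_cases hse : s = ∅
    · subst hse
      rw [Finset.coe_empty, Algebra.adjoin_empty] at hadj
      have hsurj : Function.Surjective (algebraMap R S) :=
        Algebra.surjective_algebraMap_iff.mpr hadj.symm
      refine height_add_trdeg_eq_of_aeval_surjective (hR.2 R[X] inferInstance) (0 : S) ?_ p q
      intro y
      obtain ⟨r, rfl⟩ := hsurj y
      exact ⟨C r, by simp⟩
    obtain ⟨x, hxs⟩ := Finset.nonempty_iff_ne_empty.mpr hse
    set s' : Finset S := s.erase x with hs'
    have hcard : s'.card ≤ n := by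
      rw [hs', Finset.card_erase_of_mem hxs]; omega
    have hins : insert x (↑s' : Set S) = ↑s := by
      rw [hs', ← Finset.coe_insert, Finset.insert_erase hxs]
    set S' : Subalgebra R S := Algebra.adjoin R (↑s' : Set S) with hS'
    haveI : FaithfulSMul R S' := faithfulSMul_adjoin S'
    haveI : Algebra.FiniteType R S' := by
      rw [← Subalgebra.fg_iff_finiteType]
      exact ⟨s', rfl⟩
    haveI : IsNoetherianRing S' := Algebra.FiniteType.isNoetherianRing R S'
    let t : Finset S' := s'.subtype (· ∈ S')
    have htcard : t.card ≤ n := by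
      refine le_trans ?_ hcard
      rw [Finset.card_subtype]
      exact Finset.card_filter_le _ _
    have htadj : Algebra.adjoin R (↑t : Set S') = ⊤ := by
      have : (↑t : Set S') = (Subtype.val ⁻¹' (↑s' : Set S)) := by
        ext y
        simp [t]
      rw [this]
      exact Algebra.adjoin_adjoin_coe_preimage
    set q' : Ideal S' := q.under S' with hq'
    haveI : q.LiesOver q' := ⟨rfl⟩
    haveI : q'.LiesOver p := Ideal.LiesOver.tower_bot q q' p
    have h1 := ih R S' hR t htcard htadj p q'
    have hx : Function.Surjective (aeval x : S'[X] →ₐ[S'] S) :=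
      aeval_surjective_of_adjoin_insert (↑s' : Set S) x (by rw [hins, hadj])
    have hcat : CAlg.IsCatenary S'[X] :=
      hR.2 S'[X] (Algebra.FiniteType.trans (inferInstance : Algebra.FiniteType R S')
        (inferInstance : Algebra.FiniteType S' S'[X]))
    have h2 := height_add_trdeg_eq_of_aeval_surjective (R := S') (S := S) hcat x hx q' q
    have h3 := trdeg_quotient_add (R := R) (S' := S') (S := S) p q' q
    have h4 : Algebra.trdeg R S' + Algebra.trdeg S' S = Algebra.trdeg R S :=
      trdeg_add_eq R S' (A := S)
    calc (q.height : Cardinal.{u}) + Algebra.trdeg (R ⧸ p) (S ⧸ q)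
        = ((q.height : Cardinal.{u}) + Algebra.trdeg (S' ⧸ q') (S ⧸ q)) +
            Algebra.trdeg (R ⧸ p) (S' ⧸ q') := by rw [← h3]; ring
      _ = ((q'.height : Cardinal.{u}) + Algebra.trdeg S' S) + Algebra.trdeg (R ⧸ p) (S' ⧸ q') := by
          rw [h2]
      _ = ((q'.height : Cardinal.{u}) + Algebra.trdeg (R ⧸ p) (S' ⧸ q')) + Algebra.trdeg S' S := by
          ring
      _ = ((p.height : Cardinal.{u}) + Algebra.trdeg R S') + Algebra.trdeg S' S := by rw [h1]
      _ = (p.height : Cardinal.{u}) + Algebra.trdeg R S := by rw [← h4]; ring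

/-- **Dimension formula, equality** for universally catenary base (Stacks 02IJ). -/
theorem height_add_trdeg_eq (R : Type u) (S : Type u) [CommRing R] [IsDomain R]
    (hR : CAlg.IsUniversallyCatenary R) [CommRing S] [IsDomain S] [Algebra R S] [FaithfulSMul R S]
    [Algebra.FiniteType R S] (p : Ideal R) [p.IsPrime] (q : Ideal S) [q.IsPrime] [q.LiesOver p] :
    (q.height : Cardinal.{u}) + Algebra.trdeg (R ⧸ p) (S ⧸ q) =
      (p.height : Cardinal.{u}) + Algebra.trdeg R S := by
  obtain ⟨s, hs⟩ := (Algebra.FiniteType.out : (⊤ : Subalgebra R S).FG)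
  exact height_add_trdeg_eq_aux s.card R S hR s le_rfl hs p q

end Groth.Agent.Lib.Helper73.DimFormula
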