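/-
helper73: dimension formula with equality under weaker (local) catenary hypotheses.
* `height_eq_add_of_posetCatenary_Iic`, `height_comap_eq_add_of_posetCatenary_Iic`: only the primes
  below the relevant prime need to form a catenary poset.
* `CatHyp q`: for every f.t. `R`-algebra `B` with an injective `R`-map `φ : B → S[X]` and `x : S`,
  the primes of `B` below `φ⁻¹(ev_x⁻¹ q)` form a catenary poset.
* `height_add_trdeg_eq_of_catHyp`: equality in the dimension formula under `CatHyp q`.
* `posetCatenary_Iic_of_isCatenary_localization`: produce such poset hypotheses from catenary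
  localizations.
-/
import Groth.Agent.Lib.Helper73.DimFormulaCat
import Mathlib.RingTheory.Spectrum.Prime.RingHom

set_option linter.style.haveILetI false
set_option linter.unusedVariables false
set_option linter.unusedSectionVars false
universe u v
open Groth.Agent.Lib.Helper34 Polynomial Cardinal

namespace Groth.Agent.Lib.Helper73.DimFormula

/-- Variant of `height_eq_add_of_posetCatenary` where only the lower set below `e y` is assumed
catenary. -/
theorem height_eq_add_of_posetCatenary_Iic {α : Type u} {β : Type v} [PartialOrder α] [OrderBot α]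
    [PartialOrder β] (e : β ↪o α) (a : α) (he : Set.range e = Set.Ici a)
    (y : β) (hα : PosetCatenary (Set.Iic (e y))) (hfin : Order.height (e y) < ⊤) :
    Order.height (e y) = Order.height a + Order.height y := by
  have hay : a ≤ e y := by
    have : e y ∈ Set.Ici a := he ▸ Set.mem_range_self y
    exact this
  have hfa : Order.height a < ⊤ := lt_of_le_of_lt (Order.height_mono hay) hfin
  have hfy : Order.height y < ⊤ :=
    lt_of_le_of_lt (Order.height_le_height_apply_of_strictMono e e.strictMono y) hfin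
  obtain ⟨n, hn⟩ := ENat.ne_top_iff_exists.mp hfin.ne
  obtain ⟨na, hna⟩ := ENat.ne_top_iff_exists.mp hfa.ne
  obtain ⟨ny, hny⟩ := ENat.ne_top_iff_exists.mp hfy.ne
  obtain ⟨d, hdl, hdn⟩ := Order.exists_series_of_height_eq_coe (e y) hn.symm
  obtain ⟨c1, hc1l, hc1n⟩ := Order.exists_series_of_height_eq_coe a hna.symm
  obtain ⟨c2, hc2l, hc2n⟩ := Order.exists_series_of_height_eq_coe y hny.symm
  have hd : (d.length : ℕ∞) = Order.height d.last := by rw [hdl, hdn, hn]
  have hc1 : (c1.length : ℕ∞) = Order.height c1.last := by rw [hc1l, hc1n, hna]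
  have hc2 : (c2.length : ℕ∞) = Order.height c2.last := by rw [hc2l, hc2n, hny]
  have hdhead : d.head = ⊥ := (isMin_head_of_length_eq_height d hd).eq_bot
  have hc1head : c1.head = ⊥ := (isMin_head_of_length_eq_height c1 hc1).eq_bot
  have hc2head : e c2.head = a := by
    obtain ⟨y0, hy0⟩ : a ∈ Set.range e := he ▸ Set.mem_Ici.mpr le_rfl
    have h1 : a ≤ e c2.head := by
      have : e c2.head ∈ Set.Ici a := he ▸ Set.mem_range_self _
      exact this
    have h2 : y0 ≤ c2.head := by rw [← e.le_iff_le, hy0]; exact h1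
    have h3 := (isMin_head_of_length_eq_height c2 hc2) h2
    rw [← hy0]
    exact le_antisymm (e.monotone h3) (e.monotone h2)
  have hrange : (Set.range e).OrdConnected := by rw [he]; exact Set.ordConnected_Ici
  let c2' : LTSeries α := c2.map e e.strictMono
  have hconn : c1.last = c2'.head := by
    rw [hc1l]; exact hc2head.symm
  let c : LTSeries α := c1.smash c2' hconn
  have hcsat : ∀ i : Fin c.length, c i.castSucc ⋖ c i.succ := by
    refine smash_covBy c1 c2' hconn (covBy_of_length_eq_height c1 hc1) ?_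
    intro i
    exact covBy_map_of_ordConnected e hrange (covBy_of_length_eq_height c2 hc2 i)
  have hclen : c.length = c1.length + c2.length := by
    simp [c, c2', RelSeries.smash_length]
  have hchead : c.head = d.head := by
    rw [hdhead]; simp only [c]; rw [RelSeries.head_smash, hc1head]
  have hclast : c.last = e y := by
    simp only [c]; rw [RelSeries.last_smash]
    simp [c2', hc2l]
  have hT : IsLowerSet (Set.Iic (e y)) := isLowerSet_Iic _
  have hcT : c.last ∈ Set.Iic (e y) := by rw [hclast]; exact Set.mem_Iic.mpr le_rfl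
  have hdT : d.last ∈ Set.Iic (e y) := by rw [hdl]; exact Set.mem_Iic.mpr le_rfl
  have hlen := hα.2 (liftSeriesLower _ hT c hcT) (liftSeriesLower _ hT d hdT)
    (Subtype.ext (by rw [liftSeriesLower_head, liftSeriesLower_head, hchead]))
    (Subtype.ext (by rw [liftSeriesLower_last, liftSeriesLower_last, hclast, hdl]))
    (fun i => covBy_subtype_of_covBy _ (hcsat i))
    (fun i => covBy_subtype_of_covBy _ (covBy_of_length_eq_height d hd i))
  simp only [liftSeriesLower_length] at hlen
  rw [← hn, ← hna, ← hny, ← hdn, ← hlen, hclen, hc1n, hc2n]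
  push_cast; rfl

/-- Ring version: only the primes below `f⁻¹ q` need to form a catenary poset. -/
theorem height_comap_eq_add_of_posetCatenary_Iic {A : Type u} {B : Type v} [CommRing A] [IsDomain A]
    [CommRing B] (f : A →+* B) (hf : Function.Surjective f)
    [hker : (RingHom.ker f).IsPrime] (q : Ideal B) [hq : q.IsPrime]
    (hA : PosetCatenary (Set.Iic (⟨q.comap f, inferInstance⟩ : PrimeSpectrum A)))
    (hfin : (q.comap f).height < ⊤) :
    (q.comap f).height = (RingHom.ker f).height + q.height := by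
  let e : PrimeSpectrum B ↪o PrimeSpectrum A :=
    { toFun := PrimeSpectrum.comap f
      inj' := PrimeSpectrum.comap_injective_of_surjective f hf
      map_rel_iff' := by
        intro p1 p2
        exact Ideal.comap_le_comap_iff_of_surjective f hf p1.asIdeal p2.asIdeal }
  have he : Set.range e = Set.Ici (⟨RingHom.ker f, hker⟩ : PrimeSpectrum A) := by
    have : Set.range e = Set.range (PrimeSpectrum.comap f) := rfl
    rw [this, _root_.range_comap_of_surjective _ f hf]
    ext P
    simp only [PrimeSpectrum.mem_zeroLocus, Set.mem_Ici, SetLike.coe_subset_coe]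
    rfl
  have h := height_eq_add_of_posetCatenary_Iic e ⟨RingHom.ker f, hker⟩ he
    ⟨q, hq⟩ hA (by
      rw [← PrimeSpectrum.height_eq_orderHeight]
      exact hfin)
  rw [← PrimeSpectrum.height_eq_orderHeight, ← PrimeSpectrum.height_eq_orderHeight,
    ← PrimeSpectrum.height_eq_orderHeight] at h
  exact h

/-- One-generator case of the dimension formula with equality, assuming only that the primes of
`R[X]` below the preimage of `q` form a catenary poset. -/
theorem height_add_trdeg_eq_of_aeval_surjective_Iic {R : Type u} {S : Type v} [CommRing R]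
    [IsDomain R] [IsNoetherianRing R]
    [CommRing S] [IsDomain S] [Algebra R S] [FaithfulSMul R S] (x : S)
    (hx : Function.Surjective (aeval x : R[X] →ₐ[R] S))
    (p : Ideal R) [p.IsPrime] (q : Ideal S) [q.IsPrime] [q.LiesOver p]
    (hcat : PosetCatenary (Set.Iic (⟨q.comap (aeval x : R[X] →ₐ[R] S).toRingHom, inferInstance⟩ :
      PrimeSpectrum R[X]))) :
    (q.height : Cardinal.{v}) + Algebra.trdeg (R ⧸ p) (S ⧸ q) =
      (p.height : Cardinal.{v}) + Algebra.trdeg R S := by
  have h0 := height_comap_aeval_add_trdeg x hx p q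
  by_cases htr : Transcendental R x
  · have hinj : Function.Injective (aeval x : R[X] →ₐ[R] S) := transcendental_iff_injective.mp htr
    let e : R[X] ≃ₐ[R] S := AlgEquiv.ofBijective (aeval x) ⟨hinj, hx⟩
    have h1 : Algebra.trdeg R S = 1 := by
      have := e.lift_trdeg_eq
      rw [Polynomial.trdeg_of_isDomain] at this
      simpa using this.symm
    have h2 : (q.comap (aeval x : R[X] →ₐ[R] S).toRingHom).height = q.height :=
      RingEquiv.height_comap e.toRingEquiv q
    rw [h2] at h0
    rw [h0, h1]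
  · have halg : IsAlgebraic R x := by rwa [Transcendental, not_not] at htr
    have hA : Algebra.IsAlgebraic R S := by
      have h1 : (Algebra.adjoin R {x}).IsAlgebraic :=
        Algebra.isAlgebraic_adjoin_singleton_iff.mpr halg
      have htop : Algebra.adjoin R {x} = ⊤ := by
        rw [Algebra.adjoin_singleton_eq_range_aeval]
        exact (AlgHom.range_eq_top _).mpr hx
      rw [htop] at h1
      exact Algebra.isAlgebraic_iff.mpr h1
    have h1 : Algebra.trdeg R S = 0 := trdeg_eq_zero
    set f : R[X] →+* S := (aeval x : R[X] →ₐ[R] S).toRingHom with hf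
    have hne : RingHom.ker f ≠ ⊥ := by
      intro h
      exact htr (transcendental_iff_injective.mpr ((RingHom.injective_iff_ker_eq_bot f).mpr h))
    haveI hkp : (RingHom.ker f).IsPrime := RingHom.ker_isPrime f
    have hC : (RingHom.ker f).comap (C : R →+* R[X]) = ⊥ := by
      rw [eq_bot_iff]
      intro d hd
      have : aeval x (C d) = 0 := hd
      rw [aeval_C] at this
      exact (FaithfulSMul.algebraMap_injective R S) (by simpa using this)
    have hk1 : (RingHom.ker f).height = 1 := height_eq_one_of_comap_C_eq_bot _ hne hC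
    have hfin : (q.comap f).height < ⊤ := Ideal.height_lt_top_of_isPrime
    have h2 := height_comap_eq_add_of_posetCatenary_Iic f hx q hcat hfin
    rw [hk1] at h2
    rw [h2, Cardinal.ofENat_add, add_comm ((1 : ℕ∞) : Cardinal.{v}), add_right_comm] at h0
    rw [h1, add_zero]
    have : ((1 : ℕ∞) : Cardinal.{v}) = 1 := by simp
    rw [this] at h0
    exact Cardinal.add_one_inj.mp h0

/-- If the localization of `A'` at a prime `M` is catenary and `e : B ≃+* A'` is a ring isomorphism,
then the primes of `B` below any `I` with `e(I) ⊆ M` form a catenary poset. -/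
theorem posetCatenary_Iic_of_isCatenary_localization {B A' : Type u} [CommRing B] [CommRing A']
    (e : B ≃+* A') (M : Ideal A') [M.IsPrime]
    (hcat : CAlg.IsCatenary (Localization.AtPrime M))
    (I : Ideal B) [hI : I.IsPrime] (hIM : I.comap (e.symm : A' →+* B) ≤ M) :
    PosetCatenary (Set.Iic (⟨I, hI⟩ : PrimeSpectrum B)) := by
  have hT : PosetCatenary {p : PrimeSpectrum A' | Disjoint (M.primeCompl : Set A') p.asIdeal} := by
    rw [isCatenary_iff] at hcat
    exact hcat.of_orderIso
      (IsLocalization.primeSpectrumOrderIso M.primeCompl (Localization.AtPrime M)).symm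
  let g : Set.Iic (⟨I, hI⟩ : PrimeSpectrum B) →
      {p : PrimeSpectrum A' | Disjoint (M.primeCompl : Set A') p.asIdeal} := fun p =>
    ⟨PrimeSpectrum.comap (e.symm : A' →+* B) p.1, by
      change Disjoint (M.primeCompl : Set A') ((p.1.asIdeal.comap (e.symm : A' →+* B) : Ideal A') : Set A')
      rw [Set.disjoint_left]
      intro a ha haP
      apply ha
      apply hIM
      exact Ideal.comap_mono (show p.1.asIdeal ≤ I from p.2) haP⟩
  have hg : ∀ a b, g a ≤ g b ↔ a ≤ b := by
    intro a b
    change (a.1.asIdeal.comap (e.symm : A' →+* B)) ≤ (b.1.asIdeal.comap (e.symm : A' →+* B)) ↔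
      a.1.asIdeal ≤ b.1.asIdeal
    exact Ideal.comap_le_comap_iff_of_surjective (e.symm : A' →+* B) e.symm.surjective _ _
  let ge := OrderEmbedding.ofMapLEIff g hg
  refine hT.of_orderEmbedding ge ?_
  constructor
  rintro _ ⟨a, rfl⟩ _ ⟨b, rfl⟩ c ⟨hac, hcb⟩
  refine ⟨⟨PrimeSpectrum.comap (e : B →+* A') c.1, ?_⟩, ?_⟩
  · change (c.1.asIdeal.comap (e : B →+* A')) ≤ I
    have h1 : c.1.asIdeal ≤ b.1.asIdeal.comap (e.symm : A' →+* B) := hcb
    intro y hy
    have := h1 hy
    have h2 : y ∈ b.1.asIdeal := by simpa using this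
    exact b.2 h2
  · apply Subtype.ext
    apply PrimeSpectrum.ext
    change ((c.1.asIdeal.comap (e : B →+* A')).comap (e.symm : A' →+* B)) = c.1.asIdeal
    ext y
    simp only [Ideal.mem_comap]
    change (e (e.symm y)) ∈ c.1.asIdeal ↔ _
    rw [RingEquiv.apply_symm_apply]

section FixedTop

variable {R : Type u} {S : Type u} [CommRing R] [IsDomain R] [IsNoetherianRing R]
  [CommRing S] [IsDomain S] [Algebra R S] [FaithfulSMul R S]
  (p : Ideal R) [p.IsPrime] (q : Ideal S) [q.IsPrime] [q.LiesOver p]

def CatHyp : Prop :=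
  ∀ (B : Type u) [CommRing B] [Algebra R B] [Algebra.FiniteType R B] (φ : B →ₐ[R] S[X]),
    Function.Injective φ → ∀ x : S,
    PosetCatenary (Set.Iic (⟨(q.comap (Polynomial.evalRingHom x)).comap φ.toRingHom,
      inferInstance⟩ : PrimeSpectrum B))

theorem step_fixedTop (H : CatHyp (R := R) q) (S₂ S₁ : Type u) [CommRing S₂] [IsDomain S₂]
    [CommRing S₁] [IsDomain S₁] [Algebra R S₂] [Algebra.FiniteType R S₂] [Algebra S₂ S₁]
    [Algebra S₁ S] [Algebra S₂ S] [IsScalarTower S₂ S₁ S] [IsScalarTower R S₂ S]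
    [FaithfulSMul S₂ S₁] [FaithfulSMul S₁ S] (x : S₁)
    (hx : Function.Surjective (aeval x : S₂[X] →ₐ[S₂] S₁))
    (q₁ : Ideal S₁) [q₁.IsPrime] (hq₁ : q₁ = q.under S₁) (q₂ : Ideal S₂) [q₂.IsPrime]
    [q₁.LiesOver q₂] :
    (q₁.height : Cardinal.{u}) + Algebra.trdeg (S₂ ⧸ q₂) (S₁ ⧸ q₁) =
      (q₂.height : Cardinal.{u}) + Algebra.trdeg S₂ S₁ := by
  haveI : IsNoetherianRing S₂ := Algebra.FiniteType.isNoetherianRing R S₂
  have hinj2 : Function.Injective (algebraMap S₂ S) := by
    rw [IsScalarTower.algebraMap_eq S₂ S₁ S]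
    exact (FaithfulSMul.algebraMap_injective S₁ S).comp (FaithfulSMul.algebraMap_injective S₂ S₁)
  let φ : S₂[X] →ₐ[R] S[X] := Polynomial.mapAlgHom (IsScalarTower.toAlgHom R S₂ S)
  have hφ : Function.Injective φ := by
    have : (φ : S₂[X] → S[X]) = Polynomial.map (algebraMap S₂ S) := by
      ext g : 1
      simp [φ]
    rw [this]
    exact Polynomial.map_injective _ hinj2
  haveI : Algebra.FiniteType R S₂[X] :=
    Algebra.FiniteType.trans (inferInstance : Algebra.FiniteType R S₂)
      (inferInstance : Algebra.FiniteType S₂ S₂[X])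
  have hcat := H S₂[X] φ hφ (algebraMap S₁ S x)
  have hI : (q.comap (Polynomial.evalRingHom (algebraMap S₁ S x))).comap φ.toRingHom =
      q₁.comap (aeval x : S₂[X] →ₐ[S₂] S₁).toRingHom := by
    ext g
    simp only [Ideal.mem_comap, hq₁, Ideal.under_def]
    have : Polynomial.evalRingHom (algebraMap S₁ S x) (φ.toRingHom g) =
        algebraMap S₁ S ((aeval x : S₂[X] →ₐ[S₂] S₁).toRingHom g) := by
      change Polynomial.eval (algebraMap S₁ S x) (Polynomial.map (algebraMap S₂ S) g) =
        algebraMap S₁ S (aeval x g)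
      rw [Polynomial.eval_map, ← aeval_def, aeval_algebraMap_apply]
    rw [this]
  have hP : (⟨(q.comap (Polynomial.evalRingHom (algebraMap S₁ S x))).comap φ.toRingHom,
      inferInstance⟩ : PrimeSpectrum S₂[X]) =
      ⟨q₁.comap (aeval x : S₂[X] →ₐ[S₂] S₁).toRingHom, inferInstance⟩ := PrimeSpectrum.ext hI
  rw [hP] at hcat
  exact height_add_trdeg_eq_of_aeval_surjective_Iic x hx q₂ q₁ hcat

theorem height_add_trdeg_eq_aux_fixedTop (H : CatHyp (R := R) q) (n : ℕ) :
    ∀ (S₁ : Type u) [CommRing S₁] [IsDomain S₁] [Algebra R S₁] [Algebra S₁ S] [IsScalarTower R S₁ S]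
    [FaithfulSMul S₁ S] (s : Finset S₁), s.card ≤ n → Algebra.adjoin R (↑s : Set S₁) = ⊤ →
    ∀ (q₁ : Ideal S₁) [q₁.IsPrime] [q₁.LiesOver p], q₁ = q.under S₁ →
    (q₁.height : Cardinal.{u}) + Algebra.trdeg (R ⧸ p) (S₁ ⧸ q₁) =
      (p.height : Cardinal.{u}) + Algebra.trdeg R S₁ := by
  have hbase : ∀ (S₁ : Type u) [CommRing S₁] [IsDomain S₁] [Algebra R S₁] [Algebra S₁ S]
      [IsScalarTower R S₁ S] [FaithfulSMul S₁ S], Algebra.adjoin R (∅ : Set S₁) = ⊤ →
      ∀ (q₁ : Ideal S₁) [q₁.IsPrime] [q₁.LiesOver p], q₁ = q.under S₁ →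
      (q₁.height : Cardinal.{u}) + Algebra.trdeg (R ⧸ p) (S₁ ⧸ q₁) =
        (p.height : Cardinal.{u}) + Algebra.trdeg R S₁ := by
    intro S₁ _ _ _ _ _ _ hadj q₁ _ _ hq₁
    rw [Algebra.adjoin_empty] at hadj
    have hsurj : Function.Surjective (algebraMap R S₁) :=
      Algebra.surjective_algebraMap_iff.mpr hadj.symm
    haveI : FaithfulSMul R S₁ := by
      rw [faithfulSMul_iff_algebraMap_injective]
      have h := FaithfulSMul.algebraMap_injective R S
      rw [IsScalarTower.algebraMap_eq R S₁ S] at h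
      exact Function.Injective.of_comp h
    refine step_fixedTop q H R S₁ (0 : S₁) ?_ q₁ hq₁ p
    intro y
    obtain ⟨r, rfl⟩ := hsurj y
    exact ⟨C r, by simp⟩
  induction n with
  | zero =>
    intro S₁ _ _ _ _ _ _ s hs hadj q₁ _ _ hq₁
    have hs0 : s = ∅ := Finset.card_eq_zero.mp (Nat.le_zero.mp hs)
    subst hs0
    rw [Finset.coe_empty] at hadj
    exact hbase S₁ hadj q₁ hq₁
  | succ n ih =>
    intro S₁ _ _ _ _ _ _ s hs hadj q₁ _ _ hq₁
    classical
    by_cases hse : s = ∅
    · subst hse
      rw [Finset.coe_empty] at hadj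
      exact hbase S₁ hadj q₁ hq₁
    obtain ⟨x, hxs⟩ := Finset.nonempty_iff_ne_empty.mpr hse
    set s' : Finset S₁ := s.erase x with hs'
    have hcard : s'.card ≤ n := by
      rw [hs', Finset.card_erase_of_mem hxs]; omega
    have hins : insert x (↑s' : Set S₁) = ↑s := by
      rw [hs', ← Finset.coe_insert, Finset.insert_erase hxs]
    haveI : FaithfulSMul R S₁ := by
      rw [faithfulSMul_iff_algebraMap_injective]
      have h := FaithfulSMul.algebraMap_injective R S
      rw [IsScalarTower.algebraMap_eq R S₁ S] at h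
      exact Function.Injective.of_comp h
    set S₂ : Subalgebra R S₁ := Algebra.adjoin R (↑s' : Set S₁) with hS₂
    haveI : FaithfulSMul R S₂ := faithfulSMul_adjoin S₂
    haveI : Algebra.FiniteType R S₂ := by
      rw [← Subalgebra.fg_iff_finiteType]
      exact ⟨s', rfl⟩
    haveI : IsScalarTower S₂ S₁ S := inferInstance
    haveI : IsScalarTower R S₂ S := IsScalarTower.of_algebraMap_eq (fun r => by
      rw [IsScalarTower.algebraMap_apply R S₁ S]; rfl)
    haveI : FaithfulSMul S₂ S := by
      rw [faithfulSMul_iff_algebraMap_injective]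
      exact (FaithfulSMul.algebraMap_injective S₁ S).comp Subtype.val_injective
    let t : Finset S₂ := s'.subtype (· ∈ S₂)
    have htcard : t.card ≤ n := by
      refine le_trans ?_ hcard
      rw [Finset.card_subtype]
      exact Finset.card_filter_le _ _
    have htadj : Algebra.adjoin R (↑t : Set S₂) = ⊤ := by
      have : (↑t : Set S₂) = (Subtype.val ⁻¹' (↑s' : Set S₁)) := by
        ext y
        simp [t]
      rw [this]
      exact Algebra.adjoin_adjoin_coe_preimage
    set q₂ : Ideal S₂ := q₁.under S₂ with hq₂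
    haveI : q₁.LiesOver q₂ := ⟨rfl⟩
    haveI : q₂.LiesOver p := Ideal.LiesOver.tower_bot q₁ q₂ p
    have hq₂' : q₂ = q.under S₂ := by
      rw [hq₂, hq₁, Ideal.under_under]
    have h1 := ih S₂ t htcard htadj q₂ hq₂'
    have hx : Function.Surjective (aeval x : S₂[X] →ₐ[S₂] S₁) :=
      aeval_surjective_of_adjoin_insert (↑s' : Set S₁) x (by rw [hins, hadj])
    have h2 := step_fixedTop q H S₂ S₁ x hx q₁ hq₁ q₂
    have h3 := trdeg_quotient_add (R := R) (S' := S₂) (S := S₁) p q₂ q₁
    have h4 : Algebra.trdeg R S₂ + Algebra.trdeg S₂ S₁ = Algebra.trdeg R S₁ :=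
      trdeg_add_eq R S₂ (A := S₁)
    calc (q₁.height : Cardinal.{u}) + Algebra.trdeg (R ⧸ p) (S₁ ⧸ q₁)
        = ((q₁.height : Cardinal.{u}) + Algebra.trdeg (S₂ ⧸ q₂) (S₁ ⧸ q₁)) +
            Algebra.trdeg (R ⧸ p) (S₂ ⧸ q₂) := by rw [← h3]; ring
      _ = ((q₂.height : Cardinal.{u}) + Algebra.trdeg S₂ S₁) + Algebra.trdeg (R ⧸ p) (S₂ ⧸ q₂) := by
          rw [h2]
      _ = ((q₂.height : Cardinal.{u}) + Algebra.trdeg (R ⧸ p) (S₂ ⧸ q₂)) + Algebra.trdeg S₂ S₁ := by
          ring
      _ = ((p.height : Cardinal.{u}) + Algebra.trdeg R S₂) + Algebra.trdeg S₂ S₁ := by rw [h1]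
      _ = (p.height : Cardinal.{u}) + Algebra.trdeg R S₁ := by rw [← h4]; ring

/-- Dimension formula with equality under the catenary hypothesis `CatHyp`. -/
theorem height_add_trdeg_eq_of_catHyp [Algebra.FiniteType R S] (H : CatHyp (R := R) q) :
    (q.height : Cardinal.{u}) + Algebra.trdeg (R ⧸ p) (S ⧸ q) =
      (p.height : Cardinal.{u}) + Algebra.trdeg R S := by
  obtain ⟨s, hs⟩ := (Algebra.FiniteType.out : (⊤ : Subalgebra R S).FG)
  refine height_add_trdeg_eq_aux_fixedTop p q H s.card S s le_rfl hs q ?_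
  ext y
  simp [Ideal.under_def]

end FixedTop

end Groth.Agent.Lib.Helper73.DimFormula
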