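/-
helper73: the dimension formula with equality, ring form, under a LOCAL universally catenary
hypothesis (Stacks 02IJ / EGA IV 5.6.1 for `A_p` universally catenary).
* `posetCatenary_Iic_of_isLocalization`.
* `height_quotient_add_trdeg_eq`: `A` Noetherian, `B` f.t. over `A`, primes `q₀ ≤ q` of `B` over
  `p₀ ≤ p`, `A_p` universally catenary:
  `ht (q/q₀) + trdeg (κ(q)/κ(p)) = ht (p/p₀) + trdeg (κ(q₀)/κ(p₀))`.
-/
import Groth.Agent.Lib.Helper73.DimFormulaCat2
import Groth.Agent.Lib.Helper73.DimLocal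
import Mathlib.RingTheory.RingHom.FiniteType

set_option linter.style.haveILetI false
set_option autoImplicit false
universe u
open Cardinal Polynomial Groth.Agent.Lib.Helper34

namespace Groth.Agent.Lib.Helper73.DimFormula

/-- If a localization `C'` of `C` at `M` is catenary, the primes of `C` below a prime `I` disjoint
from `M` form a catenary poset. -/
theorem posetCatenary_Iic_of_isLocalization {C : Type u} [CommRing C] (M : Submonoid C)
    (C' : Type u) [CommRing C'] [Algebra C C'] [IsLocalization M C']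
    (hcat : CAlg.IsCatenary C') (I : Ideal C) [hI : I.IsPrime]
    (hd : Disjoint (M : Set C) (I : Set C)) :
    PosetCatenary (Set.Iic (⟨I, hI⟩ : PrimeSpectrum C)) := by
  have hT : PosetCatenary {p : PrimeSpectrum C | Disjoint (M : Set C) p.asIdeal} := by
    rw [isCatenary_iff] at hcat
    exact hcat.of_orderIso (IsLocalization.primeSpectrumOrderIso M C').symm
  let g : Set.Iic (⟨I, hI⟩ : PrimeSpectrum C) →
      {p : PrimeSpectrum C | Disjoint (M : Set C) p.asIdeal} := fun p =>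
    ⟨p.1, hd.mono_right (show (p.1.asIdeal : Set C) ⊆ I from p.2)⟩
  have hg : ∀ a b, g a ≤ g b ↔ a ≤ b := fun a b => Iff.rfl
  let ge := OrderEmbedding.ofMapLEIff g hg
  refine hT.of_orderEmbedding ge ?_
  constructor
  rintro _ ⟨a, rfl⟩ _ ⟨b, rfl⟩ c ⟨hac, hcb⟩
  refine ⟨⟨c.1, ?_⟩, ?_⟩
  · exact le_trans (show c.1 ≤ b.1 from hcb) b.2
  · rfl

/-- **Dimension formula, equality** (ring form, local hypothesis). If the local ring `A_p` is
universally catenary, then for primes `q₀ ≤ q` of a finite type `A`-algebra `B` lying over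
`p₀ ≤ p`: `ht (q/q₀) + trdeg (κ(q)/κ(p)) = ht (p/p₀) + trdeg (κ(q₀)/κ(p₀))`. -/
theorem height_quotient_add_trdeg_eq {A B : Type u} [CommRing A] [IsNoetherianRing A]
    [CommRing B] [Algebra A B] [Algebra.FiniteType A B]
    (q₀ q : Ideal B) [q₀.IsPrime] [q.IsPrime] (hle : q₀ ≤ q)
    (p₀ p : Ideal A) [p₀.IsPrime] [p.IsPrime] [q₀.LiesOver p₀] [q.LiesOver p]
    [hq' : (q.map (Ideal.Quotient.mk q₀)).IsPrime] [hp' : (p.map (Ideal.Quotient.mk p₀)).IsPrime]
    (hcat : CAlg.IsUniversallyCatenary (Localization.AtPrime p)) :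
    ((q.map (Ideal.Quotient.mk q₀)).height : Cardinal.{u}) + Algebra.trdeg (A ⧸ p) (B ⧸ q) =
      ((p.map (Ideal.Quotient.mk p₀)).height : Cardinal.{u}) + Algebra.trdeg (A ⧸ p₀) (B ⧸ q₀) := by
  have hple : p₀ ≤ p := by
    rw [Ideal.over_def q₀ p₀, Ideal.over_def q p]
    exact Ideal.comap_mono hle
  haveI : Algebra.FiniteType A (B ⧸ q₀) :=
    Algebra.FiniteType.of_surjective (Ideal.Quotient.mkₐ A q₀) (Ideal.Quotient.mkₐ_surjective A q₀)
  haveI : Algebra.FiniteType (A ⧸ p₀) (B ⧸ q₀) :=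
    Algebra.FiniteType.of_restrictScalars_finiteType A (A ⧸ p₀) (B ⧸ q₀)
  haveI hlo : (q.map (Ideal.Quotient.mk q₀)).LiesOver (p.map (Ideal.Quotient.mk p₀)) := by
    constructor
    ext r
    obtain ⟨r, rfl⟩ := Ideal.Quotient.mk_surjective r
    rw [Ideal.under_def, Ideal.mem_comap, Ideal.Quotient.algebraMap_mk_of_liesOver,
      Ideal.mem_quotient_iff_mem hple, Ideal.mem_quotient_iff_mem hle, Ideal.over_def q p,
      Ideal.under_def, Ideal.mem_comap]
  have hinv : Algebra.trdeg ((A ⧸ p₀) ⧸ p.map (Ideal.Quotient.mk p₀))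
      ((B ⧸ q₀) ⧸ q.map (Ideal.Quotient.mk q₀)) = Algebra.trdeg (A ⧸ p) (B ⧸ q) := by
    haveI : Nontrivial ((A ⧸ p₀) ⧸ p.map (Ideal.Quotient.mk p₀)) :=
      Ideal.Quotient.nontrivial_iff.mpr hp'.ne_top
    haveI : Nontrivial (A ⧸ p) := Ideal.Quotient.nontrivial_iff.mpr (Ideal.IsPrime.ne_top inferInstance)
    refine trdeg_eq_of_ringEquiv (DoubleQuot.quotQuotEquivQuotOfLE hple)
      (DoubleQuot.quotQuotEquivQuotOfLE hle) ?_
    intro d
    obtain ⟨d, rfl⟩ := Ideal.Quotient.mk_surjective d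
    obtain ⟨d, rfl⟩ := Ideal.Quotient.mk_surjective d
    rfl
  rw [← hinv]
  refine height_add_trdeg_eq_of_catHyp (p.map (Ideal.Quotient.mk p₀))
    (q.map (Ideal.Quotient.mk q₀)) ?_
  intro C _ _ _ φ hφ x
  -- `C` as an `A`-algebra
  letI : Algebra A C := ((algebraMap (A ⧸ p₀) C).comp (Ideal.Quotient.mk p₀)).toAlgebra
  haveI : IsScalarTower A (A ⧸ p₀) C := IsScalarTower.of_algebraMap_eq (fun _ => rfl)
  haveI : Algebra.FiniteType A (A ⧸ p₀) :=
    Algebra.FiniteType.of_surjective (Ideal.Quotient.mkₐ A p₀) (Ideal.Quotient.mkₐ_surjective A p₀)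
  haveI : Algebra.FiniteType A C :=
    Algebra.FiniteType.trans (R := A) (S := A ⧸ p₀) (A := C) inferInstance inferInstance
  let M : Submonoid C := Algebra.algebraMapSubmonoid C p.primeCompl
  let C' := Localization M
  haveI : Algebra.FiniteType (Localization.AtPrime p) C' := by
    have h1 : (algebraMap A C).FiniteType := RingHom.finiteType_algebraMap.mpr inferInstance
    haveI : IsLocalization (Submonoid.map (algebraMap A C) p.primeCompl) C' :=
      (Localization.isLocalization (M := M))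
    have h2 := RingHom.finiteType_localizationPreserves (algebraMap A C) p.primeCompl
      (Localization.AtPrime p) C' h1
    exact h2
  have hC' : CAlg.IsCatenary C' := hcat.2 C' inferInstance
  refine posetCatenary_Iic_of_isLocalization M C' hC' _ ?_
  rw [Set.disjoint_left]
  rintro _ ⟨a, ha, rfl⟩ hmem
  apply ha
  -- `a ∈ p`
  have h1 : (Polynomial.evalRingHom x) (φ.toRingHom (algebraMap A C a)) ∈
      q.map (Ideal.Quotient.mk q₀) := hmem
  have h2 : φ.toRingHom (algebraMap A C a) =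
      Polynomial.C (algebraMap (A ⧸ p₀) (B ⧸ q₀) (Ideal.Quotient.mk p₀ a)) := by
    change φ (algebraMap (A ⧸ p₀) C (Ideal.Quotient.mk p₀ a)) = _
    rw [AlgHom.commutes]
    rfl
  rw [h2, Polynomial.coe_evalRingHom, Polynomial.eval_C] at h1
  have h3 : Ideal.Quotient.mk p₀ a ∈ (q.map (Ideal.Quotient.mk q₀)).under (A ⧸ p₀) := h1
  rw [← hlo.over, Ideal.mem_quotient_iff_mem hple] at h3
  exact h3

end Groth.Agent.Lib.Helper73.DimFormula
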