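/-
helper73: the dimension formula for schemes in terms of relative heights of points.
`relHt y x` (from `RelHt`) = sup of lengths of chains of points from `y` up to its generalization `x`
(Mathlib's specialization preorder on schemes: `a ≤ b ↔ b ⤳ a`).
* `DimFormula.exists_ltSeries_length_eq_height_quotient`, `DimFormula.isUniversallyCatenary_of_ringEquiv`.
* `SchemeDim.relHt_eq_height`: `relHt y x = ht (q_y / q_x)` in an affine open (Noetherian).
* `SchemeDim.relHt_add_trdeg_aux`: for `f : X ⟶ S` l.f.t., `S` locally Noetherian, `x ⤳ y`: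
  `relHt y x + trdeg κ(y)/κ(f y) ≤ relHt (f y) (f x) + trdeg κ(x)/κ(f x)`, with equality when
  `O_{S, f y}` is universally catenary.
-/
import Groth.Agent.Lib.Helper73.AffineChains
import Groth.Agent.Lib.Helper73.DimLocalEq
import Groth.Agent.Lib.Helper73.RelHt
import Groth.Agent.S9126

set_option linter.style.haveILetI false
set_option autoImplicit false
universe u
open Cardinal CategoryTheory AlgebraicGeometry

namespace Groth.Agent.Lib.Helper73.DimFormula

open Groth.Agent.Lib.Helper34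

/-- a chain of primes from `q₀` to `q` of length `ht (q/q₀)`. -/
theorem exists_ltSeries_length_eq_height_quotient {B : Type*} [CommRing B] [IsNoetherianRing B]
    (q₀ q : Ideal B) [hq₀ : q₀.IsPrime] [hq : q.IsPrime] (hle : q₀ ≤ q)
    [hq' : (q.map (Ideal.Quotient.mk q₀)).IsPrime] :
    ∃ l : LTSeries (PrimeSpectrum B), l.head = ⟨q₀, hq₀⟩ ∧ l.last = ⟨q, hq⟩ ∧
      (l.length : ℕ∞) = (q.map (Ideal.Quotient.mk q₀)).height := by
  obtain ⟨lq, hlq, hlenq⟩ := (q.map (Ideal.Quotient.mk q₀)).exists_ltSeries_length_eq_height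
  have hmin : IsMin lq.head := by
    apply isMin_head_of_length_eq_height
    have h1 := PrimeSpectrum.height_eq_orderHeight lq.last
    rw [← h1, hlenq, hlq]
  have hhead : lq.head = ⊥ := by
    have := hmin (bot_le : (⊥ : PrimeSpectrum (B ⧸ q₀)) ≤ lq.head)
    exact le_antisymm this bot_le
  have hsm : StrictMono (PrimeSpectrum.comap (Ideal.Quotient.mk q₀)) :=
    RingHom.strictMono_comap_of_surjective Ideal.Quotient.mk_surjective
  refine ⟨lq.map _ hsm, ?_, ?_, ?_⟩
  · rw [LTSeries.head_map, hhead]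
    apply PrimeSpectrum.ext
    change (⊥ : Ideal (B ⧸ q₀)).comap (Ideal.Quotient.mk q₀) = q₀
    rw [← RingHom.ker_eq_comap_bot, Ideal.mk_ker]
  · rw [LTSeries.last_map, hlq]
    apply PrimeSpectrum.ext
    change (q.map (Ideal.Quotient.mk q₀)).comap (Ideal.Quotient.mk q₀) = q
    rw [Ideal.comap_map_of_surjective _ Ideal.Quotient.mk_surjective, ← RingHom.ker_eq_comap_bot,
      Ideal.mk_ker]
    exact sup_eq_left.mpr hle
  · rw [LTSeries.map_length, hlenq]

theorem isUniversallyCatenary_of_ringEquiv {R R' : Type u} [CommRing R] [CommRing R']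
    (e : R ≃+* R') (h : CAlg.IsUniversallyCatenary R) : CAlg.IsUniversallyCatenary R' := by
  letI : Algebra R R' := e.toRingHom.toAlgebra
  haveI : Algebra.FiniteType R R' := by
    refine Algebra.FiniteType.of_surjective (Algebra.ofId R R') ?_
    intro y
    exact ⟨e.symm y, e.apply_symm_apply y⟩
  exact Groth.Agent.S9126.result R R' h

end Groth.Agent.Lib.Helper73.DimFormula

namespace Groth.Agent.Lib.Helper73.SchemeDim

open Groth.Agent.Lib.Helper73.DimFormula Groth.Agent.Lib.Helper73.RelHt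

variable {X S : Scheme.{u}}

theorem eq_of_le_of_le {a b : X} (h1 : a ≤ b) (h2 : b ≤ a) : a = b :=
  (Specializes.antisymm h2 h1).eq

/-- dictionary: the relative height of points of an affine open is the height in the quotient. -/
theorem relHt_eq_height {U : X.Opens} (hU : IsAffineOpen U) [IsNoetherianRing Γ(X, U)] {x y : X}
    (hy : y ∈ U) (hx : x ∈ U) (hxy : x ⤳ y)
    [hq' : ((hU.primeIdealOf ⟨y, hy⟩).asIdeal.map
      (Ideal.Quotient.mk (hU.primeIdealOf ⟨x, hx⟩).asIdeal)).IsPrime] :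
    relHt y x = ((hU.primeIdealOf ⟨y, hy⟩).asIdeal.map
      (Ideal.Quotient.mk (hU.primeIdealOf ⟨x, hx⟩).asIdeal)).height := by
  have hle : (hU.primeIdealOf ⟨x, hx⟩).asIdeal ≤ (hU.primeIdealOf ⟨y, hy⟩).asIdeal :=
    (primeIdealOf_le_iff_specializes hU y x hy hx).mpr hxy
  apply le_antisymm
  · refine relHt_le fun c h1 h2 => ?_
    obtain ⟨l, hlen, hlast, ⟨hcl, hhead⟩, -⟩ := exists_ltSeries_primes_of_points hU c (h1 ▸ hy)
    rw [← hlen]
    refine length_le_height_map_quotient _ _ hle l ?_ ?_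
    · rw [hlast]
      congr 2
    · rw [hhead]
      apply le_of_eq
      congr 3
      exact h2.symm
  · obtain ⟨l, hhead, hlast, hlen⟩ := exists_ltSeries_length_eq_height_quotient
      (hU.primeIdealOf ⟨x, hx⟩).asIdeal (hU.primeIdealOf ⟨y, hy⟩).asIdeal hle
    obtain ⟨c, hclen, ⟨hch, hchead⟩, ⟨hcl, hclast⟩, -⟩ := exists_ltSeries_of_primes hU l
    rw [← hlen, ← hclen]
    refine length_le_relHt' c ?_ ?_
    · apply primeIdealOf_injective hU hch hy
      rw [hchead, hlast]
    · apply primeIdealOf_injective hU hcl hx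
      rw [hclast, hhead]

/-- common setup of the dimension formula: both sides in terms of `relHt`. -/
theorem relHt_add_trdeg_aux [IsLocallyNoetherian S] (f : X ⟶ S) [LocallyOfFiniteType f]
    {x y : X} (hxy : x ⤳ y) (nx ny : ℕ)
    (hnx : letI := (f.residueFieldMap x).hom.toAlgebra
      Algebra.trdeg (S.residueField (f.base x)) (X.residueField x) = nx)
    (hny : letI := (f.residueFieldMap y).hom.toAlgebra
      Algebra.trdeg (S.residueField (f.base y)) (X.residueField y) = ny) :
    relHt y x + ny ≤ relHt (f.base y) (f.base x) + nx ∧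
      (CAlg.IsUniversallyCatenary (S.presheaf.stalk (f.base y)) →
        relHt y x + ny = relHt (f.base y) (f.base x) + nx) := by
  obtain ⟨_, ⟨V, hV : IsAffineOpen V, rfl⟩, hfyV, -⟩ :=
    (S.isBasis_affineOpens).exists_subset_of_mem_open (Set.mem_univ (f.base y)) isOpen_univ
  obtain ⟨_, ⟨U, hU : IsAffineOpen U, rfl⟩, hyU, hUV⟩ :=
    (X.isBasis_affineOpens).exists_subset_of_mem_open
      (show y ∈ (f ⁻¹ᵁ V : Set X) from hfyV) (f ⁻¹ᵁ V).isOpen
  have e : U ≤ f ⁻¹ᵁ V := hUV
  have hxU : x ∈ U := hxy.mem_open U.isOpen hyU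
  letI : Algebra Γ(S, V) Γ(X, U) := (f.appLE V U e).hom.toAlgebra
  have halg : algebraMap Γ(S, V) Γ(X, U) = (f.appLE V U e).hom := rfl
  haveI : Algebra.FiniteType Γ(S, V) Γ(X, U) := f.finiteType_appLE hV hU e
  haveI : IsNoetherianRing Γ(S, V) := IsLocallyNoetherian.component_noetherian ⟨V, hV⟩
  haveI : IsNoetherianRing Γ(X, U) := Algebra.FiniteType.isNoetherianRing Γ(S, V) Γ(X, U)
  set q := (hU.primeIdealOf ⟨y, hyU⟩).asIdeal with hq
  set q₀ := (hU.primeIdealOf ⟨x, hxU⟩).asIdeal with hq₀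
  set p := (hV.primeIdealOf ⟨f.base y, e hyU⟩).asIdeal with hp
  set p₀ := (hV.primeIdealOf ⟨f.base x, e hxU⟩).asIdeal with hp₀
  haveI hlo : q.LiesOver p := liesOver_primeIdealOf f y hV hU e hyU halg
  haveI hlo₀ : q₀.LiesOver p₀ := liesOver_primeIdealOf f x hV hU e hxU halg
  have hle : q₀ ≤ q := (primeIdealOf_le_iff_specializes hU y x hyU hxU).mpr hxy
  have hfxy : f.base x ⤳ f.base y := hxy.map f.continuous
  have hple : p₀ ≤ p := (primeIdealOf_le_iff_specializes hV _ _ (e hyU) (e hxU)).mpr hfxy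
  haveI hq' : (q.map (Ideal.Quotient.mk q₀)).IsPrime :=
    Ideal.map_isPrime_of_surjective Ideal.Quotient.mk_surjective (by rwa [Ideal.mk_ker])
  haveI hp' : (p.map (Ideal.Quotient.mk p₀)).IsPrime :=
    Ideal.map_isPrime_of_surjective Ideal.Quotient.mk_surjective (by rwa [Ideal.mk_ker])
  have h1 := trdeg_residueFieldMap_eq f y hV hU e hyU halg
  have h2 := trdeg_residueFieldMap_eq f x hV hU e hxU halg
  have hny' : Algebra.trdeg (Γ(S, V) ⧸ p) (Γ(X, U) ⧸ q) = ny := by rw [← h1]; exact hny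
  have hnx' : Algebra.trdeg (Γ(S, V) ⧸ p₀) (Γ(X, U) ⧸ q₀) = nx := by rw [← h2]; exact hnx
  have hr1 : relHt y x = (q.map (Ideal.Quotient.mk q₀)).height := relHt_eq_height hU hyU hxU hxy
  have hr2 : relHt (f.base y) (f.base x) = (p.map (Ideal.Quotient.mk p₀)).height :=
    relHt_eq_height hV (e hyU) (e hxU) hfxy
  rw [hr1, hr2]
  constructor
  · have key := height_quotient_add_trdeg_le q₀ q hle p₀ p
    rw [hny', hnx'] at key
    have key' : Cardinal.ofENat ((q.map (Ideal.Quotient.mk q₀)).height + ny) ≤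
        Cardinal.ofENat ((p.map (Ideal.Quotient.mk p₀)).height + nx) := by
      simpa using key
    exact Cardinal.ofENat_le_ofENat.mp key'
  · intro hcat
    have hcat' : CAlg.IsUniversallyCatenary (Localization.AtPrime p) := by
      letI := S.presheaf.algebra_section_stalk ⟨f.base y, e hyU⟩
      haveI := hV.isLocalization_stalk ⟨f.base y, e hyU⟩
      exact isUniversallyCatenary_of_ringEquiv
        (IsLocalization.algEquiv p.primeCompl (S.presheaf.stalk (f.base y))
          (Localization.AtPrime p)).toRingEquiv hcat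
    have key := height_quotient_add_trdeg_eq q₀ q hle p₀ p hcat'
    rw [hny', hnx'] at key
    have key' : Cardinal.ofENat ((q.map (Ideal.Quotient.mk q₀)).height + ny) =
        Cardinal.ofENat ((p.map (Ideal.Quotient.mk p₀)).height + nx) := by
      simpa using key
    exact Cardinal.ofENat_injective key'

end Groth.Agent.Lib.Helper73.SchemeDim

namespace Groth.Agent.Lib.Helper73.SchemeDim

open Groth.Agent.Lib.Helper73.DimFormula Groth.Agent.Lib.Helper73.RelHt

/-- relative heights are finite on a locally Noetherian scheme. -/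
theorem relHt_lt_top {S : Scheme.{u}} [IsLocallyNoetherian S] {s t : S} (h : s ⤳ t) :
    relHt t s < ⊤ := by
  obtain ⟨_, ⟨V, hV : IsAffineOpen V, rfl⟩, htV, -⟩ :=
    (S.isBasis_affineOpens).exists_subset_of_mem_open (Set.mem_univ t) isOpen_univ
  have hsV : s ∈ V := h.mem_open V.isOpen htV
  haveI : IsNoetherianRing Γ(S, V) := IsLocallyNoetherian.component_noetherian ⟨V, hV⟩
  have hle : (hV.primeIdealOf ⟨s, hsV⟩).asIdeal ≤ (hV.primeIdealOf ⟨t, htV⟩).asIdeal :=
    (primeIdealOf_le_iff_specializes hV t s htV hsV).mpr h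
  haveI hq' : ((hV.primeIdealOf ⟨t, htV⟩).asIdeal.map
      (Ideal.Quotient.mk (hV.primeIdealOf ⟨s, hsV⟩).asIdeal)).IsPrime :=
    Ideal.map_isPrime_of_surjective Ideal.Quotient.mk_surjective (by rwa [Ideal.mk_ker])
  rw [relHt_eq_height hV htV hsV h]
  exact Ideal.height_lt_top hq'.ne_top

/-- a dimension function (in the sense of `Cyc.IsDimFun`, stated directly) is additive in `relHt`. -/
theorem eq_add_relHt_of_dimFun {S : Scheme.{u}} (δ : S → ℤ)
    (hdim : ∀ x y : S, x ⤳ y → x ≠ y →
      δ y < δ x ∧ ((∀ z : S, x ⤳ z → z ⤳ y → z = x ∨ z = y) → δ x = δ y + 1))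
    {s t : S} (h : s ⤳ t) (r : ℕ) (hr : relHt t s = r) : δ s = δ t + r := by
  refine eq_add_relHt (fun a b => eq_of_le_of_le) δ ?_ r t s h hr
  intro a b hab himm
  have hne : b ≠ a := by
    rintro rfl
    exact lt_irrefl _ hab
  refine (hdim b a hab.le hne).2 ?_
  intro z hbz hza
  by_contra hcon
  push_neg at hcon
  have h1 : a < z := by
    rw [lt_iff_le_not_ge]
    exact ⟨hza, fun hz => hcon.2 (eq_of_le_of_le hz hza)⟩
  have h2 : z < b := by
    rw [lt_iff_le_not_ge]
    exact ⟨hbz, fun hz => hcon.1 (eq_of_le_of_le hbz hz)⟩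
  exact himm z h1 h2

end Groth.Agent.Lib.Helper73.SchemeDim
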