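import Mathlib.RingTheory.Spectrum.Prime.Topology
import Groth.Agent.Lib.Helper73.SchemeDimFormula
set_option linter.style.haveILetI false
set_option autoImplicit false
universe u
open Cardinal Polynomial Groth.Agent.Lib.Helper34

/-! Fields are universally catenary; dimension formula inside a fibre. -/

namespace Groth.Agent.Lib.Helper73.DimFormula

open Groth.Agent.Lib.Helper73.RelHt

/-- a poset with a strictly decreasing integer function dropping by exactly one along covering
pairs is catenary. -/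
theorem posetCatenary_of_dimFun {P : Type u} [PartialOrder P] (δ : P → ℤ)
    (h1 : ∀ a b : P, a < b → δ b < δ a) (h2 : ∀ a b : P, a ⋖ b → δ a = δ b + 1) :
    PosetCatenary P := by
  have key1 : ∀ s : LTSeries P, ∀ k : ℕ, ∀ hk : k ≤ s.length,
      (k : ℤ) ≤ δ s.head - δ (s ⟨k, by omega⟩) := by
    intro s k
    induction k with
    | zero => intro _; simp [RelSeries.head]
    | succ k ih =>
      intro hk
      have h3 := ih (by omega)
      have hlt : s ⟨k, by omega⟩ < s ⟨k + 1, by omega⟩ := s.strictMono (by simp [Fin.lt_def])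
      have h4 := h1 _ _ hlt
      push_cast
      linarith
  have key2 : ∀ s : LTSeries P, (∀ i : Fin s.length, s i.castSucc ⋖ s i.succ) → ∀ k : ℕ,
      ∀ hk : k ≤ s.length, (k : ℤ) = δ s.head - δ (s ⟨k, by omega⟩) := by
    intro s hs k
    induction k with
    | zero => intro _; simp [RelSeries.head]
    | succ k ih =>
      intro hk
      have h3 := ih (by omega)
      have hcov := hs ⟨k, by omega⟩
      have h4 := h2 _ _ hcov
      have e1 : (⟨k, by omega⟩ : Fin s.length).castSucc = (⟨k, by omega⟩ : Fin (s.length + 1)) := rfl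
      have e2 : (⟨k, by omega⟩ : Fin s.length).succ = (⟨k + 1, by omega⟩ : Fin (s.length + 1)) := rfl
      rw [e1, e2] at h4
      push_cast
      linarith
  refine ⟨fun p q _ => ⟨(δ p - δ q).toNat, fun s hs hq => ?_⟩, fun s t hh hl hs ht => ?_⟩
  · have := key1 s s.length le_rfl
    have e : s ⟨s.length, by omega⟩ = s.last := rfl
    rw [e, hs, hq] at this
    omega
  · have a1 := key2 s hs s.length le_rfl
    have a2 := key2 t ht t.length le_rfl
    have e1 : s ⟨s.length, by omega⟩ = s.last := rfl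
    have e2 : t ⟨t.length, by omega⟩ = t.last := rfl
    rw [e1] at a1
    rw [e2, ← hh, ← hl] at a2
    have : (s.length : ℤ) = t.length := by rw [a1, a2]
    exact_mod_cast this

theorem one_le_height_map_quotient_of_lt {B : Type*} [CommRing B] (q₀ q : Ideal B)
    [hq₀ : q₀.IsPrime] [hq : q.IsPrime]
    (hlt : (⟨q₀, hq₀⟩ : PrimeSpectrum B) < ⟨q, hq⟩) [hq' : (q.map (Ideal.Quotient.mk q₀)).IsPrime] :
    1 ≤ (q.map (Ideal.Quotient.mk q₀)).height := by
  have := length_le_height_map_quotient q₀ q hlt.le (pair hlt) (pair_last hlt)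
    (by rw [pair_head])
  simpa using this

theorem height_map_quotient_eq_one_of_covBy {B : Type*} [CommRing B] [IsNoetherianRing B]
    (q₀ q : Ideal B) [hq₀ : q₀.IsPrime] [hq : q.IsPrime]
    (hcov : (⟨q₀, hq₀⟩ : PrimeSpectrum B) ⋖ ⟨q, hq⟩) [hq' : (q.map (Ideal.Quotient.mk q₀)).IsPrime] :
    (q.map (Ideal.Quotient.mk q₀)).height = 1 := by
  apply le_antisymm _ (one_le_height_map_quotient_of_lt q₀ q hcov.lt)
  obtain ⟨l, hhead, hlast, hlen⟩ := exists_ltSeries_length_eq_height_quotient q₀ q hcov.lt.le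
  rw [← hlen]
  by_contra hcon
  have h2' : 2 ≤ l.length := by
    have : ¬ (l.length ≤ 1) := by
      intro h; apply hcon; exact_mod_cast h
    omega
  have hlt1 : l.head < l ⟨1, by omega⟩ := l.strictMono (by simp [Fin.lt_def])
  have hlt2 : l ⟨1, by omega⟩ < l.last := l.strictMono (by simp [Fin.lt_def]; omega)
  rw [hhead] at hlt1
  rw [hlast] at hlt2
  exact hcov.2 hlt1 hlt2

/-- a domain of finite type over a field is catenary. -/
theorem posetCatenary_of_finiteType_field_domain (K : Type u) [Field K] (D : Type u) [CommRing D]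
    [IsDomain D] [Algebra K D] [Algebra.FiniteType K D] : PosetCatenary (PrimeSpectrum D) := by
  haveI : IsNoetherianRing D := Algebra.FiniteType.isNoetherianRing K D
  have hfin : ∀ q : PrimeSpectrum D, ∃ n : ℕ, Algebra.trdeg K (D ⧸ q.asIdeal) = n := by
    intro q
    have hlt : Algebra.trdeg K (D ⧸ q.asIdeal) < ℵ₀ := trdeg_lt_aleph0_of_finiteType
    exact Cardinal.lt_aleph0.mp hlt
  choose δ hδ using hfin
  have key : ∀ q q' : PrimeSpectrum D, q ≤ q' →
      ∀ [hq' : (q'.asIdeal.map (Ideal.Quotient.mk q.asIdeal)).IsPrime],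
      ∃ h : ℕ, (q'.asIdeal.map (Ideal.Quotient.mk q.asIdeal)).height = h ∧ h + δ q' = δ q := by
    intro q q' hle hq'
    have h0 := height_add_trdeg_eq_of_field K (D ⧸ q.asIdeal)
      (q'.asIdeal.map (Ideal.Quotient.mk q.asIdeal))
    have h1 : Algebra.trdeg K ((D ⧸ q.asIdeal) ⧸ q'.asIdeal.map (Ideal.Quotient.mk q.asIdeal)) =
        Algebra.trdeg K (D ⧸ q'.asIdeal) := by
      haveI : Nontrivial ((D ⧸ q.asIdeal) ⧸ q'.asIdeal.map (Ideal.Quotient.mk q.asIdeal)) :=
        Ideal.Quotient.nontrivial_iff.mpr hq'.ne_top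
      refine trdeg_eq_of_ringEquiv (RingEquiv.refl K) (DoubleQuot.quotQuotEquivQuotOfLE hle) ?_
      intro d
      rfl
    rw [h1, hδ q', hδ q] at h0
    have hne : (q'.asIdeal.map (Ideal.Quotient.mk q.asIdeal)).height ≠ ⊤ :=
      (Ideal.height_lt_top hq'.ne_top).ne
    obtain ⟨h, hh⟩ := ENat.ne_top_iff_exists.mp hne
    refine ⟨h, hh.symm, ?_⟩
    rw [← hh] at h0
    have : ((h + δ q' : ℕ) : Cardinal.{u}) = (δ q : ℕ) := by
      push_cast
      simpa using h0
    exact_mod_cast this
  have hprime : ∀ q q' : PrimeSpectrum D, q ≤ q' →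
      (q'.asIdeal.map (Ideal.Quotient.mk q.asIdeal)).IsPrime := fun q q' hle =>
    Ideal.map_isPrime_of_surjective Ideal.Quotient.mk_surjective (by rwa [Ideal.mk_ker])
  refine posetCatenary_of_dimFun (fun q => (δ q : ℤ)) ?_ ?_
  · intro q q' hlt
    haveI := hprime q q' hlt.le
    obtain ⟨h, hh, hsum⟩ := key q q' hlt.le
    have h1 := one_le_height_map_quotient_of_lt q.asIdeal q'.asIdeal hlt
    rw [hh] at h1
    have h2 : 1 ≤ h := by exact_mod_cast h1
    have : (h : ℤ) + δ q' = δ q := by exact_mod_cast hsum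
    show (δ q' : ℤ) < δ q
    omega
  · intro q q' hcov
    haveI := hprime q q' hcov.lt.le
    obtain ⟨h, hh, hsum⟩ := key q q' hcov.lt.le
    have h1 := height_map_quotient_eq_one_of_covBy q.asIdeal q'.asIdeal hcov
    rw [hh] at h1
    have h2 : h = 1 := by exact_mod_cast h1
    have : (h : ℤ) + δ q' = δ q := by exact_mod_cast hsum
    show (δ q : ℤ) = δ q' + 1
    omega

/-- **a field is universally catenary.** -/
theorem isUniversallyCatenary_of_field (K : Type u) [Field K] : CAlg.IsUniversallyCatenary K := by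
  refine ⟨inferInstance, fun C _ _ hC => ?_⟩
  rw [isCatenary_iff_forall_quotient_minimalPrimes]
  intro p hp
  haveI : p.IsPrime := hp.1.1
  haveI : Algebra.FiniteType K C := hC
  rw [isCatenary_iff]
  exact posetCatenary_of_finiteType_field_domain K (C ⧸ p)

/-- **Dimension formula inside a fibre.** For primes `q₀ ≤ q` of a finite type algebra `B` over a
Noetherian ring `A`, both lying over the same prime `p`:
`ht (q/q₀) + trdeg (κ(q)/κ(p)) = trdeg (κ(q₀)/κ(p))`. -/
theorem height_quotient_add_trdeg_eq_of_fibre {A B : Type u} [CommRing A] [IsNoetherianRing A]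
    [CommRing B] [Algebra A B] [Algebra.FiniteType A B]
    (q₀ q : Ideal B) [q₀.IsPrime] [q.IsPrime] (hle : q₀ ≤ q)
    (p : Ideal A) [p.IsPrime] [q₀.LiesOver p] [q.LiesOver p]
    [hq' : (q.map (Ideal.Quotient.mk q₀)).IsPrime] :
    ((q.map (Ideal.Quotient.mk q₀)).height : Cardinal.{u}) + Algebra.trdeg (A ⧸ p) (B ⧸ q) =
      Algebra.trdeg (A ⧸ p) (B ⧸ q₀) := by
  haveI : Algebra.FiniteType A (B ⧸ q₀) :=
    Algebra.FiniteType.of_surjective (Ideal.Quotient.mkₐ A q₀) (Ideal.Quotient.mkₐ_surjective A q₀)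
  haveI : Algebra.FiniteType (A ⧸ p) (B ⧸ q₀) :=
    Algebra.FiniteType.of_restrictScalars_finiteType A (A ⧸ p) (B ⧸ q₀)
  have hbot : p.map (Ideal.Quotient.mk p) = ⊥ := Ideal.map_quotient_self p
  haveI hp' : (p.map (Ideal.Quotient.mk p)).IsPrime := by rw [hbot]; exact Ideal.isPrime_bot
  haveI hlo : (q.map (Ideal.Quotient.mk q₀)).LiesOver (p.map (Ideal.Quotient.mk p)) := by
    constructor
    ext r
    obtain ⟨r, rfl⟩ := Ideal.Quotient.mk_surjective r
    rw [Ideal.under_def, Ideal.mem_comap, Ideal.Quotient.algebraMap_mk_of_liesOver,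
      Ideal.mem_quotient_iff_mem le_rfl, Ideal.mem_quotient_iff_mem hle, Ideal.over_def q p,
      Ideal.under_def, Ideal.mem_comap]
  have hinv : Algebra.trdeg ((A ⧸ p) ⧸ p.map (Ideal.Quotient.mk p))
      ((B ⧸ q₀) ⧸ q.map (Ideal.Quotient.mk q₀)) = Algebra.trdeg (A ⧸ p) (B ⧸ q) := by
    haveI : Nontrivial ((A ⧸ p) ⧸ p.map (Ideal.Quotient.mk p)) :=
      Ideal.Quotient.nontrivial_iff.mpr hp'.ne_top
    haveI : Nontrivial (A ⧸ p) := Ideal.Quotient.nontrivial_iff.mpr (Ideal.IsPrime.ne_top inferInstance)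
    refine trdeg_eq_of_ringEquiv (DoubleQuot.quotQuotEquivQuotOfLE (le_refl p))
      (DoubleQuot.quotQuotEquivQuotOfLE hle) ?_
    intro d
    obtain ⟨d, rfl⟩ := Ideal.Quotient.mk_surjective d
    obtain ⟨d, rfl⟩ := Ideal.Quotient.mk_surjective d
    rfl
  have key := height_add_trdeg_eq_of_catHyp (p.map (Ideal.Quotient.mk p))
    (q.map (Ideal.Quotient.mk q₀)) ?_
  · rw [hinv] at key
    rw [key]
    have h0 : (p.map (Ideal.Quotient.mk p)).height = 0 := by
      rw [hbot]; exact Ideal.height_bot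
    rw [h0]
    simp
  intro C _ _ _ φ hφ x
  let M : Submonoid C := Algebra.algebraMapSubmonoid C (nonZeroDivisors (A ⧸ p))
  let C' := Localization M
  haveI : Algebra.FiniteType (FractionRing (A ⧸ p)) C' := by
    have h1 : (algebraMap (A ⧸ p) C).FiniteType := RingHom.finiteType_algebraMap.mpr inferInstance
    haveI : IsLocalization (Submonoid.map (algebraMap (A ⧸ p) C) (nonZeroDivisors (A ⧸ p))) C' :=
      (Localization.isLocalization (M := M))
    have h2 := RingHom.finiteType_localizationPreserves (algebraMap (A ⧸ p) C)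
      (nonZeroDivisors (A ⧸ p)) (FractionRing (A ⧸ p)) C' h1
    exact h2
  have hC' : CAlg.IsCatenary C' := (isUniversallyCatenary_of_field (FractionRing (A ⧸ p))).2 C'
    inferInstance
  refine posetCatenary_Iic_of_isLocalization M C' hC' _ ?_
  rw [Set.disjoint_left]
  rintro _ ⟨a, ha, rfl⟩ hmem
  have h1 : (Polynomial.evalRingHom x) (φ.toRingHom (algebraMap (A ⧸ p) C a)) ∈
      q.map (Ideal.Quotient.mk q₀) := hmem
  have h2 : φ.toRingHom (algebraMap (A ⧸ p) C a) =
      Polynomial.C (algebraMap (A ⧸ p) (B ⧸ q₀) a) := by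
    change φ (algebraMap (A ⧸ p) C a) = _
    rw [AlgHom.commutes]
    rfl
  rw [h2, Polynomial.coe_evalRingHom, Polynomial.eval_C] at h1
  have h3 : a ∈ (q.map (Ideal.Quotient.mk q₀)).under (A ⧸ p) := h1
  rw [← hlo.over, hbot] at h3
  have h4 : a = 0 := h3
  exact nonZeroDivisors.ne_zero ha h4

end Groth.Agent.Lib.Helper73.DimFormula
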