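/-
helper73: the local dimension of a fibre.
* `SchemeDim.relHt_add_trdeg_eq_of_fibre`: for `x ⤳ y` in the same fibre of `f : X ⟶ S` (l.f.t., `S` loc. Noetherian)
  `relHt y x + trdeg κ(y)/κ(f y) = trdeg κ(x)/κ(f x)` (no catenarity hypothesis).
* `SchemeDim.exists_ltSeries_fibre_mem`: chain of specializations of `x` in its fibre and inside a given open, of length the
  residue transcendence degree.
* `SchemeDim.exists_open_forall_exists_specializes`: in a loc. Noetherian scheme each point `z` has an open nbhd all of whose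
  points share a generalization with `z`.
* `SchemeDim.fibreDimAt_eq`: `FlatMor.fibreDimAt f x = dim O_{X_y,x} + trdeg κ(x)/κ(y)`.
-/
import Groth.Agent.Lib.Helper73.FieldCatenary
import Groth.Agent.Lib.Helper73.IrredDim
import Groth.Agent.Lib.Helper73.FibreStalk
import Groth.Agent.Lib.Helper73.SubspaceDim
import Groth.Agent.Lib.Helper29.TopDimLocal

set_option linter.style.haveILetI false
set_option autoImplicit false
universe u
open Cardinal CategoryTheory AlgebraicGeometry

namespace Groth.Agent.Lib.Helper73.SchemeDim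

open Groth.Agent.Lib.Helper73.DimFormula Groth.Agent.Lib.Helper73.RelHt

variable {X S : Scheme.{u}}

/-- dimension formula inside a fibre: no catenarity needed. -/
theorem relHt_add_trdeg_eq_of_fibre [IsLocallyNoetherian S] (f : X ⟶ S) [LocallyOfFiniteType f]
    {x y : X} (hxy : x ⤳ y) (hf : f.base x = f.base y) (nx ny : ℕ)
    (hnx : letI := (f.residueFieldMap x).hom.toAlgebra
      Algebra.trdeg (S.residueField (f.base x)) (X.residueField x) = nx)
    (hny : letI := (f.residueFieldMap y).hom.toAlgebra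
      Algebra.trdeg (S.residueField (f.base y)) (X.residueField y) = ny) :
    relHt y x + ny = nx := by
  obtain ⟨_, ⟨V, hV : IsAffineOpen V, rfl⟩, hfyV, -⟩ :=
    (S.isBasis_affineOpens).exists_subset_of_mem_open (Set.mem_univ (f.base y)) isOpen_univ
  obtain ⟨_, ⟨U, hU : IsAffineOpen U, rfl⟩, hyU, hUV⟩ :=
    (X.isBasis_affineOpens).exists_subset_of_mem_open
      (show y ∈ (f ⁻¹ᵁ V : Set X) from hfyV) (f ⁻¹ᵁ V).isOpen
  have e : U ≤ f ⁻¹ᵁ V := hUV
  have hxU : x ∈ U := hxy.mem_open U.isOpen hyU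
  letI : Algebra Γ(S, V) Γ(X, U) := (f.appLE V U e).hom.toAlgebra
  have halg : algebraMap Γ(S, V) Γ(X, U) = (f.appLE V U e).hom := rfl
  haveI : Algebra.FiniteType Γ(S, V) Γ(X, U) := f.finiteType_appLE hV hU e
  haveI : IsNoetherianRing Γ(S, V) := IsLocallyNoetherian.component_noetherian ⟨V, hV⟩
  haveI : IsNoetherianRing Γ(X, U) := Algebra.FiniteType.isNoetherianRing Γ(S, V) Γ(X, U)
  set q := (hU.primeIdealOf ⟨y, hyU⟩).asIdeal with hq
  set q₀ := (hU.primeIdealOf ⟨x, hxU⟩).asIdeal with hq₀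
  set p := (hV.primeIdealOf ⟨f.base y, e hyU⟩).asIdeal with hp
  set p₀ := (hV.primeIdealOf ⟨f.base x, e hxU⟩).asIdeal with hp₀
  have hpp : p₀ = p := by
    rw [hp₀, hp]
    congr 3
  haveI hlo : q.LiesOver p := liesOver_primeIdealOf f y hV hU e hyU halg
  haveI hlo₀ : q₀.LiesOver p₀ := liesOver_primeIdealOf f x hV hU e hxU halg
  haveI hlo₁ : q₀.LiesOver p := hpp ▸ hlo₀
  have hle : q₀ ≤ q := (primeIdealOf_le_iff_specializes hU y x hyU hxU).mpr hxy
  haveI hq' : (q.map (Ideal.Quotient.mk q₀)).IsPrime :=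
    Ideal.map_isPrime_of_surjective Ideal.Quotient.mk_surjective (by rwa [Ideal.mk_ker])
  have h1 := trdeg_residueFieldMap_eq f y hV hU e hyU halg
  have h2 := trdeg_residueFieldMap_eq f x hV hU e hxU halg
  have hny' : Algebra.trdeg (Γ(S, V) ⧸ p) (Γ(X, U) ⧸ q) = ny := by rw [← h1]; exact hny
  have hnx' : Algebra.trdeg (Γ(S, V) ⧸ p₀) (Γ(X, U) ⧸ q₀) = nx := by rw [← h2]; exact hnx
  have hnx'' : Algebra.trdeg (Γ(S, V) ⧸ p) (Γ(X, U) ⧸ q₀) = nx := by
    rw [← trdeg_quotient_congr (q₀ := q₀) (q₁ := q₀) (p₀ := p₀) (p₁ := p) rfl hpp]; exact hnx'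
  have hr1 : relHt y x = (q.map (Ideal.Quotient.mk q₀)).height := relHt_eq_height hU hyU hxU hxy
  rw [hr1]
  have key := height_quotient_add_trdeg_eq_of_fibre q₀ q hle p
  rw [hny', hnx''] at key
  have key' : Cardinal.ofENat ((q.map (Ideal.Quotient.mk q₀)).height + ny) =
      Cardinal.ofENat (nx : ℕ∞) := by
    simpa using key
  exact Cardinal.ofENat_injective key'

/-- **Chain in a fibre inside an open**. -/
theorem exists_ltSeries_fibre_mem {X Y : Scheme.{u}} (f : X ⟶ Y) [LocallyOfFiniteType f] (x : X)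
    (W : X.Opens) (hxW : x ∈ W) (m : ℕ)
    (hm : letI := (f.residueFieldMap x).hom.toAlgebra
      Algebra.trdeg (Y.residueField (f.base x)) (X.residueField x) = m) :
    ∃ c : LTSeries X, c.length = m ∧ c.last = x ∧ (∀ i, f.base (c i) = f.base x) ∧
      ∀ i, c i ∈ W := by
  obtain ⟨_, ⟨V, hV : IsAffineOpen V, rfl⟩, hfxV, -⟩ :=
    (Y.isBasis_affineOpens).exists_subset_of_mem_open (Set.mem_univ (f.base x)) isOpen_univ
  obtain ⟨_, ⟨U, hU : IsAffineOpen U, rfl⟩, hxU, hUV⟩ :=
    (X.isBasis_affineOpens).exists_subset_of_mem_open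
      (show x ∈ ((f ⁻¹ᵁ V ⊓ W : X.Opens) : Set X) from ⟨hfxV, hxW⟩) (f ⁻¹ᵁ V ⊓ W).isOpen
  have e : U ≤ f ⁻¹ᵁ V := fun a ha => (hUV ha).1
  have eW : U ≤ W := fun a ha => (hUV ha).2
  letI : Algebra Γ(Y, V) Γ(X, U) := (f.appLE V U e).hom.toAlgebra
  have halg : algebraMap Γ(Y, V) Γ(X, U) = (f.appLE V U e).hom := rfl
  haveI : Algebra.FiniteType Γ(Y, V) Γ(X, U) := f.finiteType_appLE hV hU e
  haveI hlo := liesOver_primeIdealOf f x hV hU e hxU halg
  have h1 := trdeg_residueFieldMap_eq f x hV hU e hxU halg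
  have h2 : Algebra.trdeg (Γ(Y, V) ⧸ (hV.primeIdealOf ⟨f.base x, e hxU⟩).asIdeal)
      (Γ(X, U) ⧸ (hU.primeIdealOf ⟨x, hxU⟩).asIdeal) = m := by
    rw [← h1]; exact hm
  obtain ⟨l, hlen, hhead, hl⟩ := exists_ltSeries_liesOver
    (hV.primeIdealOf ⟨f.base x, e hxU⟩).asIdeal (hU.primeIdealOf ⟨x, hxU⟩).asIdeal m h2
  have hmem : ∀ P : PrimeSpectrum Γ(X, U), ∃ z : X, ∃ hz : z ∈ U, hU.primeIdealOf ⟨z, hz⟩ = P :=
    fun P => exists_primeIdealOf_eq hU P
  choose pt hptU hpt using hmem
  have hlt : ∀ P Q : PrimeSpectrum Γ(X, U), P < Q → pt Q < pt P := by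
    intro P Q hPQ
    rw [lt_iff_le_not_ge]
    constructor
    · change pt P ⤳ pt Q
      rw [← primeIdealOf_le_iff_specializes hU (pt Q) (pt P) (hptU Q) (hptU P), hpt, hpt]
      exact hPQ.le
    · intro h
      change pt Q ⤳ pt P at h
      rw [← primeIdealOf_le_iff_specializes hU (pt P) (pt Q) (hptU P) (hptU Q), hpt, hpt] at h
      exact (not_le_of_gt hPQ) h
  have hptx : pt l.head = x := by
    have h3 := hpt l.head
    rw [hhead] at h3
    have h4 : hU.primeIdealOf ⟨pt l.head, hptU l.head⟩ = hU.primeIdealOf ⟨x, hxU⟩ := by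
      rw [hpt, hhead]
    have h5 := congrArg hU.fromSpec h4
    rw [hU.fromSpec_primeIdealOf, hU.fromSpec_primeIdealOf] at h5
    exact h5
  let c : LTSeries X := LTSeries.mk l.length (fun i => pt (l (Fin.rev i))) (by
    intro i j hij
    exact hlt _ _ (l.strictMono (Fin.rev_lt_rev.mpr hij)))
  refine ⟨c, hlen, ?_, ?_, ?_⟩
  · change pt (l (Fin.rev (Fin.last _))) = x
    rw [Fin.rev_last]
    exact hptx
  · intro i
    change f.base (pt (l (Fin.rev i))) = f.base x
    set P := l (Fin.rev i) with hP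
    have h3 := IsAffineOpen.comap_primeIdealOf_appLE V hV U hU e (hptU P)
    rw [hpt] at h3
    have h4 : (hV.primeIdealOf ⟨f.base (pt P), e (hptU P)⟩).asIdeal =
        (hV.primeIdealOf ⟨f.base x, e hxU⟩).asIdeal := by
      rw [← h3]
      exact hl (Fin.rev i)
    have h5 : hV.primeIdealOf ⟨f.base (pt P), e (hptU P)⟩ =
        hV.primeIdealOf ⟨f.base x, e hxU⟩ := PrimeSpectrum.ext h4
    have h6 := congrArg hV.fromSpec h5
    rw [hV.fromSpec_primeIdealOf, hV.fromSpec_primeIdealOf] at h6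
    exact h6
  · intro i
    exact eW (hptU _)

/-- in a locally Noetherian scheme every point has an open neighbourhood all of whose points
have a common generalization with it. -/
theorem exists_open_forall_exists_specializes (Z : Scheme.{u}) [IsLocallyNoetherian Z] (z : Z) :
    ∃ U : Z.Opens, z ∈ U ∧ ∀ u ∈ U, ∃ ξ : Z, ξ ⤳ u ∧ ξ ⤳ z := by
  obtain ⟨_, ⟨V, hV : IsAffineOpen V, rfl⟩, hzV, -⟩ :=
    Z.isBasis_affineOpens.exists_subset_of_mem_open (Set.mem_univ z) isOpen_univ
  haveI : IsNoetherianRing Γ(Z, V) := IsLocallyNoetherian.component_noetherian ⟨V, hV⟩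
  haveI : TopologicalSpace.NoetherianSpace ↥(V : Scheme.{u}) := noetherianSpace_of_isAffineOpen V hV
  let zV : ↥(V : Scheme.{u}) := ⟨z, hzV⟩
  have hfin := TopologicalSpace.NoetherianSpace.finite_irreducibleComponents (α := ↥(V : Scheme.{u}))
  let Sbad : Set (Set ↥(V : Scheme.{u})) := {C ∈ irreducibleComponents ↥(V : Scheme.{u}) | zV ∉ C}
  have hSfin : Sbad.Finite := hfin.subset (fun C hC => hC.1)
  have hclosed : IsClosed (⋃₀ Sbad) := by
    rw [Set.sUnion_eq_biUnion]
    exact hSfin.isClosed_biUnion (fun C hC => isClosed_of_mem_irreducibleComponents C hC.1)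
  let U' : TopologicalSpace.Opens ↥(V : Scheme.{u}) := ⟨(⋃₀ Sbad)ᶜ, hclosed.isOpen_compl⟩
  let ι := Scheme.Opens.ι (X := Z) V
  refine ⟨ι ''ᵁ U', ?_, ?_⟩
  · refine ⟨zV, ?_, rfl⟩
    rintro ⟨C, hC, hzC⟩
    exact hC.2 hzC
  · rintro _ ⟨u, hu, rfl⟩
    have hcomp : irreducibleComponent u ∈ irreducibleComponents ↥(V : Scheme.{u}) :=
      irreducibleComponent_mem_irreducibleComponents u
    have hzC : zV ∈ irreducibleComponent u := by
      by_contra hcon
      exact hu ⟨irreducibleComponent u, ⟨hcomp, hcon⟩, mem_irreducibleComponent⟩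
    have hirr : IsIrreducible (irreducibleComponent u) := isIrreducible_irreducibleComponent
    have hcl : IsClosed (irreducibleComponent u) := isClosed_irreducibleComponent
    obtain ⟨ξ, hξ⟩ := QuasiSober.sober hirr hcl
    refine ⟨ι.base ξ, ?_, ?_⟩
    · apply Specializes.map _ ι.continuous
      rw [specializes_iff_mem_closure, hξ]
      exact mem_irreducibleComponent
    · have : ξ ⤳ zV := by
        rw [specializes_iff_mem_closure, hξ]
        exact hzC
      exact this.map ι.continuous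

/-- all points of a chain whose two ends have the same image have that image. -/
theorem base_eq_of_head_last (f : X ⟶ S) (c : LTSeries X) (h : f.base c.head = f.base c.last)
    (i : Fin (c.length + 1)) : f.base (c i) = f.base c.head := by
  have h1 : c i ⤳ c.head := show c.head ≤ c i from c.head_le i
  have h2 : c.last ⤳ c i := show c i ≤ c.last from c.monotone (Fin.le_last i)
  have h3 : f.base (c i) ⤳ f.base c.head := h1.map f.continuous
  have h4 : f.base c.head ⤳ f.base (c i) := by rw [h]; exact h2.map f.continuous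
  exact (Specializes.antisymm h4 h3).eq.symm

/-- the relative height inside a fibre is bounded by the dimension of the local ring of the fibre. -/
theorem relHt_le_ringKrullDim_stalk_fiber (f : X ⟶ S) (x ξ : X) (hf : f.base ξ = f.base x) :
    ((relHt x ξ : ℕ∞) : WithBot ℕ∞) ≤
      ringKrullDim ((f.fiber (f.base x)).presheaf.stalk (f.asFiber x)) := by
  have : ∀ c : LTSeries X, c.head = x → c.last = ξ → (c.length : WithBot ℕ∞) ≤
      ringKrullDim ((f.fiber (f.base x)).presheaf.stalk (f.asFiber x)) := by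
    intro c h1 h2
    refine le_ringKrullDim_stalk_fiber f x c h1 (fun i => ?_)
    rw [base_eq_of_head_last f c (by rw [h1, h2, hf]) i, h1]
  have hco := ringKrullDim_stalk_eq_coheight (f.asFiber x)
  rw [hco] at this ⊢
  have h3 : relHt x ξ ≤ Order.coheight (f.asFiber x) := by
    refine relHt_le fun c h1 h2 => ?_
    exact_mod_cast this c h1 h2
  exact_mod_cast h3

/-- **local dimension of a fibre**: `dim_x X_y = dim O_{X_y,x} + trdeg κ(x)/κ(y)`. -/
theorem fibreDimAt_eq [IsLocallyNoetherian S] (f : X ⟶ S) [LocallyOfFiniteType f] (x : X) (n : ℕ)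
    (hn : letI := (f.residueFieldMap x).hom.toAlgebra
      Algebra.trdeg (S.residueField (f.base x)) (X.residueField x) = n) :
    FlatMor.fibreDimAt f x =
      ringKrullDim ((f.fiber (f.base x)).presheaf.stalk (f.asFiber x)) + (n : WithBot ℕ∞) := by
  obtain ⟨m, c₁, hm, hc₁len, hc₁head, hc₁f, -⟩ := exists_ltSeries_fibre_stalk f x
  rw [hm]
  haveI : IsLocallyNoetherian (f.fiber (f.base x)) := isLocallyNoetherian_fiber f _
  apply le_antisymm
  · -- ≤
    obtain ⟨U, hzU, hU⟩ := exists_open_forall_exists_specializes (f.fiber (f.base x)) (f.asFiber x)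
    refine le_trans (Groth.Agent.Lib.Helper29.localDim_le_dim_of_mem (f.asFiber x) U hzU) ?_
    haveI : QuasiSober ↥(U : Set (f.fiber (f.base x))) :=
      U.isOpen.isOpenEmbedding_subtypeVal.quasiSober
    refine topologicalKrullDim_subtype_le (U : Set (f.fiber (f.base x))) _ (fun c hc => ?_)
    obtain ⟨ξ, hξu, hξz⟩ := hU c.last (hc _)
    set ξX := f.fiberι (f.base x) ξ with hξX
    have hfξ : f.base ξX = f.base x := base_fiberι f _ ξ
    obtain ⟨nξ, hnξ⟩ := exists_trdeg_residueField_eq_nat f ξX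
    have hξx : ξX ⤳ x := by
      have := hξz.map (f.fiberι (f.base x)).continuous
      rwa [f.fiberι_asFiber x] at this
    have h1 := relHt_add_trdeg_eq_of_fibre f hξx hfξ nξ n hnξ hn
    have h2 := relHt_le_ringKrullDim_stalk_fiber f x ξX hfξ
    rw [hm] at h2
    have h2' : relHt x ξX ≤ (m : ℕ∞) := by exact_mod_cast h2
    have h3 : (fiberSeries f (f.base x) c).length ≤ nξ := by
      refine length_le_trdeg_of_fibre f (fiberSeries f (f.base x) c) ξX ?_ ?_ nξ hnξ
      · change ξX ⤳ (fiberSeries f (f.base x) c).last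
        have : (fiberSeries f (f.base x) c).last = f.fiberι (f.base x) c.last :=
          LTSeries.last_map _ _ _
        rw [this]
        exact hξu.map (f.fiberι (f.base x)).continuous
      · have : (fiberSeries f (f.base x) c).head = f.fiberι (f.base x) c.head :=
          LTSeries.head_map _ _ _
        rw [this, base_fiberι, hfξ]
    have h4 : (fiberSeries f (f.base x) c).length = c.length := LTSeries.map_length _ _ _
    rw [h4] at h3
    have h5 : (nξ : ℕ∞) ≤ m + n := by
      rw [← h1]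
      exact add_le_add_left h2' _
    have h6 : (c.length : ℕ∞) ≤ m + n := le_trans (by exact_mod_cast h3) h5
    exact_mod_cast h6
  · -- ≥
    unfold FlatMor.fibreDimAt FlatMor.localDim
    apply le_iInf
    rintro ⟨U, hzU⟩
    set ξ := c₁.last with hξ
    have hfξ : f.base ξ = f.base x := hc₁f _
    obtain ⟨nξ, hnξ⟩ := exists_trdeg_residueField_eq_nat f ξ
    have hξx : ξ ⤳ x := by
      have : c₁.head ≤ c₁.last := LTSeries.head_le_last c₁
      rw [hc₁head] at this
      exact this
    have h1 := relHt_add_trdeg_eq_of_fibre f hξx hfξ nξ n hnξ hn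
    have h2 : (m : ℕ∞) ≤ relHt x ξ := by
      rw [← hc₁len]
      exact length_le_relHt' c₁ hc₁head rfl
    have h3 : (m : ℕ∞) + n ≤ nξ := by
      rw [← h1]
      exact add_le_add_left h2 _
    obtain ⟨W, hWo, hWU⟩ := (f.fiberι (f.base x)).isEmbedding.isInducing.isOpen_iff.mp U.isOpen
    let ξ' : f.fiber (f.base x) := (f.fiberHomeo (f.base x)).symm ⟨ξ, hfξ⟩
    have hξ' : f.fiberι (f.base x) ξ' = ξ := f.fiberι_fiberHomeo_symm (f.base x) ⟨ξ, hfξ⟩
    have hξ'z : ξ' ⤳ f.asFiber x := by
      rw [← (f.fiberι (f.base x)).isEmbedding.isInducing.specializes_iff, hξ', f.fiberι_asFiber x]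
      exact hξx
    have hξ'U : ξ' ∈ U := hξ'z.mem_open U.isOpen hzU
    have hξW : ξ ∈ W := by
      have : ξ' ∈ (f.fiberι (f.base x)).base ⁻¹' W := by rw [hWU]; exact hξ'U
      rw [Set.mem_preimage, hξ'] at this
      exact this
    obtain ⟨c₂, hc₂len, hc₂last, hc₂f, hc₂W⟩ := exists_ltSeries_fibre_mem f ξ ⟨W, hWo⟩ hξW nξ hnξ
    have hc₂f' : ∀ i, f.base (c₂ i) = f.base x := fun i => by rw [hc₂f i, hfξ]
    have hι : ∀ i, f.fiberι (f.base x) ((f.fiberHomeo (f.base x)).symm ⟨c₂ i, hc₂f' i⟩) = c₂ i :=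
      fun i => f.fiberι_fiberHomeo_symm (f.base x) ⟨c₂ i, hc₂f' i⟩
    let c₂' : LTSeries (f.fiber (f.base x)) :=
      LTSeries.mk c₂.length (fun i => (f.fiberHomeo (f.base x)).symm ⟨c₂ i, hc₂f' i⟩) (by
        intro i j hij
        rw [← fiberι_lt_iff, hι, hι]
        exact c₂.strictMono hij)
    haveI : QuasiSober ↥(U : Set (f.fiber (f.base x))) :=
      U.isOpen.isOpenEmbedding_subtypeVal.quasiSober
    have h4 := length_le_topologicalKrullDim_subtype (U : Set (f.fiber (f.base x))) c₂' (by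
      intro i
      have : c₂' i ∈ (f.fiberι (f.base x)).base ⁻¹' W := by
        rw [Set.mem_preimage]
        change f.fiberι (f.base x) ((f.fiberHomeo (f.base x)).symm ⟨c₂ i, hc₂f' i⟩) ∈ W
        have h7 := hι i
        rw [h7]
        exact hc₂W i
      rw [hWU] at this
      exact this)
    have h5 : c₂'.length = nξ := hc₂len
    rw [h5] at h4
    refine le_trans ?_ h4
    exact_mod_cast h3

end Groth.Agent.Lib.Helper73.SchemeDim
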