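import Groth.Agent.Lib.Helper73.FilteredSheaf
import Mathlib.CategoryTheory.Sites.LocallyBijective

/-!
# Sections over quasi-compact (quasi-separated) objects and locally bijective maps

Library file by helper73.  Abstract site-theoretic statement: if `P` is a presheaf of types which
is a sheaf for all *finite* covering families and `φ : P ⟶ Q` is locally injective and locally
surjective with `Q` a sheaf, then `φ` is injective on sections over "quasi-compact" objects and
bijective over "quasi-compact quasi-separated" objects.
-/

set_option autoImplicit false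

open CategoryTheory Limits Opposite

namespace Groth.Agent.Lib.Helper73

universe w v₁ u₁

variable {C : Type u₁} [Category.{v₁} C] [HasPullbacks C] (J : GrothendieckTopology C)
  {P Q : Cᵒᵖ ⥤ Type w} (φ : P ⟶ Q)

/-- `P` is a sheaf for all finite covering families. -/
def IsSheafForFiniteCovers (P : Cᵒᵖ ⥤ Type w) : Prop :=
  ∀ (W : C) (n : ℕ) (V : Fin n → C) (g : ∀ k, V k ⟶ W), Sieve.ofArrows V g ∈ J W →
    (Presieve.ofArrows V g).IsSheafFor P

/-- Every covering sieve of `W` contains a finite covering family. -/
def HasFiniteSubcovers (W : C) : Prop :=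
  ∀ S : Sieve W, S ∈ J W → ∃ (n : ℕ) (V : Fin n → C) (g : ∀ k, V k ⟶ W),
    (∀ k, S (g k)) ∧ Sieve.ofArrows V g ∈ J W

/-- Every covering sieve of `U` contains a finite covering family whose pairwise fibre products
have finite subcovers. -/
def HasFiniteSubcoversQS (U : C) : Prop :=
  ∀ S : Sieve U, S ∈ J U → ∃ (n : ℕ) (V : Fin n → C) (g : ∀ k, V k ⟶ U),
    (∀ k, S (g k)) ∧ Sieve.ofArrows V g ∈ J U ∧
      ∀ k l, HasFiniteSubcovers J (pullback (g k) (g l))

variable {J}

omit [HasPullbacks C] in
theorem injective_app_of_hasFiniteSubcovers [Presheaf.IsLocallyInjective J φ]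
    (hP : IsSheafForFiniteCovers J P) {W : C} (hW : HasFiniteSubcovers J W) :
    Function.Injective (φ.app (op W)) := by
  intro s t hst
  have hmem := Presheaf.equalizerSieve_mem J φ (X := op W) s t hst
  obtain ⟨n, V, g, hg, hcov⟩ := hW _ hmem
  refine (hP W n V g hcov).isSeparatedFor.ext ?_
  rintro _ _ ⟨k⟩
  exact hg k

theorem surjective_app_of_hasFiniteSubcoversQS [Presheaf.IsLocallyInjective J φ]
    [Presheaf.IsLocallySurjective J φ] (hP : IsSheafForFiniteCovers J P)
    (hQ : Presieve.IsSheaf J Q) {U : C} (hU : HasFiniteSubcoversQS J U) :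
    Function.Surjective (φ.app (op U)) := by
  intro σ
  have hmem := Presheaf.imageSieve_mem J φ (U := op U) σ
  obtain ⟨n, V, g, hg, hcov, hqs⟩ := hU _ hmem
  choose s hs using hg
  -- the family is compatible
  have hcompat : Presieve.Arrows.PullbackCompatible P g s := by
    intro k l
    apply injective_app_of_hasFiniteSubcovers φ hP (hqs k l)
    rw [NatTrans.naturality_apply, NatTrans.naturality_apply, hs, hs,
      ← ConcreteCategory.comp_apply, ← ConcreteCategory.comp_apply, ← Q.map_comp, ← Q.map_comp,
      ← op_comp, ← op_comp, pullback.condition]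
  obtain ⟨t, ht, -⟩ := (Presieve.isSheafFor_arrows_iff_pullbacks _ _).mp (hP U n V g hcov) s hcompat
  refine ⟨t, ?_⟩
  have hsep := (hQ _ hcov).isSeparatedFor
  rw [← Presieve.isSeparatedFor_iff_generate] at hsep
  refine hsep.ext ?_
  rintro _ _ ⟨k⟩
  rw [← NatTrans.naturality_apply, ht, hs]

theorem bijective_app_of_hasFiniteSubcoversQS [Presheaf.IsLocallyInjective J φ]
    [Presheaf.IsLocallySurjective J φ] (hP : IsSheafForFiniteCovers J P)
    (hQ : Presieve.IsSheaf J Q) {U : C} (hU : HasFiniteSubcoversQS J U) :
    Function.Bijective (φ.app (op U)) := by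
  refine ⟨injective_app_of_hasFiniteSubcovers φ hP ?_, surjective_app_of_hasFiniteSubcoversQS φ hP hQ hU⟩
  intro S hS
  obtain ⟨n, V, g, hg, hcov, -⟩ := hU S hS
  exact ⟨n, V, g, hg, hcov⟩

section Colimits

variable (J) {I : Type w} [SmallCategory I] [IsFiltered I]

omit [HasPullbacks C] in
/-- A filtered colimit (in presheaves) of sheaves of types is a sheaf for all finite covering
families. -/
theorem isSheafForFiniteCovers_of_isColimit [HasPullbacks C] {F : I ⥤ Cᵒᵖ ⥤ Type w} {c : Cocone F}
    (hc : IsColimit c) (hF : ∀ i, Presieve.IsSheaf J (F.obj i)) :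
    IsSheafForFiniteCovers J c.pt := by
  intro W n V g hcov
  refine isSheafFor_ofArrows_of_isColimit hc g (fun i => ?_)
  rw [Presieve.isSheafFor_iff_generate]
  exact hF i _ hcov

variable [HasSheafify J (Type w)] [J.WEqualsLocallyBijective (Type w)]

/-- Sections over an object all of whose covering sieves contain a finite covering family with
"quasi-compact" pairwise fibre products commute with filtered colimits of sheaves of types. -/
theorem preservesColimitsOfShape_sections_of_hasFiniteSubcoversQS {U : C}
    (hU : HasFiniteSubcoversQS J U) :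
    PreservesColimitsOfShape I
      (sheafToPresheaf J (Type w) ⋙ (evaluation Cᵒᵖ (Type w)).obj (op U)) where
  preservesColimit {D} := by
    let c := colimit.cocone (D ⋙ sheafToPresheaf J (Type w))
    have hc : IsColimit c := colimit.isColimit _
    apply preservesColimit_of_preserves_colimit_cocone (Sheaf.isColimitSheafifyCocone c hc)
    have hP : IsSheafForFiniteCovers J c.pt :=
      isSheafForFiniteCovers_of_isColimit J hc fun i =>
        (isSheaf_iff_isSheaf_of_type _ _).mp (D.obj i).property
    have hQ : Presieve.IsSheaf J (sheafify J c.pt) :=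
      (isSheaf_iff_isSheaf_of_type _ _).mp ((presheafToSheaf J (Type w)).obj c.pt).property
    have hbij := bijective_app_of_hasFiniteSubcoversQS (toSheafify J c.pt) hP hQ hU
    have hiso : IsIso ((toSheafify J c.pt).app (op U)) := (isIso_iff_bijective _).mpr hbij
    refine IsColimit.ofIsoColimit (isColimitEval hc U)
      (Cocone.ext (@asIso _ _ _ _ ((toSheafify J c.pt).app (op U)) hiso) (fun i => ?_))
    dsimp
    rw [Sheaf.sheafifyCocone_ι_app_val]
    rfl

end Colimits

end Groth.Agent.Lib.Helper73
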