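/-
helper73: local fibre dimension bounded by the fibre dimension at the maximal points through a point
(Noetherian base), and the version where only the local ring of the base is Noetherian (by base change
to the spectrum of the local ring).
-/
import Groth.Agent.Lib.Helper73.FlatRelDim
import Groth.Agent.Lib.Helper73.IrredDim
import Groth.Agent.S9358
import Groth.Agent.Lib.Helper73.Equidim2

set_option linter.style.haveILetI false
set_option autoImplicit false
universe u
open CategoryTheory CategoryTheory.Limits AlgebraicGeometry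

namespace Groth.Agent.Lib.Helper73.MaxPtFibreDim

open Groth.Agent.Lib.Helper73.SchemeDim Groth.Agent.Lib.Helper73.DimFormula
  Groth.Agent.Lib.Helper73.RelHt

variable {X S : Scheme.{u}}

theorem relHt_le_ringKrullDim_stalk (s t : S) :
    ((relHt s t : ℕ∞) : WithBot ℕ∞) ≤ ringKrullDim (S.presheaf.stalk s) := by
  rw [AlgebraicGeometry.ringKrullDim_stalk_eq_coheight]
  have : relHt s t ≤ Order.coheight s := by
    refine relHt_le fun c h1 _ => ?_
    rw [← h1]
    exact Order.length_le_coheight_head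
  exact_mod_cast this

/-- the basic inequality at a point `ζ` maximal in its fibre and a maximal point `η ⤳ ζ` with
different image. -/
theorem trdeg_add_one_le [IsLocallyNoetherian S] (f : X ⟶ S) [LocallyOfFiniteType f]
    {η ζ : X} (hηζ : η ⤳ ζ) (hne : f.base η ≠ f.base ζ) (nη m : ℕ)
    (hnη : @Algebra.trdeg (S.residueField (f.base η)) (X.residueField η) _ _
      (f.residueFieldMap η).hom.toAlgebra = nη)
    (hm : @Algebra.trdeg (S.residueField (f.base ζ)) (X.residueField ζ) _ _
      (f.residueFieldMap ζ).hom.toAlgebra = m) :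
    ((m + 1 : ℕ) : WithBot ℕ∞) ≤ (nη : WithBot ℕ∞) + ringKrullDim (S.presheaf.stalk (f.base ζ)) := by
  have hineq := (relHt_add_trdeg_aux f hηζ nη m hnη hm).1
  have hlt : ζ < η := by
    rw [lt_iff_le_not_ge]
    refine ⟨hηζ, fun h => hne ?_⟩
    rw [anti X _ _ hηζ h]
  have h1 : 1 ≤ relHt ζ η := one_le_relHt hlt
  have h2 := relHt_le_ringKrullDim_stalk (f.base ζ) (f.base η)
  have h3 : ((m + 1 : ℕ) : ℕ∞) ≤ relHt (f.base ζ) (f.base η) + nη := by
    refine le_trans ?_ hineq
    push_cast
    rw [add_comm]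
    gcongr
  calc ((m + 1 : ℕ) : WithBot ℕ∞) ≤ ((relHt (f.base ζ) (f.base η) + nη : ℕ∞) : WithBot ℕ∞) := by
        exact_mod_cast h3
    _ = ((relHt (f.base ζ) (f.base η) : ℕ∞) : WithBot ℕ∞) + (nη : WithBot ℕ∞) := by push_cast; rfl
    _ ≤ ringKrullDim (S.presheaf.stalk (f.base ζ)) + (nη : WithBot ℕ∞) := by gcongr
    _ = _ := add_comm _ _


/-- Noetherian base: bound of the local fibre dimension at `x` by the one at maximal points through `x`
with image different from `f x`. -/
theorem fibreDimAt_add_one_le_of_noetherian [IsLocallyNoetherian S] (f : X ⟶ S) [LocallyOfFiniteType f]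
    (x : X) (d : ℕ)
    (hgen : ∀ η : X, (∀ η' : X, η' ⤳ η → η' = η) → η ⤳ x →
      f.base η ≠ f.base x ∧ FlatMor.fibreDimAt f η = d) :
    FlatMor.fibreDimAt f x + 1 ≤ (d : WithBot ℕ∞) + ringKrullDim (S.presheaf.stalk (f.base x)) := by
  obtain ⟨ζ, m, hζx, hζf, hζmax, hm, hF⟩ := exists_maximal_in_fibre_trdeg_eq_fibreDimAt f x
  obtain ⟨η, hηmax, hηζ⟩ := exists_maximal_specializes ζ
  obtain ⟨hne, hdη⟩ := hgen η hηmax (hηζ.trans hζx)
  obtain ⟨nη, hnη⟩ := exists_trdeg_residueField_eq_nat' f η
  have h1 : FlatMor.fibreDimAt f η = nη :=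
    fibreDimAt_eq_trdeg_of_maximal_in_fibre f η (fun z' h _ => hηmax z' h) nη hnη
  have hnd : nη = d := by
    rw [h1] at hdη
    exact_mod_cast hdη
  subst hnd
  have h2 := trdeg_add_one_le f hηζ (by rw [hζf]; exact hne) nη m hnη hm
  rw [hζf] at h2
  rw [hF]
  exact_mod_cast h2

/-- Noetherian base, local ring of dimension `≤ 1`: the local fibre dimension at `x` equals the common
value at the maximal points through `x`. -/
theorem fibreDimAt_eq_of_noetherian_of_dim_le_one [IsLocallyNoetherian S] (f : X ⟶ S)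
    [LocallyOfFiniteType f] (x : X) (hdim : ringKrullDim (S.presheaf.stalk (f.base x)) ≤ 1) (d : ℕ)
    (hgen : ∀ η : X, (∀ η' : X, η' ⤳ η → η' = η) → η ⤳ x → FlatMor.fibreDimAt f η = d) :
    FlatMor.fibreDimAt f x = d := by
  apply le_antisymm
  · obtain ⟨ζ, m, hζx, hζf, hζmax, hm, hF⟩ := exists_maximal_in_fibre_trdeg_eq_fibreDimAt f x
    obtain ⟨η, hηmax, hηζ⟩ := exists_maximal_specializes ζ
    have hdη := hgen η hηmax (hηζ.trans hζx)
    obtain ⟨nη, hnη⟩ := exists_trdeg_residueField_eq_nat' f η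
    have h1 : FlatMor.fibreDimAt f η = nη :=
      fibreDimAt_eq_trdeg_of_maximal_in_fibre f η (fun z' h _ => hηmax z' h) nη hnη
    have hnd : nη = d := by
      rw [h1] at hdη
      exact_mod_cast hdη
    subst hnd
    rw [hF]
    by_cases hne : f.base η = f.base ζ
    · have := hζmax η hηζ hne
      subst this
      have h3 := fibreDimAt_eq_trdeg_of_maximal_in_fibre f η hζmax m hm
      rw [← h3, h1]
    · have h2 := trdeg_add_one_le f hηζ hne nη m hnη hm
      rw [hζf] at h2
      have h3 : ((m + 1 : ℕ) : WithBot ℕ∞) ≤ ((nη + 1 : ℕ) : WithBot ℕ∞) := by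
        refine h2.trans ?_
        push_cast
        gcongr
      have : m + 1 ≤ nη + 1 := by exact_mod_cast h3
      have : m ≤ nη := by omega
      exact_mod_cast this
  · obtain ⟨η, hηmax, hηx⟩ := exists_maximal_specializes x
    rw [← hgen η hηmax hηx]
    exact fibreDimAt_mono' f hηx


/-- the local model over the spectrum of the local ring `O_{Y, f x}`. -/
theorem exists_local_model {Y : Scheme.{u}} (f : X ⟶ Y) [LocallyOfFiniteType f] (x : X)
    [IsNoetherianRing (Y.presheaf.stalk (f.base x))] :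
    ∃ (X' S' : Scheme.{u}) (f' : X' ⟶ S') (g' : X' ⟶ X) (x' : X'),
      IsLocallyNoetherian S' ∧ LocallyOfFiniteType f' ∧ g'.base x' = x ∧
      ringKrullDim (S'.presheaf.stalk (f'.base x')) = ringKrullDim (Y.presheaf.stalk (f.base x)) ∧
      (∀ z' : X', FlatMor.fibreDimAt f' z' = FlatMor.fibreDimAt f (g'.base z')) ∧
      (∀ z' : X', f'.base z' = f'.base x' ↔ f.base (g'.base z') = f.base x) ∧
      (∀ η' : X', (∀ ξ' : X', ξ' ⤳ η' → ξ' = η') → η' ⤳ x' →
         (∀ ξ : X, ξ ⤳ g'.base η' → ξ = g'.base η') ∧ g'.base η' ⤳ x) := by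
  let R := Y.presheaf.stalk (f.base x)
  let j : Spec R ⟶ Y := Y.fromSpecStalk (f.base x)
  have hcl : j.base (IsLocalRing.closedPoint R) = f.base x := Scheme.fromSpecStalk_closedPoint
  obtain ⟨x', hx'1, hx'2⟩ := Scheme.Pullback.exists_preimage_pullback (f := f) (g := j) x
    (IsLocalRing.closedPoint R) hcl.symm
  have hsq : IsPullback (pullback.fst f j) (pullback.snd f j) f j := IsPullback.of_hasPullback f j
  have hjinj : Function.Injective j.base := j.isEmbedding.injective
  have hcomm : ∀ z' : ↑(pullback f j), f.base ((pullback.fst f j).base z') =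
      j.base ((pullback.snd f j).base z') := by
    intro z'
    rw [← Scheme.Hom.comp_apply, ← Scheme.Hom.comp_apply, pullback.condition]
  refine ⟨pullback f j, Spec R, pullback.snd f j, pullback.fst f j, x', inferInstance, inferInstance,
    hx'1, ?_, ?_, ?_, ?_⟩
  · rw [hx'2]
    exact ringKrullDim_eq_of_ringEquiv (stalkClosedPointIso R).commRingCatIsoToRingEquiv
  · exact (Groth.Agent.S9358.result f j (pullback.fst f j) (pullback.snd f j) hsq 0).1
  · intro z'
    rw [hcomm z', hx'2]
    constructor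
    · intro h
      rw [h, hcl]
    · intro h
      exact hjinj (h.trans hcl.symm)
  · intro η' hmax hsp
    have hsp' : (pullback.fst f j).base η' ⤳ x := by
      rw [← hx'1]
      exact hsp.map (pullback.fst f j).continuous
    refine ⟨?_, hsp'⟩
    intro ξ hξ
    have h1 : f.base ξ ⤳ f.base x := (hξ.trans hsp').map f.continuous
    have h2 : ξ ∈ Set.range (pullback.fst f j).base := by
      rw [Scheme.Pullback.range_fst]
      change f.base ξ ∈ Set.range j.base
      rw [Scheme.range_fromSpecStalk]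
      exact h1
    obtain ⟨ξ', rfl⟩ := h2
    have h3 : ξ' ⤳ η' := (pullback.fst f j).isEmbedding.isInducing.specializes_iff.mp hξ
    rw [hmax ξ' h3]


/-- only the local ring of the base at `f x` Noetherian. -/
theorem fibreDimAt_add_one_le_of_stalk_noetherian {Y : Scheme.{u}} (f : X ⟶ Y) [LocallyOfFiniteType f]
    (x : X) [IsNoetherianRing (Y.presheaf.stalk (f.base x))] (d : ℕ)
    (hgen : ∀ η : X, (∀ η' : X, η' ⤳ η → η' = η) → η ⤳ x →
      f.base η ≠ f.base x ∧ FlatMor.fibreDimAt f η = d) :
    FlatMor.fibreDimAt f x + 1 ≤ (d : WithBot ℕ∞) + ringKrullDim (Y.presheaf.stalk (f.base x)) := by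
  obtain ⟨X', S', f', g', x', hS', hf', hx', hdim, hfd, hfib, hmax⟩ := exists_local_model f x
  have := fibreDimAt_add_one_le_of_noetherian f' x' d (by
    intro η' hη'max hη'x'
    obtain ⟨h1, h2⟩ := hmax η' hη'max hη'x'
    obtain ⟨h3, h4⟩ := hgen _ h1 h2
    refine ⟨fun h => h3 ((hfib η').mp h), ?_⟩
    rw [hfd, h4])
  rw [hfd, hx', hdim] at this
  exact this

theorem fibreDimAt_eq_of_stalk_noetherian_of_dim_le_one {Y : Scheme.{u}} (f : X ⟶ Y)
    [LocallyOfFiniteType f] (x : X) [IsNoetherianRing (Y.presheaf.stalk (f.base x))]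
    (hdim : ringKrullDim (Y.presheaf.stalk (f.base x)) ≤ 1) (d : ℕ)
    (hgen : ∀ η : X, (∀ η' : X, η' ⤳ η → η' = η) → η ⤳ x → FlatMor.fibreDimAt f η = d) :
    FlatMor.fibreDimAt f x = d := by
  obtain ⟨X', S', f', g', x', hS', hf', hx', hdim', hfd, hfib, hmax⟩ := exists_local_model f x
  have := fibreDimAt_eq_of_noetherian_of_dim_le_one f' x' (by rw [hdim']; exact hdim) d (by
    intro η' hη'max hη'x'
    obtain ⟨h1, h2⟩ := hmax η' hη'max hη'x'
    rw [hfd]
    exact hgen _ h1 h2)
  rw [hfd, hx'] at this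
  exact this

/-- a maximal point through `x` is the generic point of an irreducible component through `x`. -/
theorem maximal_to_component {A : Type*} [TopologicalSpace A] [QuasiSober A] {x η : A}
    (hmax : ∀ η' : A, η' ⤳ η → η' = η) (hsp : η ⤳ x) :
    closure ({η} : Set A) ∈ irreducibleComponents A ∧ x ∈ closure ({η} : Set A) ∧
      IsGenericPoint η (closure ({η} : Set A)) :=
  ⟨closure_singleton_mem_irreducibleComponents_of_maximal η hmax,
    specializes_iff_mem_closure.mp hsp, rfl⟩

end Groth.Agent.Lib.Helper73.MaxPtFibreDim
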