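/-
helper73: quasi-finiteness at a point in terms of the local fibre dimension.
-/
import Groth.Agent.Lib.Helper73.MaxPtFibreDim
import Groth.Agent.Lib.Helper29.TopDimZero
import Groth.Agent.Lib.Helper62.DimLoc4

set_option linter.style.haveILetI false
set_option autoImplicit false
universe u
open CategoryTheory CategoryTheory.Limits AlgebraicGeometry

namespace Groth.Agent.Lib.Helper73.QFAt

/-- in a locally Noetherian scheme, a point is isolated iff its local dimension is zero. -/
theorem isOpen_singleton_iff_localDim_eq_zero (F : Scheme.{u}) [IsLocallyNoetherian F] (z : F) :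
    IsOpen ({z} : Set F) ↔ FlatMor.localDim F z = 0 := by
  obtain ⟨_, ⟨(U : F.Opens), hU, rfl⟩, hzU, -⟩ :=
    (F.isBasis_affineOpens).exists_subset_of_mem_open (Set.mem_univ z) isOpen_univ
  replace hU : IsAffineOpen U := hU
  haveI : IsAffine U := hU
  haveI : IsNoetherian (U : Scheme.{u}) := { }
  haveI : TopologicalSpace.NoetherianSpace (U : Scheme.{u}) := inferInstance
  have hemb : Topology.IsOpenEmbedding (U.ι.base) := U.ι.isOpenEmbedding
  let z' : (U : Scheme.{u}) := ⟨z, hzU⟩
  have hz' : U.ι.base z' = z := rfl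
  rw [← hz', ← Groth.Agent.Lib.Helper62.DimLoc.localDim_eq_of_isOpenEmbedding _ hemb z',
    ← Groth.Agent.Lib.Helper29.isOpen_singleton_iff_localDim_eq_zero]
  rw [hemb.isOpen_iff_image_isOpen, Set.image_singleton]

theorem quasiFiniteAt_iff_fibreDimAt_eq_zero {X Y : Scheme.{u}} (f : X ⟶ Y) [LocallyOfFiniteType f]
    (x : X) : f.QuasiFiniteAt x ↔ FlatMor.fibreDimAt f x = 0 := by
  rw [Scheme.Hom.quasiFiniteAt_iff_isOpen_singleton_asFiber]
  haveI : LocallyOfFiniteType (f.fiberToSpecResidueField (f.base x)) := inferInstance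
  haveI : IsLocallyNoetherian (f.fiber (f.base x)) :=
    LocallyOfFiniteType.isLocallyNoetherian (f.fiberToSpecResidueField (f.base x))
  exact isOpen_singleton_iff_localDim_eq_zero _ _

end Groth.Agent.Lib.Helper73.QFAt
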