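/-
helper73: dimension of a quotient of a stalk by a prime as a relative height of points.
* `RelHt.length_le_relHt_of_ge`.
* `SchemeDim.fromSpecStalk_lt_iff`, `SchemeDim.coheight_eq_relHt_fromSpecStalk`,
  `SchemeDim.ringKrullDim_stalk_quotient_eq_relHt`: `dim (O_{X,x} / p) = relHt x (point of p)`.
-/
import Groth.Agent.Lib.Helper73.IrredDim

set_option linter.style.haveILetI false
set_option autoImplicit false
universe u
open Cardinal CategoryTheory AlgebraicGeometry

namespace Groth.Agent.Lib.Helper73.RelHt

variable {α : Type*} [Preorder α]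

/-- a chain ending at `c.last` whose head is above `a` has length at most `relHt a c.last`. -/
theorem length_le_relHt_of_ge (hanti : ∀ a b : α, a ≤ b → b ≤ a → a = b) (c : LTSeries α) {a : α}
    (h : a ≤ c.head) : (c.length : ℕ∞) ≤ relHt a c.last := by
  by_cases hhead : c.head ≤ a
  · have := hanti _ _ h hhead
    subst this
    exact length_le_relHt c
  · have hlt : a < c.head := lt_of_le_not_ge h hhead
    have := length_le_relHt' (a := a) (b := c.last) (c.cons a hlt) (RelSeries.head_cons _ _ _)
      (RelSeries.last_cons _ _ _)
    refine le_trans ?_ this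
    simp

end Groth.Agent.Lib.Helper73.RelHt

namespace Groth.Agent.Lib.Helper73.SchemeDim

open Groth.Agent.Lib.Helper73.RelHt

variable {X : Scheme.{u}}

theorem fromSpecStalk_lt_iff (x : X) (P Q : PrimeSpectrum (X.presheaf.stalk x)) :
    (X.fromSpecStalk x).base P < (X.fromSpecStalk x).base Q ↔ Q < P := by
  have hind := (X.fromSpecStalk x).isEmbedding.toIsInducing
  have key : ∀ A B : PrimeSpectrum (X.presheaf.stalk x),
      (X.fromSpecStalk x).base A ≤ (X.fromSpecStalk x).base B ↔ B ≤ A := by
    intro A B
    rw [PrimeSpectrum.le_iff_specializes]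
    exact hind.specializes_iff
  rw [lt_iff_le_not_ge, lt_iff_le_not_ge, key, key]

theorem coheight_eq_relHt_fromSpecStalk (x : X) (P : PrimeSpectrum (X.presheaf.stalk x)) :
    Order.coheight P = relHt x ((X.fromSpecStalk x).base P) := by
  apply le_antisymm
  · rw [Order.coheight_le_iff']
    intro c hc
    let d : LTSeries X :=
      { length := c.length
        toFun := fun i => (X.fromSpecStalk x).base (c i.rev)
        step := fun i => by
          change (X.fromSpecStalk x).base (c i.castSucc.rev) < (X.fromSpecStalk x).base (c i.succ.rev)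
          rw [fromSpecStalk_lt_iff]
          apply c.strictMono
          rw [Fin.rev_lt_rev]
          exact Fin.castSucc_lt_succ }
    have hd1 : x ≤ d.head := by
      change (X.fromSpecStalk x).base _ ⤳ x
      have : (X.fromSpecStalk x).base (c (Fin.rev 0)) ∈ Set.range (X.fromSpecStalk x).base :=
        ⟨_, rfl⟩
      rw [Scheme.range_fromSpecStalk] at this
      exact this
    have hd2 : d.last = (X.fromSpecStalk x).base P := by
      change (X.fromSpecStalk x).base (c (Fin.rev (Fin.last _))) = _
      rw [Fin.rev_last, ← hc]
      rfl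
    have := length_le_relHt_of_ge (anti X) d hd1
    rw [hd2] at this
    exact this
  · refine relHt_le fun d h1 h2 => ?_
    have hmem : ∀ i, ∃ Q : PrimeSpectrum (X.presheaf.stalk x),
        (X.fromSpecStalk x).base Q = d i := by
      intro i
      change d i ∈ Set.range (X.fromSpecStalk x).base
      rw [Scheme.range_fromSpecStalk]
      change x ≤ d i
      rw [← h1]
      exact d.monotone (Fin.zero_le _)
    choose c hc using hmem
    let c' : LTSeries (PrimeSpectrum (X.presheaf.stalk x)) :=
      { length := d.length
        toFun := fun i => c i.rev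
        step := fun i => by
          change c i.castSucc.rev < c i.succ.rev
          rw [← fromSpecStalk_lt_iff, hc, hc]
          apply d.strictMono
          rw [Fin.rev_lt_rev]
          exact Fin.castSucc_lt_succ }
    have hc'1 : c'.head = P := by
      apply (X.fromSpecStalk x).isEmbedding.injective
      change (X.fromSpecStalk x).base (c (Fin.rev 0)) = _
      rw [hc, ← h2]
      rfl
    rw [← hc'1]
    exact Order.length_le_coheight_head (p := c')

theorem ringKrullDim_stalk_quotient_eq_relHt (x : X) (𝔭 : Ideal (X.presheaf.stalk x))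
    [h𝔭 : 𝔭.IsPrime] :
    ringKrullDim (X.presheaf.stalk x ⧸ 𝔭) =
      ((relHt x ((X.fromSpecStalk x).base (⟨𝔭, h𝔭⟩ : PrimeSpectrum (X.presheaf.stalk x))) : ℕ∞) :
        WithBot ℕ∞) := by
  rw [← coheight_eq_relHt_fromSpecStalk, Order.coheight_eq_krullDim_Ici, ringKrullDim_quotient]
  congr 1

end Groth.Agent.Lib.Helper73.SchemeDim
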