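/-
helper73: Krull principal ideal theorem for hypersurfaces in schemes.
* `SchemeDim.fromSpecStalk_mem_zeroLocus_iff`: the point of a prime `Q` of `O_{X,x}` lies in `V(g)` iff `g_x ∈ Q`.
* `SchemeDim.ringKrullDim_stalk_le_one_of_maximal_zeroLocus`: `dim O_{X,x} ≤ 1` at maximal points of `V(g)`.
-/
import Groth.Agent.Lib.Helper73.StalkQuot

set_option linter.style.haveILetI false
set_option autoImplicit false
universe u
open Cardinal CategoryTheory AlgebraicGeometry

namespace Groth.Agent.Lib.Helper73.SchemeDim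

open Groth.Agent.Lib.Helper73.RelHt

variable {X : Scheme.{u}}

/-- the point of `Spec O_{X,x'}` given by a prime `Q` lies in `V(g)` iff the germ of `g` lies in `Q`. -/
theorem fromSpecStalk_mem_zeroLocus_iff (g : Γ(X, ⊤)) (x' : X)
    (Q : PrimeSpectrum (X.presheaf.stalk x')) :
    (X.fromSpecStalk x').base Q ∈ X.zeroLocus ({g} : Set Γ(X, ⊤)) ↔
      X.presheaf.germ ⊤ x' trivial g ∈ Q.asIdeal := by
  set z : X := (X.fromSpecStalk x').base Q with hz
  have h : z ⤳ x' := by
    have : z ∈ Set.range (X.fromSpecStalk x').base := ⟨_, rfl⟩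
    rw [Scheme.range_fromSpecStalk] at this
    exact this
  set φ := X.presheaf.stalkSpecializes h with hφ
  have hQ : Q = PrimeSpectrum.comap φ.hom (IsLocalRing.closedPoint (X.presheaf.stalk z)) := by
    apply (X.fromSpecStalk x').isEmbedding.injective
    have h1 := Scheme.SpecMap_stalkSpecializes_fromSpecStalk h
    have h2 := congrArg (fun ψ => ψ.base (IsLocalRing.closedPoint (X.presheaf.stalk z))) h1
    have h3 : (X.fromSpecStalk z).base (IsLocalRing.closedPoint (X.presheaf.stalk z)) = z :=
      Scheme.fromSpecStalk_closedPoint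
    exact (h2.trans h3).symm
  rw [Scheme.zeroLocus_singleton, Set.mem_compl_iff, SetLike.mem_coe, Scheme.mem_basicOpen_top]
  have hgerm : X.presheaf.germ ⊤ z trivial g = φ.hom (X.presheaf.germ ⊤ x' trivial g) := by
    have := TopCat.Presheaf.germ_stalkSpecializes X.presheaf (U := ⊤) (y := x') trivial h
    rw [← this]
    rfl
  rw [hgerm]
  conv_rhs => rw [hQ]
  change _ ↔ φ.hom _ ∈ IsLocalRing.maximalIdeal _
  rw [IsLocalRing.mem_maximalIdeal, mem_nonunits_iff]

/-- Krull's principal ideal theorem at a maximal point of a hypersurface. -/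
theorem ringKrullDim_stalk_le_one_of_maximal_zeroLocus [IsLocallyNoetherian X] (g : Γ(X, ⊤)) (x' : X)
    (hx' : x' ∈ X.zeroLocus ({g} : Set Γ(X, ⊤)))
    (hmax : ∀ z : X, z ∈ X.zeroLocus ({g} : Set Γ(X, ⊤)) → z ⤳ x' → z = x') :
    ringKrullDim (X.presheaf.stalk x') ≤ 1 := by
  set R := X.presheaf.stalk x' with hR
  set a : R := X.presheaf.germ ⊤ x' trivial g with ha
  have hcl : (X.fromSpecStalk x').base (IsLocalRing.closedPoint R) = x' :=
    Scheme.fromSpecStalk_closedPoint
  have hmin : IsLocalRing.maximalIdeal R ∈ (Ideal.span {a}).minimalPrimes := by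
    refine ⟨⟨inferInstance, ?_⟩, ?_⟩
    · rw [Ideal.span_singleton_le_iff_mem]
      have := (fromSpecStalk_mem_zeroLocus_iff g x' (IsLocalRing.closedPoint R)).mp (by rw [hcl]; exact hx')
      exact this
    · rintro Q ⟨hQp, hQa⟩ -
      rw [Ideal.span_singleton_le_iff_mem] at hQa
      let Q' : PrimeSpectrum R := ⟨Q, hQp⟩
      have hz := (fromSpecStalk_mem_zeroLocus_iff g x' Q').mpr hQa
      have hsp : (X.fromSpecStalk x').base Q' ⤳ x' := by
        have : (X.fromSpecStalk x').base Q' ∈ Set.range (X.fromSpecStalk x').base := ⟨_, rfl⟩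
        rw [Scheme.range_fromSpecStalk] at this
        exact this
      have heq := hmax _ hz hsp
      have : Q' = IsLocalRing.closedPoint R := by
        apply (X.fromSpecStalk x').isEmbedding.injective
        rw [hcl]; exact heq
      have h2 : Q = IsLocalRing.maximalIdeal R := congrArg PrimeSpectrum.asIdeal this
      rw [h2]
  have hht := Ideal.height_le_one_of_isPrincipal_of_mem_minimalPrimes (Ideal.span {a})
    (IsLocalRing.maximalIdeal R) hmin
  rw [← IsLocalRing.maximalIdeal_height_eq_ringKrullDim]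
  exact_mod_cast hht

end Groth.Agent.Lib.Helper73.SchemeDim
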