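/-
helper73: prime avoidance combined with Krull principal ideal theorem.
* `not_lt_lt_of_mem_minimalPrimes_sup_span`: no prime strictly between `p` and a minimal prime over `p + (a)`.
* `exists_prime_gt_not_ge`: above a prime of coheight ≥ 2 there is a prime not containing any of finitely
  many given strictly larger primes.
-/
import Groth.Agent.Lib.Helper73.DimLocal

set_option linter.style.haveILetI false
set_option autoImplicit false
universe u

namespace Groth.Agent.Lib.Helper73.DimFormula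

/-- relative form of Krull's principal ideal theorem: no prime lies strictly between `p'` and a
minimal prime over `p' + (a)`. -/
theorem not_lt_lt_of_mem_minimalPrimes_sup_span {R : Type*} [CommRing R] [IsNoetherianRing R]
    (p' : Ideal R) [hp' : p'.IsPrime] (a : R) (Q : Ideal R)
    (hQ : Q ∈ (p' ⊔ Ideal.span {a}).minimalPrimes) (P : Ideal R) [hP : P.IsPrime]
    (h1 : p' < P) (h2 : P < Q) : False := by
  haveI hQp : Q.IsPrime := hQ.1.1
  have hle : p' ≤ Q := le_sup_left.trans hQ.1.2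
  set π := Ideal.Quotient.mk p' with hπ
  have hsurj : Function.Surjective π := Ideal.Quotient.mk_surjective
  haveI hq' : (Q.map π).IsPrime :=
    Ideal.map_isPrime_of_surjective hsurj (by rwa [Ideal.mk_ker])
  have hmin : Q.map π ∈ (Ideal.span {π a}).minimalPrimes := by
    have h3 := Ideal.minimalPrimes_map_of_surjective hsurj (Ideal.span {a})
    rw [Ideal.map_span, Set.image_singleton] at h3
    rw [h3]
    refine ⟨Q, ?_, rfl⟩
    rw [Ideal.mk_ker, sup_comm]
    exact hQ
  have hht := Ideal.height_le_one_of_isPrincipal_of_mem_minimalPrimes (Ideal.span {π a})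
    (Q.map π) hmin
  -- the chain `p' < P < Q`
  let c0 : LTSeries (PrimeSpectrum R) := RelSeries.singleton _ ⟨Q, hQp⟩
  let c1 : LTSeries (PrimeSpectrum R) := c0.cons ⟨P, hP⟩ (by
    rw [RelSeries.head_singleton]; exact h2)
  let c2 : LTSeries (PrimeSpectrum R) := c1.cons ⟨p', hp'⟩ (by
    rw [RelSeries.head_cons]; exact h1)
  have hlen := length_le_height_map_quotient p' Q hle c2
    (by rw [RelSeries.last_cons, RelSeries.last_cons]; rfl)
    (by rw [RelSeries.head_cons])
  have : ((2 : ℕ) : ℕ∞) ≤ 1 := by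
    refine le_trans ?_ (hlen.trans hht)
    exact le_of_eq rfl
  exact absurd this (by norm_num)

/-- prime avoidance + Krull: above a prime of coheight `≥ 2` there is a prime avoiding
(not containing) finitely many given strictly larger primes. -/
theorem exists_prime_gt_not_ge {R : Type*} [CommRing R] [IsNoetherianRing R] (p' : PrimeSpectrum R)
    (hco : 2 ≤ Order.coheight p') (S : Finset (PrimeSpectrum R)) (hS : ∀ P ∈ S, p' < P) :
    ∃ Q : PrimeSpectrum R, p' < Q ∧ ∀ P ∈ S, ¬ P ≤ Q := by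
  classical
  obtain ⟨l, hl1, hl2⟩ := Order.exists_series_of_le_coheight p' (n := 2) (by exact_mod_cast hco)
  have h01 : l ⟨0, by omega⟩ < l ⟨1, by omega⟩ := l.strictMono (by simp [Fin.lt_def])
  have h12 : l ⟨1, by omega⟩ < l ⟨2, by omega⟩ := l.strictMono (by simp [Fin.lt_def])
  have h0 : l ⟨0, by omega⟩ = p' := hl1
  rw [h0] at h01
  set Q₁ := l ⟨1, by omega⟩ with hQ₁
  set Q₂ := l ⟨2, by omega⟩ with hQ₂
  let S₁ : Finset (PrimeSpectrum R) := insert p' (S.filter (fun P => ¬ Q₂ ≤ P))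
  have havoid : ¬ ((Q₂.asIdeal : Set R) ⊆ ⋃ P ∈ (↑S₁ : Set (PrimeSpectrum R)), (P.asIdeal : Set R)) := by
    rw [Ideal.subset_union_prime (f := fun P : PrimeSpectrum R => P.asIdeal) p' p'
      (fun P _ _ _ => P.2)]
    rintro ⟨P, hP, hle⟩
    rw [Finset.mem_insert, Finset.mem_filter] at hP
    rcases hP with rfl | ⟨-, hP⟩
    · exact absurd (lt_of_lt_of_le (h01.trans h12) (show Q₂ ≤ P from hle)) (lt_irrefl _)
    · exact hP hle
  rw [Set.not_subset] at havoid
  obtain ⟨a, haQ₂, ha⟩ := havoid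
  have ha' : ∀ P ∈ S₁, a ∉ P.asIdeal := by
    intro P hP haP
    apply ha
    simp only [Set.mem_iUnion]
    exact ⟨P, hP, haP⟩
  have hI : p'.asIdeal ⊔ Ideal.span {a} ≤ Q₂.asIdeal := by
    refine sup_le (le_of_lt (h01.trans h12)) ?_
    rw [Ideal.span_singleton_le_iff_mem]
    exact haQ₂
  obtain ⟨Q, hQmin, hQle⟩ := Ideal.exists_minimalPrimes_le hI
  have hQp : Q.IsPrime := hQmin.1.1
  have hp'Q : p' < (⟨Q, hQp⟩ : PrimeSpectrum R) := by
    have hle : p'.asIdeal ≤ Q := le_sup_left.trans hQmin.1.2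
    have haQ : a ∈ Q := hQmin.1.2 (Ideal.mem_sup_right (Ideal.subset_span rfl))
    have hap' : a ∉ p'.asIdeal := ha' p' (Finset.mem_insert_self _ _)
    refine lt_of_le_of_ne hle ?_
    intro h
    apply hap'
    rw [h]; exact haQ
  refine ⟨⟨Q, hQp⟩, hp'Q, ?_⟩
  intro P hPS hPQ
  have hp'P := hS P hPS
  haveI := p'.2
  haveI := P.2
  have hPQeq : P = ⟨Q, hQp⟩ := by
    by_contra hne
    have hlt : P < (⟨Q, hQp⟩ : PrimeSpectrum R) := lt_of_le_of_ne hPQ hne
    exact not_lt_lt_of_mem_minimalPrimes_sup_span p'.asIdeal a Q hQmin P.asIdeal hp'P hlt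
  have hnot : ¬ Q₂ ≤ P := by
    intro hQ₂P
    -- then `P = Q = Q₂`, and `Q₁` lies strictly between
    have hQQ₂ : (⟨Q, hQp⟩ : PrimeSpectrum R) = Q₂ := le_antisymm hQle (hPQeq ▸ hQ₂P)
    haveI := Q₁.2
    refine not_lt_lt_of_mem_minimalPrimes_sup_span p'.asIdeal a Q hQmin Q₁.asIdeal h01 ?_
    have : Q₁ < (⟨Q, hQp⟩ : PrimeSpectrum R) := by rw [hQQ₂]; exact h12
    exact this
  have hPS₁ : P ∈ S₁ := by
    rw [Finset.mem_insert, Finset.mem_filter]
    exact Or.inr ⟨hPS, hnot⟩
  have haP : a ∈ P.asIdeal := by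
    rw [hPQeq]
    exact hQmin.1.2 (Ideal.mem_sup_right (Ideal.subset_span rfl))
  exact ha' P hPS₁ haP

end Groth.Agent.Lib.Helper73.DimFormula
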