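/-
helper73: dictionary between primes of a stalk `O_{X,x}` and generizations of `x`.
* `fromSpecStalk_specializes`, `exists_fromSpecStalk_eq`, `fromSpecStalk_specializes_iff`.
* `fromSpecStalk_maximal_of_mem_minimalPrimes`, `mem_minimalPrimes_of_fromSpecStalk_maximal`.
* `base_fromSpecStalk`: image under `f` of the point of `P` is the point of `P.comap (f.stalkMap x)`.
* `exists_minimalPrimes_length_le`: a chain of primes is bounded by some `dim R/p`, `p` minimal.
-/
import Groth.Agent.Lib.Helper73.StalkQuot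

set_option linter.style.haveILetI false
set_option autoImplicit false
universe u
open Cardinal CategoryTheory AlgebraicGeometry

namespace Groth.Agent.Lib.Helper73.SchemeDim

open Groth.Agent.Lib.Helper73.RelHt

variable {X Y : Scheme.{u}}

theorem fromSpecStalk_specializes (x : X) (P : PrimeSpectrum (X.presheaf.stalk x)) :
    (X.fromSpecStalk x).base P ⤳ x := by
  have : (X.fromSpecStalk x).base P ∈ Set.range (X.fromSpecStalk x).base := ⟨_, rfl⟩
  rw [Scheme.range_fromSpecStalk] at this
  exact this

theorem exists_fromSpecStalk_eq {x ξ : X} (h : ξ ⤳ x) :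
    ∃ P : PrimeSpectrum (X.presheaf.stalk x), (X.fromSpecStalk x).base P = ξ := by
  change ξ ∈ Set.range (X.fromSpecStalk x).base
  rw [Scheme.range_fromSpecStalk]
  exact h

theorem fromSpecStalk_specializes_iff (x : X) (P Q : PrimeSpectrum (X.presheaf.stalk x)) :
    (X.fromSpecStalk x).base P ⤳ (X.fromSpecStalk x).base Q ↔ P ≤ Q := by
  rw [PrimeSpectrum.le_iff_specializes]
  exact (X.fromSpecStalk x).isEmbedding.toIsInducing.specializes_iff

/-- minimal primes of the stalk give maximal points. -/
theorem fromSpecStalk_maximal_of_mem_minimalPrimes (x : X) (P : PrimeSpectrum (X.presheaf.stalk x))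
    (hP : P.asIdeal ∈ minimalPrimes (X.presheaf.stalk x)) :
    ∀ ξ' : X, ξ' ⤳ (X.fromSpecStalk x).base P → ξ' = (X.fromSpecStalk x).base P := by
  intro ξ' hsp
  obtain ⟨Q, rfl⟩ := exists_fromSpecStalk_eq (hsp.trans (fromSpecStalk_specializes x P))
  have hQP : Q ≤ P := (fromSpecStalk_specializes_iff x Q P).mp hsp
  have : P ≤ Q := hP.2 ⟨Q.2, bot_le⟩ hQP
  rw [le_antisymm hQP this]

/-- maximal points give minimal primes of the stalk. -/
theorem mem_minimalPrimes_of_fromSpecStalk_maximal (x : X) (P : PrimeSpectrum (X.presheaf.stalk x))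
    (hmax : ∀ ξ' : X, ξ' ⤳ (X.fromSpecStalk x).base P → ξ' = (X.fromSpecStalk x).base P) :
    P.asIdeal ∈ minimalPrimes (X.presheaf.stalk x) := by
  refine ⟨⟨P.2, bot_le⟩, ?_⟩
  rintro Q ⟨hQp, -⟩ hQP
  let Q' : PrimeSpectrum (X.presheaf.stalk x) := ⟨Q, hQp⟩
  have h1 : (X.fromSpecStalk x).base Q' ⤳ (X.fromSpecStalk x).base P :=
    (fromSpecStalk_specializes_iff x Q' P).mpr hQP
  have h2 := (X.fromSpecStalk x).isEmbedding.injective (hmax _ h1)
  have : Q = P.asIdeal := congrArg PrimeSpectrum.asIdeal h2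
  rw [this]

/-- compatibility of the points of primes with a morphism. -/
theorem base_fromSpecStalk (f : X ⟶ Y) (x : X) (P : PrimeSpectrum (X.presheaf.stalk x)) :
    f.base ((X.fromSpecStalk x).base P) =
      (Y.fromSpecStalk (f.base x)).base (PrimeSpectrum.comap (f.stalkMap x).hom P) := by
  have := Scheme.SpecMap_stalkMap_fromSpecStalk (f := f) (x := x)
  have h2 := congrArg (fun φ => φ.base P) this
  exact h2.symm

/-- some minimal prime quotient computes at least the length of a given chain. -/
theorem exists_minimalPrimes_length_le {R : Type*} [CommRing R] (l : LTSeries (PrimeSpectrum R)) :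
    ∃ p ∈ minimalPrimes R, (l.length : WithBot ℕ∞) ≤ ringKrullDim (R ⧸ p) := by
  obtain ⟨p, hp, hple⟩ := Ideal.exists_minimalPrimes_le (J := l.head.asIdeal) bot_le
  refine ⟨p, hp, ?_⟩
  haveI : p.IsPrime := hp.1.1
  have h1 : ringKrullDim (R ⧸ p) = Order.coheight (⟨p, hp.1.1⟩ : PrimeSpectrum R) := by
    rw [Order.coheight_eq_krullDim_Ici, ringKrullDim_quotient]
    congr 1
  rw [h1]
  have : (⟨p, hp.1.1⟩ : PrimeSpectrum R) ≤ l.head := hple
  exact_mod_cast Order.length_le_coheight this

end Groth.Agent.Lib.Helper73.SchemeDim
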