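/-
helper73: Noetherian domains of dimension ≤ 1 (in particular Dedekind domains) are Cohen–Macaulay, hence
universally catenary; stalks of the spectrum of a universally catenary ring are universally catenary.
-/
import Groth.Agent.S0603
import Groth.Agent.S9126
import Groth.Agent.Lib.Helper29.CMRing
import Groth.Agent.Lib.Helper73.SchemeDimFormula

set_option linter.style.haveILetI false
set_option autoImplicit false
universe u
open CategoryTheory CategoryTheory.Limits AlgebraicGeometry

namespace Groth.Agent.Lib.Helper73.DedekindUC

open Groth.Agent.Lib.Helper29.CMRing Groth.Agent.Lib.Helper29.DepthLib RingTheory.Sequence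

theorem isCohenMacaulayRing_of_dim_le_one (R : Type u) [CommRing R] [IsDomain R] [IsNoetherianRing R]
    (hdim : ringKrullDim R ≤ 1) : LocCoh.IsCohenMacaulayRing R := by
  rw [isCohenMacaulayRing_iff_idealDepth_eq_height]
  intro a ha
  refine le_antisymm (idealDepth_le_height R ha) ?_
  by_cases h0 : a = ⊥
  · subst h0
    rw [Ideal.height_bot]
    exact zero_le
  · obtain ⟨x, hxa, hx0⟩ := Submodule.exists_mem_ne_zero_of_ne_bot h0
    have hreg : IsWeaklyRegular R [x] := by
      rw [isWeaklyRegular_singleton_iff]
      exact (IsRegular.of_ne_zero hx0).left.isSMulRegular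
    have h1 := length_le_idealDepth a R hreg (by
      intro r hr
      rw [List.mem_singleton] at hr
      rw [hr]; exact hxa)
    refine le_trans ?_ h1
    have h2 : (a.height : WithBot ℕ∞) ≤ 1 := (Ideal.height_le_ringKrullDim_of_ne_top ha).trans hdim
    have h3 : a.height ≤ 1 := by exact_mod_cast h2
    simpa using h3

theorem isUniversallyCatenary_of_isDedekindDomain (R : Type u) [CommRing R] [IsDedekindDomain R] :
    CAlg.IsUniversallyCatenary R := by
  haveI := isCohenMacaulayRing_of_dim_le_one R ((Ring.krullDimLE_iff (n := 1) (R := R)).mp inferInstance)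
  exact Groth.Agent.S0603.result R


theorem isUniversallyCatenary_stalk_Spec (R : Type u) [CommRing R] (hR : CAlg.IsUniversallyCatenary R)
    (s : Spec (CommRingCat.of R)) :
    CAlg.IsUniversallyCatenary ((Spec (CommRingCat.of R)).presheaf.stalk s) := by
  let p : PrimeSpectrum R := s
  letI : Algebra R ((Spec (CommRingCat.of R)).presheaf.stalk s) :=
    AlgebraicGeometry.StructureSheaf.stalkAlgebra (R := R) p
  haveI : IsLocalization.AtPrime ((Spec (CommRingCat.of R)).presheaf.stalk s) p.asIdeal :=
    AlgebraicGeometry.StructureSheaf.IsLocalization.to_stalk (R := R) p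
  haveI : Algebra.EssFiniteType R ((Spec (CommRingCat.of R)).presheaf.stalk s) :=
    Algebra.EssFiniteType.of_isLocalization _ p.asIdeal.primeCompl
  exact Groth.Agent.S9126.result R _ hR

end Groth.Agent.Lib.Helper73.DedekindUC
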