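/-
helper73: chains of primes of `O_{X,x}` ↔ chains of generizations of `x` (order reversing).
* `exists_ltSeries_of_primes_stalk`, `exists_ltSeries_primes_stalk`.
* `RelHt.forall_cons`, `RelHt.forall_snoc`: properties of all members of an extended chain.
-/
import Groth.Agent.Lib.Helper73.StalkQuot2

set_option linter.style.haveILetI false
set_option autoImplicit false
universe u
open CategoryTheory AlgebraicGeometry

namespace Groth.Agent.Lib.Helper73.SchemeDim

open Groth.Agent.Lib.Helper73.RelHt

variable {X : Scheme.{u}}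

/-- a chain of primes of `O_{X,x}` gives (reversed) a chain of generizations of `x`. -/
theorem exists_ltSeries_of_primes_stalk (x : X) (l : LTSeries (PrimeSpectrum (X.presheaf.stalk x))) :
    ∃ d : LTSeries X, d.length = l.length ∧ d.head = (X.fromSpecStalk x).base l.last ∧
      d.last = (X.fromSpecStalk x).base l.head ∧
      ∀ i, ∃ j, d i = (X.fromSpecStalk x).base (l j) := by
  let d : LTSeries X :=
    { length := l.length
      toFun := fun i => (X.fromSpecStalk x).base (l i.rev)
      step := fun i => by
        change (X.fromSpecStalk x).base (l i.castSucc.rev) < (X.fromSpecStalk x).base (l i.succ.rev)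
        rw [fromSpecStalk_lt_iff]
        apply l.strictMono
        rw [Fin.rev_lt_rev]
        exact Fin.castSucc_lt_succ }
  refine ⟨d, rfl, ?_, ?_, fun i => ⟨i.rev, rfl⟩⟩
  · change (X.fromSpecStalk x).base (l (Fin.rev 0)) = _
    rw [Fin.rev_zero]
    rfl
  · change (X.fromSpecStalk x).base (l (Fin.rev (Fin.last _))) = _
    rw [Fin.rev_last]
    rfl

/-- a chain of generizations of `x` gives (reversed) a chain of primes of `O_{X,x}`. -/
theorem exists_ltSeries_primes_stalk (x : X) (d : LTSeries X) (h : x ≤ d.head) :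
    ∃ l : LTSeries (PrimeSpectrum (X.presheaf.stalk x)), l.length = d.length ∧
      (X.fromSpecStalk x).base l.head = d.last ∧ (X.fromSpecStalk x).base l.last = d.head ∧
      ∀ j, ∃ i, (X.fromSpecStalk x).base (l j) = d i := by
  have hmem : ∀ i, ∃ Q : PrimeSpectrum (X.presheaf.stalk x),
      (X.fromSpecStalk x).base Q = d i := by
    intro i
    apply exists_fromSpecStalk_eq
    change x ≤ d i
    exact h.trans (d.monotone (Fin.zero_le _))
  choose c hc using hmem
  let l : LTSeries (PrimeSpectrum (X.presheaf.stalk x)) :=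
    { length := d.length
      toFun := fun i => c i.rev
      step := fun i => by
        change c i.castSucc.rev < c i.succ.rev
        rw [← fromSpecStalk_lt_iff, hc, hc]
        apply d.strictMono
        rw [Fin.rev_lt_rev]
        exact Fin.castSucc_lt_succ }
  refine ⟨l, rfl, ?_, ?_, fun j => ⟨j.rev, hc _⟩⟩
  · change (X.fromSpecStalk x).base (c (Fin.rev 0)) = _
    rw [hc, Fin.rev_zero]
    rfl
  · change (X.fromSpecStalk x).base (c (Fin.rev (Fin.last _))) = _
    rw [hc, Fin.rev_last]
    rfl

end Groth.Agent.Lib.Helper73.SchemeDim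

namespace Groth.Agent.Lib.Helper73.RelHt

theorem forall_cons {α : Type*} {r : SetRel α α} (p : RelSeries r) (a : α) (h : (a, p.head) ∈ r)
    {P : α → Prop} (ha : P a) (hp : ∀ i, P (p i)) : ∀ i, P ((p.cons a h) i) := by
  intro i
  have hmem : (p.cons a h) i ∈ (p.cons a h).toList := RelSeries.mem_toList.mpr ⟨i, rfl⟩
  rw [RelSeries.toList_cons, List.mem_cons] at hmem
  rcases hmem with h1 | h1
  · rw [h1]; exact ha
  · obtain ⟨j, hj⟩ := RelSeries.mem_toList.mp h1
    rw [← hj]; exact hp j

theorem forall_snoc {α : Type*} {r : SetRel α α} (p : RelSeries r) (a : α) (h : (p.last, a) ∈ r)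
    {P : α → Prop} (ha : P a) (hp : ∀ i, P (p i)) : ∀ i, P ((p.snoc a h) i) := by
  intro i
  have hmem : (p.snoc a h) i ∈ p.snoc a h := ⟨i, rfl⟩
  rw [RelSeries.mem_snoc] at hmem
  rcases hmem with ⟨j, hj⟩ | h1
  · rw [← hj]; exact hp j
  · rw [h1]; exact ha

end Groth.Agent.Lib.Helper73.RelHt
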