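/-
helper73: pointwise quasi-finiteness gives local quasi-finiteness; stalks of `Spec R`.
-/
import Groth.Agent.Lib.Helper73.QFAt

set_option linter.style.haveILetI false
set_option autoImplicit false
universe u
open CategoryTheory CategoryTheory.Limits AlgebraicGeometry

namespace Groth.Agent.Lib.Helper73.QFAt

theorem locallyQuasiFinite_of_forall_quasiFiniteAt {X Y : Scheme.{u}} (f : X ⟶ Y)
    [LocallyOfFiniteType f] (h : ∀ x : X, f.QuasiFiniteAt x) : LocallyQuasiFinite f := by
  rw [locallyQuasiFinite_iff_isDiscrete_preimage_singleton]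
  intro x
  refine ⟨?_⟩
  rw [discreteTopology_iff_isOpen_singleton]
  rintro ⟨y, hy⟩
  have hy' : f.base y = x := hy
  subst hy'
  have h1 := (Scheme.Hom.quasiFiniteAt_iff_isOpen_singleton_asFiber).mp (h y)
  have h2 := (f.fiberHomeo (f.base y)).isOpen_image.mpr h1
  rw [Set.image_singleton] at h2
  convert h2
  rw [Scheme.Hom.fiberHomeo_apply, Scheme.Hom.fiberι_asFiber]

theorem ringKrullDim_stalk_Spec_le (R : CommRingCat.{u}) (s : Spec R) :
    ringKrullDim ((Spec R).presheaf.stalk s) ≤ ringKrullDim R := by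
  rw [AlgebraicGeometry.ringKrullDim_stalk_eq_coheight]
  have h1 : ((Order.coheight s : ℕ∞) : WithBot ℕ∞) ≤ Order.krullDim (Spec R) :=
    Order.coheight_le_krullDim s
  refine h1.trans ?_
  have h2 := Groth.Agent.Lib.Helper73.SchemeDim.topologicalKrullDim_eq_krullDim_specialization (Spec R)
  have h3 : topologicalKrullDim (Spec R) = ringKrullDim R :=
    PrimeSpectrum.topologicalKrullDim_eq_ringKrullDim R
  rw [← h3, h2]

end Groth.Agent.Lib.Helper73.QFAt
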