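/-
helper73: dictionary between the local fibre dimension of `Spec S → Spec R` and the local dimension
of `Spec (κ(p) ⊗[R] S)`.
-/
import Groth.Agent.Lib.Helper73.FibreDimRetro

set_option linter.style.haveILetI false
set_option autoImplicit false
universe u
open CategoryTheory CategoryTheory.Limits AlgebraicGeometry TensorProduct

namespace Groth.Agent.Lib.Helper73.FibreDimRing

open Groth.Agent.Lib.Helper73.SchemeDim

theorem fibreDimAt_Spec_eq (R S : Type u) [CommRing R] [CommRing S] [Algebra R S]
    (q : PrimeSpectrum S) :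
    FlatMor.fibreDimAt (Spec.map (CommRingCat.ofHom (algebraMap R S)))
        (show ↥(Spec (CommRingCat.of S)) from q) =
      FlatMor.localDim (PrimeSpectrum ((q.asIdeal.under R).Fiber S))
        (PrimeSpectrum.preimageHomeomorphFiber R S (PrimeSpectrum.comap (algebraMap R S) q)
          ⟨q, rfl⟩) := by
  set f := Spec.map (CommRingCat.ofHom (algebraMap R S)) with hf
  let q' : ↥(Spec (CommRingCat.of S)) := q
  unfold FlatMor.fibreDimAt
  have h1 := localDim_eq_of_isHomeomorph (f.fiberHomeo (f.base q'))
    (f.fiberHomeo (f.base q')).isHomeomorph (f.asFiber q')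
  have h2 : f.fiberHomeo (f.base q') (f.asFiber q') = ⟨q', rfl⟩ :=
    Subtype.ext (f.fiberι_asFiber q')
  rw [h2] at h1
  rw [h1]
  exact localDim_eq_of_isHomeomorph
    (PrimeSpectrum.preimageHomeomorphFiber R S (PrimeSpectrum.comap (algebraMap R S) q))
    (PrimeSpectrum.preimageHomeomorphFiber R S
      (PrimeSpectrum.comap (algebraMap R S) q)).isHomeomorph ⟨q, rfl⟩

theorem forall_fiber_localDim_le_iff (R S : Type u) [CommRing R] [CommRing S] [Algebra R S]
    (q : PrimeSpectrum S) (n : ℕ) :
    (∀ Q : PrimeSpectrum ((q.asIdeal.under R).Fiber S),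
        Q.asIdeal.comap (Algebra.TensorProduct.includeRight.toRingHom) = q.asIdeal →
          FlatMor.localDim (PrimeSpectrum ((q.asIdeal.under R).Fiber S)) Q ≤ (n : WithBot ℕ∞)) ↔
      FlatMor.fibreDimAt (Spec.map (CommRingCat.ofHom (algebraMap R S)))
        (show ↥(Spec (CommRingCat.of S)) from q) ≤ n := by
  rw [fibreDimAt_Spec_eq]
  set p := PrimeSpectrum.comap (algebraMap R S) q with hp
  set h := PrimeSpectrum.preimageHomeomorphFiber R S p with hh
  have hq : (h.symm (h ⟨q, rfl⟩)) = ⟨q, rfl⟩ := h.symm_apply_apply _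
  constructor
  · intro H
    apply H
    exact congrArg (fun x => x.1.asIdeal) hq
  · intro H Q hQ
    have : Q = h ⟨q, rfl⟩ := by
      apply h.symm.injective
      rw [hq]
      apply Subtype.ext
      apply PrimeSpectrum.ext
      exact hQ
    rw [this]
    exact H

end Groth.Agent.Lib.Helper73.FibreDimRing
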