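import Mathlib.CategoryTheory.Sites.IsSheafFor
import Mathlib.CategoryTheory.Limits.Types.Filtered
import Mathlib.CategoryTheory.Limits.FunctorCategory.Basic
import Mathlib.CategoryTheory.Filtered.Basic
import Mathlib.Data.Finite.Prod
import Mathlib.CategoryTheory.Sites.Grothendieck
import Mathlib.CategoryTheory.Sites.Limits

/-!
# Filtered colimits of presheaves of types and the sheaf condition for finite families

Library file by helper73.  Main result: `isSheafFor_ofArrows_of_isColimit`: a filtered colimit
(computed in presheaves) of presheaves which are sheaves for a finite family of arrows having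
pairwise pullbacks is again a sheaf for that family.
-/

set_option autoImplicit false

open CategoryTheory Limits Opposite

namespace Groth.Agent.Lib.Helper73

universe w v u v₁ u₁

section Types

variable {J : Type v} [Category.{w} J] [IsFiltered J] {K : Type*} [Finite K]
  {F : K → J ⥤ Type u} {t : ∀ k, Cocone (F k)} (ht : ∀ k, IsColimit (t k))

include ht

/-- Finite families of elements of filtered colimits lift to a common stage. -/
theorem exists_lift_finite (x : ∀ k, (t k).pt) :
    ∃ (j : J) (y : ∀ k, (F k).obj j), ∀ k, (t k).ι.app j (y k) = x k := by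
  classical
  cases nonempty_fintype K
  choose i y hy using fun k => Types.jointly_surjective_of_isColimit (ht k) (x k)
  obtain ⟨S, hS⟩ := IsFiltered.sup_objs_exists (Finset.univ.image i)
  have : ∀ k, Nonempty (i k ⟶ S) := fun k => hS (Finset.mem_image_of_mem _ (Finset.mem_univ k))
  let f : ∀ k, i k ⟶ S := fun k => (this k).some
  refine ⟨S, fun k => (F k).map (f k) (y k), fun k => ?_⟩
  rw [← hy k]
  exact ConcreteCategory.congr_hom ((t k).w (f k)) (y k)

/-- Finitely many equalities in filtered colimits hold at a common later stage. -/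
theorem exists_map_eq_finite {j : J} (a b : ∀ k, (F k).obj j)
    (h : ∀ k, (t k).ι.app j (a k) = (t k).ι.app j (b k)) :
    ∃ (j' : J) (f : j ⟶ j'), ∀ k, (F k).map f (a k) = (F k).map f (b k) := by
  classical
  cases nonempty_fintype K
  suffices H : ∀ s : Finset K, ∃ (j' : J) (f : j ⟶ j'),
      ∀ k ∈ s, (F k).map f (a k) = (F k).map f (b k) by
    obtain ⟨j', f, hf⟩ := H Finset.univ
    exact ⟨j', f, fun k => hf k (Finset.mem_univ k)⟩
  intro s
  induction s using Finset.induction_on with
  | empty => exact ⟨j, 𝟙 j, by simp⟩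
  | insert k₀ s _ ih =>
    obtain ⟨j₁, f₁, h₁⟩ := ih
    have e : (t k₀).ι.app j₁ ((F k₀).map f₁ (a k₀)) = (t k₀).ι.app j₁ ((F k₀).map f₁ (b k₀)) := by
      have ha := ConcreteCategory.congr_hom ((t k₀).w f₁) (a k₀)
      have hb := ConcreteCategory.congr_hom ((t k₀).w f₁) (b k₀)
      simp only [ConcreteCategory.comp_apply] at ha hb
      rw [ha, hb, h k₀]
    obtain ⟨j₂, f₂, h₂⟩ := (Types.FilteredColimit.isColimit_eq_iff' (ht k₀) _ _).mp e
    refine ⟨j₂, f₁ ≫ f₂, fun k hk => ?_⟩
    rw [Finset.mem_insert] at hk
    simp only [Functor.map_comp, ConcreteCategory.comp_apply]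
    rcases hk with rfl | hk
    · exact h₂
    · rw [h₁ k hk]

end Types

section Presheaves

variable {C : Type u₁} [Category.{v₁} C] {I : Type w} [SmallCategory I] [IsFiltered I]
  {F : I ⥤ Cᵒᵖ ⥤ Type w} {c : Cocone F} (hc : IsColimit c)

/-- The evaluated cocone is a colimit cocone. -/
noncomputable def isColimitEval (W : C) :
    IsColimit (((evaluation Cᵒᵖ (Type w)).obj (op W)).mapCocone c) :=
  isColimitOfPreserves _ hc

omit [IsFiltered I] in
theorem ι_naturality_apply {i : I} {W W' : C} (h : W' ⟶ W) (s : (F.obj i).obj (op W)) :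
    (c.ι.app i).app (op W') ((F.obj i).map h.op s) = c.pt.map h.op ((c.ι.app i).app (op W) s) :=
  NatTrans.naturality_apply (c.ι.app i) h.op s

omit [IsFiltered I] in
theorem map_naturality_apply {i i' : I} (f : i ⟶ i') {W W' : C} (h : W' ⟶ W)
    (s : (F.obj i).obj (op W)) :
    (F.map f).app (op W') ((F.obj i).map h.op s) = (F.obj i').map h.op ((F.map f).app (op W) s) :=
  NatTrans.naturality_apply (F.map f) h.op s

omit [IsFiltered I] in
theorem ι_w_apply {i i' : I} (f : i ⟶ i') (W : C) (s : (F.obj i).obj (op W)) :
    (c.ι.app i').app (op W) ((F.map f).app (op W) s) = (c.ι.app i).app (op W) s := by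
  have := ConcreteCategory.congr_hom (NatTrans.congr_app (c.w f) (op W)) s
  rw [NatTrans.comp_app, ConcreteCategory.comp_apply] at this
  exact this

include hc

/-- A filtered colimit (in presheaves) of presheaves of types that are sheaves for a finite family
of arrows with pairwise pullbacks is a sheaf for this family. -/
theorem isSheafFor_ofArrows_of_isColimit {U : C} {K : Type*} [Finite K] {V : K → C}
    (g : ∀ k, V k ⟶ U) [(Presieve.ofArrows V g).HasPairwisePullbacks]
    (hF : ∀ i, (Presieve.ofArrows V g).IsSheafFor (F.obj i)) :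
    (Presieve.ofArrows V g).IsSheafFor c.pt := by
  rw [Presieve.isSheafFor_arrows_iff_pullbacks]
  intro x hx
  -- lift the family to a common stage
  obtain ⟨i₀, y, hy⟩ := exists_lift_finite (K := K)
    (F := fun k => F ⋙ (evaluation Cᵒᵖ (Type w)).obj (op (V k)))
    (t := fun k => ((evaluation Cᵒᵖ (Type w)).obj (op (V k))).mapCocone c)
    (fun k => isColimitEval hc (V k)) x
  change ∀ k, (c.ι.app i₀).app (op (V k)) (y k) = x k at hy
  -- make it compatible at a later stage
  have : Finite (K × K) := inferInstance
  obtain ⟨i₁, f, hf⟩ := exists_map_eq_finite (K := K × K)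
    (F := fun p => F ⋙ (evaluation Cᵒᵖ (Type w)).obj (op (pullback (g p.1) (g p.2))))
    (t := fun p => ((evaluation Cᵒᵖ (Type w)).obj (op (pullback (g p.1) (g p.2)))).mapCocone c)
    (fun p => isColimitEval hc _) (j := i₀)
    (fun p => (F.obj i₀).map (pullback.fst (g p.1) (g p.2)).op (y p.1))
    (fun p => (F.obj i₀).map (pullback.snd (g p.1) (g p.2)).op (y p.2))
    (fun p => by
      change (c.ι.app i₀).app _ _ = (c.ι.app i₀).app _ _
      rw [ι_naturality_apply, ι_naturality_apply, hy, hy]
      exact hx p.1 p.2)
  change ∀ p : K × K, (F.map f).app _ _ = (F.map f).app _ _ at hf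
  have hy' : Presieve.Arrows.PullbackCompatible (F.obj i₁) g
      (fun k => (F.map f).app (op (V k)) (y k)) := by
    intro k l
    have := hf (k, l)
    rw [map_naturality_apply, map_naturality_apply] at this
    exact this
  obtain ⟨s, hs, -⟩ := (Presieve.isSheafFor_arrows_iff_pullbacks _ _).mp (hF i₁) _ hy'
  refine ⟨(c.ι.app i₁).app (op U) s, fun k => ?_, ?_⟩
  · dsimp only
    rw [← ι_naturality_apply, hs, ι_w_apply, hy]
  · -- uniqueness
    intro t₂ ht₂
    dsimp only at ht₂
    have ht₁ : ∀ k, c.pt.map (g k).op ((c.ι.app i₁).app (op U) s) = x k := fun k => by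
      rw [← ι_naturality_apply, hs, ι_w_apply, hy]
    generalize (c.ι.app i₁).app (op U) s = t₁ at ht₁
    obtain ⟨i, s₁, s₂, rfl, rfl⟩ :=
      Types.FilteredColimit.jointly_surjective_of_isColimit₂ (isColimitEval hc U) t₁ t₂
    change ∀ k, c.pt.map (g k).op ((c.ι.app i).app (op U) s₁) = x k at ht₁
    change ∀ k, c.pt.map (g k).op ((c.ι.app i).app (op U) s₂) = x k at ht₂
    obtain ⟨i', f', hf'⟩ := exists_map_eq_finite (K := K)
      (F := fun k => F ⋙ (evaluation Cᵒᵖ (Type w)).obj (op (V k)))
      (t := fun k => ((evaluation Cᵒᵖ (Type w)).obj (op (V k))).mapCocone c)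
      (fun k => isColimitEval hc (V k)) (j := i)
      (fun k => (F.obj i).map (g k).op s₂) (fun k => (F.obj i).map (g k).op s₁)
      (fun k => by
        change (c.ι.app i).app _ _ = (c.ι.app i).app _ _
        rw [ι_naturality_apply, ι_naturality_apply, ht₁, ht₂])
    change ∀ k, (F.map f').app _ _ = (F.map f').app _ _ at hf'
    have hsep := (hF i').isSeparatedFor
    have e : (F.map f').app (op U) s₂ = (F.map f').app (op U) s₁ := by
      apply hsep.ext
      rintro _ _ ⟨k⟩
      have := hf' k
      rw [map_naturality_apply, map_naturality_apply] at this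
      exact this
    change (c.ι.app i).app (op U) s₂ = (c.ι.app i).app (op U) s₁
    rw [← ι_w_apply f', e, ι_w_apply]

/-- On a category with pullbacks in which every covering sieve contains a finite covering family,
a filtered colimit of sheaves of types, computed in presheaves, is a sheaf. -/
theorem isSheaf_of_isColimit_of_finite_subcover [HasPullbacks C] (J : GrothendieckTopology C)
    (hJ : ∀ (U : C) (S : Sieve U), S ∈ J U → ∃ (n : ℕ) (V : Fin n → C) (g : ∀ k, V k ⟶ U),
      (∀ k, S (g k)) ∧ Sieve.ofArrows V g ∈ J U)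
    (hF : ∀ i, Presieve.IsSheaf J (F.obj i)) : Presieve.IsSheaf J c.pt := by
  intro U S hS
  obtain ⟨n, V, g, hgS, hcov⟩ := hJ U S hS
  apply Presieve.isSheafFor_subsieve (S := Sieve.ofArrows V g)
  · rintro Y f ⟨Z, a, b, ⟨k⟩, rfl⟩
    exact S.downward_closed (hgS k) a
  · intro Y f
    rw [Sieve.ofArrows, ← Sieve.pullbackArrows_comm, ← Presieve.ofArrows_pullback,
      ← Presieve.isSheafFor_iff_generate]
    apply isSheafFor_ofArrows_of_isColimit hc
    intro i
    rw [Presieve.isSheafFor_iff_generate, Presieve.ofArrows_pullback, Sieve.pullbackArrows_comm]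
    exact hF i _ (J.pullback_stable f hcov)

end Presheaves

section Sheaves

variable {C : Type u₁} [Category.{v₁} C] [HasPullbacks C] (J : GrothendieckTopology C)
  (hJ : ∀ (U : C) (S : Sieve U), S ∈ J U → ∃ (n : ℕ) (V : Fin n → C) (g : ∀ k, V k ⟶ U),
      (∀ k, S (g k)) ∧ Sieve.ofArrows V g ∈ J U)
  (I : Type w) [SmallCategory I] [IsFiltered I]

include hJ in
/-- On a category with pullbacks in which every covering sieve contains a finite covering family,
the inclusion of sheaves of types into presheaves preserves filtered colimits. -/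
theorem preservesColimitsOfShape_sheafToPresheaf_of_finite_subcover :
    PreservesColimitsOfShape I (sheafToPresheaf J (Type w)) where
  preservesColimit {D} := by
    suffices CreatesColimit D (sheafToPresheaf J (Type w)) from inferInstance
    refine Sheaf.createsColimitOfIsSheaf _ (fun c hc => ?_)
    rw [isSheaf_iff_isSheaf_of_type]
    exact isSheaf_of_isColimit_of_finite_subcover hc J hJ fun i =>
      (isSheaf_iff_isSheaf_of_type _ _).mp (D.obj i).property

end Sheaves

end Groth.Agent.Lib.Helper73
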