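import Groth.Agent.Lib.Helper73.Equidim2
import Groth.Agent.Lib.Helper73.StalkQuot2
import Groth.Prelude.Def_CurvBase
set_option linter.style.haveILetI false
set_option autoImplicit false
universe u v
open Cardinal CategoryTheory AlgebraicGeometry

namespace Groth.Agent.Lib.Helper73.FieldDim

open Groth.Agent.Lib.Helper73.DimFormula Groth.Agent.Lib.Helper73.RelHt
  Groth.Agent.Lib.Helper73.SchemeDim

variable (k : Type u) [Field k] (X : Scheme.{u}) [X.Over (Spec (CommRingCat.of k))]

/-- the canonical map `k → κ(s)` for a point `s` of `Spec k`. -/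
noncomputable def toResidue (s : Spec (CommRingCat.of k)) :
    k →+* (Spec (CommRingCat.of k)).residueField s :=
  ((Scheme.ΓSpecIso (CommRingCat.of k)).inv ≫ (Spec (CommRingCat.of k)).presheaf.germ ⊤ s trivial ≫
    (Spec (CommRingCat.of k)).residue s).hom

theorem toResidue_bijective (s : Spec (CommRingCat.of k)) :
    Function.Bijective (toResidue k s) := by
  have h := Scheme.Spec.algebraMap_residueFieldIso_inv (CommRingCat.of k) s
  have h2 : toResidue k s = (CommRingCat.ofHom (algebraMap (CommRingCat.of k) _) ≫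
      (Scheme.Spec.residueFieldIso (CommRingCat.of k) s).inv).hom := by
    rw [h]; rfl
  rw [h2]
  haveI : s.asIdeal.IsMaximal := by
    have : s.asIdeal = ⊥ := (Ideal.eq_bot_or_top s.asIdeal).resolve_right s.isPrime.ne_top
    rw [this]; exact Ideal.bot_isMaximal
  have h3 : Function.Bijective (algebraMap k s.asIdeal.ResidueField) :=
    ⟨(algebraMap k s.asIdeal.ResidueField).injective, s.asIdeal.algebraMap_residueField_surjective⟩
  have h4 : Function.Bijective (Scheme.Spec.residueFieldIso (CommRingCat.of k) s).inv.hom :=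
    ConcreteCategory.bijective_of_isIso (Scheme.Spec.residueFieldIso (CommRingCat.of k) s).inv
  exact h4.comp h3

theorem residueFieldMap_toResidue (x : X) (d : k) :
    ((X ↘ Spec (CommRingCat.of k)).residueFieldMap x).hom
      (toResidue k ((X ↘ Spec (CommRingCat.of k)).base x) d) = Curv2.resMap k X x d := by
  set f := X ↘ Spec (CommRingCat.of k) with hf
  have key : ((Scheme.ΓSpecIso (CommRingCat.of k)).inv ≫
      (Spec (CommRingCat.of k)).presheaf.germ ⊤ (f.base x) trivial ≫
      (Spec (CommRingCat.of k)).residue (f.base x)) ≫ f.residueFieldMap x =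
      (Scheme.ΓSpecIso (CommRingCat.of k)).inv ≫ f.appTop ≫ X.presheaf.germ ⊤ x trivial ≫
        X.residue x := by
    simp only [Category.assoc]
    rw [Scheme.residue_residueFieldMap]
    have h := Scheme.Hom.germ_stalkMap_assoc f ⊤ x trivial (X.residue x)
    rw [h]
    rfl
  have := congrArg (fun g => g.hom d) key
  exact this

/-- the transcendence degree of `κ(x)` over `k` agrees with the one over `κ(f x)`. -/
theorem trdeg_resAlgebra_eq (x : X) :
    @Algebra.trdeg k (X.residueField x) _ _ (Curv2.resAlgebra k X x) =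
    @Algebra.trdeg ((Spec (CommRingCat.of k)).residueField ((X ↘ Spec (CommRingCat.of k)).base x))
      (X.residueField x) _ _ ((X ↘ Spec (CommRingCat.of k)).residueFieldMap x).hom.toAlgebra := by
  letI := Curv2.resAlgebra k X x
  letI := ((X ↘ Spec (CommRingCat.of k)).residueFieldMap x).hom.toAlgebra
  refine trdeg_eq_of_ringEquiv
    (RingEquiv.ofBijective _ (toResidue_bijective k ((X ↘ Spec (CommRingCat.of k)).base x)))
    (RingEquiv.refl _) ?_
  intro d
  exact (residueFieldMap_toResidue k X x d).symm

variable [LocallyOfFiniteType (X ↘ Spec (CommRingCat.of k))]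

theorem exists_trdeg_eq_nat (x : X) :
    ∃ n : ℕ, @Algebra.trdeg k (X.residueField x) _ _ (Curv2.resAlgebra k X x) = n := by
  obtain ⟨n, hn⟩ := exists_trdeg_residueField_eq_nat' (X ↘ Spec (CommRingCat.of k)) x
  exact ⟨n, by rw [trdeg_resAlgebra_eq]; exact hn⟩

/-- **dimension formula over a field**. -/
theorem relHt_add_trdeg_eq {x y : X} (hxy : x ⤳ y) (nx ny : ℕ)
    (hnx : @Algebra.trdeg k (X.residueField x) _ _ (Curv2.resAlgebra k X x) = nx)
    (hny : @Algebra.trdeg k (X.residueField y) _ _ (Curv2.resAlgebra k X y) = ny) :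
    relHt y x + ny = nx := by
  rw [trdeg_resAlgebra_eq] at hnx hny
  exact relHt_add_trdeg_eq_of_fibre (X ↘ Spec (CommRingCat.of k)) hxy (Subsingleton.elim _ _) nx ny
    hnx hny

theorem trdeg_eq_zero_of_isClosed (x : X) (hx : IsClosed ({x} : Set X)) :
    @Algebra.trdeg k (X.residueField x) _ _ (Curv2.resAlgebra k X x) = 0 := by
  obtain ⟨n, hn⟩ := exists_trdeg_eq_nat k X x
  rw [hn]
  have hn' := hn
  rw [trdeg_resAlgebra_eq] at hn'
  obtain ⟨c, hlen, hlast, -, -⟩ :=
    exists_ltSeries_fibre_mem (X ↘ Spec (CommRingCat.of k)) x ⊤ trivial n hn'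
  rcases Nat.eq_zero_or_pos n with h0 | hpos
  · rw [h0]; rfl
  · exfalso
    have hlt : c.head < c.last := by
      apply c.strictMono
      rw [Fin.lt_def]; simp; omega
    rw [hlast] at hlt
    have hsp : x ⤳ c.head := hlt.le
    have : c.head = x := by
      have := hsp.mem_closed hx (Set.mem_singleton x)
      exact this
    rw [this] at hlt
    exact lt_irrefl _ hlt

end Groth.Agent.Lib.Helper73.FieldDim
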