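/-
helper73: reducedness and normality of local rings under smooth morphisms (EGA IV 17.5.7).
-/
import Groth.Agent.Lib.Helper69.NormalSmooth
import Groth.Agent.S9407
import Mathlib.AlgebraicGeometry.Morphisms.Smooth

set_option linter.style.haveILetI false
set_option linter.unusedSectionVars false
set_option autoImplicit false
universe u
open CategoryTheory CategoryTheory.Limits AlgebraicGeometry TensorProduct

namespace Groth.Agent.Lib.Helper73.SmoothRedNormal

/-- transfer along a localization: if `Sf` is a localization of `S` at a submonoid not meeting the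
prime `Q`, the local ring of `S` at `Q` is a local ring of `Sf`. -/
theorem exists_ringEquiv_localization_transfer {S Sf : Type u} [CommRing S] [CommRing Sf]
    [Algebra S Sf] (N : Submonoid S) [IsLocalization N Sf] (Q : Ideal S) [Q.IsPrime]
    (hdisj : Disjoint (N : Set S) (Q : Set S)) :
    ∃ (Q' : Ideal Sf) (_ : Q'.IsPrime),
      Nonempty (Localization.AtPrime Q' ≃+* Localization.AtPrime Q) := by
  have hQ : (Q.map (algebraMap S Sf)).IsPrime :=
    IsLocalization.isPrime_of_isPrime_disjoint N Sf Q inferInstance hdisj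
  have hco : (Q.map (algebraMap S Sf)).under S = Q :=
    IsLocalization.under_map_of_isPrime_disjoint N Sf inferInstance hdisj
  have key : ∀ (q' : Ideal S) [q'.IsPrime], q' = Q →
      Nonempty (Localization.AtPrime (Q.map (algebraMap S Sf)) ≃+* Localization.AtPrime q') →
      Nonempty (Localization.AtPrime (Q.map (algebraMap S Sf)) ≃+* Localization.AtPrime Q) := by
    intro q' _ he
    subst he
    exact id
  have hloc2 : IsLocalization.AtPrime (Localization.AtPrime (Q.map (algebraMap S Sf)))
      ((Q.map (algebraMap S Sf)).comap (algebraMap S Sf)) :=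
    IsLocalization.isLocalization_isLocalization_atPrime_isLocalization N _
      (Q.map (algebraMap S Sf))
  have e : Localization.AtPrime ((Q.map (algebraMap S Sf)).under S) ≃ₐ[S]
      Localization.AtPrime (Q.map (algebraMap S Sf)) :=
    IsLocalization.algEquiv ((Q.map (algebraMap S Sf)).under S).primeCompl _ _
  exact ⟨_, hQ, key _ hco ⟨e.toRingEquiv.symm⟩⟩

section Ring

variable (R S : Type u) [CommRing R] [CommRing S] [Algebra R S] [Algebra.Smooth R S]

attribute [local instance] Algebra.TensorProduct.rightAlgebra in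
/-- ascent of reducedness to the local rings of a smooth algebra. -/
theorem isReduced_localization_of_smooth (q : Ideal S) [q.IsPrime]
    (hred : IsReduced (Localization.AtPrime (q.under R))) :
    IsReduced (Localization.AtPrime q) := by
  let p := q.under R
  let Rp := Localization.AtPrime p
  let T := Rp ⊗[R] S
  have hT : IsReduced T := Groth.Agent.S9407.result Rp T
  have hloc : IsLocalization (Algebra.algebraMapSubmonoid S p.primeCompl) T :=
    IsLocalization.tensorRight Rp p.primeCompl
  obtain ⟨Q', hQ', ⟨e⟩⟩ := exists_ringEquiv_localization_transfer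
    (Algebra.algebraMapSubmonoid S p.primeCompl) q (Sf := T) (by
      rw [Set.disjoint_left]
      rintro _ ⟨a, ha, rfl⟩ hx
      exact ha hx)
  have h1 : IsReduced (Localization.AtPrime Q') :=
    isReduced_localizationPreserves Q'.primeCompl (Localization.AtPrime Q') hT
  exact isReduced_of_injective e.symm.toRingHom e.symm.injective

/-- EGA IV 17.5.7, ring version. -/
theorem isReduced_isNormal_localization_iff_of_smooth (q : Ideal S) [q.IsPrime] :
    (IsReduced (Localization.AtPrime q) ↔ IsReduced (Localization.AtPrime (q.under R))) ∧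
    ((IsDomain (Localization.AtPrime q) ∧ IsIntegrallyClosed (Localization.AtPrime q)) ↔
      (IsDomain (Localization.AtPrime (q.under R)) ∧
        IsIntegrallyClosed (Localization.AtPrime (q.under R)))) := by
  haveI : q.LiesOver (q.under R) := ⟨rfl⟩
  let _ := Localization.AtPrime.algebraOfLiesOver (q.under R) q
  haveI : Module.Flat R S := inferInstance
  have hflat : Module.Flat (Localization.AtPrime (q.under R)) (Localization.AtPrime q) :=
    inferInstance
  have hloc : IsLocalHom (algebraMap (Localization.AtPrime (q.under R)) (Localization.AtPrime q)) :=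
    Localization.isLocalHom_localRingHom (q.under R) q (algebraMap R S) Ideal.LiesOver.over
  have hff : Module.FaithfullyFlat (Localization.AtPrime (q.under R)) (Localization.AtPrime q) :=
    Module.FaithfullyFlat.of_flat_of_isLocalHom
  refine ⟨⟨fun h => ?_, isReduced_localization_of_smooth R S q⟩, ⟨fun h => ?_, fun h => ?_⟩⟩
  · exact isReduced_of_injective (algebraMap (Localization.AtPrime (q.under R))
      (Localization.AtPrime q)) (FaithfulSMul.algebraMap_injective _ _)
  · obtain ⟨h1, h2⟩ := h
    exact Groth.Agent.Lib.Lead.isIntegrallyClosed_of_faithfullyFlat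
      (Localization.AtPrime (q.under R)) (Localization.AtPrime q)
  · exact Groth.Agent.Lib.Helper69.NormalSmooth.isIntegrallyClosed_localization_of_smooth R S q
      h.1 h.2

end Ring

section Scheme

/-- the stalk at a point of an affine open is the localization at the corresponding prime. -/
theorem nonempty_ringEquiv_stalk {X : Scheme.{u}} {W : X.Opens} (hW : IsAffineOpen W) (x : X)
    (hx : x ∈ W) :
    Nonempty (Localization.AtPrime (hW.primeIdealOf ⟨x, hx⟩).asIdeal ≃+* X.presheaf.stalk x) := by
  letI := X.presheaf.algebra_section_stalk ⟨x, hx⟩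
  haveI := hW.isLocalization_stalk ⟨x, hx⟩
  exact ⟨(IsLocalization.algEquiv (hW.primeIdealOf ⟨x, hx⟩).asIdeal.primeCompl _ _).toRingEquiv⟩

theorem isReduced_iff_of_ringEquiv {A B : Type u} [CommRing A] [CommRing B] (e : A ≃+* B) :
    IsReduced A ↔ IsReduced B :=
  ⟨fun _ => isReduced_of_injective e.symm.toRingHom e.symm.injective,
    fun _ => isReduced_of_injective e.toRingHom e.injective⟩

theorem isNormalDomain_iff_of_ringEquiv {A B : Type u} [CommRing A] [CommRing B] (e : A ≃+* B) :
    (IsDomain A ∧ IsIntegrallyClosed A) ↔ (IsDomain B ∧ IsIntegrallyClosed B) :=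
  ⟨fun ⟨h1, h2⟩ => ⟨e.symm.toMulEquiv.isDomain _, IsIntegrallyClosed.of_equiv e⟩,
    fun ⟨h1, h2⟩ => ⟨e.toMulEquiv.isDomain _, IsIntegrallyClosed.of_equiv e.symm⟩⟩

/-- EGA IV 17.5.7: reducedness and normality of the local rings at a smooth point. -/
theorem stalk_isReduced_isNormal_iff_of_mem_smoothLocus {X Y : Scheme.{u}} (f : X ⟶ Y)
    [LocallyOfFinitePresentation f] (x : X) (hx : x ∈ f.smoothLocus) :
    (IsReduced (X.presheaf.stalk x) ↔ IsReduced (Y.presheaf.stalk (f.base x))) ∧
    ((IsDomain (X.presheaf.stalk x) ∧ IsIntegrallyClosed (X.presheaf.stalk x)) ↔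
      (IsDomain (Y.presheaf.stalk (f.base x)) ∧
        IsIntegrallyClosed (Y.presheaf.stalk (f.base x)))) := by
  obtain ⟨V, hV, W, hW, hWV, hxW, Hsm⟩ := exists_smooth_of_formallySmooth_stalk f x hx
  algebraize [(f.appLE V W hWV).hom]
  haveI : Algebra.Smooth Γ(Y, V) Γ(X, W) := Hsm
  have hq : (hW.primeIdealOf ⟨x, hxW⟩).asIdeal.under Γ(Y, V) =
      (hV.primeIdealOf ⟨f.base x, hWV hxW⟩).asIdeal :=
    congr($(IsAffineOpen.comap_primeIdealOf_appLE V hV W hW hWV hxW).1)
  obtain ⟨eX⟩ := nonempty_ringEquiv_stalk hW x hxW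
  obtain ⟨eY⟩ := nonempty_ringEquiv_stalk hV (f.base x) (hWV hxW)
  have key := isReduced_isNormal_localization_iff_of_smooth Γ(Y, V) Γ(X, W)
    (hW.primeIdealOf ⟨x, hxW⟩).asIdeal
  have tr : ∀ (p : Ideal Γ(Y, V)) [p.IsPrime]
      (hp : p = (hV.primeIdealOf ⟨f.base x, hWV hxW⟩).asIdeal),
      (IsReduced (Localization.AtPrime p) ↔ IsReduced (Y.presheaf.stalk (f.base x))) ∧
      ((IsDomain (Localization.AtPrime p) ∧ IsIntegrallyClosed (Localization.AtPrime p)) ↔
        (IsDomain (Y.presheaf.stalk (f.base x)) ∧
          IsIntegrallyClosed (Y.presheaf.stalk (f.base x)))) := by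
    intro p _ hp
    subst hp
    exact ⟨isReduced_iff_of_ringEquiv eY, isNormalDomain_iff_of_ringEquiv eY⟩
  obtain ⟨t1, t2⟩ := tr _ hq
  exact ⟨(isReduced_iff_of_ringEquiv eX).symm.trans (key.1.trans t1),
    (isNormalDomain_iff_of_ringEquiv eX).symm.trans (key.2.trans t2)⟩

end Scheme

end Groth.Agent.Lib.Helper73.SmoothRedNormal
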