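import Mathlib
import Groth.Agent.Lib.Helper69.NormRel3
import Groth.Agent.Lib.Helper73.SmoothRedNormal

set_option autoImplicit false
universe u

open CategoryTheory CategoryTheory.Limits AlgebraicGeometry

namespace Groth.Agent.Lib.Helper73.ConnIrr

/-- a connected scheme with finitely many irreducible components whose local rings are domains is
irreducible. -/
theorem irreducibleSpace_of_connected {X : Scheme.{u}} [ConnectedSpace X]
    (hfin : (irreducibleComponents X).Finite)
    (hX : ∀ x : X, IsDomain (X.presheaf.stalk x)) : IrreducibleSpace X := by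
  obtain ⟨x₀⟩ := (inferInstance : Nonempty X)
  let Z₀ := irreducibleComponent x₀
  have hZ₀ : Z₀ ∈ irreducibleComponents X := irreducibleComponent_mem_irreducibleComponents x₀
  let B : Set X := ⋃ Z ∈ irreducibleComponents X \ {Z₀}, Z
  have hBc : IsClosed B :=
    (hfin.subset Set.sdiff_subset).isClosed_biUnion
      (fun Z hZ => isClosed_of_mem_irreducibleComponents Z hZ.1)
  have hdisj : Disjoint Z₀ B := by
    rw [Set.disjoint_left]
    intro y hy0 hyB
    simp only [B, Set.mem_iUnion] at hyB
    obtain ⟨Z, ⟨hZ, hZne⟩, hyZ⟩ := hyB
    apply hZne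
    obtain ⟨η₀, hη₀⟩ := QuasiSober.sober (isIrreducible_irreducibleComponent (x := x₀))
      (isClosed_irreducibleComponent (x := x₀))
    obtain ⟨η, hη⟩ := QuasiSober.sober
      (hZ : Maximal IsIrreducible Z).prop
      (isClosed_of_mem_irreducibleComponents Z hZ)
    have g0 : η₀ ∈ genericPoints X := by
      change closure {η₀} ∈ irreducibleComponents X
      rw [hη₀.def]; exact hZ₀
    have g1 : η ∈ genericPoints X := by
      change closure {η} ∈ irreducibleComponents X
      rw [hη.def]; exact hZ
    have s0 : η₀ ⤳ y := by
      rw [specializes_iff_mem_closure, hη₀.def]; exact hy0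
    have s1 : η ⤳ y := by
      rw [specializes_iff_mem_closure, hη.def]; exact hyZ
    have := Groth.Agent.Lib.Helper69.NormRel3.eq_of_specializes hX g0 g1 s0 s1
    rw [Set.mem_singleton_iff, ← hη.def, ← this, hη₀.def]
  have hcov : Z₀ ∪ B = Set.univ := by
    ext y
    simp only [Set.mem_union, Set.mem_univ, iff_true]
    by_cases h : irreducibleComponent y = Z₀
    · left; rw [← h]; exact mem_irreducibleComponent
    · right
      simp only [B, Set.mem_iUnion]
      exact ⟨irreducibleComponent y,
        ⟨irreducibleComponent_mem_irreducibleComponents y, h⟩, mem_irreducibleComponent⟩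
  have hclopen : IsClopen Z₀ := by
    refine ⟨isClosed_irreducibleComponent, ?_⟩
    have : Z₀ = Bᶜ := by
      ext y
      constructor
      · intro hy hyB; exact Set.disjoint_left.mp hdisj hy hyB
      · intro hy
        have : y ∈ Z₀ ∪ B := hcov ▸ Set.mem_univ y
        exact this.resolve_right hy
    rw [this]
    exact hBc.isOpen_compl
  have huniv : Z₀ = Set.univ := hclopen.eq_univ ⟨x₀, mem_irreducibleComponent⟩
  have h1 : IsIrreducible Z₀ := isIrreducible_irreducibleComponent
  rw [huniv] at h1
  exact (irreducibleSpace_def X).mpr h1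

/-- the local rings of a scheme smooth over a field are domains. -/
theorem isDomain_stalk_of_smooth {k : Type u} [Field k] {X : Scheme.{u}}
    (f : X ⟶ Spec (CommRingCat.of k)) [Smooth f] (x : X) : IsDomain (X.presheaf.stalk x) := by
  have hx : x ∈ f.smoothLocus := by
    rw [(Scheme.Hom.smoothLocus_eq_top_iff (f := f)).mpr inferInstance]
    trivial
  let y : PrimeSpectrum k := f.base x
  have hyp : y.asIdeal.IsPrime := y.isPrime
  let alg : Algebra k ((Spec (CommRingCat.of k)).presheaf.stalk (f.base x)) :=
    StructureSheaf.stalkAlgebra k y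
  have hloc : IsLocalization.AtPrime ((Spec (CommRingCat.of k)).presheaf.stalk (f.base x))
      y.asIdeal := StructureSheaf.IsLocalization.to_stalk k y
  have hd : IsDomain ((Spec (CommRingCat.of k)).presheaf.stalk (f.base x)) :=
    IsLocalization.isDomain_of_le_nonZeroDivisors (M := y.asIdeal.primeCompl)
      ((Spec (CommRingCat.of k)).presheaf.stalk (f.base x))
      (Ideal.primeCompl_le_nonZeroDivisors _)
  have hic : IsIntegrallyClosed ((Spec (CommRingCat.of k)).presheaf.stalk (f.base x)) :=
    isIntegrallyClosed_of_isLocalization _ y.asIdeal.primeCompl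
      (Ideal.primeCompl_le_nonZeroDivisors _)
  exact ((Groth.Agent.Lib.Helper73.SmoothRedNormal.stalk_isReduced_isNormal_iff_of_mem_smoothLocus
    f x hx).2.mpr ⟨hd, hic⟩).1

/-- a connected quasi-compact scheme smooth over a field is irreducible. -/
theorem irreducibleSpace_of_smooth {k : Type u} [Field k] {X : Scheme.{u}}
    (f : X ⟶ Spec (CommRingCat.of k)) [Smooth f] [CompactSpace X] [ConnectedSpace X] :
    IrreducibleSpace X := by
  have : IsLocallyNoetherian X := LocallyOfFiniteType.isLocallyNoetherian f
  have : IsNoetherian X := {}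
  exact irreducibleSpace_of_connected TopologicalSpace.NoetherianSpace.finite_irreducibleComponents
    (isDomain_stalk_of_smooth f)

end Groth.Agent.Lib.Helper73.ConnIrr
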