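import Mathlib
import Groth.Agent.Lib.Helper23.HomFlat
import Groth.Agent.Lib.Helper21.GrpDim
import Groth.Agent.Lib.Helper21.FibreTd
import Groth.Agent.Lib.Helper21.FlatFibreDimField
import Groth.Agent.Lib.Helper29.TopDimZero

/-!
helper73: homomorphisms of group schemes of finite type over a field of the same dimension:
flat ⇒ quasi-finite; surjective + proper ⇒ finite flat (isogeny).
-/

set_option autoImplicit false
universe u

open CategoryTheory CategoryTheory.Limits MonoidalCategory CartesianMonoidalCategory MonObj GrpObj
  AlgebraicGeometry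

namespace Groth.Agent.Lib.Helper73.HomFinFlat

open Groth.Agent.Lib.Helper21.FieldDim

variable {k : Type u} [Field k] (X Y : Over (Spec (CommRingCat.of k))) [GrpObj X] [GrpObj Y]
  [LocallyOfFiniteType X.hom] [LocallyOfFiniteType Y.hom]

omit [GrpObj Y] [LocallyOfFiniteType Y.hom] in
/-- the dimension of a group scheme locally of finite type over a field is finite. -/
theorem exists_dim_eq_nat : ∃ n : ℕ, topologicalKrullDim X.left = n := by
  obtain ⟨n, hn⟩ := exists_localDim_eq_nat X.hom (η[X].left (IsLocalRing.closedPoint k))
  exact ⟨n, by rw [← (grp_equidim X).2 (η[X].left (IsLocalRing.closedPoint k)), hn]⟩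

/-- a flat morphism between group schemes of the same dimension has finite fibres. -/
theorem locallyQuasiFinite_of_flat_of_dim_eq [QuasiCompact X.hom] (f : X ⟶ Y) [Flat f.left]
    (hdim : topologicalKrullDim X.left = topologicalKrullDim Y.left) :
    LocallyQuasiFinite f.left := by
  have : LocallyOfFiniteType f.left :=
    locallyOfFiniteType_of_comp_eq X.hom Y.hom f.left (Over.w f)
  obtain ⟨n, hn⟩ := exists_dim_eq_nat X
  have hX : ∀ Z ∈ irreducibleComponents ↥X.left,
      topologicalKrullDim ↥Z = ((n + 0 : ℕ) : WithBot ℕ∞) := by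
    intro Z hZ
    rw [(grp_equidim X).1 Z hZ, hn, Nat.add_zero]
  have hY : ∀ Z ∈ irreducibleComponents ↥Y.left, topologicalKrullDim ↥Z = (n : WithBot ℕ∞) := by
    intro Z hZ
    rw [(grp_equidim Y).1 Z hZ, ← hdim, hn]
  have hrel : Cyc.HasRelDim f.left 0 :=
    (flat_equidim_iff X.hom Y.hom f.left (Over.w f) n 0 hY).mp hX
  have hfib : ∀ y : Y.left, topologicalKrullDim ↥(f.left.fiber y) ≤ 0 := by
    intro y
    rw [dim_le_iff (fibStr f.left y)]
    intro z
    have hT := hrel y (irreducibleComponent z) (irreducibleComponent_mem_irreducibleComponents z)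
    have h1 := (dim_le_iff_of_isLocallyClosed (fibStr f.left y) _
      isClosed_irreducibleComponent.isLocallyClosed _).mp le_rfl z mem_irreducibleComponent
    rw [hT] at h1
    exact h1
  have : CompactSpace X.left := QuasiCompact.compactSpace_of_compactSpace X.hom
  have : IsLocallyNoetherian X.left := LocallyOfFiniteType.isLocallyNoetherian X.hom
  have : IsNoetherian X.left := {}
  apply LocallyQuasiFinite.of_finite_preimage_singleton
  intro y
  have h0 : topologicalKrullDim ↥(f.left ⁻¹' {y}) ≤ 0 := by
    rw [dim_preimage_singleton]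
    exact hfib y
  have : Finite ↥(f.left ⁻¹' {y}) := Groth.Agent.Lib.Helper29.finite_of_dim_le_zero h0
  exact Set.toFinite _

/-- a surjective proper homomorphism between group schemes of the same dimension over a field,
with reduced target, is finite and flat. -/
theorem isFinite_flat_of_surjective_hom [QuasiCompact X.hom] [QuasiCompact Y.hom]
    [IsReduced Y.left] (f : X ⟶ Y) [IsMonHom f] [Surjective f.left] [IsProper f.left]
    (hdim : topologicalKrullDim X.left = topologicalKrullDim Y.left) :
    IsFinite f.left ∧ Flat f.left := by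
  have hfl : Flat f.left := Groth.Agent.Lib.Helper23.HomFlat.flat_of_surjective_hom X Y f
  have := locallyQuasiFinite_of_flat_of_dim_eq X Y f hdim
  exact ⟨IsFinite.of_isProper_of_locallyQuasiFinite f.left, hfl⟩

end Groth.Agent.Lib.Helper73.HomFinFlat
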