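import Mathlib
import Groth.Agent.Lib.Helper73.HomFinFlat
import Groth.Agent.Lib.Helper73.ConnIrr

/-!
helper73: homomorphisms between smooth proper connected group schemes of the same dimension over a
field: flat ⇔ finite.
-/

set_option autoImplicit false
universe u

open CategoryTheory CategoryTheory.Limits MonoidalCategory CartesianMonoidalCategory MonObj GrpObj
  AlgebraicGeometry

namespace Groth.Agent.Lib.Helper73.HomFinFlat

open Groth.Agent.Lib.Helper21.FieldDim

variable {k : Type u} [Field k] (X Y : Over (Spec (CommRingCat.of k)))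
  [LocallyOfFiniteType X.hom] [LocallyOfFiniteType Y.hom]

omit [LocallyOfFiniteType X.hom] in
/-- a flat proper morphism to a connected scheme of finite type over a field, from a nonempty
scheme, is surjective. -/
theorem surjective_of_flat_of_isProper [Nonempty X.left] [ConnectedSpace Y.left] (f : X ⟶ Y)
    [Flat f.left] [IsProper f.left] : Surjective f.left := by
  have : IsLocallyNoetherian Y.left := LocallyOfFiniteType.isLocallyNoetherian Y.hom
  have : LocallyOfFinitePresentation f.left :=
    LocallyOfFinitePresentation.iff_locallyOfFiniteType.mpr inferInstance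
  have hop : IsOpen (Set.range f.left) := f.left.isOpenMap.isOpen_range
  have hcl : IsClosed (Set.range f.left) := f.left.isClosedMap.isClosed_range
  have hne : (Set.range f.left).Nonempty := Set.range_nonempty _
  have := IsClopen.eq_univ ⟨hcl, hop⟩ hne
  exact ⟨Set.range_eq_univ.mp this⟩

/-- a finite morphism between irreducible schemes of finite type over a field of the same dimension
is surjective. -/
theorem surjective_of_isFinite [IrreducibleSpace X.left] [IrreducibleSpace Y.left]
    (f : X ⟶ Y) [IsFinite f.left]
    (hdim : topologicalKrullDim X.left = topologicalKrullDim Y.left) : Surjective f.left := by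
  have : LocallyOfFiniteType f.left :=
    locallyOfFiniteType_of_comp_eq X.hom Y.hom f.left (Over.w f)
  have hcl : IsClosed (Set.range f.left) := f.left.isClosedMap.isClosed_range
  set ξ := genericPoint X.left with hξ
  set ζ := genericPoint Y.left with hzeta
  -- residue transcendence degree zero
  have h0 : tdR f.left ξ = 0 := by
    have h1 := tdR_le_dim_fiber f.left ξ
    have hfin : (f.left ⁻¹' {f.left ξ}).Finite := f.left.finite_preimage_singleton _
    have hdisc : _root_.IsDiscrete (f.left ⁻¹' {f.left ξ}) := f.left.isDiscrete_preimage_singleton _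
    have : Finite ↥(f.left ⁻¹' {f.left ξ}) := hfin
    have : DiscreteTopology ↥(f.left ⁻¹' {f.left ξ}) := hdisc.to_subtype
    have : Nonempty ↥(f.left ⁻¹' {f.left ξ}) := ⟨⟨ξ, rfl⟩⟩
    have h2 : topologicalKrullDim ↥(f.left ⁻¹' {f.left ξ}) = 0 :=
      Groth.Agent.Lib.Helper29.dim_eq_zero_iff_finite_discrete.mpr ⟨inferInstance, inferInstance⟩
    rw [← dim_preimage_singleton, h2] at h1
    have : tdR f.left ξ ≤ 0 := by exact_mod_cast h1
    omega
  have h3 := td_eq_add_tdR X.hom Y.hom f.left (Over.w f) ξ
  rw [h0, Nat.add_zero] at h3
  have h4 : topologicalKrullDim X.left = td X.hom ξ := dim_eq_td_genericPoint X.hom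
  have h5 : topologicalKrullDim Y.left = td Y.hom ζ := dim_eq_td_genericPoint Y.hom
  have h6 : td Y.hom (f.left ξ) = td Y.hom ζ := by
    rw [← h3]
    have : ((td X.hom ξ : ℕ) : WithBot ℕ∞) = td Y.hom ζ := by rw [← h4, ← h5, hdim]
    exact_mod_cast this
  have hsp : ζ ⤳ f.left ξ := genericPoint_specializes _
  have heq : f.left ξ = ζ := by
    by_contra hne
    have := td_lt_of_specializes Y.hom hsp (fun h => hne h.symm)
    omega
  have huniv : Set.range f.left = Set.univ := by
    apply Set.eq_univ_of_univ_subset
    rw [← (genericPoint_spec Y.left).def]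
    exact closure_minimal (Set.singleton_subset_iff.mpr ⟨ξ, heq⟩) hcl
  exact ⟨Set.range_eq_univ.mp huniv⟩

end Groth.Agent.Lib.Helper73.HomFinFlat
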