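import Mathlib
import Groth.Prelude.Def_Red
import Groth.Agent.Lib.Helper73.HomFinFlat2
import Groth.Agent.Lib.Helper40.TorsorBC

/-!
helper73: homomorphisms of abelian schemes with fibres of the same dimension:
locally quasi-finite ⇔ surjective (fibrewise reduction).
-/

set_option autoImplicit false
universe u

open CategoryTheory CategoryTheory.Limits MonoidalCategory CartesianMonoidalCategory MonObj GrpObj
  AlgebraicGeometry

namespace Groth.Agent.Lib.Helper73.HomFinFlat

open Groth.Agent.Lib.Helper21.FieldDim

section Field

variable {k : Type u} [Field k] (A B : Over (Spec (CommRingCat.of k)))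
  [GrpObj A] [Smooth A.hom] [IsProper A.hom] [GeometricallyConnected A.hom]
  [GrpObj B] [Smooth B.hom] [IsProper B.hom] [GeometricallyConnected B.hom]

/-- for a homomorphism of abelian varieties of the same dimension: quasi-finite ⇔ surjective. -/
theorem locallyQuasiFinite_iff_surjective (f : A ⟶ B) [IsMonHom f]
    (hdim : topologicalKrullDim A.left = topologicalKrullDim B.left) :
    LocallyQuasiFinite f.left ↔ Surjective f.left := by
  have : IsProper (f.left ≫ B.hom) := by rw [Over.w]; infer_instance
  have : IsProper f.left := IsProper.of_comp f.left B.hom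
  have cA : ConnectedSpace A.left := GeometricallyConnected.connectedSpace_of_subsingleton A.hom
  have cB : ConnectedSpace B.left := GeometricallyConnected.connectedSpace_of_subsingleton B.hom
  have : CompactSpace A.left := QuasiCompact.compactSpace_of_compactSpace A.hom
  have : CompactSpace B.left := QuasiCompact.compactSpace_of_compactSpace B.hom
  have iA : IrreducibleSpace A.left :=
    Groth.Agent.Lib.Helper73.ConnIrr.irreducibleSpace_of_smooth A.hom
  have iB : IrreducibleSpace B.left :=
    Groth.Agent.Lib.Helper73.ConnIrr.irreducibleSpace_of_smooth B.hom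
  have : ∀ x, _root_.IsReduced (B.left.presheaf.stalk x) := fun x => by
    have := Groth.Agent.Lib.Helper73.ConnIrr.isDomain_stalk_of_smooth B.hom x
    infer_instance
  have rB : IsReduced B.left := isReduced_of_isReduced_stalk B.left
  constructor
  · intro hq
    have : IsFinite f.left := IsFinite.of_isProper_of_locallyQuasiFinite f.left
    exact surjective_of_isFinite A B f hdim
  · intro hs
    have := (isFinite_flat_of_surjective_hom A B f hdim).1
    infer_instance

end Field

section Fibrewise

variable {S : Scheme.{u}} {A B : Over S} (f : A ⟶ B)

/-- surjectivity can be checked on the fibres over the base. -/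
theorem surjective_of_fibrewise
    (h : ∀ s : S, Surjective ((Over.pullback (S.fromSpecResidueField s)).map f).left) :
    Surjective f.left := by
  refine ⟨fun b => ?_⟩
  set s := B.hom b with hs
  obtain ⟨t, ht⟩ : ∃ t : Spec (S.residueField s), (S.fromSpecResidueField s) t = B.hom b :=
    ⟨IsLocalRing.closedPoint _, Scheme.fromSpecResidueField_apply _ _⟩
  obtain ⟨b', hb', -⟩ := Scheme.Pullback.exists_preimage_pullback (f := B.hom)
    (g := S.fromSpecResidueField s) b t ht.symm
  have := h s
  obtain ⟨a', ha'⟩ := ((Over.pullback (S.fromSpecResidueField s)).map f).left.surjective b'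
  have hpb := Groth.Agent.Lib.Helper40.TorsorBC.isPullback_pullback_map
    (S.fromSpecResidueField s) f
  refine ⟨(pullback.fst A.hom (S.fromSpecResidueField s)) a', ?_⟩
  have := congrArg (fun m : (Red.bc (S.fromSpecResidueField s) A).left ⟶ B.left => m a') hpb.w
  simp only [Scheme.Hom.comp_apply] at this
  rw [← this, ha', hb']

/-- local quasi-finiteness can be checked on the fibres over the base. -/
theorem locallyQuasiFinite_of_fibrewise [LocallyOfFiniteType f.left] [QuasiCompact f.left]
    (h : ∀ s : S, LocallyQuasiFinite ((Over.pullback (S.fromSpecResidueField s)).map f).left) :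
    LocallyQuasiFinite f.left := by
  apply LocallyQuasiFinite.of_finite_preimage_singleton
  intro b
  set s := B.hom b with hs
  obtain ⟨t, ht⟩ : ∃ t : Spec (S.residueField s), (S.fromSpecResidueField s) t = B.hom b :=
    ⟨IsLocalRing.closedPoint _, Scheme.fromSpecResidueField_apply _ _⟩
  obtain ⟨b', hb', -⟩ := Scheme.Pullback.exists_preimage_pullback (f := B.hom)
    (g := S.fromSpecResidueField s) b t ht.symm
  have hpb := Groth.Agent.Lib.Helper40.TorsorBC.isPullback_pullback_map
    (S.fromSpecResidueField s) f
  have := h s
  have : QuasiCompact ((Over.pullback (S.fromSpecResidueField s)).map f).left :=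
    MorphismProperty.of_isPullback (P := @QuasiCompact) hpb.flip inferInstance
  have hfin : (((Over.pullback (S.fromSpecResidueField s)).map f).left ⁻¹' {b'}).Finite :=
    Scheme.Hom.finite_preimage_singleton _ b'
  refine (hfin.image (pullback.fst A.hom (S.fromSpecResidueField s))).subset ?_
  intro a ha
  obtain ⟨a', ha1, ha2⟩ := Scheme.exists_preimage_of_isPullback hpb.flip a b'
    ((Set.mem_singleton_iff.mp ha).trans hb'.symm)
  exact ⟨a', ha2, ha1⟩

theorem locallyQuasiFinite_iff_surjective_of_fibrewise [GrpObj A] [GrpObj B]
    [Smooth A.hom] [IsProper A.hom] [GeometricallyConnected A.hom]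
    [Smooth B.hom] [IsProper B.hom] [GeometricallyConnected B.hom] [IsMonHom f]
    (hdim : ∀ s : S, topologicalKrullDim ↥(A.hom.fiber s) = topologicalKrullDim ↥(B.hom.fiber s)) :
    LocallyQuasiFinite f.left ↔ Surjective f.left := by
  have : IsProper (f.left ≫ B.hom) := by rw [Over.w]; infer_instance
  have : IsProper f.left := IsProper.of_comp f.left B.hom
  have key : ∀ s : S, LocallyQuasiFinite ((Over.pullback (S.fromSpecResidueField s)).map f).left ↔
      Surjective ((Over.pullback (S.fromSpecResidueField s)).map f).left := fun s => by
    have : Smooth (Red.bc (S.fromSpecResidueField s) A).hom :=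
      inferInstanceAs (Smooth (pullback.snd A.hom (S.fromSpecResidueField s)))
    have : IsProper (Red.bc (S.fromSpecResidueField s) A).hom :=
      inferInstanceAs (IsProper (pullback.snd A.hom (S.fromSpecResidueField s)))
    have : GeometricallyConnected (Red.bc (S.fromSpecResidueField s) A).hom :=
      inferInstanceAs (GeometricallyConnected (pullback.snd A.hom (S.fromSpecResidueField s)))
    have : Smooth (Red.bc (S.fromSpecResidueField s) B).hom :=
      inferInstanceAs (Smooth (pullback.snd B.hom (S.fromSpecResidueField s)))
    have : IsProper (Red.bc (S.fromSpecResidueField s) B).hom :=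
      inferInstanceAs (IsProper (pullback.snd B.hom (S.fromSpecResidueField s)))
    have : GeometricallyConnected (Red.bc (S.fromSpecResidueField s) B).hom :=
      inferInstanceAs (GeometricallyConnected (pullback.snd B.hom (S.fromSpecResidueField s)))
    exact locallyQuasiFinite_iff_surjective (k := S.residueField s)
      (Red.bc (S.fromSpecResidueField s) A) (Red.bc (S.fromSpecResidueField s) B)
      ((Over.pullback (S.fromSpecResidueField s)).map f) (hdim s)
  constructor
  · intro hq
    apply surjective_of_fibrewise
    intro s
    rw [← key s]
    exact MorphismProperty.of_isPullback (P := @LocallyQuasiFinite)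
      (Groth.Agent.Lib.Helper40.TorsorBC.isPullback_pullback_map
        (S.fromSpecResidueField s) f).flip hq
  · intro hs
    apply locallyQuasiFinite_of_fibrewise
    intro s
    rw [key s]
    exact MorphismProperty.of_isPullback (P := @Surjective)
      (Groth.Agent.Lib.Helper40.TorsorBC.isPullback_pullback_map
        (S.fromSpecResidueField s) f).flip hs

end Fibrewise

end Groth.Agent.Lib.Helper73.HomFinFlat
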