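import Mathlib
import Groth.Prelude.Def_Red
import Groth.Prelude.Def_MoreMor
import Groth.Agent.S1386
import Groth.Agent.Lib.Helper73.HomFinFlat3

/-!
helper73: a finite surjective homomorphism of abelian schemes is flat (fibrewise flatness criterion,
S1386) and the fibres have the same dimension.
-/

set_option autoImplicit false
universe u

open CategoryTheory CategoryTheory.Limits MonoidalCategory CartesianMonoidalCategory MonObj GrpObj
  AlgebraicGeometry

namespace Groth.Agent.Lib.Helper73.HomFinFlat

open Groth.Agent.Lib.Helper21.FieldDim

section Field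

variable {k : Type u} [Field k] (X Y : Over (Spec (CommRingCat.of k)))
  [LocallyOfFiniteType X.hom] [LocallyOfFiniteType Y.hom]

/-- a finite surjective morphism between schemes locally of finite type over a field preserves
the dimension. -/
theorem dim_eq_of_isFinite_surjective (f : X ⟶ Y) [IsFinite f.left] [Surjective f.left] :
    topologicalKrullDim X.left = topologicalKrullDim Y.left := by
  have : LocallyOfFiniteType f.left :=
    locallyOfFiniteType_of_comp_eq X.hom Y.hom f.left (Over.w f)
  have h0 : ∀ x : X.left, tdR f.left x = 0 := by
    intro x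
    have h1 := tdR_le_dim_fiber f.left x
    have hfin : (f.left ⁻¹' {f.left x}).Finite := f.left.finite_preimage_singleton _
    have hdisc : _root_.IsDiscrete (f.left ⁻¹' {f.left x}) := f.left.isDiscrete_preimage_singleton _
    have : Finite ↥(f.left ⁻¹' {f.left x}) := hfin
    have : DiscreteTopology ↥(f.left ⁻¹' {f.left x}) := hdisc.to_subtype
    have : Nonempty ↥(f.left ⁻¹' {f.left x}) := ⟨⟨x, rfl⟩⟩
    have h2 : topologicalKrullDim ↥(f.left ⁻¹' {f.left x}) = 0 :=
      Groth.Agent.Lib.Helper29.dim_eq_zero_iff_finite_discrete.mpr ⟨inferInstance, inferInstance⟩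
    rw [← dim_preimage_singleton, h2] at h1
    have : tdR f.left x ≤ 0 := by exact_mod_cast h1
    omega
  have htd : ∀ x : X.left, td X.hom x = td Y.hom (f.left x) := by
    intro x
    have h3 := td_eq_add_tdR X.hom Y.hom f.left (Over.w f) x
    rw [h0 x, Nat.add_zero] at h3
    exact h3
  apply le_antisymm
  · rw [dim_le_iff X.hom]
    intro x
    rw [htd x]
    exact td_le_dim Y.hom _
  · rw [dim_le_iff Y.hom]
    intro y
    obtain ⟨x, rfl⟩ := f.left.surjective y
    rw [← htd x]
    exact td_le_dim X.hom _

end Field

section Base

variable {S : Scheme.{u}} {X Y : Over S} (f : X ⟶ Y)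

/-- the fibre map of `MoreMor` agrees with the base change functor up to the canonical iso. -/
theorem fiberMap_eq (s : S) :
    MoreMor.fiberMap f.left Y.hom s =
      (pullback.congrHom (Over.w f) rfl).hom ≫
        ((Over.pullback (S.fromSpecResidueField s)).map f).left := by
  have e1 : ((Over.pullback (S.fromSpecResidueField s)).map f).left ≫
      pullback.fst Y.hom (S.fromSpecResidueField s) =
      pullback.fst X.hom (S.fromSpecResidueField s) ≫ f.left := pullback.lift_fst _ _ _
  have e2 : ((Over.pullback (S.fromSpecResidueField s)).map f).left ≫
      pullback.snd Y.hom (S.fromSpecResidueField s) =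
      pullback.snd X.hom (S.fromSpecResidueField s) := pullback.lift_snd _ _ _
  change pullback.lift (pullback.fst (f.left ≫ Y.hom) (S.fromSpecResidueField s) ≫ f.left)
    (pullback.snd (f.left ≫ Y.hom) (S.fromSpecResidueField s))
    (by rw [Category.assoc]; exact pullback.condition) = _
  apply pullback.hom_ext
  · rw [pullback.lift_fst, Category.assoc, e1, pullback.congrHom_hom, pullback.lift_fst_assoc,
      Category.comp_id]
  · rw [pullback.lift_snd, Category.assoc, e2, pullback.congrHom_hom, pullback.lift_snd,
      Category.comp_id]

/-- a surjective homomorphism of proper flat group schemes with geometrically reduced fibres is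
flat. -/
theorem flat_of_surjective_hom_of_isProper [GrpObj X] [GrpObj Y]
    [IsProper X.hom] [Flat X.hom] [LocallyOfFinitePresentation X.hom]
    [IsProper Y.hom] [LocallyOfFinitePresentation Y.hom] [GeometricallyReduced Y.hom]
    [IsMonHom f] [Surjective f.left] : Flat f.left := by
  have hfib : ∀ s : S, Flat (MoreMor.fiberMap f.left Y.hom s) := by
    intro s
    have i1 : LocallyOfFiniteType (Red.bc (S.fromSpecResidueField s) X).hom :=
      inferInstanceAs (LocallyOfFiniteType (pullback.snd X.hom (S.fromSpecResidueField s)))
    have i2 : QuasiCompact (Red.bc (S.fromSpecResidueField s) X).hom :=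
      inferInstanceAs (QuasiCompact (pullback.snd X.hom (S.fromSpecResidueField s)))
    have i3 : LocallyOfFiniteType (Red.bc (S.fromSpecResidueField s) Y).hom :=
      inferInstanceAs (LocallyOfFiniteType (pullback.snd Y.hom (S.fromSpecResidueField s)))
    have i4 : QuasiCompact (Red.bc (S.fromSpecResidueField s) Y).hom :=
      inferInstanceAs (QuasiCompact (pullback.snd Y.hom (S.fromSpecResidueField s)))
    have i5 : IsReduced (Red.bc (S.fromSpecResidueField s) Y).left :=
      inferInstanceAs (IsReduced (Y.hom.fiber s))
    have i6 : Surjective ((Over.pullback (S.fromSpecResidueField s)).map f).left :=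
      MorphismProperty.of_isPullback (P := @Surjective)
        (Groth.Agent.Lib.Helper40.TorsorBC.isPullback_pullback_map
          (S.fromSpecResidueField s) f).flip inferInstance
    have hfl : Flat ((Over.pullback (S.fromSpecResidueField s)).map f).left :=
      Groth.Agent.Lib.Helper23.HomFlat.flat_of_surjective_hom (k := S.residueField s)
        (Red.bc (S.fromSpecResidueField s) X) (Red.bc (S.fromSpecResidueField s) Y)
        ((Over.pullback (S.fromSpecResidueField s)).map f)
    have hcomp : Flat ((pullback.congrHom (Over.w f) rfl).hom ≫
        ((Over.pullback (S.fromSpecResidueField s)).map f).left) := inferInstance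
    rw [fiberMap_eq]
    exact hcomp
  have j1 : LocallyOfFinitePresentation (f.left ≫ Y.hom) := by rw [Over.w]; infer_instance
  have j2 : Flat (f.left ≫ Y.hom) := by rw [Over.w]; infer_instance
  have key := (Groth.Agent.S1386.result f.left Y.hom).1
  apply Flat.of_stalkMap
  intro x
  have := hfib (Y.hom (f.left x))
  exact ((key x).mp ⟨Flat.stalkMap _ x, Flat.stalkMap _ _⟩).2

/-- a finite surjective morphism over `S` between schemes locally of finite type over `S` preserves
the dimensions of the fibres. -/
theorem dim_fiber_eq_of_isFinite_surjective [LocallyOfFiniteType X.hom] [LocallyOfFiniteType Y.hom]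
    [IsFinite f.left] [Surjective f.left] (s : S) :
    topologicalKrullDim ↥(X.hom.fiber s) = topologicalKrullDim ↥(Y.hom.fiber s) := by
  have i1 : LocallyOfFiniteType (Red.bc (S.fromSpecResidueField s) X).hom :=
    inferInstanceAs (LocallyOfFiniteType (pullback.snd X.hom (S.fromSpecResidueField s)))
  have i3 : LocallyOfFiniteType (Red.bc (S.fromSpecResidueField s) Y).hom :=
    inferInstanceAs (LocallyOfFiniteType (pullback.snd Y.hom (S.fromSpecResidueField s)))
  have i6 : Surjective ((Over.pullback (S.fromSpecResidueField s)).map f).left :=
    MorphismProperty.of_isPullback (P := @Surjective)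
      (Groth.Agent.Lib.Helper40.TorsorBC.isPullback_pullback_map
        (S.fromSpecResidueField s) f).flip inferInstance
  have i7 : IsFinite ((Over.pullback (S.fromSpecResidueField s)).map f).left :=
    MorphismProperty.of_isPullback (P := @IsFinite)
      (Groth.Agent.Lib.Helper40.TorsorBC.isPullback_pullback_map
        (S.fromSpecResidueField s) f).flip inferInstance
  exact dim_eq_of_isFinite_surjective (k := S.residueField s)
    (Red.bc (S.fromSpecResidueField s) X) (Red.bc (S.fromSpecResidueField s) Y)
    ((Over.pullback (S.fromSpecResidueField s)).map f)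

end Base

end Groth.Agent.Lib.Helper73.HomFinFlat
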