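import Mathlib
import Groth.Prelude.Def_ChGrp

set_option autoImplicit false
universe u

open CategoryTheory CategoryTheory.Limits MonoidalCategory CartesianMonoidalCategory MonObj GrpObj
  AlgebraicGeometry

namespace Groth.Agent.Lib.Helper73.ActTrans

noncomputable section

variable {S : Scheme.{u}} {G X : Over S} [GrpObj G]

/-- left translation by a section. -/
def mulLeft (h : 𝟙_ (Over S) ⟶ G) : G ≅ G where
  hom := lift (toUnit _ ≫ h) (𝟙 _) ≫ μ
  inv := lift (toUnit _ ≫ h ≫ ι) (𝟙 _) ≫ μ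
  hom_inv_id := by
    simp only [comp_lift_assoc, Category.comp_id, comp_toUnit_assoc]
    rw [← Hom.mul_def, ← Hom.mul_def, ← Category.assoc, ← Hom.inv_def, inv_mul_cancel_left]
  inv_hom_id := by
    simp only [comp_lift_assoc, Category.comp_id, comp_toUnit_assoc]
    rw [← Hom.mul_def, ← Hom.mul_def, ← Category.assoc, ← Hom.inv_def, mul_inv_cancel_left]

theorem comp_mulLeft_hom {T : Over S} (h : 𝟙_ (Over S) ⟶ G) (g : T ⟶ G) :
    g ≫ (mulLeft h).hom = (toUnit T ≫ h) * g := by
  rw [mulLeft, comp_lift_assoc, Category.comp_id, comp_toUnit_assoc, ← Hom.mul_def]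

/-- the endomorphism of `X` given by a section of `G`. -/
def actHom (a : AlgGrp.Action G X) (h : 𝟙_ (Over S) ⟶ G) : X ⟶ X :=
  lift (toUnit X ≫ h) (𝟙 X) ≫ a.act

theorem comp_actHom {T : Over S} (a : AlgGrp.Action G X) (h : 𝟙_ (Over S) ⟶ G) (y : T ⟶ X) :
    y ≫ actHom a h = lift (toUnit T ≫ h) y ≫ a.act := by
  rw [actHom, comp_lift_assoc, Category.comp_id, comp_toUnit_assoc]

theorem actHom_comp (a : AlgGrp.Action G X) (h h' : 𝟙_ (Over S) ⟶ G) :
    actHom a h ≫ actHom a h' = actHom a (h' * h) := by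
  rw [comp_actHom]
  conv_lhs => rw [actHom]
  rw [← AlgGrp.Action.lift_mul_act, ← MonObj.comp_mul, actHom]

theorem actHom_one (a : AlgGrp.Action G X) : actHom a 1 = 𝟙 X := by
  rw [actHom, MonObj.comp_one, AlgGrp.Action.lift_one_act]

/-- the automorphism of `X` given by a section of `G`. -/
def actIso (a : AlgGrp.Action G X) (h : 𝟙_ (Over S) ⟶ G) : X ≅ X where
  hom := actHom a h
  inv := actHom a h⁻¹
  hom_inv_id := by rw [actHom_comp, inv_mul_cancel, actHom_one]
  inv_hom_id := by rw [actHom_comp, mul_inv_cancel, actHom_one]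

theorem comp_actIso_hom {T : Over S} (a : AlgGrp.Action G X) (h : 𝟙_ (Over S) ⟶ G) (y : T ⟶ X) :
    y ≫ (actIso a h).hom = lift (toUnit T ≫ h) y ≫ a.act := comp_actHom a h y

/-- the orbit map is equivariant for left translation. -/
theorem mulLeft_orbitMap (a : AlgGrp.Action G X) (h : 𝟙_ (Over S) ⟶ G) (x : 𝟙_ (Over S) ⟶ X) :
    (mulLeft h).hom ≫ a.orbitMap x = a.orbitMap x ≫ (actIso a h).hom := by
  rw [comp_actIso_hom, AlgGrp.Action.comp_orbitMap, ← Category.id_comp (mulLeft h).hom,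
    comp_mulLeft_hom, AlgGrp.Action.lift_mul_act, ← AlgGrp.Action.comp_orbitMap, Category.id_comp]

/-- transport of smooth points along an equivariance square of isomorphisms. -/
theorem formallySmooth_stalkMap_of_equivariant {G X : Scheme.{u}} (φ : G ⟶ X) (L : G ⟶ G)
    (A : X ⟶ X) [IsIso L] [IsIso A] (heq : L ≫ φ = φ ≫ A) (g : G)
    (hg : (φ.stalkMap g).hom.FormallySmooth) : (φ.stalkMap (L g)).hom.FormallySmooth := by
  have h1 : ((φ ≫ A).stalkMap g).hom.FormallySmooth := by
    rw [Scheme.Hom.stalkMap_comp]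
    exact (RingHom.FormallySmooth.respectsIso.cancel_left_isIso (A.stalkMap (φ g))
      (φ.stalkMap g)).mpr hg
  rw [← heq, Scheme.Hom.stalkMap_comp] at h1
  exact (RingHom.FormallySmooth.respectsIso.cancel_right_isIso (φ.stalkMap (L g))
    (L.stalkMap g)).mp h1

end

end Groth.Agent.Lib.Helper73.ActTrans
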