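/-
helper73: transfer of catenarity along ring isomorphisms; universally catenary ⟹ catenary.
-/
import Groth.Agent.S9124
import Groth.Prelude.Def_Found

set_option linter.style.haveILetI false
set_option autoImplicit false
universe u

namespace Groth.Agent.Lib.Helper73.CatenaryTransfer

theorem isCatenary_of_ringEquiv {A B : Type u} [CommRing A] [CommRing B] (e : A ≃+* B)
    (hA : CAlg.IsCatenary A) : CAlg.IsCatenary B := by
  letI : Algebra A B := e.toRingHom.toAlgebra
  haveI : IsLocalization (⊥ : Submonoid A) A := IsLocalization.self bot_le
  haveI : IsLocalization (⊥ : Submonoid A) B :=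
    IsLocalization.isLocalization_of_algEquiv (⊥ : Submonoid A)
      (AlgEquiv.ofRingEquiv (f := e) (fun x => rfl))
  exact Groth.Agent.S9124.result A ⊥ B hA

theorem isCatenary_of_isUniversallyCatenary {B : Type u} [CommRing B]
    (hB : CAlg.IsUniversallyCatenary B) : CAlg.IsCatenary B :=
  hB.2 B inferInstance

end Groth.Agent.Lib.Helper73.CatenaryTransfer
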