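/-
helper73: short explicit chains as `LTSeries`.
-/
import Groth.Agent.Lib.Helper73.StalkChains

set_option autoImplicit false

namespace Groth.Agent.Lib.Helper73.Chain23

open Groth.Agent.Lib.Helper73.RelHt

theorem exists_snoc {α : Type*} [Preorder α] (l : LTSeries α) (a : α) (h : l.last < a) :
    ∃ l' : LTSeries α, l'.length = l.length + 1 ∧ l'.last = a ∧
      ∀ P : α → Prop, (∀ i, P (l i)) → P a → ∀ i, P (l' i) :=
  ⟨l.snoc a h, rfl, RelSeries.last_snoc _ _ _, fun _ hl ha => forall_snoc l a h ha hl⟩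

theorem exists_chain1 {α : Type*} [Preorder α] {a b : α} (hab : a < b) :
    ∃ l : LTSeries α, l.length = 1 ∧ l.last = b ∧ ∀ P : α → Prop, P a → P b → ∀ i, P (l i) := by
  obtain ⟨l, h1, h2, h3⟩ := exists_snoc (RelSeries.singleton _ a) b
    (by rw [RelSeries.last_singleton]; exact hab)
  exact ⟨l, h1, h2, fun P ha hb => h3 P (fun _ => ha) hb⟩

theorem exists_chain2 {α : Type*} [Preorder α] {a b c : α} (hab : a < b) (hbc : b < c) :
    ∃ l : LTSeries α, l.length = 2 ∧ l.last = c ∧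
      ∀ P : α → Prop, P a → P b → P c → ∀ i, P (l i) := by
  obtain ⟨l, h1, h2, h3⟩ := exists_chain1 hab
  obtain ⟨l', h1', h2', h3'⟩ := exists_snoc l c (by rw [h2]; exact hbc)
  exact ⟨l', by rw [h1', h1], h2', fun P ha hb hc => h3' P (h3 P ha hb) hc⟩

theorem exists_chain3 {α : Type*} [Preorder α] {a b c d : α} (hab : a < b) (hbc : b < c)
    (hcd : c < d) :
    ∃ l : LTSeries α, l.length = 3 ∧ l.last = d ∧
      ∀ P : α → Prop, P a → P b → P c → P d → ∀ i, P (l i) := by
  obtain ⟨l, h1, h2, h3⟩ := exists_chain2 hab hbc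
  obtain ⟨l', h1', h2', h3'⟩ := exists_snoc l d (by rw [h2]; exact hcd)
  exact ⟨l', by rw [h1', h1], h2', fun P ha hb hc hd => h3' P (h3 P ha hb hc) hd⟩

end Groth.Agent.Lib.Helper73.Chain23
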