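/-
helper73: a point closed in its fibre (f locally of finite type) has residue field algebraic over the
residue field of its image.
-/
import Groth.Agent.Lib.Helper21.FieldDim
import Groth.Agent.Lib.Helper73.FibreDimGen3
import Groth.Agent.Lib.Helper29.TopDimZero

set_option linter.style.haveILetI false
set_option autoImplicit false
universe u
open CategoryTheory CategoryTheory.Limits AlgebraicGeometry

namespace Groth.Agent.Lib.Helper73.ClosedFibreTrdeg

open Groth.Agent.Lib.Helper73.SchemeDim Groth.Agent.Lib.Helper21.FieldDim

theorem trdeg_eq_zero_of_closed_in_fibre {X S : Scheme.{u}} (f : X ⟶ S) [LocallyOfFiniteType f]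
    (x : X) (h : ∀ w : X, x ⤳ w → f.base w = f.base x → w = x) :
    @Algebra.trdeg (S.residueField (f.base x)) (X.residueField x) _ _
      (f.residueFieldMap x).hom.toAlgebra = 0 := by
  let g := f.fiberToSpecResidueField (f.base x)
  haveI : LocallyOfFiniteType g := locallyOfFiniteType_fiberToSpecResidueField f (f.base x)
  let p := f.asFiber x
  have hinj : Function.Injective (f.fiberι (f.base x)).base :=
    (f.fiberι (f.base x)).isEmbedding.injective
  have hcl : closure ({p} : Set (f.fiber (f.base x))) = {p} := by
    apply Set.Subset.antisymm _ subset_closure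
    intro w hw
    have h1 : p ⤳ w := specializes_iff_mem_closure.mpr hw
    have h2 := h1.map (f.fiberι (f.base x)).continuous
    rw [Scheme.Hom.fiberι_asFiber] at h2
    have h3 := h _ h2 (base_fiberι' f (f.base x) w)
    rw [Set.mem_singleton_iff]
    apply hinj
    rw [h3, Scheme.Hom.fiberι_asFiber]
  have hdim := dim_closure_singleton (k := S.residueField (f.base x)) g p
  rw [hcl] at hdim
  have h0 : topologicalKrullDim ↥({p} : Set (f.fiber (f.base x))) = 0 := by
    haveI : Nonempty ↥({p} : Set (f.fiber (f.base x))) := ⟨⟨p, rfl⟩⟩
    exact le_antisymm (topologicalKrullDim_zero_of_discreteTopology _)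
      Groth.Agent.Lib.Helper29.topologicalKrullDim_nonneg
  rw [h0] at hdim
  have htd : td (k := S.residueField (f.base x)) g p = 0 := by exact_mod_cast hdim.symm
  have h4 := trdegAt_eq_td (k := S.residueField (f.base x)) g p
  rw [htd] at h4
  have h5 := trdeg_fiberToSpecResidueField f (f.base x) p
  rw [trdeg_residueFieldMap_congr_pt f (f.fiberι_asFiber x)] at h5
  rw [← h5]
  exact_mod_cast h4

end Groth.Agent.Lib.Helper73.ClosedFibreTrdeg
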