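/-
helper73: `trdeg_le_localDim_closure_inter_fibre`: Chevalley semicontinuity on `closure {ξ}`:
`trdeg κ(ξ)/κ(f ξ) ≤ dim_x (closure {ξ} ∩ f⁻¹(f x))` for `ξ ⤳ x`.
-/
import Groth.Agent.Lib.Helper73.Equidim2
import Groth.Agent.Lib.Helper73.LocalDimHomeo

set_option linter.style.haveILetI false
set_option autoImplicit false
universe u
open CategoryTheory AlgebraicGeometry

namespace Groth.Agent.Lib.Helper73.SchemeDim

variable {X Y : Scheme.{u}}

/-- Chevalley semicontinuity on the closed irreducible subset `closure {ξ}`: the residue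
transcendence degree at `ξ` bounds the local dimension at `x` of `closure {ξ} ∩ f⁻¹(f x)`. -/
theorem trdeg_le_localDim_closure_inter_fibre (f : X ⟶ Y) [LocallyOfFiniteType f] {ξ x : X}
    (hξx : ξ ⤳ x) (n : ℕ)
    (hn : @Algebra.trdeg (Y.residueField (f.base ξ)) (X.residueField ξ) _ _
      (f.residueFieldMap ξ).hom.toAlgebra = n)
    (hmem : x ∈ closure ({ξ} : Set X) ∩ f.base ⁻¹' {f.base x}) :
    (n : WithBot ℕ∞) ≤
      FlatMor.localDim ↥(closure ({ξ} : Set X) ∩ f.base ⁻¹' {f.base x}) ⟨x, hmem⟩ := by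
  set ι := (Scheme.IdealSheafData.vanishingIdeal
    (⟨closure {ξ}, isClosed_closure⟩ : TopologicalSpace.Closeds X)).subschemeι with hι
  have hrange : Set.range ι.base = closure {ξ} := by
    rw [hι, Scheme.IdealSheafData.range_subschemeι,
      Scheme.IdealSheafData.coe_support_vanishingIdeal]
    rfl
  obtain ⟨w, hw⟩ := hrange.superset hmem.1
  obtain ⟨ω, hω⟩ := hrange.superset (subset_closure (Set.mem_singleton ξ))
  have hsp : ω ⤳ w := by
    rw [← ι.isEmbedding.isInducing.specializes_iff, hω, hw]; exact hξx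
  have hnω : @Algebra.trdeg (Y.residueField ((ι ≫ f).base ω)) _ _ _
      ((ι ≫ f).residueFieldMap ω).hom.toAlgebra = n := by
    rw [trdeg_residueFieldMap_comp ι f ω, trdeg_residueFieldMap_congr_pt f hω]
    exact hn
  have h2 := trdeg_le_fibreDimAt' (ι ≫ f) hsp n hnω
  have hmem' : ι.base w ∈ closure {ξ} ∩ f.base ⁻¹' {f.base (ι.base w)} := by
    rw [hw]; exact hmem
  rw [fibreDimAt_comp_preimm ι f w (closure {ξ}) hrange hmem'] at h2
  have h3' : ∀ (x₁ : X) (_ : x₁ = x) (hmem₁ : x₁ ∈ closure {ξ} ∩ f.base ⁻¹' {f.base x₁}),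
      FlatMor.localDim ↥(closure {ξ} ∩ f.base ⁻¹' {f.base x₁}) ⟨x₁, hmem₁⟩ =
        FlatMor.localDim ↥(closure ({ξ} : Set X) ∩ f.base ⁻¹' {f.base x}) ⟨x, hmem⟩ := by
    intro x₁ hx₁
    subst hx₁
    intro _
    rfl
  rw [h3' (ι.base w) hw hmem'] at h2
  exact h2

end Groth.Agent.Lib.Helper73.SchemeDim
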