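import Groth.Agent.Lib.Helper73.OpenAtPoint3
import Groth.Agent.Lib.Helper73.FibreMaximal
import Groth.Agent.Lib.Helper73.FibreDimGen2

set_option linter.style.haveILetI false
set_option autoImplicit false
universe u
open CategoryTheory AlgebraicGeometry

namespace Groth.Agent.Lib.Helper73.SchemeDim

open Groth.Agent.Lib.Helper73.RelHt Groth.Agent.Lib.Helper73.DimFormula

variable {X Y : Scheme.{u}}

/-- variant of `exists_maximal_over_of_isOpenAt` for an arbitrary generization `η` of `f ζ`: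
the point `ξ` is maximal in its fibre. -/
theorem exists_maximal_in_fibre_over_of_isOpenAt [IsLocallyNoetherian Y] (f : X ⟶ Y)
    [LocallyOfFiniteType f] (ζ : X)
    (hζmax : ∀ t : X, t ⤳ ζ → f.base t = f.base ζ → t = ζ) (e : ℕ)
    (he : @Algebra.trdeg (Y.residueField (f.base ζ)) (X.residueField ζ) _ _
      (f.residueFieldMap ζ).hom.toAlgebra = e)
    (hopen : EGA43.IsOpenAt f.base ζ) (η : Y) (hη : η ⤳ f.base ζ) :
    ∃ ξ : X, (∀ t : X, t ⤳ ξ → f.base t = f.base ξ → t = ξ) ∧ ξ ⤳ ζ ∧ f.base ξ = η ∧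
      @Algebra.trdeg (Y.residueField (f.base ξ)) (X.residueField ξ) _ _
        (f.residueFieldMap ξ).hom.toAlgebra = e := by
  haveI : IsLocallyNoetherian X := LocallyOfFiniteType.isLocallyNoetherian f
  obtain ⟨ξ₁, m, hξ₁ζ, hfξ₁, hnξ₁, hem⟩ :=
    exists_specializes_trdeg_ge_of_isOpenAt f ζ e he hopen η hη
  obtain ⟨ξ, hξξ₁, hfξξ₁, hξmax⟩ := exists_maximal_in_fibre f ξ₁
  have hfξ : f.base ξ = η := hfξξ₁.trans hfξ₁
  obtain ⟨nξ, hnξ⟩ := exists_trdeg_residueField_eq_nat' f ξ
  have hmnξ : m ≤ nξ := trdeg_le_trdeg_of_specializes_of_fibre' f hξξ₁ hfξξ₁ nξ m hnξ hnξ₁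
  have hξζ : ξ ⤳ ζ := hξξ₁.trans hξ₁ζ
  have hmemζ : ζ ∈ closure ({ξ} : Set X) ∩ f.base ⁻¹' {f.base ζ} := ⟨hξζ.mem_closure, rfl⟩
  obtain ⟨-, t, k, -, htζ, htf, hnt, hL⟩ :=
    localDim_closed_inter_fibre f (closure {ξ}) isClosed_closure ζ hmemζ
  have htζeq : t = ζ := hζmax t htζ htf
  have hke : k = e := by
    have h1 : @Algebra.trdeg (Y.residueField (f.base ζ)) (X.residueField ζ) _ _
        (f.residueFieldMap ζ).hom.toAlgebra = k := by
      rw [← trdeg_residueFieldMap_congr_pt f htζeq]; exact hnt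
    have : ((k : ℕ) : Cardinal.{u}) = e := by rw [← h1, ← he]
    exact_mod_cast this
  have hlow := trdeg_le_localDim_closure_inter_fibre f hξζ nξ hnξ hmemζ
  rw [hL, hke] at hlow
  have hnξe : nξ ≤ e := by exact_mod_cast hlow
  have hnξeq : nξ = e := by omega
  exact ⟨ξ, hξmax, hξζ, hfξ, by rw [hnξ, hnξeq]⟩

/-- the dimensions of the irreducible components of a fibre are the values of the local fibre
dimension on that fibre. -/
theorem mem_componentDims_iff [IsLocallyNoetherian Y] (f : X ⟶ Y) [LocallyOfFiniteType f] (z : Y)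
    (w : WithBot ℕ∞) :
    w ∈ (fun Z : Set ↥(f.fiber z) => topologicalKrullDim ↥Z) '' irreducibleComponents ↥(f.fiber z) ↔
      ∃ (e : ℕ) (x : X), f.base x = z ∧ FlatMor.fibreDimAt f x = (e : WithBot ℕ∞) ∧
        w = (e : WithBot ℕ∞) := by
  constructor
  · rintro ⟨Z, hZ, rfl⟩
    obtain ⟨z', hzmax, rfl⟩ := exists_maximal_closure_eq_of_mem_irreducibleComponents hZ
    set ζ : X := (f.fiberι z).base z' with hζ
    have hfζ : f.base ζ = z := base_fiberι' f z z'
    have hindy := (f.fiberι z).isEmbedding.isInducing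
    have hζmax : ∀ t : X, t ⤳ ζ → f.base t = f.base ζ → t = ζ := by
      intro t ht hft
      obtain ⟨t', rfl⟩ := exists_fiberι_eq f (hft.trans hfζ)
      rw [hzmax t' (hindy.specializes_iff.mp ht)]
    obtain ⟨e, he⟩ := exists_trdeg_residueField_eq_nat' f ζ
    refine ⟨e, ζ, hfζ, fibreDimAt_eq_trdeg_of_maximal_in_fibre f ζ hζmax e he, ?_⟩
    exact topologicalKrullDim_closure_singleton_fiber f z z' e he
  · rintro ⟨e, x, hx, hFx, rfl⟩
    obtain ⟨ζ, n, hζx, hζf, hζmax, hn, hF⟩ := exists_maximal_in_fibre_trdeg_eq_fibreDimAt f x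
    have hne : n = e := by
      have : (n : WithBot ℕ∞) = (e : WithBot ℕ∞) := by rw [← hF, hFx]
      exact_mod_cast this
    have hfζ : f.base ζ = z := hζf.trans hx
    obtain ⟨ω, hω⟩ := exists_fiberι_eq f hfζ
    have hωmax : ∀ ω' : ↥(f.fiber z), ω' ⤳ ω → ω' = ω := by
      intro ω' hω'
      apply (f.fiberι z).isEmbedding.injective
      rw [hω]
      apply hζmax
      · rw [← hω]
        exact hω'.map (f.fiberι z).continuous
      · rw [base_fiberι' f z ω', hfζ]
    refine ⟨closure {ω}, closure_singleton_mem_irreducibleComponents_of_maximal ω hωmax, ?_⟩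
    change topologicalKrullDim ↥(closure ({ω} : Set ↥(f.fiber z))) = _
    rw [topologicalKrullDim_closure_singleton_fiber f z ω n
      (by rw [trdeg_residueFieldMap_congr_pt f hω]; exact hn), hne]

end Groth.Agent.Lib.Helper73.SchemeDim
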