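import Mathlib
import Groth.Prelude.Def_W4c6nonredquotmfGoodQuot
import Groth.Prelude.Def_ChGrp
import Groth.Agent.Lib.Helper73.ActTrans

set_option autoImplicit false
universe u

open CategoryTheory CategoryTheory.Limits MonoidalCategory CartesianMonoidalCategory MonObj GrpObj
  AlgebraicGeometry

namespace Groth.Agent.Lib.Helper73.GoodQuot

open Groth.Agent.Lib.Helper73.ActTrans

noncomputable section

section Points

variable {k : Type u} [Field k]

/-- rational points are closed. -/
theorem isClosed_point' {Y : Scheme.{u}} (f : Y ⟶ Spec (CommRingCat.of k))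
    (p : Spec (CommRingCat.of k) ⟶ Y) (hp : p ≫ f = 𝟙 _) :
    IsClosed ({p (IsLocalRing.closedPoint k)} : Set Y) := by
  have := isClosedImmersion_of_comp_eq_id f p hp
  have h1 := p.isClosedEmbedding.isClosed_range
  rwa [Set.range_eq_singleton] at h1
  exact fun x => congrArg p (Subsingleton.elim _ _)

/-- a rational point is determined by its image. -/
theorem point_ext' {Y : Scheme.{u}} (f : Y ⟶ Spec (CommRingCat.of k))
    (p₁ p₂ : Spec (CommRingCat.of k) ⟶ Y) (h₁ : p₁ ≫ f = 𝟙 _) (h₂ : p₂ ≫ f = 𝟙 _)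
    (h : p₁ (IsLocalRing.closedPoint k) = p₂ (IsLocalRing.closedPoint k)) : p₁ = p₂ := by
  have i1 := isClosedImmersion_of_comp_eq_id f p₁ h₁
  have i2 := isClosedImmersion_of_comp_eq_id f p₂ h₂
  obtain ⟨p, hp1, hp2⟩ := Scheme.Pullback.exists_preimage_pullback (f := p₁) (g := p₂)
    (IsLocalRing.closedPoint k) (IsLocalRing.closedPoint k) h
  have hsurj : Surjective (pullback.fst p₁ p₂) :=
    ⟨fun y => ⟨p, Subsingleton.elim _ _⟩⟩
  have hiso : IsIso (pullback.fst p₁ p₂) :=
    isIso_of_isClosedImmersion_of_surjective _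
  have e1 : p₁ = (inv (pullback.fst p₁ p₂) ≫ pullback.snd p₁ p₂) ≫ p₂ := by
    rw [Category.assoc, ← pullback.condition, IsIso.inv_hom_id_assoc]
  have e2 : inv (pullback.fst p₁ p₂) ≫ pullback.snd p₁ p₂ = 𝟙 _ := by
    have h3 := congrArg (fun m => m ≫ f) e1
    simp only [Category.assoc] at h3
    rw [h₁, h₂] at h3
    simpa using h3.symm
  rw [e2, Category.id_comp] at e1
  exact e1

variable (Y : Over (Spec (CommRingCat.of k)))

theorem isClosed_point (s : 𝟙_ (Over (Spec (CommRingCat.of k))) ⟶ Y) :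
    IsClosed ({s.left (IsLocalRing.closedPoint k)} : Set Y.left) :=
  isClosed_point' Y.hom s.left (Over.w s)

theorem point_ext (s₁ s₂ : 𝟙_ (Over (Spec (CommRingCat.of k))) ⟶ Y)
    (h : s₁.left (IsLocalRing.closedPoint k) = s₂.left (IsLocalRing.closedPoint k)) : s₁ = s₂ :=
  Over.OverMorphism.ext (point_ext' Y.hom s₁.left s₂.left (Over.w s₁) (Over.w s₂) h)

end Points

section Orbit

variable {S : Scheme.{u}} {G X : Over S} [GrpObj G] (a : AlgGrp.Action G X)
  (x : 𝟙_ (Over S) ⟶ X)

theorem unit_comp_orbitMap : η[G] ≫ a.orbitMap x = x := by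
  rw [AlgGrp.Action.comp_orbitMap, toUnit_unique (toUnit (𝟙_ (Over S))) (𝟙 _), Category.id_comp]
  exact AlgGrp.Action.lift_one_act a x

theorem point_comp_orbitMap (g : 𝟙_ (Over S) ⟶ G) : g ≫ a.orbitMap x = lift g x ≫ a.act := by
  rw [AlgGrp.Action.comp_orbitMap, toUnit_unique (toUnit (𝟙_ (Over S))) (𝟙 _), Category.id_comp]

theorem actIso_mem_range (τ : 𝟙_ (Over S) ⟶ G) {z : X.left}
    (hz : z ∈ Set.range (a.orbitMap x).left) :
    (actIso a τ).hom.left z ∈ Set.range (a.orbitMap x).left := by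
  obtain ⟨g, rfl⟩ := hz
  have h1 := congrArg (fun m => m.left) (mulLeft_orbitMap a τ x)
  have h2 : ((mulLeft τ).hom.left ≫ (a.orbitMap x).left) g =
      ((a.orbitMap x).left ≫ (actIso a τ).hom.left) g := congrArg (fun m : G.left ⟶ X.left => m g) h1
  exact ⟨(mulLeft τ).hom.left g, h2⟩

theorem actIso_mem_closure (τ : 𝟙_ (Over S) ⟶ G) {z : X.left}
    (hz : z ∈ closure (Set.range (a.orbitMap x).left)) :
    (actIso a τ).hom.left z ∈ closure (Set.range (a.orbitMap x).left) := by
  have h1 : (actIso a τ).hom.left z ∈ closure ((actIso a τ).hom.left '' Set.range (a.orbitMap x).left) :=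
    image_closure_subset_closure_image (actIso a τ).hom.left.continuous ⟨z, hz, rfl⟩
  refine closure_mono ?_ h1
  rintro _ ⟨w, hw, rfl⟩
  exact actIso_mem_range a x τ hw

/-- `g • z` on points. -/
theorem act_lift_apply (g : 𝟙_ (Over S) ⟶ G) (z : 𝟙_ (Over S) ⟶ X) (t : (𝟙_ (Over S)).left) :
    a.act.left ((lift g z).left t) = (actIso a g).hom.left (z.left t) := by
  have h1 : z ≫ (actIso a g).hom = lift g z ≫ a.act := by
    rw [comp_actIso_hom, toUnit_unique (toUnit (𝟙_ (Over S))) (𝟙 _), Category.id_comp]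
  have h2 := congrArg (fun m => m.left) h1
  exact (congrArg (fun m : (𝟙_ (Over S)).left ⟶ X.left => m t) h2).symm

omit [GrpObj G] in
theorem snd_lift_apply (g : 𝟙_ (Over S) ⟶ G) (z : 𝟙_ (Over S) ⟶ X) (t : (𝟙_ (Over S)).left) :
    (snd G X).left ((lift g z).left t) = z.left t := by
  have h1 : lift g z ≫ snd G X = z := lift_snd g z
  have h2 := congrArg (fun m => m.left) h1
  exact congrArg (fun m : (𝟙_ (Over S)).left ⟶ X.left => m t) h2

end Orbit

section AlgClosed

variable {k : Type u} [Field k] [IsAlgClosed k] {G X : Over (Spec (CommRingCat.of k))} [GrpObj G]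
  [LocallyOfFiniteType G.hom] [LocallyOfFiniteType X.hom] (a : AlgGrp.Action G X)

omit [IsAlgClosed k] [GrpObj G] in
theorem locallyOfFiniteType_tensor : LocallyOfFiniteType (G ⊗ X).hom :=
  inferInstanceAs (LocallyOfFiniteType (pullback.fst G.hom X.hom ≫ G.hom))

omit [GrpObj G] in
/-- a nonempty locally closed subset of `G × X` contains a rational point. -/
theorem exists_point_of_isLocallyClosed {T : Set (G ⊗ X).left} (hT : IsLocallyClosed T)
    (hne : T.Nonempty) :
    ∃ (g : 𝟙_ (Over (Spec (CommRingCat.of k))) ⟶ G) (z : 𝟙_ (Over (Spec (CommRingCat.of k))) ⟶ X),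
      (lift g z).left (IsLocalRing.closedPoint k) ∈ T := by
  have := locallyOfFiniteType_tensor (G := G) (X := X)
  have : JacobsonSpace (G ⊗ X).left := LocallyOfFiniteType.jacobsonSpace (G ⊗ X).hom
  obtain ⟨p, hp, hpc⟩ := nonempty_inter_closedPoints hne hT
  let P : 𝟙_ (Over (Spec (CommRingCat.of k))) ⟶ G ⊗ X :=
    Over.homMk (pointOfClosedPoint (G ⊗ X).hom p hpc) (pointOfClosedPoint_comp _ _ _)
  have hP : P.left (IsLocalRing.closedPoint k) = p := pointOfClosedPoint_apply _ _ _ _
  refine ⟨P ≫ fst G X, P ≫ snd G X, ?_⟩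
  have : lift (P ≫ fst G X) (P ≫ snd G X) = P := by
    apply CartesianMonoidalCategory.hom_ext <;> simp
  rw [this, hP]
  exact hp

/-- a closed subset stable under the translations by rational points is invariant. -/
theorem isInvariantSet_of_isClosed {W : Set X.left} (hW : IsClosed W)
    (hst : ∀ (τ : 𝟙_ (Over (Spec (CommRingCat.of k))) ⟶ G) (z : X.left), z ∈ W →
      (actIso a τ).hom.left z ∈ W) : NRQuot.IsInvariantSet a W := by
  intro p hp
  by_contra hq
  have hT : IsLocallyClosed ((snd G X).left ⁻¹' W ∩ (a.act.left ⁻¹' W)ᶜ) :=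
    (hW.preimage (snd G X).left.continuous).isLocallyClosed.inter
      (hW.preimage a.act.left.continuous).isOpen_compl.isLocallyClosed
  obtain ⟨g, z, h1, h2⟩ := exists_point_of_isLocallyClosed hT ⟨p, hp, hq⟩
  apply h2
  have e1 : (snd G X).left ((lift g z).left (IsLocalRing.closedPoint k)) =
      z.left (IsLocalRing.closedPoint k) := snd_lift_apply g z _
  have e2 : a.act.left ((lift g z).left (IsLocalRing.closedPoint k)) =
      (actIso a g).hom.left (z.left (IsLocalRing.closedPoint k)) := act_lift_apply a g z _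
  have h1' : z.left (IsLocalRing.closedPoint k) ∈ W := Set.mem_of_eq_of_mem e1.symm h1
  have h3 : a.act.left ((lift g z).left (IsLocalRing.closedPoint k)) ∈ W :=
    Set.mem_of_eq_of_mem e2 (hst g _ h1')
  exact h3

/-- the closure of an orbit is invariant. -/
theorem isInvariantSet_closure_orbit (x : 𝟙_ (Over (Spec (CommRingCat.of k))) ⟶ X) :
    NRQuot.IsInvariantSet a (closure (Set.range (a.orbitMap x).left)) :=
  isInvariantSet_of_isClosed a isClosed_closure (fun τ _ hz => actIso_mem_closure a x τ hz)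

theorem self_mem_orbit (x : 𝟙_ (Over (Spec (CommRingCat.of k))) ⟶ X) :
    x.left (IsLocalRing.closedPoint k) ∈ Set.range (a.orbitMap x).left := by
  refine ⟨η[G].left (IsLocalRing.closedPoint k), ?_⟩
  have h1 := congrArg (fun m => m.left) (unit_comp_orbitMap a x)
  exact congrArg (fun m : (𝟙_ (Over (Spec (CommRingCat.of k)))).left ⟶ X.left =>
    m (IsLocalRing.closedPoint k)) h1

/-- closed points of the orbit are images of rational points of `G`. -/
theorem exists_section_of_isClosed (x : 𝟙_ (Over (Spec (CommRingCat.of k))) ⟶ X) {y : X.left}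
    (hy : y ∈ Set.range (a.orbitMap x).left) (hyc : IsClosed ({y} : Set X.left)) :
    ∃ τ : 𝟙_ (Over (Spec (CommRingCat.of k))) ⟶ G,
      (a.orbitMap x).left (τ.left (IsLocalRing.closedPoint k)) = y := by
  have : JacobsonSpace G.left := LocallyOfFiniteType.jacobsonSpace G.hom
  have hcl : IsClosed ((a.orbitMap x).left ⁻¹' {y}) := hyc.preimage (a.orbitMap x).left.continuous
  obtain ⟨g0, rfl⟩ := hy
  obtain ⟨g, hg, hgc⟩ := nonempty_inter_closedPoints
    (⟨g0, rfl⟩ : ((a.orbitMap x).left ⁻¹' {(a.orbitMap x).left g0}).Nonempty) hcl.isLocallyClosed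
  refine ⟨Over.homMk (pointOfClosedPoint G.hom g hgc) (pointOfClosedPoint_comp _ _ _), ?_⟩
  have : (pointOfClosedPoint G.hom g hgc) (IsLocalRing.closedPoint k) = g :=
    pointOfClosedPoint_apply _ _ _ _
  exact (congrArg (a.orbitMap x).left this).trans hg

variable {Y : Over (Spec (CommRingCat.of k))} {φ : X ⟶ Y}

/-- the image of the closure of the orbit is the image point. -/
theorem image_closure_orbit (hinv : GIT.IsInvariant a φ)
    (x : 𝟙_ (Over (Spec (CommRingCat.of k))) ⟶ X) :
    φ.left '' closure (Set.range (a.orbitMap x).left) =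
      {(x ≫ φ).left (IsLocalRing.closedPoint k)} := by
  have hconst : ∀ g : G.left, φ.left ((a.orbitMap x).left g) =
      (x ≫ φ).left (IsLocalRing.closedPoint k) := by
    intro g
    have h1 : a.orbitMap x ≫ φ = toUnit G ≫ x ≫ φ := by
      rw [AlgGrp.Action.orbitMap, Category.assoc, hinv, lift_snd_assoc, Category.assoc]
    have h2 := congrArg (fun m => m.left) h1
    have h3 := congrArg (fun m : G.left ⟶ Y.left => m g) h2
    refine h3.trans ?_
    change (x ≫ φ).left ((toUnit G).left g) = _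
    exact congrArg (x ≫ φ).left (Subsingleton.elim (α := Spec (CommRingCat.of k)) _ _)
  apply Set.Subset.antisymm
  · have hcl : IsClosed ({(x ≫ φ).left (IsLocalRing.closedPoint k)} : Set Y.left) :=
      isClosed_point Y (x ≫ φ)
    have h4 : closure (Set.range (a.orbitMap x).left) ⊆
        φ.left ⁻¹' {(x ≫ φ).left (IsLocalRing.closedPoint k)} := by
      refine (hcl.preimage φ.left.continuous).closure_subset_iff.mpr ?_
      rintro _ ⟨g, rfl⟩
      exact hconst g
    rintro _ ⟨z, hz, rfl⟩
    exact h4 hz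
  · rintro _ rfl
    exact ⟨x.left (IsLocalRing.closedPoint k), subset_closure (self_mem_orbit a x), rfl⟩

/-- the closures of two orbits meet iff the points have the same image in a good quotient. -/
theorem closure_orbit_inter_nonempty_iff (h : NRQuot.IsGoodQuot a φ)
    (x₁ x₂ : 𝟙_ (Over (Spec (CommRingCat.of k))) ⟶ X) :
    (closure (Set.range (a.orbitMap x₁).left) ∩ closure (Set.range (a.orbitMap x₂).left)).Nonempty ↔
      x₁ ≫ φ = x₂ ≫ φ := by
  constructor
  · rintro ⟨z, hz1, hz2⟩
    have e1 : φ.left z ∈ φ.left '' closure (Set.range (a.orbitMap x₁).left) := ⟨z, hz1, rfl⟩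
    have e2 : φ.left z ∈ φ.left '' closure (Set.range (a.orbitMap x₂).left) := ⟨z, hz2, rfl⟩
    rw [image_closure_orbit a h.inv] at e1 e2
    exact point_ext Y _ _ (e1.symm.trans e2)
  · intro heq
    let W : ULift.{u} Bool → Set X.left := fun i =>
      if i.down then closure (Set.range (a.orbitMap x₁).left)
      else closure (Set.range (a.orbitMap x₂).left)
    have hWc : ∀ i, IsClosed (W i) := by
      rintro ⟨_ | _⟩ <;> simp only [W] <;> simp
    have hWi : ∀ i, NRQuot.IsInvariantSet a (W i) := by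
      rintro ⟨_ | _⟩
      · exact isInvariantSet_closure_orbit a x₂
      · exact isInvariantSet_closure_orbit a x₁
    have h1 := h.inter (ULift.{u} Bool) W hWc hWi
    have h2 : (x₁ ≫ φ).left (IsLocalRing.closedPoint k) ∈ ⋂ i, φ.left '' (W i) := by
      rw [Set.mem_iInter]
      rintro ⟨_ | _⟩
      · change _ ∈ φ.left '' closure (Set.range (a.orbitMap x₂).left)
        rw [image_closure_orbit a h.inv, heq]
        rfl
      · change _ ∈ φ.left '' closure (Set.range (a.orbitMap x₁).left)
        rw [image_closure_orbit a h.inv]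
        rfl
    rw [← h1] at h2
    obtain ⟨z, hz, -⟩ := h2
    rw [Set.mem_iInter] at hz
    exact ⟨z, hz ⟨true⟩, hz ⟨false⟩⟩

/-- two closed orbits with the same image in a good quotient coincide. -/
theorem exists_act_eq_of_isClosed (h : NRQuot.IsGoodQuot a φ)
    (x₁ x₂ : 𝟙_ (Over (Spec (CommRingCat.of k))) ⟶ X)
    (hc₁ : IsClosed (Set.range (a.orbitMap x₁).left)) (hc₂ : IsClosed (Set.range (a.orbitMap x₂).left))
    (hφ : x₁ ≫ φ = x₂ ≫ φ) :
    ∃ g : 𝟙_ (Over (Spec (CommRingCat.of k))) ⟶ G, lift g x₁ ≫ a.act = x₂ := by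
  have : JacobsonSpace X.left := LocallyOfFiniteType.jacobsonSpace X.hom
  have hne := (closure_orbit_inter_nonempty_iff a h x₁ x₂).mpr hφ
  rw [hc₁.closure_eq, hc₂.closure_eq] at hne
  obtain ⟨z, ⟨hz1, hz2⟩, hzc⟩ := nonempty_inter_closedPoints hne (hc₁.inter hc₂).isLocallyClosed
  obtain ⟨τ₁, h1⟩ := exists_section_of_isClosed a x₁ hz1 hzc
  obtain ⟨τ₂, h2⟩ := exists_section_of_isClosed a x₂ hz2 hzc
  have e : lift τ₁ x₁ ≫ a.act = lift τ₂ x₂ ≫ a.act := by
    rw [← point_comp_orbitMap, ← point_comp_orbitMap]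
    exact point_ext X _ _ (h1.trans h2.symm)
  refine ⟨τ₂⁻¹ * τ₁, ?_⟩
  rw [AlgGrp.Action.lift_mul_act, e, ← AlgGrp.Action.lift_mul_act, inv_mul_cancel,
    AlgGrp.Action.lift_one_act]

end AlgClosed

end

end Groth.Agent.Lib.Helper73.GoodQuot
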