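import Mathlib
import Groth.Prelude.Def_ChGrp
import Groth.Agent.Lib.Helper73.ActTrans
import Groth.Agent.Lib.Helper73.GoodQuot
import Groth.Agent.Lib.Helper73.ConnIrr

set_option autoImplicit false
universe u

open CategoryTheory CategoryTheory.Limits MonoidalCategory CartesianMonoidalCategory MonObj GrpObj
  AlgebraicGeometry

namespace Groth.Agent.Lib.Helper73.ConnGrp

open Groth.Agent.Lib.Helper73.ActTrans Groth.Agent.Lib.Helper73.GoodQuot

noncomputable section

variable {k : Type u} [Field k] {G X : Over (Spec (CommRingCat.of k))} [GrpObj G]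
  (a : AlgGrp.Action G X) (x₀ : 𝟙_ (Over (Spec (CommRingCat.of k))) ⟶ X)

omit [GrpObj G] in
theorem left_comp_apply {A B C : Over (Spec (CommRingCat.of k))} (f : A ⟶ B) (g : B ⟶ C)
    (t : A.left) : (f ≫ g).left t = g.left (f.left t) := rfl

theorem unit_eq_one : η[G] = (1 : 𝟙_ (Over (Spec (CommRingCat.of k))) ⟶ G) := by
  rw [Hom.one_def, toUnit_unique (toUnit (𝟙_ (Over (Spec (CommRingCat.of k))))) (𝟙 _),
    Category.id_comp]

/-- translation by a rational point moves the neutral component to the component of the point. -/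
theorem mulLeft_mem_connectedComponent (g h : 𝟙_ (Over (Spec (CommRingCat.of k))) ⟶ G)
    (hh : h.left (IsLocalRing.closedPoint k) ∈
      connectedComponent (η[G].left (IsLocalRing.closedPoint k))) :
    (g * h).left (IsLocalRing.closedPoint k) ∈
      connectedComponent (g.left (IsLocalRing.closedPoint k)) := by
  have h1 : h ≫ (mulLeft g).hom = g * h := by
    rw [comp_mulLeft_hom, toUnit_unique (toUnit (𝟙_ (Over (Spec (CommRingCat.of k))))) (𝟙 _),
      Category.id_comp]
  have h2 : η[G] ≫ (mulLeft g).hom = g := by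
    rw [comp_mulLeft_hom, toUnit_unique (toUnit (𝟙_ (Over (Spec (CommRingCat.of k))))) (𝟙 _),
      Category.id_comp, unit_eq_one, _root_.mul_one]
  have h3 := (mulLeft g).hom.left.continuous.image_connectedComponent_subset
    (η[G].left (IsLocalRing.closedPoint k))
  have h4 : (mulLeft g).hom.left (h.left (IsLocalRing.closedPoint k)) ∈
      connectedComponent ((mulLeft g).hom.left (η[G].left (IsLocalRing.closedPoint k))) :=
    h3 ⟨_, hh, rfl⟩
  have e_h : (mulLeft g).hom.left (h.left (IsLocalRing.closedPoint k)) =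
      (g * h).left (IsLocalRing.closedPoint k) :=
    congrArg (fun m : 𝟙_ (Over (Spec (CommRingCat.of k))) ⟶ G =>
      m.left (IsLocalRing.closedPoint k)) h1
  have e_η : (mulLeft g).hom.left (η[G].left (IsLocalRing.closedPoint k)) =
      g.left (IsLocalRing.closedPoint k) :=
    congrArg (fun m : 𝟙_ (Over (Spec (CommRingCat.of k))) ⟶ G =>
      m.left (IsLocalRing.closedPoint k)) h2
  have h5 := Set.mem_of_eq_of_mem e_h.symm h4
  exact (congrArg connectedComponent e_η).subset h5

variable {H : Over (Spec (CommRingCat.of k))} [GrpObj H] (i : H ⟶ G) [IsMonHom i]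
  (hH : ∀ (T : Over (Spec (CommRingCat.of k))) (g : T ⟶ G),
    (∃ h : T ⟶ H, h ≫ i = g) ↔ g ≫ a.orbitMap x₀ = toUnit T ≫ x₀)

include hH in
/-- rational points with the same image lie in the same connected component. -/
theorem mem_connectedComponent_of_orbitMap_eq [ConnectedSpace H.left]
    (g g' : 𝟙_ (Over (Spec (CommRingCat.of k))) ⟶ G)
    (hgg : g ≫ a.orbitMap x₀ = g' ≫ a.orbitMap x₀) :
    g'.left (IsLocalRing.closedPoint k) ∈ connectedComponent (g.left (IsLocalRing.closedPoint k)) := by
  have e1 : (g⁻¹ * g') ≫ a.orbitMap x₀ =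
      toUnit (𝟙_ (Over (Spec (CommRingCat.of k)))) ≫ x₀ := by
    rw [toUnit_unique (toUnit (𝟙_ (Over (Spec (CommRingCat.of k))))) (𝟙 _), Category.id_comp,
      point_comp_orbitMap, AlgGrp.Action.lift_mul_act, ← point_comp_orbitMap a x₀ g', ← hgg,
      point_comp_orbitMap, ← AlgGrp.Action.lift_mul_act, inv_mul_cancel,
      AlgGrp.Action.lift_one_act]
  obtain ⟨h, hh⟩ := (hH _ _).mpr e1
  have e2 : g' = g * (h ≫ i) := by rw [hh, mul_inv_cancel_left]
  rw [e2]
  apply mulLeft_mem_connectedComponent
  have h1 : η[H] ≫ i = η[G] := IsMonHom.one_hom i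
  have hpre : _root_.IsPreconnected (i.left '' Set.univ) :=
    isPreconnected_univ.image i.left i.left.continuous.continuousOn
  have hsub := hpre.subset_connectedComponent
    (x := i.left (η[H].left (IsLocalRing.closedPoint k))) ⟨_, Set.mem_univ _, rfl⟩
  have h2 : i.left (η[H].left (IsLocalRing.closedPoint k)) =
      η[G].left (IsLocalRing.closedPoint k) :=
    congrArg (fun m : 𝟙_ (Over (Spec (CommRingCat.of k))) ⟶ G =>
      m.left (IsLocalRing.closedPoint k)) h1
  have h6 := hsub ⟨h.left (IsLocalRing.closedPoint k), Set.mem_univ _, rfl⟩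
  exact (congrArg connectedComponent h2).subset h6

include hH in
/-- points with the same image lie in the same connected component. -/
theorem connectedComponent_eq_of_orbitMap_eq [IsAlgClosed k] [LocallyOfFiniteType G.hom]
    [ConnectedSpace H.left] (p p' : G.left)
    (hpp : (a.orbitMap x₀).left p = (a.orbitMap x₀).left p') :
    connectedComponent p = connectedComponent p' := by
  have hπ : LocallyOfFiniteType (a.orbitMap x₀).left := by
    have : LocallyOfFiniteType ((a.orbitMap x₀).left ≫ X.hom) := by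
      rw [Over.w]; infer_instance
    exact locallyOfFiniteType_of_comp (a.orbitMap x₀).left X.hom
  have hl : LocallyOfFiniteType
      (pullback.fst (a.orbitMap x₀).left (a.orbitMap x₀).left ≫ G.hom) := inferInstance
  have : JacobsonSpace ↥(pullback (a.orbitMap x₀).left (a.orbitMap x₀).left) :=
    LocallyOfFiniteType.jacobsonSpace
      (pullback.fst (a.orbitMap x₀).left (a.orbitMap x₀).left ≫ G.hom)
  obtain ⟨q, hq1, hq2⟩ := Scheme.Pullback.exists_preimage_pullback
    (f := (a.orbitMap x₀).left) (g := (a.orbitMap x₀).left) p p' hpp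
  have hTc : IsClosed ((pullback.fst (a.orbitMap x₀).left (a.orbitMap x₀).left) ⁻¹'
      connectedComponent p ∩ (pullback.snd (a.orbitMap x₀).left (a.orbitMap x₀).left) ⁻¹'
      connectedComponent p') :=
    (isClosed_connectedComponent.preimage (Scheme.Hom.continuous _)).inter
      (isClosed_connectedComponent.preimage (Scheme.Hom.continuous _))
  have hTne : ((pullback.fst (a.orbitMap x₀).left (a.orbitMap x₀).left) ⁻¹'
      connectedComponent p ∩ (pullback.snd (a.orbitMap x₀).left (a.orbitMap x₀).left) ⁻¹'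
      connectedComponent p').Nonempty := by
    refine ⟨q, ?_, ?_⟩
    · rw [Set.mem_preimage, hq1]; exact mem_connectedComponent
    · rw [Set.mem_preimage, hq2]; exact mem_connectedComponent
  obtain ⟨q0, hq0T, hq0c⟩ := nonempty_inter_closedPoints hTne hTc.isLocallyClosed
  obtain ⟨Q, hQ, hQpt⟩ : ∃ Q : Spec (CommRingCat.of k) ⟶
      pullback (a.orbitMap x₀).left (a.orbitMap x₀).left,
      Q ≫ pullback.fst (a.orbitMap x₀).left (a.orbitMap x₀).left ≫ G.hom = 𝟙 _ ∧
      Q (IsLocalRing.closedPoint k) = q0 :=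
    ⟨pointOfClosedPoint (pullback.fst (a.orbitMap x₀).left (a.orbitMap x₀).left ≫ G.hom) q0 hq0c,
      pointOfClosedPoint_comp _ _ _, pointOfClosedPoint_apply _ _ _ _⟩
  have hw2 : (Q ≫ pullback.snd (a.orbitMap x₀).left (a.orbitMap x₀).left) ≫ G.hom = 𝟙 _ := by
    rw [← hQ, ← Over.w (a.orbitMap x₀)]
    simp only [Category.assoc]
    rw [← pullback.condition_assoc]
  let g : 𝟙_ (Over (Spec (CommRingCat.of k))) ⟶ G :=
    Over.homMk (Q ≫ pullback.fst (a.orbitMap x₀).left (a.orbitMap x₀).left) (by simpa using hQ)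
  let g' : 𝟙_ (Over (Spec (CommRingCat.of k))) ⟶ G :=
    Over.homMk (Q ≫ pullback.snd (a.orbitMap x₀).left (a.orbitMap x₀).left) hw2
  have hgg : g ≫ a.orbitMap x₀ = g' ≫ a.orbitMap x₀ := by
    apply Over.OverMorphism.ext
    change (_ ≫ pullback.fst _ _) ≫ _ = (_ ≫ pullback.snd _ _) ≫ _
    rw [Category.assoc, Category.assoc, pullback.condition]
  have h1 := mem_connectedComponent_of_orbitMap_eq a x₀ i hH g g' hgg
  have hg : g.left (IsLocalRing.closedPoint k) =
      (pullback.fst (a.orbitMap x₀).left (a.orbitMap x₀).left) q0 :=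
    congrArg (pullback.fst (a.orbitMap x₀).left (a.orbitMap x₀).left) hQpt
  have hg' : g'.left (IsLocalRing.closedPoint k) =
      (pullback.snd (a.orbitMap x₀).left (a.orbitMap x₀).left) q0 :=
    congrArg (pullback.snd (a.orbitMap x₀).left (a.orbitMap x₀).left) hQpt
  have e1 : connectedComponent p = connectedComponent (g.left (IsLocalRing.closedPoint k)) := by
    rw [hg]; exact connectedComponent_eq hq0T.1
  have e2 : connectedComponent p' = connectedComponent (g'.left (IsLocalRing.closedPoint k)) := by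
    rw [hg']; exact connectedComponent_eq hq0T.2
  rw [e1, e2]
  exact connectedComponent_eq h1

omit [Field k] in
/-- automorphisms fix the generic point. -/
theorem iso_genericPoint {Z : Scheme.{u}} [IrreducibleSpace Z] (h : Z ⟶ Z) [IsIso h] :
    h (genericPoint Z) = genericPoint Z := by
  have h1 : IsGenericPoint (h (genericPoint Z)) (closure (h '' Set.univ)) :=
    (genericPoint_spec Z).image h.continuous
  have h2 : h '' Set.univ = Set.univ := Set.image_univ_of_surjective h.surjective
  rw [h2, closure_univ] at h1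
  exact h1.eq (genericPoint_spec Z)

include hH in
/-- a group scheme acting transitively on a connected smooth scheme with connected stabilizer is
connected. -/
theorem connectedSpace_of_surjective [IsAlgClosed k] [LocallyOfFiniteType G.hom]
    [QuasiCompact G.hom] [Smooth X.hom] [ConnectedSpace X.left] [ConnectedSpace H.left]
    (hsurj : Surjective (a.orbitMap x₀).left) : ConnectedSpace G.left := by
  have : CompactSpace G.left := QuasiCompact.compactSpace_of_compactSpace G.hom
  have : CompactSpace X.left := by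
    constructor
    rw [← Set.range_eq_univ.mpr hsurj.surj]
    exact isCompact_range (a.orbitMap x₀).left.continuous
  have : IrreducibleSpace X.left := Groth.Agent.Lib.Helper73.ConnIrr.irreducibleSpace_of_smooth X.hom
  have : JacobsonSpace G.left := LocallyOfFiniteType.jacobsonSpace G.hom
  obtain ⟨g₁, hg₁⟩ := hsurj.surj (genericPoint X.left)
  obtain ⟨c₁, hc₁, hc₁c⟩ := nonempty_inter_closedPoints
    (⟨g₁, mem_connectedComponent⟩ : (connectedComponent g₁).Nonempty)
    isClosed_connectedComponent.isLocallyClosed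
  let γ₁ : 𝟙_ (Over (Spec (CommRingCat.of k))) ⟶ G :=
    Over.homMk (pointOfClosedPoint G.hom c₁ hc₁c) (pointOfClosedPoint_comp _ _ _)
  have hγ₁ : γ₁.left (IsLocalRing.closedPoint k) = c₁ := pointOfClosedPoint_apply _ _ _ _
  have key : ∀ p : G.left, connectedComponent p = connectedComponent g₁ := by
    intro p
    obtain ⟨c₂, hc₂, hc₂c⟩ := nonempty_inter_closedPoints
      (⟨p, mem_connectedComponent⟩ : (connectedComponent p).Nonempty)
      isClosed_connectedComponent.isLocallyClosed
    let γ₂ : 𝟙_ (Over (Spec (CommRingCat.of k))) ⟶ G :=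
      Over.homMk (pointOfClosedPoint G.hom c₂ hc₂c) (pointOfClosedPoint_comp _ _ _)
    have hγ₂ : γ₂.left (IsLocalRing.closedPoint k) = c₂ := pointOfClosedPoint_apply _ _ _ _
    have hi : (mulLeft (γ₂ * γ₁⁻¹)).hom.left g₁ ∈ connectedComponent c₂ := by
      have h3 := (mulLeft (γ₂ * γ₁⁻¹)).hom.left.continuous.image_connectedComponent_subset c₁
      have hg₁c : g₁ ∈ connectedComponent c₁ := by
        rw [← connectedComponent_eq hc₁]; exact mem_connectedComponent
      have h4 : (mulLeft (γ₂ * γ₁⁻¹)).hom.left g₁ ∈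
          connectedComponent ((mulLeft (γ₂ * γ₁⁻¹)).hom.left c₁) := h3 ⟨g₁, hg₁c, rfl⟩
      have h1 : γ₁ ≫ (mulLeft (γ₂ * γ₁⁻¹)).hom = γ₂ := by
        rw [comp_mulLeft_hom, toUnit_unique (toUnit (𝟙_ (Over (Spec (CommRingCat.of k))))) (𝟙 _),
          Category.id_comp, inv_mul_cancel_right]
      have e : (mulLeft (γ₂ * γ₁⁻¹)).hom.left c₁ = c₂ := by
        rw [← hγ₁, ← hγ₂]
        exact congrArg (fun m : 𝟙_ (Over (Spec (CommRingCat.of k))) ⟶ G =>
          m.left (IsLocalRing.closedPoint k)) h1
      exact (congrArg connectedComponent e).subset h4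
    have hii : (a.orbitMap x₀).left ((mulLeft (γ₂ * γ₁⁻¹)).hom.left g₁) =
        (a.orbitMap x₀).left g₁ := by
      have h1 := congrArg (fun m => m.left) (mulLeft_orbitMap a (γ₂ * γ₁⁻¹) x₀)
      have h2 : (a.orbitMap x₀).left ((mulLeft (γ₂ * γ₁⁻¹)).hom.left g₁) =
          (actIso a (γ₂ * γ₁⁻¹)).hom.left ((a.orbitMap x₀).left g₁) :=
        congrArg (fun m : G.left ⟶ X.left => m g₁) h1
      have : IsIso (actIso a (γ₂ * γ₁⁻¹)).hom.left :=
        inferInstanceAs (IsIso ((Over.forget _).map (actIso a (γ₂ * γ₁⁻¹)).hom))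
      rw [h2, hg₁]
      exact iso_genericPoint _
    have h5 := connectedComponent_eq_of_orbitMap_eq a x₀ i hH _ _ hii
    rw [connectedComponent_eq hc₂, connectedComponent_eq hi, h5]
  exact connectedSpace_iff_connectedComponent.mpr
    ⟨g₁, Set.eq_univ_of_forall (fun p => key p ▸ mem_connectedComponent)⟩

end

end Groth.Agent.Lib.Helper73.ConnGrp
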