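/-
helper73: the cotangent map of a local homomorphism of regular local rings; injectivity of the
cotangent map versus flatness with regular closed fibre.
-/
import Groth.Agent.Lib.Helper29.RegHom

set_option linter.style.haveILetI false
set_option linter.unusedSectionVars false
set_option linter.overlappingInstances false
set_option autoImplicit false
universe u

namespace Groth.Agent.Lib.Helper73.CotInj

open IsLocalRing Groth.Agent.Lib.Helper29.CotQuot Groth.Agent.Lib.Helper29.RegHom

section single

variable {C : Type u} [CommRing C] [IsLocalRing C]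

theorem toCotangent_sum {ι : Type*} [Fintype ι] (y : ι → maximalIdeal C) (c : ι → C) :
    (maximalIdeal C).toCotangent (∑ i, c i • y i) =
      ∑ i, residue C (c i) • (maximalIdeal C).toCotangent (y i) := by
  rw [map_sum]
  refine Finset.sum_congr rfl fun i _ => ?_
  rw [map_smul]
  rfl

theorem span_toCotangent_eq_top {ι : Type*} [Fintype ι] (y : ι → maximalIdeal C)
    (hy : Ideal.span (Set.range fun i => (y i : C)) = maximalIdeal C) :
    Submodule.span (ResidueField C) (Set.range fun i => (maximalIdeal C).toCotangent (y i)) = ⊤ := by
  rw [eq_top_iff]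
  rintro v -
  obtain ⟨m, rfl⟩ := Ideal.toCotangent_surjective _ v
  have hm : (m : C) ∈ Ideal.span (Set.range fun i => (y i : C)) := by rw [hy]; exact m.2
  obtain ⟨r, hr⟩ := (Ideal.mem_span_range_iff_exists_fun).mp hm
  have : m = ∑ i, r i • y i := by
    apply Subtype.ext
    rw [← hr]
    simp
  rw [this, toCotangent_sum]
  exact Submodule.sum_mem _ fun i _ =>
    Submodule.smul_mem _ _ (Submodule.subset_span ⟨i, rfl⟩)

theorem natCast_le_of_add_le {a b : ℕ} {D : WithBot ℕ∞}
    (h : ((a + b : ℕ) : WithBot ℕ∞) ≤ (b : WithBot ℕ∞) + D) : (a : WithBot ℕ∞) ≤ D := by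
  induction D with
  | bot =>
    rw [WithBot.add_bot] at h
    exact absurd h (by simp)
  | coe D =>
    induction D with
    | top => exact le_top
    | coe D =>
      have h' : ((a + b : ℕ) : WithBot ℕ∞) ≤ ((b + D : ℕ) : WithBot ℕ∞) := by
        refine h.trans (le_of_eq ?_)
        push_cast
        rfl
      have h'' : a + b ≤ b + D := by exact_mod_cast h'
      have : a ≤ D := by omega
      exact_mod_cast this

end single

variable (A B : Type u) [CommRing A] [IsLocalRing A] [IsNoetherianRing A] [CommRing B]
  [IsLocalRing B] [IsNoetherianRing B] [Algebra A B] [IsLocalHom (algebraMap A B)]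

/-- elementwise form of injectivity of the cotangent map `𝔪_A/𝔪_A² → 𝔪_B/𝔪_B²`. -/
def CotInjective : Prop :=
  ∀ a ∈ maximalIdeal A, algebraMap A B a ∈ maximalIdeal B ^ 2 → a ∈ maximalIdeal A ^ 2

/-- `A → κ(B)` is surjective. -/
def ResSurjective : Prop := ∀ b : B, ∃ a : A, b - algebraMap A B a ∈ maximalIdeal B

variable {A B}

theorem map_mem_maximalIdeal {a : A} (ha : a ∈ maximalIdeal A) :
    algebraMap A B a ∈ maximalIdeal B :=
  IsLocalRing.map_maximalIdeal_le (algebraMap A B) (Ideal.mem_map_of_mem _ ha)

theorem mem_maximalIdeal_of_map_mem {a : A} (ha : algebraMap A B a ∈ maximalIdeal B) :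
    a ∈ maximalIdeal A := by
  rw [IsLocalRing.mem_maximalIdeal, mem_nonunits_iff] at ha ⊢
  exact fun h => ha (h.map _)

section gens

variable {ι : Type*} [Fintype ι] (x : ι → maximalIdeal A)

/-- the images in `𝔪_B/𝔪_B²` of a family of elements of `𝔪_A`. -/
noncomputable def imgCot (i : ι) : CotangentSpace B :=
  (maximalIdeal B).toCotangent ⟨algebraMap A B (x i), map_mem_maximalIdeal (x i).2⟩

theorem toCotangent_map_sum (r : ι → A)
    (h : algebraMap A B (∑ i, r i * (x i : A)) ∈ maximalIdeal B) :
    (maximalIdeal B).toCotangent ⟨algebraMap A B (∑ i, r i * (x i : A)), h⟩ =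
      ∑ i, residue B (algebraMap A B (r i)) • imgCot (B := B) x i := by
  have : (⟨algebraMap A B (∑ i, r i * (x i : A)), h⟩ : maximalIdeal B) =
      ∑ i, algebraMap A B (r i) •
        (⟨algebraMap A B (x i), map_mem_maximalIdeal (x i).2⟩ : maximalIdeal B) := by
    apply Subtype.ext
    simp [map_sum, map_mul, Algebra.smul_def]
  rw [this, toCotangent_sum]
  rfl

theorem imageCot_map_eq_span
    (hx : Ideal.span (Set.range fun i => (x i : A)) = maximalIdeal A) :
    imageCot ((maximalIdeal A).map (algebraMap A B)) =
      Submodule.span (ResidueField B) (Set.range (imgCot (B := B) x)) := by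
  have h1 : (maximalIdeal A).map (algebraMap A B) = Ideal.span (Set.range fun i =>
      ((⟨algebraMap A B (x i), map_mem_maximalIdeal (x i).2⟩ : maximalIdeal B) : B)) := by
    have h0 : (maximalIdeal A).map (algebraMap A B) =
        (Ideal.span (Set.range fun i => (x i : A))).map (algebraMap A B) := by rw [hx]
    rw [h0, Ideal.map_span]
    congr 1
    ext b
    simp
  rw [h1, imageCot_span]
  rfl

/-- linear independence of the images of generators implies injectivity of the cotangent map. -/
theorem cotInjective_of_linearIndependent
    (hx : Ideal.span (Set.range fun i => (x i : A)) = maximalIdeal A)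
    (hli : LinearIndependent (ResidueField B) (imgCot (B := B) x)) : CotInjective A B := by
  intro a ha h2
  have ha' : a ∈ Ideal.span (Set.range fun i => (x i : A)) := by rw [hx]; exact ha
  obtain ⟨r, hr⟩ := (Ideal.mem_span_range_iff_exists_fun).mp ha'
  subst hr
  have h0 : (maximalIdeal B).toCotangent
      ⟨algebraMap A B (∑ i, r i * (x i : A)), map_mem_maximalIdeal ha⟩ = 0 := by
    rw [Ideal.toCotangent_eq_zero]
    exact h2
  rw [toCotangent_map_sum] at h0
  have hri : ∀ i, r i ∈ maximalIdeal A := by
    intro i
    have := Fintype.linearIndependent_iff.mp hli _ h0 i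
    rw [IsLocalRing.residue_eq_zero_iff] at this
    exact mem_maximalIdeal_of_map_mem this
  rw [pow_two]
  exact Ideal.sum_mem _ fun i _ => Ideal.mul_mem_mul (hri i) (x i).2

/-- conversely, if `A → κ(B)` is surjective and the family is a minimal system of generators,
injectivity of the cotangent map gives linear independence of the images. -/
theorem linearIndependent_of_cotInjective (hinj : CotInjective A B) (hs : ResSurjective A B)
    (hmin : LinearIndependent (ResidueField A) fun i => (maximalIdeal A).toCotangent (x i)) :
    LinearIndependent (ResidueField B) (imgCot (B := B) x) := by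
  rw [Fintype.linearIndependent_iff]
  intro β hβ i
  have hex : ∀ i, ∃ r : A, residue B (algebraMap A B r) = β i := by
    intro i
    obtain ⟨b, hb⟩ := residue_surjective (β i)
    obtain ⟨a, ha⟩ := hs b
    refine ⟨a, ?_⟩
    rw [← hb]
    symm
    rw [← sub_eq_zero, ← map_sub, IsLocalRing.residue_eq_zero_iff]
    exact ha
  choose r hr using hex
  have hmem : ∑ i, r i * (x i : A) ∈ maximalIdeal A :=
    Ideal.sum_mem _ fun i _ => Ideal.mul_mem_left _ _ (x i).2
  have h0 : (maximalIdeal B).toCotangent
      ⟨algebraMap A B (∑ i, r i * (x i : A)), map_mem_maximalIdeal hmem⟩ = 0 := by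
    rw [toCotangent_map_sum]
    simp only [hr]
    exact hβ
  rw [Ideal.toCotangent_eq_zero] at h0
  have h1 := hinj _ hmem h0
  have h2 : (maximalIdeal A).toCotangent (∑ i, r i • x i) = 0 := by
    rw [Ideal.toCotangent_eq_zero]
    convert h1 using 1
    simp
  rw [toCotangent_sum] at h2
  have h3 := Fintype.linearIndependent_iff.mp hmin _ h2 i
  rw [IsLocalRing.residue_eq_zero_iff] at h3
  rw [← hr i, IsLocalRing.residue_eq_zero_iff]
  exact map_mem_maximalIdeal h3

end gens

section main

variable (A B)

/-- a minimal system of generators of the maximal ideal. -/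
theorem exists_minimal_generators :
    ∃ (ι : Type u) (_ : Fintype ι) (x : ι → maximalIdeal A),
      Ideal.span (Set.range fun i => (x i : A)) = maximalIdeal A ∧
      Fintype.card ι = Module.finrank (ResidueField A) (CotangentSpace A) ∧
      LinearIndependent (ResidueField A) fun i => (maximalIdeal A).toCotangent (x i) := by
  classical
  have hfg : Submodule.FG (maximalIdeal A) := IsNoetherian.noetherian (maximalIdeal A)
  have hfin := Submodule.FG.finite_generators hfg
  letI : Fintype ↥(Submodule.generators (maximalIdeal A)) := hfin.fintype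
  let x : ↥(Submodule.generators (maximalIdeal A)) → maximalIdeal A :=
    fun i => ⟨i, Submodule.FG.generators_mem _ i.2⟩
  have hx : Ideal.span (Set.range fun i => (x i : A)) = maximalIdeal A := by
    have : (Set.range fun i => (x i : A)) = Submodule.generators (maximalIdeal A) := by
      ext a
      simp [x]
    rw [this]
    exact Submodule.span_generators (maximalIdeal A)
  have h4 : Fintype.card ↥(Submodule.generators (maximalIdeal A)) =
      Module.finrank (ResidueField A) (CotangentSpace A) := by
    rw [← spanFinrank_maximalIdeal_eq_finrank_cotangentSpace A,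
      ← Submodule.FG.generators_ncard hfg, Set.ncard_eq_toFinset_card']
    simp
  refine ⟨_, inferInstance, x, hx, h4, ?_⟩
  exact linearIndependent_of_top_le_span_of_card_eq_finrank
    (span_toCotangent_eq_top x hx).ge h4

theorem isLocalRing_fibre : IsLocalRing (B ⧸ (maximalIdeal A).map (algebraMap A B)) := by
  haveI : Nontrivial (B ⧸ (maximalIdeal A).map (algebraMap A B)) :=
    Ideal.Quotient.nontrivial_iff.mpr fun h =>
      (IsLocalRing.maximalIdeal.isMaximal B).ne_top
        (top_le_iff.mp (h ▸ IsLocalRing.map_maximalIdeal_le (algebraMap A B)))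
  exact IsLocalRing.of_surjective' (Ideal.Quotient.mk _) Ideal.Quotient.mk_surjective

/-- **(⇒)** a flat local homomorphism from a regular local ring with regular closed fibre induces
an injective cotangent map. -/
theorem cotInjective_of_flat [Module.Flat A B] [IsRegularLocalRing A]
    [IsRegularLocalRing (B ⧸ (maximalIdeal A).map (algebraMap A B))] : CotInjective A B := by
  classical
  obtain ⟨ι, _, x, hx, hcard, hmin⟩ := exists_minimal_generators A
  apply cotInjective_of_linearIndependent x hx
  rw [linearIndependent_iff_card_le_finrank_span]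
  have hmle : (maximalIdeal A).map (algebraMap A B) ≤ maximalIdeal B :=
    IsLocalRing.map_maximalIdeal_le (algebraMap A B)
  have e2 := finrank_cotangentSpace_quotient_add ((maximalIdeal A).map (algebraMap A B)) hmle
  rw [imageCot_map_eq_span x hx] at e2
  have hA : ((Module.finrank (ResidueField A) (CotangentSpace A) : ℕ) : WithBot ℕ∞) =
      ringKrullDim A := (IsRegularLocalRing.iff_finrank_cotangentSpace A).mp inferInstance
  have h0 := (IsRegularLocalRing.iff_finrank_cotangentSpace
    (B ⧸ (maximalIdeal A).map (algebraMap A B))).mp inferInstance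
  have hB : ringKrullDim B ≤
      ((Module.finrank (ResidueField B) (CotangentSpace B) : ℕ) : WithBot ℕ∞) := by
    rw [← spanFinrank_maximalIdeal_eq_finrank_cotangentSpace]
    exact ringKrullDim_le_spanFinrank_maximalIdeal B
  have hdim := ringKrullDim_eq_add A B
  rw [← hA, ← h0] at hdim
  rw [hdim] at hB
  have h5 : Module.finrank (ResidueField A) (CotangentSpace A) +
      Module.finrank (ResidueField (B ⧸ (maximalIdeal A).map (algebraMap A B)))
        (CotangentSpace (B ⧸ (maximalIdeal A).map (algebraMap A B))) ≤
      Module.finrank (ResidueField B) (CotangentSpace B) := by exact_mod_cast hB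
  unfold Set.finrank
  omega

/-- **(⇐)** a local homomorphism of regular local rings, surjective on residue fields, with
injective cotangent map is flat with regular closed fibre. -/
theorem isRegularLocalRing_fibre_and_flat_of_cotInjective [IsRegularLocalRing A]
    [IsRegularLocalRing B] (hinj : CotInjective A B) (hs : ResSurjective A B) :
    IsRegularLocalRing (B ⧸ (maximalIdeal A).map (algebraMap A B)) ∧ Module.Flat A B ∧
      ringKrullDim B = ringKrullDim A +
        ringKrullDim (B ⧸ (maximalIdeal A).map (algebraMap A B)) := by
  classical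
  haveI := isLocalRing_fibre A B
  obtain ⟨ι, _, x, hx, hcard, hmin⟩ := exists_minimal_generators A
  have hli := linearIndependent_of_cotInjective x hinj hs hmin
  have hmle : (maximalIdeal A).map (algebraMap A B) ≤ maximalIdeal B :=
    IsLocalRing.map_maximalIdeal_le (algebraMap A B)
  have e2 := finrank_cotangentSpace_quotient_add ((maximalIdeal A).map (algebraMap A B)) hmle
  rw [imageCot_map_eq_span x hx, finrank_span_eq_card hli, hcard] at e2
  have hA : ((Module.finrank (ResidueField A) (CotangentSpace A) : ℕ) : WithBot ℕ∞) =
      ringKrullDim A := (IsRegularLocalRing.iff_finrank_cotangentSpace A).mp inferInstance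
  have hB : ((Module.finrank (ResidueField B) (CotangentSpace B) : ℕ) : WithBot ℕ∞) =
      ringKrullDim B := (IsRegularLocalRing.iff_finrank_cotangentSpace B).mp inferInstance
  have hle := ringKrullDim_le_add A B
  rw [← hA, ← hB, ← e2] at hle
  have h0 := natCast_le_of_add_le hle
  have hreg : IsRegularLocalRing (B ⧸ (maximalIdeal A).map (algebraMap A B)) :=
    IsRegularLocalRing.of_spanFinrank_maximalIdeal_le _ (by
      rw [spanFinrank_maximalIdeal_eq_finrank_cotangentSpace]
      exact h0)
  have h0' := (IsRegularLocalRing.iff_finrank_cotangentSpace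
    (B ⧸ (maximalIdeal A).map (algebraMap A B))).mp hreg
  have hdim : ringKrullDim B = ringKrullDim A +
      ringKrullDim (B ⧸ (maximalIdeal A).map (algebraMap A B)) := by
    rw [← hA, ← hB, ← h0', ← e2]
    push_cast
    rw [add_comm]
  exact ⟨hreg, flat_of_regular_of_isCM A B (Groth.Agent.S5671.isCM_of_regular B) hdim, hdim⟩

end main

end Groth.Agent.Lib.Helper73.CotInj
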