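/-
helper73: finitely many generic points near a point of a locally Noetherian scheme.
* `exists_finset_generic_points`, `exists_finset_generic_points_closed` (for a closed subset `T`).
-/
import Groth.Agent.Lib.Helper73.LocalFibreDim

set_option linter.style.haveILetI false
set_option autoImplicit false
universe u
open CategoryTheory AlgebraicGeometry

namespace Groth.Agent.Lib.Helper73.SchemeDim

/-- in a locally Noetherian scheme, finitely many generizations of `z` dominate a whole
neighbourhood of `z`. -/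
theorem exists_finset_generic_points (Z : Scheme.{u}) [IsLocallyNoetherian Z] (z : Z) :
    ∃ (Φ : Finset Z) (U : Z.Opens), z ∈ U ∧ (∀ φ ∈ Φ, φ ⤳ z) ∧ ∀ u ∈ U, ∃ φ ∈ Φ, φ ⤳ u := by
  classical
  obtain ⟨_, ⟨V, hV : IsAffineOpen V, rfl⟩, hzV, -⟩ :=
    Z.isBasis_affineOpens.exists_subset_of_mem_open (Set.mem_univ z) isOpen_univ
  haveI : IsNoetherianRing Γ(Z, V) := IsLocallyNoetherian.component_noetherian ⟨V, hV⟩
  haveI : TopologicalSpace.NoetherianSpace ↥(V : Scheme.{u}) := noetherianSpace_of_isAffineOpen V hV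
  let zV : ↥(V : Scheme.{u}) := ⟨z, hzV⟩
  have hfin := TopologicalSpace.NoetherianSpace.finite_irreducibleComponents (α := ↥(V : Scheme.{u}))
  let Sbad : Set (Set ↥(V : Scheme.{u})) := {C ∈ irreducibleComponents ↥(V : Scheme.{u}) | zV ∉ C}
  let Sgood : Set (Set ↥(V : Scheme.{u})) := {C ∈ irreducibleComponents ↥(V : Scheme.{u}) | zV ∈ C}
  have hSfin : Sbad.Finite := hfin.subset (fun C hC => hC.1)
  have hGfin : Sgood.Finite := hfin.subset (fun C hC => hC.1)
  have hclosed : IsClosed (⋃₀ Sbad) := by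
    rw [Set.sUnion_eq_biUnion]
    exact hSfin.isClosed_biUnion (fun C hC => isClosed_of_mem_irreducibleComponents C hC.1)
  let U' : TopologicalSpace.Opens ↥(V : Scheme.{u}) := ⟨(⋃₀ Sbad)ᶜ, hclosed.isOpen_compl⟩
  let ι := Scheme.Opens.ι (X := Z) V
  let gen : Set ↥(V : Scheme.{u}) → ↥(V : Scheme.{u}) := fun C =>
    if h : IsIrreducible C ∧ IsClosed C then (QuasiSober.sober h.1 h.2).choose else zV
  have hgen : ∀ C ∈ irreducibleComponents ↥(V : Scheme.{u}), IsGenericPoint (gen C) C := by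
    intro C hC
    have h : IsIrreducible C ∧ IsClosed C := ⟨hC.1, isClosed_of_mem_irreducibleComponents C hC⟩
    simp only [gen, dif_pos h]
    exact (QuasiSober.sober h.1 h.2).choose_spec
  refine ⟨hGfin.toFinset.image (fun C => ι.base (gen C)), ι ''ᵁ U', ?_, ?_, ?_⟩
  · refine ⟨zV, ?_, rfl⟩
    rintro ⟨C, hC, hzC⟩
    exact hC.2 hzC
  · intro φ hφ
    rw [Finset.mem_image] at hφ
    obtain ⟨C, hC, rfl⟩ := hφ
    rw [Set.Finite.mem_toFinset] at hC
    have : gen C ⤳ zV := by
      rw [specializes_iff_mem_closure, (hgen C hC.1).def]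
      exact hC.2
    exact this.map ι.continuous
  · rintro _ ⟨u, hu, rfl⟩
    have hcomp : irreducibleComponent u ∈ irreducibleComponents ↥(V : Scheme.{u}) :=
      irreducibleComponent_mem_irreducibleComponents u
    have hzC : zV ∈ irreducibleComponent u := by
      by_contra hcon
      exact hu ⟨irreducibleComponent u, ⟨hcomp, hcon⟩, mem_irreducibleComponent⟩
    refine ⟨ι.base (gen (irreducibleComponent u)), ?_, ?_⟩
    · rw [Finset.mem_image]
      exact ⟨irreducibleComponent u, by rw [Set.Finite.mem_toFinset]; exact ⟨hcomp, hzC⟩, rfl⟩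
    · apply Specializes.map _ ι.continuous
      rw [specializes_iff_mem_closure, (hgen _ hcomp).def]
      exact mem_irreducibleComponent

/-- version for a closed subset `T` of a locally Noetherian scheme. -/
theorem exists_finset_generic_points_closed (X : Scheme.{u}) [IsLocallyNoetherian X] (T : Set X)
    (hT : IsClosed T) (ζ : X) (hζ : ζ ∈ T) :
    ∃ (Φ : Finset X) (U : X.Opens), ζ ∈ U ∧ (∀ φ ∈ Φ, φ ∈ T ∧ φ ⤳ ζ) ∧
      ∀ u ∈ U, u ∈ T → ∃ φ ∈ Φ, φ ⤳ u := by
  classical
  set ι := (Scheme.IdealSheafData.vanishingIdeal (⟨T, hT⟩ : TopologicalSpace.Closeds X)).subschemeι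
    with hι
  have hrange : Set.range ι.base = T := by
    rw [hι, Scheme.IdealSheafData.range_subschemeι, Scheme.IdealSheafData.coe_support_vanishingIdeal]
    rfl
  haveI : IsLocallyNoetherian
      (Scheme.IdealSheafData.vanishingIdeal (⟨T, hT⟩ : TopologicalSpace.Closeds X)).subscheme :=
    LocallyOfFiniteType.isLocallyNoetherian ι
  obtain ⟨w, hw⟩ := hrange.superset hζ
  obtain ⟨Φ', U', hwU', hΦ', hU'⟩ := exists_finset_generic_points _ w
  have hind := ι.isEmbedding.isInducing
  obtain ⟨t, ht, htU'⟩ := hind.isOpen_iff.mp U'.isOpen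
  refine ⟨Φ'.image ι.base, ⟨t, ht⟩, ?_, ?_, ?_⟩
  · change ζ ∈ t
    rw [← hw]
    have : w ∈ ι.base ⁻¹' t := by rw [htU']; exact hwU'
    exact this
  · intro φ hφ
    rw [Finset.mem_image] at hφ
    obtain ⟨φ', hφ', rfl⟩ := hφ
    refine ⟨hrange.subset (Set.mem_range_self φ'), ?_⟩
    rw [← hw]
    exact (hΦ' φ' hφ').map ι.continuous
  · intro u hu huT
    obtain ⟨u', rfl⟩ := hrange.superset huT
    have hu' : u' ∈ U' := by
      have : u' ∈ ι.base ⁻¹' t := hu
      rw [htU'] at this
      exact this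
    obtain ⟨φ', hφ', hsp⟩ := hU' u' hu'
    exact ⟨ι.base φ', Finset.mem_image_of_mem _ hφ', hsp.map ι.continuous⟩

end Groth.Agent.Lib.Helper73.SchemeDim
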