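/-
helper73: local dimension of closed subsets of Jacobson universally catenary schemes (EGA IV 10.6.x).
* topological helpers: `dim_mono`, `dim_image_val`, `localDim_subtype_le`, `le_localDim_subtype`.
* `EquidimClosed X`: `relHt z ζ = dim cl{ζ}` for closed points `z` of `cl{ζ}`.
* `equidimClosed_of_lft`: it holds for `X` locally of finite type over a Jacobson universally catenary base with
  equidimensional components.
* `dim_closure_eq_add`, `dim_open_inter_closure`, and `localDim_closed_core`.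
-/
import Groth.Agent.Lib.Helper73.SubspaceDim
import Groth.Agent.Lib.Helper73.ClosedImm
import Groth.Agent.Lib.Helper73.FiniteGenerics

set_option linter.style.haveILetI false
set_option autoImplicit false
universe u
open CategoryTheory AlgebraicGeometry Topology

namespace Groth.Agent.Lib.Helper73.LocalDimJac

open Groth.Agent.Lib.Helper73.SchemeDim Groth.Agent.Lib.Helper73.DimFormula
  Groth.Agent.Lib.Helper73.RelHt

section Top

variable {α : Type*} [TopologicalSpace α]

theorem dim_mono {A B : Set α} (h : A ⊆ B) : topologicalKrullDim ↥A ≤ topologicalKrullDim ↥B :=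
  (IsEmbedding.inclusion h).isInducing.topologicalKrullDim_le

theorem dim_congr {A B : Set α} (h : A = B) : topologicalKrullDim ↥A = topologicalKrullDim ↥B := by
  subst h; rfl

theorem dim_image_val (T : Set α) (C : Set ↥T) :
    topologicalKrullDim ↥C = topologicalKrullDim ↥(Subtype.val '' C : Set α) :=
  IsHomeomorph.topologicalKrullDim_eq _ (IsEmbedding.subtypeVal.homeomorphImage C).isHomeomorph

theorem dim_preimage_val (T U : Set α) :
    topologicalKrullDim ↥(Subtype.val ⁻¹' U : Set ↥T) = topologicalKrullDim ↥(U ∩ T) := by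
  rw [dim_image_val, Subtype.image_preimage_coe, Set.inter_comm]

theorem localDim_subtype_le (T : Set α) (x : α) (hx : x ∈ T) (U : Set α) (hU : IsOpen U)
    (hxU : x ∈ U) : FlatMor.localDim ↥T ⟨x, hx⟩ ≤ topologicalKrullDim ↥(U ∩ T) := by
  unfold FlatMor.localDim
  refine (iInf_le _ ⟨⟨Subtype.val ⁻¹' U, hU.preimage continuous_subtype_val⟩, hxU⟩).trans ?_
  exact (dim_preimage_val T U).le

theorem le_localDim_subtype (T : Set α) (x : α) (hx : x ∈ T) (d : WithBot ℕ∞)
    (h : ∀ U : Set α, IsOpen U → x ∈ U → d ≤ topologicalKrullDim ↥(U ∩ T)) :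
    d ≤ FlatMor.localDim ↥T ⟨x, hx⟩ := by
  unfold FlatMor.localDim
  refine le_iInf ?_
  rintro ⟨⟨W, hW⟩, hxW⟩
  obtain ⟨U, hU, rfl⟩ := isOpen_induced_iff.mp hW
  exact (h U hU hxW).trans (dim_preimage_val T U).ge

end Top

section Sch

variable {X : Scheme.{u}}

/-- all irreducible closed subsets are equidimensional at their closed points. -/
def EquidimClosed (X : Scheme.{u}) : Prop :=
  ∀ ζ z : X, ζ ⤳ z → IsClosed ({z} : Set X) →
    ((relHt z ζ : ℕ∞) : WithBot ℕ∞) = topologicalKrullDim ↥(closure ({ζ} : Set X))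

theorem equidimClosed_of_lft {S : Scheme.{u}} [IsLocallyNoetherian S] [JacobsonSpace S]
    (h2 : ∀ s : S, CAlg.IsUniversallyCatenary (S.presheaf.stalk s))
    (h3 : ∀ S' ∈ irreducibleComponents (S : Type u), ∀ s ∈ S', IsClosed ({s} : Set S) →
      topologicalKrullDim (↥S' : Type u) = topologicalKrullDim ↥{t : S | t ∈ S' ∧ t ⤳ s})
    (g : X ⟶ S) [LocallyOfFiniteType g] : EquidimClosed X := by
  intro ζ z hζz hz
  let I := Scheme.IdealSheafData.vanishingIdeal
    (⟨closure {ζ}, isClosed_closure⟩ : TopologicalSpace.Closeds X)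
  have hrange : Set.range I.subschemeι.base = closure {ζ} := by
    rw [Scheme.IdealSheafData.range_subschemeι, Scheme.IdealSheafData.coe_support_vanishingIdeal]
    rfl
  set ι := I.subschemeι with hι
  have hsp : ∀ a b : I.subscheme, a ⤳ b ↔ ι.base a ⤳ ι.base b :=
    fun a b => ι.isEmbedding.isInducing.specializes_iff.symm
  obtain ⟨ζ₀, hζ₀⟩ : ζ ∈ Set.range ι.base := by rw [hrange]; exact subset_closure rfl
  obtain ⟨z₀, hz₀⟩ : z ∈ Set.range ι.base := by
    rw [hrange]; exact specializes_iff_mem_closure.mp hζz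
  have hgen : ∀ w : I.subscheme, ζ₀ ⤳ w := by
    intro w
    rw [hsp, hζ₀]
    have : ι.base w ∈ closure {ζ} := hrange ▸ Set.mem_range_self w
    exact specializes_iff_mem_closure.mpr this
  have hz₀cl : IsClosed ({z₀} : Set I.subscheme) := by
    have : ({z₀} : Set I.subscheme) = ι.base ⁻¹' {z} := by
      ext w
      simp only [Set.mem_singleton_iff, Set.mem_preimage]
      rw [← hz₀]
      exact ⟨fun h => h ▸ rfl, fun h => ι.isEmbedding.injective h⟩
    rw [this]; exact hz.preimage ι.continuous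
  have key := relHt_closedPoint_eq_topologicalKrullDim h2 h3 (ι ≫ g) ζ₀ hgen z₀ hz₀cl
  have h1 : relHt z₀ ζ₀ = relHt z ζ := by
    apply le_antisymm
    · refine relHt_le fun c hc1 hc2 => ?_
      have := length_le_relHt' (a := z) (b := ζ) (mapSeries ι c)
        (by rw [mapSeries_head, hc1, hz₀]) (by rw [mapSeries_last, hc2, hζ₀])
      rwa [mapSeries_length] at this
    · refine relHt_le fun c hc1 hc2 => ?_
      have hc : ∀ i, c i ∈ Set.range ι.base := by
        intro i
        rw [hrange]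
        have : c i ≤ c.last := c.monotone (Fin.le_last i)
        rw [hc2] at this
        exact specializes_iff_mem_closure.mp this
      obtain ⟨c', hlen, hhead, hlast, -⟩ := exists_ltSeries_of_mem_range ι c hc
      rw [← hlen]
      refine length_le_relHt' c' ?_ ?_
      · apply ι.isEmbedding.injective; rw [hhead, hc1, hz₀]
      · apply ι.isEmbedding.injective; rw [hlast, hc2, hζ₀]
  rw [← h1, key]
  have h4 : topologicalKrullDim I.subscheme = topologicalKrullDim ↥(Set.range ι.base) :=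
    IsHomeomorph.topologicalKrullDim_eq _ ι.isEmbedding.toHomeomorph.isHomeomorph
  rw [h4]
  exact dim_congr hrange

variable [IsLocallyNoetherian X] [JacobsonSpace X]

/-- `dim cl{ζ} = dim cl{x} + codim(cl{x}, cl{ζ})`. -/
theorem dim_closure_eq_add (hE : EquidimClosed X)
    (h2 : ∀ x : X, CAlg.IsUniversallyCatenary (X.presheaf.stalk x)) {ζ x : X} (h : ζ ⤳ x) :
    topologicalKrullDim ↥(closure ({ζ} : Set X)) =
      topologicalKrullDim ↥(closure ({x} : Set X)) + ((relHt x ζ : ℕ∞) : WithBot ℕ∞) := by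
  obtain ⟨z, hz, hxz⟩ := exists_isClosed_specializes x
  rw [← hE ζ z (h.trans hxz) hz, ← hE x z hxz hz, relHt_add_of_specializes h hxz (h2 z)]
  push_cast
  rw [add_comm]

omit [IsLocallyNoetherian X] in
/-- a nonempty open subset of an irreducible closed subset has the same dimension. -/
theorem dim_open_inter_closure (hE : EquidimClosed X) {ζ : X} {U : Set X} (hU : IsOpen U)
    (hζ : ζ ∈ U) :
    topologicalKrullDim ↥(U ∩ closure ({ζ} : Set X)) =
      topologicalKrullDim ↥(closure ({ζ} : Set X)) := by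
  apply le_antisymm (dim_mono Set.inter_subset_right)
  have h1 : ζ ∈ closure (closure ({ζ} : Set X) ∩ closedPoints X) := by
    rw [closure_inter_closedPoints isClosed_closure]; exact subset_closure rfl
  obtain ⟨z, hzU, hzcl, hzclosed⟩ := mem_closure_iff.mp h1 U hU hζ
  have hζz : ζ ⤳ z := specializes_iff_mem_closure.mpr hzcl
  rw [← hE ζ z hζz hzclosed,
    ← topologicalKrullDim_generalizations_eq_relHt (closure {ζ}) ζ z rfl hzcl]
  apply dim_mono
  rintro t ⟨ht1, ht2⟩
  exact ⟨ht2.mem_open hU hzU, ht1⟩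

/-- **EGA IV 10.6.x**: the local dimension of a closed subset of a Jacobson universally catenary
scheme with equidimensional irreducible closed subsets. -/
theorem localDim_closed_core (hE : EquidimClosed X)
    (h2 : ∀ x : X, CAlg.IsUniversallyCatenary (X.presheaf.stalk x))
    (Y : Set X) (hY : IsClosed Y) (x : X) (hx : x ∈ Y) :
    FlatMor.localDim ↥Y ⟨x, hx⟩ =
        topologicalKrullDim ↥(closure ({x} : Set X)) + topologicalKrullDim ↥{t : X | t ∈ Y ∧ t ⤳ x} ∧
      FlatMor.localDim ↥Y ⟨x, hx⟩ =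
        ⨆ C ∈ {C : Set ↥Y | C ∈ irreducibleComponents ↥Y ∧ (⟨x, hx⟩ : ↥Y) ∈ C}, topologicalKrullDim ↥C ∧
      ∀ U : Set X, IsOpen U → x ∈ U →
        (∀ C ∈ irreducibleComponents ↥Y, (⟨x, hx⟩ : ↥Y) ∉ C → Disjoint (Subtype.val ⁻¹' U) C) →
        topologicalKrullDim ↥(U ∩ Y) = FlatMor.localDim ↥Y ⟨x, hx⟩ := by
  classical
  obtain ⟨Φ, U₀, hxU₀, hΦ, hcov⟩ := exists_finset_generic_points_closed X Y hY x hx
  have hΦne : Φ.Nonempty := by
    obtain ⟨φ, hφ, -⟩ := hcov x hxU₀ hx
    exact ⟨φ, hφ⟩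
  obtain ⟨φ₁, hφ₁, hmax₁⟩ := Finset.exists_max_image Φ
    (fun φ => topologicalKrullDim ↥(closure ({φ} : Set X))) hΦne
  obtain ⟨φ₀, hφ₀, hmax₀⟩ := Finset.exists_max_image Φ (fun φ => relHt x φ) hΦne
  set M := topologicalKrullDim ↥(closure ({φ₁} : Set X)) with hM
  have hQS : ∀ U : Set X, IsOpen U → QuasiSober ↥(U ∩ Y) := fun U hU =>
    quasiSober_of_closed_inter_generalizing (U ∩ Y) Y U (fun t => and_comm) hY
      (fun a ha b hba => hba.mem_open hU ha)
  have hsub : ∀ φ ∈ Φ, closure ({φ} : Set X) ⊆ Y := fun φ hφ =>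
    closure_minimal (Set.singleton_subset_iff.mpr (hΦ φ hφ).1) hY
  -- chains below some `φ ∈ Φ` are bounded by `M`
  have hchain : ∀ (c : LTSeries X) (φ : X), φ ∈ Φ → φ ⤳ c.last → (c.length : WithBot ℕ∞) ≤ M := by
    intro c φ hφ hsp
    haveI : QuasiSober ↥(closure ({φ} : Set X)) :=
      isClosed_closure.isClosedEmbedding_subtypeVal.quasiSober
    refine (length_le_topologicalKrullDim_subtype (closure {φ}) c fun i => ?_).trans (hmax₁ φ hφ)
    have : c i ≤ c.last := c.monotone (Fin.le_last i)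
    exact specializes_iff_mem_closure.mp (hsp.trans this)
  have hMle : ∀ U : Set X, IsOpen U → x ∈ U → M ≤ topologicalKrullDim ↥(U ∩ Y) := by
    intro U hU hxU
    have hφ₁U : φ₁ ∈ U := (hΦ φ₁ hφ₁).2.mem_open hU hxU
    rw [hM, ← dim_open_inter_closure hE hU hφ₁U]
    exact dim_mono (Set.inter_subset_inter_right _ (hsub φ₁ hφ₁))
  have hU₀le : topologicalKrullDim ↥((U₀ : Set X) ∩ Y) ≤ M := by
    haveI := hQS U₀ U₀.isOpen
    apply topologicalKrullDim_subtype_le
    intro c hc
    obtain ⟨φ, hφ, hsp⟩ := hcov c.last (hc _).1 (hc _).2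
    exact hchain c φ hφ hsp
  have hloc : FlatMor.localDim ↥Y ⟨x, hx⟩ = M :=
    le_antisymm ((localDim_subtype_le Y x hx U₀ U₀.isOpen hxU₀).trans hU₀le)
      (le_localDim_subtype Y x hx M hMle)
  -- irreducible components of `Y`
  have hcomp : ∀ C ∈ irreducibleComponents ↥Y,
      ∃ ζ : X, ζ ∈ Y ∧ Subtype.val '' C = closure ({ζ} : Set X) := by
    intro C hC
    haveI : QuasiSober ↥Y := hY.isClosedEmbedding_subtypeVal.quasiSober
    have hCcl : IsClosed C := isClosed_of_mem_irreducibleComponents C hC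
    have hCirr : IsIrreducible C := hC.1
    obtain ⟨ζ, hζ⟩ := QuasiSober.sober hCirr hCcl
    refine ⟨ζ.1, ζ.2, ?_⟩
    rw [← hζ.def, ← hY.isClosedEmbedding_subtypeVal.closure_image_eq, Set.image_singleton]
  have h2' : (⨆ C ∈ {C : Set ↥Y | C ∈ irreducibleComponents ↥Y ∧ (⟨x, hx⟩ : ↥Y) ∈ C},
      topologicalKrullDim ↥C) = M := by
    apply le_antisymm
    · refine iSup₂_le ?_
      rintro C ⟨hC, hxC⟩
      obtain ⟨ζ, hζY, hζ⟩ := hcomp C hC
      have hζx : ζ ⤳ x := by
        rw [specializes_iff_mem_closure, ← hζ]; exact ⟨⟨x, hx⟩, hxC, rfl⟩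
      obtain ⟨φ, hφ, hφζ⟩ := hcov ζ (hζx.mem_open U₀.isOpen hxU₀) hζY
      rw [dim_image_val, hζ]
      exact (dim_mono (closure_minimal
        (Set.singleton_subset_iff.mpr (specializes_iff_mem_closure.mp hφζ)) isClosed_closure)).trans
        (hmax₁ φ hφ)
    · have hφ₁Y := (hΦ φ₁ hφ₁).1
      set C := irreducibleComponent (⟨φ₁, hφ₁Y⟩ : ↥Y) with hCdef
      have hC : C ∈ irreducibleComponents ↥Y := irreducibleComponent_mem_irreducibleComponents _
      obtain ⟨ζ, hζY, hζ⟩ := hcomp C hC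
      have hφ₁C : φ₁ ∈ closure ({ζ} : Set X) := by
        rw [← hζ]; exact ⟨⟨φ₁, hφ₁Y⟩, mem_irreducibleComponent, rfl⟩
      have hxC : (⟨x, hx⟩ : ↥Y) ∈ C := by
        have : x ∈ Subtype.val '' C := by
          rw [hζ]
          exact specializes_iff_mem_closure.mp
            ((specializes_iff_mem_closure.mpr hφ₁C).trans (hΦ φ₁ hφ₁).2)
        obtain ⟨⟨x', hx'⟩, hmem, heq⟩ := this
        simp only at heq
        subst heq
        exact hmem
      refine le_trans ?_ (le_iSup₂ (f := fun (C : Set ↥Y)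
        (_ : C ∈ {C : Set ↥Y | C ∈ irreducibleComponents ↥Y ∧ (⟨x, hx⟩ : ↥Y) ∈ C}) =>
          topologicalKrullDim ↥C) C ⟨hC, hxC⟩)
      rw [dim_image_val, hζ]
      exact dim_mono (closure_minimal (Set.singleton_subset_iff.mpr hφ₁C) isClosed_closure)
  have h1' : topologicalKrullDim ↥(closure ({x} : Set X)) +
      topologicalKrullDim ↥{t : X | t ∈ Y ∧ t ⤳ x} = M := by
    have hG : topologicalKrullDim ↥{t : X | t ∈ Y ∧ t ⤳ x} = ((relHt x φ₀ : ℕ∞) : WithBot ℕ∞) := by
      haveI : QuasiSober ↥{t : X | t ∈ Y ∧ t ⤳ x} :=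
        quasiSober_of_closed_inter_generalizing _ Y {t | t ⤳ x} (fun t => Iff.rfl) hY
          (fun a ha b hba => hba.trans ha)
      apply le_antisymm
      · apply topologicalKrullDim_subtype_le
        intro c hc
        obtain ⟨φ, hφ, hsp⟩ := hcov c.last ((hc _).2.mem_open U₀.isOpen hxU₀) (hc _).1
        have h5 := length_le_relHt_of_le_of_le (anti X) c (a := x) (b := φ) (hc 0).2 hsp
        calc (c.length : WithBot ℕ∞) ≤ ((relHt x φ : ℕ∞) : WithBot ℕ∞) := by exact_mod_cast h5
          _ ≤ _ := by exact_mod_cast hmax₀ φ hφ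
      · rw [← topologicalKrullDim_generalizations_eq_relHt (closure {φ₀}) φ₀ x rfl
          (specializes_iff_mem_closure.mp (hΦ φ₀ hφ₀).2)]
        apply dim_mono
        rintro t ⟨ht1, ht2⟩
        exact ⟨hsub φ₀ hφ₀ ht1, ht2⟩
    rw [hG]
    apply le_antisymm
    · rw [← dim_closure_eq_add hE h2 (hΦ φ₀ hφ₀).2]; exact hmax₁ φ₀ hφ₀
    · rw [hM, dim_closure_eq_add hE h2 (hΦ φ₁ hφ₁).2]
      exact add_le_add le_rfl (by exact_mod_cast hmax₀ φ₁ hφ₁)
  have h3' : ∀ U : Set X, IsOpen U → x ∈ U →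
      (∀ C ∈ irreducibleComponents ↥Y, (⟨x, hx⟩ : ↥Y) ∉ C → Disjoint (Subtype.val ⁻¹' U) C) →
      topologicalKrullDim ↥(U ∩ Y) = M := by
    intro U hU hxU hgood
    apply le_antisymm _ (hMle U hU hxU)
    haveI := hQS U hU
    apply topologicalKrullDim_subtype_le
    intro c hc
    have htY : c.last ∈ Y := (hc _).2
    set C := irreducibleComponent (⟨c.last, htY⟩ : ↥Y) with hCdef
    have hC : C ∈ irreducibleComponents ↥Y := irreducibleComponent_mem_irreducibleComponents _
    obtain ⟨ζ, hζY, hζ⟩ := hcomp C hC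
    have hxC : (⟨x, hx⟩ : ↥Y) ∈ C := by
      by_contra hcon
      have := hgood C hC hcon
      exact Set.disjoint_left.mp this
        (show (⟨c.last, htY⟩ : ↥Y) ∈ Subtype.val ⁻¹' U from (hc _).1) mem_irreducibleComponent
    have hζx : ζ ⤳ x := by
      rw [specializes_iff_mem_closure, ← hζ]; exact ⟨⟨x, hx⟩, hxC, rfl⟩
    have hζt : ζ ⤳ c.last := by
      rw [specializes_iff_mem_closure, ← hζ]
      exact ⟨⟨c.last, htY⟩, mem_irreducibleComponent, rfl⟩
    obtain ⟨φ, hφ, hφζ⟩ := hcov ζ (hζx.mem_open U₀.isOpen hxU₀) hζY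
    exact hchain c φ hφ (hφζ.trans hζt)
  refine ⟨by rw [hloc, h1'], by rw [hloc, h2'], fun U hU hxU hgood => ?_⟩
  rw [hloc]
  exact h3' U hU hxU hgood

end Sch

end Groth.Agent.Lib.Helper73.LocalDimJac
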