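/-
helper73: local fibre dimension of smooth morphisms of relative dimension `n`.
-/
import Groth.Agent.Lib.Helper73.FibreDimRing
import Groth.Agent.Lib.Helper62.DimLoc7
import Mathlib.AlgebraicGeometry.Morphisms.Smooth

set_option linter.style.haveILetI false
set_option autoImplicit false
universe u
open CategoryTheory CategoryTheory.Limits AlgebraicGeometry TensorProduct KaehlerDifferential

namespace Groth.Agent.Lib.Helper73.SmoothFibreDim

open Groth.Agent.Lib.Helper73.SchemeDim Groth.Agent.Lib.Helper73.FibreDimRing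
  Groth.Agent.Lib.Helper73.FibreDimRetro

variable {X S : Scheme.{u}}

/-- the local fibre dimension computed on affine charts. -/
theorem fibreDimAt_SpecMap_appLE (f : X ⟶ S) [LocallyOfFiniteType f] {V : S.Opens}
    (hV : IsAffineOpen V) {W : X.Opens} (hW : IsAffineOpen W) (e : W ≤ f ⁻¹ᵁ V)
    (q : Spec Γ(X, W)) :
    FlatMor.fibreDimAt (Spec.map (f.appLE V W e)) q =
      FlatMor.fibreDimAt f (hW.fromSpec.base q) := by
  have hcomm := IsAffineOpen.SpecMap_appLE_fromSpec f hV hW e
  haveI : LocallyOfFiniteType (Spec.map (f.appLE V W e) ≫ hV.fromSpec) := by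
    rw [hcomm]; infer_instance
  rw [← fibreDimAt_comp_mono (Spec.map (f.appLE V W e)) hV.fromSpec q,
    congrArg (fun g => FlatMor.fibreDimAt g q) hcomm]
  exact fibreDimAt_comp_openImmersion hW.fromSpec f q

/-- a standard smooth algebra of relative dimension `n` over a field has local dimension `n`
everywhere. -/
theorem localDim_of_isStandardSmoothOfRelativeDimension (k : Type u) [Field k] (B : Type u)
    [CommRing B] [Algebra k B] (n : ℕ) [Algebra.IsStandardSmoothOfRelativeDimension n k B]
    (Q : PrimeSpectrum B) :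
    FlatMor.localDim (PrimeSpectrum B) Q = (n : WithBot ℕ∞) := by
  haveI : Nontrivial B := PrimeSpectrum.nonempty_iff_nontrivial.mp ⟨Q⟩
  haveI : Algebra.IsStandardSmooth k B :=
    Algebra.IsStandardSmoothOfRelativeDimension.isStandardSmooth n
  haveI : Algebra.FiniteType k B := inferInstance
  haveI : Algebra.IsSmoothAt k Q.asIdeal := by
    haveI : Algebra.FormallyEtale B (Localization.AtPrime Q.asIdeal) :=
      .of_isLocalization Q.asIdeal.primeCompl
    exact Algebra.FormallySmooth.comp k B (Localization.AtPrime Q.asIdeal)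
  have h1 := Groth.Agent.Lib.Helper62.DimLoc.localDim_eq_finrank_of_isSmoothAt k B Q.asIdeal
  haveI : Module.Free B Ω[B⁄k] := inferInstance
  have h2 : Module.finrank B Ω[B⁄k] = n := by
    have := Algebra.IsStandardSmoothOfRelativeDimension.rank_kaehlerDifferential (R := k) (S := B) n
    exact Module.finrank_eq_of_rank_eq this
  rw [Module.finrank_baseChange, h2] at h1
  exact h1

/-- the fibres of a morphism smooth of relative dimension `n` have local dimension `n` everywhere. -/
theorem fibreDimAt_eq_of_smoothOfRelativeDimension (n : ℕ) {X Y : Scheme.{u}} (f : X ⟶ Y)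
    [SmoothOfRelativeDimension n f] (x : X) : FlatMor.fibreDimAt f x = (n : WithBot ℕ∞) := by
  obtain ⟨U, hU, V, hV, hxV, e, hstd⟩ :=
    SmoothOfRelativeDimension.exists_isStandardSmoothOfRelativeDimension (n := n) (f := f) x
  haveI : Smooth f := SmoothOfRelativeDimension.smooth n f
  haveI : LocallyOfFiniteType f := inferInstance
  obtain ⟨q, rfl⟩ : x ∈ Set.range hV.fromSpec.base := by rw [hV.range_fromSpec]; exact hxV
  rw [← fibreDimAt_SpecMap_appLE f hU hV e q]
  letI : Algebra Γ(Y, U) Γ(X, V) := (f.appLE U V e).hom.toAlgebra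
  haveI : Algebra.IsStandardSmoothOfRelativeDimension n Γ(Y, U) Γ(X, V) := hstd
  have h1 : Spec.map (f.appLE U V e) =
      Spec.map (CommRingCat.ofHom (algebraMap Γ(Y, U) Γ(X, V))) := rfl
  rw [h1]
  refine (fibreDimAt_Spec_eq Γ(Y, U) Γ(X, V) q).trans ?_
  exact localDim_of_isStandardSmoothOfRelativeDimension
    ((PrimeSpectrum.asIdeal (show PrimeSpectrum Γ(X, V) from q)).under Γ(Y, U)).ResidueField _ n _

end Groth.Agent.Lib.Helper73.SmoothFibreDim
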