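/-
helper73: pointwise relative dimension of smooth morphisms; additivity of the local fibre dimension
under composition of smooth morphisms.
-/
import Groth.Agent.Lib.Helper73.SmoothFibreDim

set_option linter.style.haveILetI false
set_option autoImplicit false
universe u
open CategoryTheory CategoryTheory.Limits AlgebraicGeometry TensorProduct KaehlerDifferential RingHom

namespace Groth.Agent.Lib.Helper73.SmoothFibreDim

open Groth.Agent.Lib.Helper73.SchemeDim Groth.Agent.Lib.Helper73.FibreDimRing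
  Groth.Agent.Lib.Helper73.FibreDimRetro

variable {X Y : Scheme.{u}}

/-- `f` has a standard smooth chart of relative dimension `n` at `x`. -/
def SmoothOfRelDimAt (n : ℕ) (f : X ⟶ Y) (x : X) : Prop :=
  ∃ (U : Y.Opens) (_ : IsAffineOpen U) (V : X.Opens) (_ : IsAffineOpen V) (_ : x ∈ V)
    (e : V ≤ f ⁻¹ᵁ U), IsStandardSmoothOfRelativeDimension n (f.appLE U V e).hom

theorem exists_smoothOfRelDimAt (f : X ⟶ Y) [Smooth f] (x : X) : ∃ n, SmoothOfRelDimAt n f x := by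
  obtain ⟨U, hU, V, hV, hx, e, hstd⟩ := Smooth.exists_isStandardSmooth f x
  letI : Algebra Γ(Y, U) Γ(X, V) := (f.appLE U V e).hom.toAlgebra
  have hstd' : Algebra.IsStandardSmooth Γ(Y, U) Γ(X, V) := hstd
  obtain ⟨ι, σ, _, _, ⟨P⟩⟩ := hstd'.out
  exact ⟨P.dimension, U, hU, V, hV, hx, e, ⟨ι, σ, inferInstance, inferInstance, P, rfl⟩⟩

theorem fibreDimAt_eq_of_smoothOfRelDimAt (n : ℕ) (f : X ⟶ Y) [LocallyOfFiniteType f] (x : X)
    (h : SmoothOfRelDimAt n f x) : FlatMor.fibreDimAt f x = (n : WithBot ℕ∞) := by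
  obtain ⟨U, hU, V, hV, hxV, e, hstd⟩ := h
  obtain ⟨q, rfl⟩ : x ∈ Set.range hV.fromSpec.base := by rw [hV.range_fromSpec]; exact hxV
  rw [← fibreDimAt_SpecMap_appLE f hU hV e q]
  letI : Algebra Γ(Y, U) Γ(X, V) := (f.appLE U V e).hom.toAlgebra
  haveI : Algebra.IsStandardSmoothOfRelativeDimension n Γ(Y, U) Γ(X, V) := hstd
  have h1 : Spec.map (f.appLE U V e) =
      Spec.map (CommRingCat.ofHom (algebraMap Γ(Y, U) Γ(X, V))) := rfl
  rw [h1]
  refine (fibreDimAt_Spec_eq Γ(Y, U) Γ(X, V) q).trans ?_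
  exact localDim_of_isStandardSmoothOfRelativeDimension
    ((PrimeSpectrum.asIdeal (show PrimeSpectrum Γ(X, V) from q)).under Γ(Y, U)).ResidueField _ n _

theorem SmoothOfRelDimAt.comp {Z : Scheme.{u}} {n m : ℕ} (f : X ⟶ Y) (g : Y ⟶ Z) (x : X)
    (hf : SmoothOfRelDimAt n f x) (hg : SmoothOfRelDimAt m g (f.base x)) :
    SmoothOfRelDimAt (n + m) (f ≫ g) x := by
  obtain ⟨U₂, hU₂, V₂, hV₂, hfx₂, e₂, hf₂⟩ := hg
  obtain ⟨U₁', hU₁', V₁', hV₁', hx₁', e₁', hf₁'⟩ := hf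
  obtain ⟨r, s, hx₁, e₁, hf₁⟩ := exists_basicOpen_le_appLE_of_appLE_of_isAffine
    (isStandardSmoothOfRelativeDimension_stableUnderCompositionWithLocalizationAway n).right
    (isStandardSmoothOfRelativeDimension_localizationPreserves n).away
    x ⟨V₂, hV₂⟩ ⟨U₁', hU₁'⟩ ⟨V₁', hV₁'⟩ ⟨V₁', hV₁'⟩ hx₁' hx₁' e₁' hf₁' hfx₂
  have e : X.basicOpen s ≤ (f ≫ g) ⁻¹ᵁ U₂ :=
    le_trans e₁ <| f.preimage_mono <| le_trans (Y.basicOpen_le r) e₂
  have heq : (f ≫ g).appLE U₂ (X.basicOpen s) e = g.appLE U₂ V₂ e₂ ≫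
      CommRingCat.ofHom (algebraMap Γ(Y, V₂) Γ(Y, Y.basicOpen r)) ≫
        f.appLE (Y.basicOpen r) (X.basicOpen s) e₁ := by
    rw [RingHom.algebraMap_toAlgebra, CommRingCat.ofHom_hom,
      g.appLE_map_assoc, Scheme.Hom.appLE_comp_appLE]
  refine ⟨U₂, hU₂, X.basicOpen s, hV₁'.basicOpen s, hx₁, e, heq ▸ ?_⟩
  apply IsStandardSmoothOfRelativeDimension.comp ?_ hf₂
  have : IsLocalization.Away r Γ(Y, Y.basicOpen r) := hV₂.isLocalization_basicOpen r
  exact (isStandardSmoothOfRelativeDimension_stableUnderCompositionWithLocalizationAway n).left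
    _ r _ hf₁

/-- additivity of the local fibre dimension for smooth morphisms. -/
theorem fibreDimAt_comp_of_smooth {Z : Scheme.{u}} (f : X ⟶ Y) (g : Y ⟶ Z) [Smooth f] [Smooth g]
    (x : X) :
    FlatMor.fibreDimAt (f ≫ g) x = FlatMor.fibreDimAt f x + FlatMor.fibreDimAt g (f.base x) := by
  obtain ⟨n, hn⟩ := exists_smoothOfRelDimAt f x
  obtain ⟨m, hm⟩ := exists_smoothOfRelDimAt g (f.base x)
  rw [fibreDimAt_eq_of_smoothOfRelDimAt n f x hn, fibreDimAt_eq_of_smoothOfRelDimAt m g _ hm,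
    fibreDimAt_eq_of_smoothOfRelDimAt (n + m) (f ≫ g) x (hn.comp f g x hm)]
  push_cast
  rfl

end Groth.Agent.Lib.Helper73.SmoothFibreDim
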