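/-
helper73: the local rings of the fibres of a smooth morphism are regular; consequences for the
local rings of the source.
-/
import Groth.Agent.S1535
import Groth.Agent.Lib.Helper67.FibreStalk
import Groth.Agent.Lib.Helper49.RegAscent
import Groth.Agent.Lib.Helper35.EtaleLocalScheme

set_option linter.style.haveILetI false
set_option autoImplicit false
universe u
open CategoryTheory CategoryTheory.Limits AlgebraicGeometry

namespace Groth.Agent.Lib.Helper73.SmoothFibreReg

open Groth.Agent.Lib.Helper67.FibreStalk

variable {X Y : Scheme.{u}}

set_option backward.isDefEq.respectTransparency.types false in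
/-- the local rings of the fibres of a smooth morphism are regular. -/
theorem isRegularLocalRing_fibre_of_smooth (g : X ⟶ Y) [Smooth g] (x : X) :
    IsRegularLocalRing (X.presheaf.stalk x ⧸ fibreIdeal g x) := by
  obtain ⟨e⟩ := nonempty_ringEquiv g x
  letI : (g.fiber (g.base x)).Over (Spec (CommRingCat.of (Y.residueField (g.base x)))) :=
    ⟨g.fiberToSpecResidueField (g.base x)⟩
  haveI : Smooth ((g.fiber (g.base x)) ↘ (Spec (CommRingCat.of (Y.residueField (g.base x))))) := by
    change Smooth (g.fiberToSpecResidueField (g.base x))
    unfold Scheme.Hom.fiberToSpecResidueField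
    exact MorphismProperty.pullback_snd (P := @Smooth) _ _ inferInstance
  have h := Groth.Agent.S1535.result (Y.residueField (g.base x)) (g.fiber (g.base x)) (g.asFiber x)
  exact IsRegularLocalRing.of_ringEquiv e.symm

end Groth.Agent.Lib.Helper73.SmoothFibreReg
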