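import Groth.Prelude
import Groth.Agent.Lib.Helper73.CotInj
import Groth.Agent.Lib.Helper73.FieldDim
import Groth.Agent.Lib.Helper73.SmoothFibreReg
import Groth.Agent.Lib.Helper73.SmoothFibreDim2
import Groth.Agent.Lib.Helper73.LocalDimJac
import Groth.Agent.Lib.Helper73.DedekindUC
import Groth.Agent.Lib.Helper73.SmoothRedNormal
import Groth.Agent.Lib.Helper35.StalkChart
import Groth.Agent.Lib.Helper98.SmoothFiberAt
import Groth.Agent.Lib.Helper62.SmoothReg6

set_option linter.style.haveILetI false
set_option linter.unusedSectionVars false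
set_option autoImplicit false
universe u
open CategoryTheory CategoryTheory.Limits AlgebraicGeometry IsLocalRing TensorProduct

namespace Groth.Agent.Lib.Helper73.CotSm

noncomputable section

open Groth.Agent.Lib.Helper73.CotInj

variable {X Y : Scheme.{u}}

theorem stalkMapAt_rfl (f : X ⟶ Y) (x : X) :
    FixPt.stalkMapAt f x (f.base x) rfl = (f.stalkMap x).hom := by
  unfold FixPt.stalkMapAt
  simp

theorem cotangentMapAt_toCotangent (f : X ⟶ Y) (x : X)
    (a : maximalIdeal (Y.presheaf.stalk (f.base x))) :
    FixPt.cotangentMapAt f x (f.base x) rfl ((maximalIdeal _).toCotangent a) =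
      (maximalIdeal (X.presheaf.stalk x)).toCotangent ⟨(f.stalkMap x).hom a,
        by
          have := FixPt.maximalIdeal_le_comap_stalkMapAt f x (f.base x) rfl a.2
          rwa [Ideal.mem_comap, stalkMapAt_rfl] at this⟩ := by
  unfold FixPt.cotangentMapAt
  refine (Ideal.mapCotangent_toCotangent _ _ _ _ a).trans ?_
  congr 1
  apply Subtype.ext
  exact congrFun (congrArg DFunLike.coe (stalkMapAt_rfl f x)) (a : Y.presheaf.stalk (f.base x))

theorem cotangentMapAt_injective_iff [IsLocallyNoetherian X] [IsLocallyNoetherian Y] (f : X ⟶ Y)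
    (x : X) :
    Function.Injective (FixPt.cotangentMapAt f x (f.base x) rfl) ↔
      letI := (f.stalkMap x).hom.toAlgebra
      CotInjective (Y.presheaf.stalk (f.base x)) (X.presheaf.stalk x) := by
  letI := (f.stalkMap x).hom.toAlgebra
  constructor
  · intro hinj a ha h2
    have h1 := cotangentMapAt_toCotangent f x ⟨a, ha⟩
    have h3 : FixPt.cotangentMapAt f x (f.base x) rfl ((maximalIdeal _).toCotangent ⟨a, ha⟩) = 0 := by
      rw [h1, Ideal.toCotangent_eq_zero]
      exact h2
    have h4 := hinj (h3.trans (map_zero _).symm)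
    rwa [Ideal.toCotangent_eq_zero] at h4
  · intro h
    rw [injective_iff_map_eq_zero]
    intro v hv
    obtain ⟨a, rfl⟩ := Ideal.toCotangent_surjective _ v
    rw [cotangentMapAt_toCotangent, Ideal.toCotangent_eq_zero] at hv
    rw [Ideal.toCotangent_eq_zero]
    exact h a a.2 hv

/-- **(⇒)**: a smooth morphism to a smooth `k`-scheme induces injective cotangent maps. -/
theorem cotangentMapAt_injective_of_smooth (k : Type u) [Field k]
    (qY : Y ⟶ Spec (CommRingCat.of k)) [Smooth qY] (f : X ⟶ Y) [Smooth f] (x : X) :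
    Function.Injective (FixPt.cotangentMapAt f x (f.base x) rfl) := by
  haveI : IsLocallyNoetherian Y := LocallyOfFiniteType.isLocallyNoetherian qY
  haveI : IsLocallyNoetherian X := LocallyOfFiniteType.isLocallyNoetherian f
  rw [cotangentMapAt_injective_iff]
  letI := (f.stalkMap x).hom.toAlgebra
  haveI : IsLocalHom (algebraMap (Y.presheaf.stalk (f.base x)) (X.presheaf.stalk x)) :=
    inferInstanceAs (IsLocalHom (f.stalkMap x).hom)
  letI : Y.Over (Spec (CommRingCat.of k)) := ⟨qY⟩
  haveI : Smooth (Y ↘ Spec (CommRingCat.of k)) := ‹Smooth qY›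
  haveI hA : IsRegularLocalRing (Y.presheaf.stalk (f.base x)) :=
    Groth.Agent.S1535.result k Y (f.base x)
  haveI hfl : Module.Flat (Y.presheaf.stalk (f.base x)) (X.presheaf.stalk x) :=
    Flat.stalkMap f x
  haveI h0 : IsRegularLocalRing (X.presheaf.stalk x ⧸
      (maximalIdeal (Y.presheaf.stalk (f.base x))).map
        (algebraMap (Y.presheaf.stalk (f.base x)) (X.presheaf.stalk x))) :=
    Groth.Agent.Lib.Helper73.SmoothFibreReg.isRegularLocalRing_fibre_of_smooth f x
  exact cotInjective_of_flat _ _

section fibreRegular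

/-- the closed fibre of a ring map is a regular local ring (the Jacobson radical of the source
stands for its maximal ideal). -/
def FibreRegular {A B : Type u} [CommRing A] [CommRing B] (φ : A →+* B) : Prop :=
  IsRegularLocalRing (B ⧸ (Ideal.jacobson (⊥ : Ideal A)).map φ)

theorem fibreRegular_respectsIso : RingHom.RespectsIso @FibreRegular := by
  constructor
  · intro R S T _ _ _ f e h
    unfold FibreRegular at h ⊢
    exact IsRegularLocalRing.of_ringEquiv
      (Ideal.quotientEquiv _ _ e (by rw [← Ideal.map_map]; rfl))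
  · intro R S T _ _ _ f e h
    unfold FibreRegular at h ⊢
    have : (Ideal.jacobson (⊥ : Ideal R)).map (f.comp e.toRingHom) =
        (Ideal.jacobson (⊥ : Ideal S)).map f := by
      rw [← Ideal.map_map]
      congr 1
      have := Ideal.map_jacobson_of_bijective (f := e.toRingHom) e.bijective (I := ⊥)
      rw [this, Ideal.map_bot]
    rw [this]
    exact h

theorem fibreRegular_iff {A B : Type u} [CommRing A] [CommRing B] [IsLocalRing A]
    (φ : A →+* B) :
    FibreRegular φ ↔ IsRegularLocalRing (B ⧸ (maximalIdeal A).map φ) := by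
  unfold FibreRegular
  rw [IsLocalRing.jacobson_eq_maximalIdeal ⊥ bot_ne_top]

end fibreRegular

section closedPts

variable (k : Type u) [Field k]

/-- over an algebraically closed field, the residue field at a closed point is `k`. -/
theorem resMap_bijective_of_isClosed [IsAlgClosed k] (X : Scheme.{u})
    [X.Over (Spec (CommRingCat.of k))] [LocallyOfFiniteType (X ↘ Spec (CommRingCat.of k))] (x : X)
    (hx : IsClosed ({x} : Set X)) : Function.Bijective (Curv2.resMap k X x) := by
  letI := Curv2.resAlgebra k X x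
  have h0 := Groth.Agent.Lib.Helper73.FieldDim.trdeg_eq_zero_of_isClosed k X x hx
  haveI : Algebra.IsAlgebraic k (X.residueField x) := trdeg_eq_zero_iff.mp h0
  exact IsAlgClosed.algebraMap_bijective_of_isIntegral (k := k) (K := X.residueField x)

/-- compatibility of the structure maps `k → O_{X,x}` with a `k`-morphism. -/
theorem stalkMap_stalkMap (qX : X ⟶ Spec (CommRingCat.of k)) (qY : Y ⟶ Spec (CommRingCat.of k))
    (f : X ⟶ Y) (hf : f ≫ qY = qX) (x : X) (c : k) :
    letI : X.Over (Spec (CommRingCat.of k)) := ⟨qX⟩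
    letI : Y.Over (Spec (CommRingCat.of k)) := ⟨qY⟩
    (f.stalkMap x).hom (Curv2.stalkMap k Y (f.base x) c) = Curv2.stalkMap k X x c := by
  letI : X.Over (Spec (CommRingCat.of k)) := ⟨qX⟩
  letI : Y.Over (Spec (CommRingCat.of k)) := ⟨qY⟩
  change (f.stalkMap x).hom ((Y.presheaf.germ ⊤ (f.base x) trivial).hom
    (qY.appTop.hom ((Scheme.ΓSpecIso (CommRingCat.of k)).inv.hom c))) =
    (X.presheaf.germ ⊤ x trivial).hom (qX.appTop.hom ((Scheme.ΓSpecIso (CommRingCat.of k)).inv.hom c))
  subst hf
  rw [Scheme.Hom.comp_appTop]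
  exact Scheme.Hom.germ_stalkMap_apply f ⊤ x trivial _

/-- at a closed point of a `k`-scheme locally of finite type, `k` algebraically closed, every local
homomorphism into the local ring coming from a `k`-morphism is surjective on residue fields. -/
theorem resSurjective_of_isClosed [IsAlgClosed k] (qX : X ⟶ Spec (CommRingCat.of k))
    (qY : Y ⟶ Spec (CommRingCat.of k)) [LocallyOfFiniteType qX]
    (f : X ⟶ Y) (hf : f ≫ qY = qX) (x : X) (hx : IsClosed ({x} : Set X)) :
    letI := (f.stalkMap x).hom.toAlgebra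
    ResSurjective (Y.presheaf.stalk (f.base x)) (X.presheaf.stalk x) := by
  letI := (f.stalkMap x).hom.toAlgebra
  letI : X.Over (Spec (CommRingCat.of k)) := ⟨qX⟩
  letI : Y.Over (Spec (CommRingCat.of k)) := ⟨qY⟩
  haveI : LocallyOfFiniteType (X ↘ Spec (CommRingCat.of k)) := ‹LocallyOfFiniteType qX›
  intro b
  obtain ⟨c, hc⟩ := (resMap_bijective_of_isClosed k X x hx).2 ((X.residue x).hom b)
  refine ⟨Curv2.stalkMap k Y (f.base x) c, ?_⟩
  change b - (f.stalkMap x).hom (Curv2.stalkMap k Y (f.base x) c) ∈ _
  rw [stalkMap_stalkMap k qX qY f hf x c, ← IsLocalRing.residue_eq_zero_iff, map_sub, sub_eq_zero]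
  exact hc.symm

open Groth.Agent.Lib.Helper67.FibreStalk in
/-- **(⇐), local form**: at a closed point with injective cotangent map, a `k`-morphism of smooth
`k`-schemes (`k` algebraically closed) is smooth, and the dimension formula holds. -/
theorem mem_smoothLocus_of_cotangentMapAt_injective [IsAlgClosed k]
    (qX : X ⟶ Spec (CommRingCat.of k)) (qY : Y ⟶ Spec (CommRingCat.of k)) [Smooth qX] [Smooth qY]
    (f : X ⟶ Y) (hf : f ≫ qY = qX) [LocallyOfFinitePresentation f] (x : X)
    (hx : IsClosed ({x} : Set X))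
    (hinj : Function.Injective (FixPt.cotangentMapAt f x (f.base x) rfl)) :
    x ∈ f.smoothLocus ∧
      ringKrullDim (X.presheaf.stalk x) = ringKrullDim (Y.presheaf.stalk (f.base x)) +
        ringKrullDim (X.presheaf.stalk x ⧸ fibreIdeal f x) := by
  haveI : IsLocallyNoetherian Y := LocallyOfFiniteType.isLocallyNoetherian qY
  haveI : IsLocallyNoetherian X := LocallyOfFiniteType.isLocallyNoetherian qX
  haveI : JacobsonSpace Y := LocallyOfFiniteType.jacobsonSpace qY
  have hfx : IsClosed ({f.base x} : Set Y) :=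
    (Groth.Agent.Lib.Helper73.SchemeDim.isClosed_base_of_isClosed f hx).1
  letI := (f.stalkMap x).hom.toAlgebra
  haveI : IsLocalHom (algebraMap (Y.presheaf.stalk (f.base x)) (X.presheaf.stalk x)) :=
    inferInstanceAs (IsLocalHom (f.stalkMap x).hom)
  letI oX : X.Over (Spec (CommRingCat.of k)) := ⟨qX⟩
  letI oY : Y.Over (Spec (CommRingCat.of k)) := ⟨qY⟩
  haveI : Smooth (X ↘ Spec (CommRingCat.of k)) := ‹Smooth qX›
  haveI : Smooth (Y ↘ Spec (CommRingCat.of k)) := ‹Smooth qY›
  haveI hA : IsRegularLocalRing (Y.presheaf.stalk (f.base x)) :=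
    Groth.Agent.S1535.result k Y (f.base x)
  haveI hB : IsRegularLocalRing (X.presheaf.stalk x) := Groth.Agent.S1535.result k X x
  have hci : CotInjective (Y.presheaf.stalk (f.base x)) (X.presheaf.stalk x) :=
    (cotangentMapAt_injective_iff f x).mp hinj
  have hrs : ResSurjective (Y.presheaf.stalk (f.base x)) (X.presheaf.stalk x) :=
    resSurjective_of_isClosed k qX qY f hf x hx
  obtain ⟨hreg0, hflat, hdim⟩ := isRegularLocalRing_fibre_and_flat_of_cotInjective _ _ hci hrs
  refine ⟨?_, hdim⟩
  -- the residue field at `f x` is algebraically closed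
  have hbijY := resMap_bijective_of_isClosed k Y (f.base x) hfx
  haveI hac : IsAlgClosed (ResidueField (Y.presheaf.stalk (f.base x))) :=
    IsAlgClosed.of_ringEquiv k _ (RingEquiv.ofBijective (Curv2.resMap k Y (f.base x)) hbijY)
  -- charts
  obtain ⟨_, ⟨U, hU, rfl⟩, hxU, -⟩ :=
    Y.isBasis_affineOpens.exists_subset_of_mem_open (Set.mem_univ (f.base x)) isOpen_univ
  obtain ⟨_, ⟨V, hV, rfl⟩, hxV, hVU⟩ :=
    X.isBasis_affineOpens.exists_subset_of_mem_open hxU (U.2.preimage f.continuous)
  have hfp := f.finitePresentation_appLE hU hV hVU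
  algebraize [(f.appLE U V hVU).hom]
  rw [Scheme.Hom.mem_smoothLocus, formallySmooth_stalkMap_iff U hU V hV hVU hxV]
  let p := (hU.primeIdealOf ⟨f.base x, hVU hxV⟩).asIdeal
  let q := (hV.primeIdealOf ⟨x, hxV⟩).asIdeal
  have hpq : q.LiesOver p :=
    ⟨congr($(IsAffineOpen.comap_primeIdealOf_appLE U hU V hV hVU hxV).1).symm⟩
  letI := Localization.AtPrime.algebraOfLiesOver p q
  have hflat' : Module.Flat Γ(Y, U) (Localization.AtPrime q) :=
    (Groth.Agent.Lib.Helper35.flat_stalkMap_iff U hU V hV hVU hxV).mp hflat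
  change Algebra.IsSmoothAt Γ(Y, U) q
  refine Groth.Agent.Lib.Helper98.SmoothFiberAt.isSmoothAt_of_flat_of_residueField_tensor p q
    hflat' ?_
  -- regular closed fibre on the chart
  have h1 : FibreRegular (f.stalkMap x).hom := (fibreRegular_iff _).mpr hreg0
  have h2 := (fibreRegular_respectsIso.arrow_mk_iso_iff
    (IsAffineOpen.arrowStalkMapIso f U hU V hV hVU hxV)).mp h1
  have h3 : IsRegularLocalRing (Localization.AtPrime q ⧸
      (maximalIdeal (Localization.AtPrime p)).map
        (algebraMap (Localization.AtPrime p) (Localization.AtPrime q))) :=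
    (fibreRegular_iff _).mp h2
  let _ : Algebra (ResidueField (Localization.AtPrime p)) (Localization.AtPrime q ⧸
      (maximalIdeal (Localization.AtPrime p)).map
        (algebraMap (Localization.AtPrime p) (Localization.AtPrime q))) :=
    inferInstanceAs (Algebra (Localization.AtPrime p ⧸ maximalIdeal (Localization.AtPrime p))
      (Localization.AtPrime q ⧸ (maximalIdeal (Localization.AtPrime p)).map
        (algebraMap (Localization.AtPrime p) (Localization.AtPrime q))))
  let e₂ : (Localization.AtPrime q ⧸ (maximalIdeal (Localization.AtPrime p)).map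
        (algebraMap (Localization.AtPrime p) (Localization.AtPrime q)))
      ≃ₐ[ResidueField (Localization.AtPrime p)]
      (ResidueField (Localization.AtPrime p)) ⊗[Localization.AtPrime p] Localization.AtPrime q :=
    Algebra.TensorProduct.quotIdealMapEquivQuotTensor (Localization.AtPrime q)
      (maximalIdeal (Localization.AtPrime p))
  haveI : IsRegularLocalRing
      ((ResidueField (Localization.AtPrime p)) ⊗[Localization.AtPrime p] Localization.AtPrime q) :=
    IsRegularLocalRing.of_ringEquiv e₂.toRingEquiv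
  -- algebraically closed residue field
  obtain ⟨eY⟩ := Groth.Agent.Lib.Helper73.SmoothRedNormal.nonempty_ringEquiv_stalk hU (f.base x)
    (hVU hxV)
  haveI : IsAlgClosed (ResidueField (Localization.AtPrime p)) :=
    IsAlgClosed.of_ringEquiv _ _ (IsLocalRing.ResidueField.mapEquiv eY.symm)
  -- essentially of finite type
  haveI : Algebra.EssFiniteType Γ(Y, U) (Localization.AtPrime q) :=
    Algebra.EssFiniteType.comp Γ(Y, U) Γ(X, V) (Localization.AtPrime q)
  haveI : Algebra.EssFiniteType (Localization.AtPrime p) (Localization.AtPrime q) :=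
    Algebra.EssFiniteType.of_comp Γ(Y, U) (Localization.AtPrime p) (Localization.AtPrime q)
  exact Groth.Agent.Lib.Helper62.SmoothReg.formallySmooth_of_isRegularLocalRing
    (ResidueField (Localization.AtPrime p))
    ((ResidueField (Localization.AtPrime p)) ⊗[Localization.AtPrime p] Localization.AtPrime q)

open Groth.Agent.Lib.Helper73.LocalDimJac Groth.Agent.Lib.Helper73.SchemeDim in
/-- the local ring at a closed point of an integral scheme locally of finite type over a field has
the dimension of the scheme. -/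
theorem ringKrullDim_stalk_eq_of_isClosed (qX : X ⟶ Spec (CommRingCat.of k))
    [LocallyOfFiniteType qX] [IsIntegral X] (x : X) (hx : IsClosed ({x} : Set X)) :
    ringKrullDim (X.presheaf.stalk x) = topologicalKrullDim X := by
  have h2 : ∀ s : Spec (CommRingCat.of k),
      CAlg.IsUniversallyCatenary ((Spec (CommRingCat.of k)).presheaf.stalk s) := fun s =>
    Groth.Agent.Lib.Helper73.DedekindUC.isUniversallyCatenary_stalk_Spec k
      (Groth.Agent.Lib.Helper73.DimFormula.isUniversallyCatenary_of_field k) s
  haveI : Subsingleton ↥(Spec (CommRingCat.of k)) :=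
    inferInstanceAs (Subsingleton (PrimeSpectrum k))
  have h3 : ∀ S' ∈ irreducibleComponents (↥(Spec (CommRingCat.of k)) : Type u), ∀ s ∈ S',
      IsClosed ({s} : Set ↥(Spec (CommRingCat.of k))) →
      topologicalKrullDim (↥S' : Type u) =
        topologicalKrullDim ↥{t : ↥(Spec (CommRingCat.of k)) | t ∈ S' ∧ t ⤳ s} := by
    intro S' _ s hs _
    apply dim_congr
    ext t
    have : t = s := Subsingleton.elim _ _
    subst this
    simp [hs]
  have hE := equidimClosed_of_lft h2 h3 qX
  have hξ : ∀ y : X, genericPoint X ⤳ y := genericPoint_specializes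
  rw [ringKrullDim_stalk_eq_relHt (genericPoint X) hξ x, hE (genericPoint X) x (hξ x) hx]
  have hcl : closure ({genericPoint X} : Set X) = Set.univ := (genericPoint_spec X).def
  rw [dim_congr hcl]
  exact (Homeomorph.Set.univ X).isHomeomorph.topologicalKrullDim_eq

/-- **(⇐)**: injective cotangent maps at all closed points imply smoothness. -/
theorem smooth_of_cotangentMapAt_injective [IsAlgClosed k]
    (qX : X ⟶ Spec (CommRingCat.of k)) (qY : Y ⟶ Spec (CommRingCat.of k)) [Smooth qX] [Smooth qY]
    (f : X ⟶ Y) (hf : f ≫ qY = qX)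
    (h : ∀ x : X, IsClosed ({x} : Set X) →
      Function.Injective (FixPt.cotangentMapAt f x (f.base x) rfl)) : Smooth f := by
  haveI : IsLocallyNoetherian Y := LocallyOfFiniteType.isLocallyNoetherian qY
  haveI : LocallyOfFiniteType (f ≫ qY) := by rw [hf]; infer_instance
  haveI : LocallyOfFiniteType f := locallyOfFiniteType_of_comp f qY
  haveI : LocallyOfFinitePresentation f :=
    LocallyOfFinitePresentation.iff_locallyOfFiniteType.mpr inferInstance
  haveI : JacobsonSpace X := LocallyOfFiniteType.jacobsonSpace qX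
  rw [← Scheme.Hom.smoothLocus_eq_top_iff]
  by_contra hne
  have hZ : IsClosed ((f.smoothLocus : Set X)ᶜ) := f.smoothLocus.isOpen.isClosed_compl
  have hZne : ((f.smoothLocus : Set X)ᶜ).Nonempty := by
    rw [Set.nonempty_compl]
    intro h1
    exact hne (TopologicalSpace.Opens.ext h1)
  obtain ⟨x, hx1, hx2⟩ := nonempty_inter_closedPoints hZne hZ.isLocallyClosed
  exact hx1 (mem_smoothLocus_of_cotangentMapAt_injective k qX qY f hf x hx2 (h x hx2)).1

open Groth.Agent.Lib.Helper73.SchemeDim Groth.Agent.Lib.Helper73.SmoothFibreDim in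
/-- **(⇐)** with the relative dimension. -/
theorem smoothOfRelativeDimension_of_cotangentMapAt_injective [IsAlgClosed k]
    (qX : X ⟶ Spec (CommRingCat.of k)) (qY : Y ⟶ Spec (CommRingCat.of k)) [IsIntegral X]
    [IsIntegral Y] [Smooth qX] [Smooth qY]
    (f : X ⟶ Y) (hf : f ≫ qY = qX) (n dY : ℕ) (hY : topologicalKrullDim ↥Y = dY)
    (hX : topologicalKrullDim ↥X = ((dY + n : ℕ) : WithBot ℕ∞))
    (h : ∀ x : X, IsClosed ({x} : Set X) →
      Function.Injective (FixPt.cotangentMapAt f x (f.base x) rfl)) :
    SmoothOfRelativeDimension n f := by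
  haveI hsm : Smooth f := smooth_of_cotangentMapAt_injective k qX qY f hf h
  haveI : IsLocallyNoetherian Y := LocallyOfFiniteType.isLocallyNoetherian qY
  haveI : JacobsonSpace X := LocallyOfFiniteType.jacobsonSpace qX
  haveI : JacobsonSpace Y := LocallyOfFiniteType.jacobsonSpace qY
  have key : ∀ x' : X, IsClosed ({x'} : Set X) →
      FlatMor.fibreDimAt f x' = (n : WithBot ℕ∞) := by
    intro x' hx'
    obtain ⟨-, hdim⟩ :=
      mem_smoothLocus_of_cotangentMapAt_injective k qX qY f hf x' hx' (h x' hx')
    obtain ⟨hfx', htr⟩ := isClosed_base_of_isClosed f hx'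
    rw [ringKrullDim_stalk_eq_of_isClosed k qX x' hx',
      ringKrullDim_stalk_eq_of_isClosed k qY (f.base x') hfx', hX, hY] at hdim
    have h1 := fibreDimAt_eq f x' 0 (by rw [htr]; rfl)
    obtain ⟨e⟩ := Groth.Agent.Lib.Helper67.FibreStalk.nonempty_ringEquiv f x'
    rw [h1, ← ringKrullDim_eq_of_ringEquiv e]
    simp only [Nat.cast_zero, add_zero]
    symm
    apply add_natCast_cancel dY
    calc (n : WithBot ℕ∞) + dY = ((dY + n : ℕ) : WithBot ℕ∞) := by push_cast; rw [add_comm]
      _ = _ := hdim
      _ = _ := add_comm _ _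
  constructor
  intro x
  obtain ⟨m, U, hU, V, hV, hxV, e, hstd⟩ := exists_smoothOfRelDimAt f x
  obtain ⟨x', hx'V, hx'cl⟩ := nonempty_inter_closedPoints (Z := (V : Set X)) ⟨x, hxV⟩
    V.isOpen.isLocallyClosed
  have h1 := fibreDimAt_eq_of_smoothOfRelDimAt m f x' ⟨U, hU, V, hV, hx'V, e, hstd⟩
  rw [key x' hx'cl] at h1
  have h2 : n = m := by exact_mod_cast h1
  subst h2
  exact ⟨U, hU, V, hV, hxV, e, hstd⟩

end closedPts

end

end Groth.Agent.Lib.Helper73.CotSm
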