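/-
helper73: pointwise smoothness from flatness, regular closed fibre and trivial residue field
extension.
-/
import Groth.Agent.Lib.Helper73.CotSm

set_option linter.style.haveILetI false
set_option linter.unusedSectionVars false
set_option autoImplicit false
universe u
open CategoryTheory CategoryTheory.Limits AlgebraicGeometry IsLocalRing TensorProduct

namespace Groth.Agent.Lib.Helper73.CotSm

noncomputable section

open Groth.Agent.Lib.Helper73.CotInj

section resSurj

/-- surjectivity on "residue rings" (modulo the Jacobson radical) as a property of ring maps. -/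
def ResSurj {A B : Type u} [CommRing A] [CommRing B] (φ : A →+* B) : Prop :=
  ∀ b : B, ∃ a : A, b - φ a ∈ Ideal.jacobson (⊥ : Ideal B)

theorem resSurj_respectsIso : RingHom.RespectsIso @ResSurj := by
  constructor
  · intro R S T _ _ _ f e h t
    obtain ⟨a, ha⟩ := h (e.symm t)
    refine ⟨a, ?_⟩
    have h1 := Ideal.mem_map_of_mem e.toRingHom ha
    have h2 := Ideal.map_jacobson_of_bijective (f := e.toRingHom) e.bijective (I := ⊥)
    rw [h2, Ideal.map_bot] at h1
    simpa using h1
  · intro R S T _ _ _ f e h t
    obtain ⟨a, ha⟩ := h t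
    exact ⟨e.symm a, by simpa using ha⟩

theorem resSurj_iff {A B : Type u} [CommRing A] [CommRing B] [IsLocalRing B] (φ : A →+* B) :
    ResSurj φ ↔ ∀ b : B, ∃ a : A, b - φ a ∈ maximalIdeal B := by
  unfold ResSurj
  rw [IsLocalRing.jacobson_eq_maximalIdeal ⊥ bot_ne_top]

end resSurj

section alg

theorem formallySmooth_of_surjective_of_field (κ K : Type u) [Field κ] [Field K] [Algebra κ K]
    (h : Function.Surjective (algebraMap κ K)) : Algebra.FormallySmooth κ K := by
  rw [Algebra.FormallySmooth.iff_of_surjective h]
  have : RingHom.ker (algebraMap κ K) = ⊥ :=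
    (RingHom.injective_iff_ker_eq_bot _).mp (algebraMap κ K).injective
  rw [this]
  simp [IsIdempotentElem]

/-- a regular local ring essentially of finite type over a field, with the same residue field, is
formally smooth. -/
theorem formallySmooth_of_isRegularLocalRing' (k B : Type u) [Field k] [CommRing B] [Algebra k B]
    [Algebra.EssFiniteType k B] [IsRegularLocalRing B]
    (hres : Function.Surjective (algebraMap k (ResidueField B))) : Algebra.FormallySmooth k B := by
  let q : Ideal (Algebra.EssFiniteType.subalgebra k B) :=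
    (maximalIdeal B).comap (algebraMap (Algebra.EssFiniteType.subalgebra k B) B)
  haveI : q.IsPrime := Ideal.comap_isPrime _ _
  have hM : Algebra.EssFiniteType.submonoid k B = q.primeCompl := by
    ext x
    change IsUnit (algebraMap _ B x) ↔ ¬ (algebraMap _ B x ∈ maximalIdeal B)
    rw [IsLocalRing.mem_maximalIdeal, mem_nonunits_iff, not_not]
  haveI : IsLocalization q.primeCompl B := hM ▸ Algebra.EssFiniteType.isLocalization k B
  let e : Localization.AtPrime q ≃ₐ[Algebra.EssFiniteType.subalgebra k B] B :=
    IsLocalization.algEquiv q.primeCompl _ _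
  haveI : IsRegularLocalRing (Localization.AtPrime q) :=
    IsRegularLocalRing.of_ringEquiv e.symm.toRingEquiv
  haveI : Algebra.FormallySmooth k q.ResidueField := by
    apply formallySmooth_of_surjective_of_field
    intro z
    obtain ⟨y, rfl⟩ := residue_surjective (R := Localization.AtPrime q) z
    obtain ⟨c, hc⟩ := hres (residue B (e y))
    refine ⟨c, ?_⟩
    rw [IsScalarTower.algebraMap_apply k (Localization.AtPrime q) q.ResidueField]
    change residue _ (algebraMap k (Localization.AtPrime q) c) = residue _ y
    rw [← sub_eq_zero, ← map_sub, IsLocalRing.residue_eq_zero_iff]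
    rw [IsScalarTower.algebraMap_apply k B (ResidueField B)] at hc
    change residue B (algebraMap k B c) = residue B (e y) at hc
    rw [← sub_eq_zero, ← map_sub, IsLocalRing.residue_eq_zero_iff] at hc
    have h1 : e (algebraMap k (Localization.AtPrime q) c - y) = algebraMap k B c - e y := by
      rw [map_sub]
      congr 1
      exact (e.restrictScalars k).commutes c
    rw [← h1] at hc
    rw [IsLocalRing.mem_maximalIdeal, mem_nonunits_iff] at hc ⊢
    exact fun h => hc (h.map e)
  have hsm : Algebra.FormallySmooth k (Localization.AtPrime q) :=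
    (Groth.Agent.Lib.Helper62.SmoothReg.isSmoothAt_iff_isRegularLocalRing k
      (Algebra.EssFiniteType.subalgebra k B) q).mpr inferInstance
  exact Algebra.FormallySmooth.of_equiv (e.restrictScalars k)

theorem residueField_fibre_surjective (A B : Type u) [CommRing A] [IsLocalRing A] [CommRing B]
    [IsLocalRing B] [Algebra A B]
    [IsLocalRing (B ⧸ (maximalIdeal A).map (algebraMap A B))]
    (hs : ∀ b : B, ∃ a : A, b - algebraMap A B a ∈ maximalIdeal B) :
    letI : Algebra (ResidueField A) (B ⧸ (maximalIdeal A).map (algebraMap A B)) :=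
      inferInstanceAs (Algebra (A ⧸ maximalIdeal A) (B ⧸ (maximalIdeal A).map (algebraMap A B)))
    Function.Surjective (algebraMap (ResidueField A)
      (ResidueField (B ⧸ (maximalIdeal A).map (algebraMap A B)))) := by
  letI : Algebra (ResidueField A) (B ⧸ (maximalIdeal A).map (algebraMap A B)) :=
    inferInstanceAs (Algebra (A ⧸ maximalIdeal A) (B ⧸ (maximalIdeal A).map (algebraMap A B)))
  intro z
  obtain ⟨c, rfl⟩ := residue_surjective z
  obtain ⟨b, rfl⟩ := Ideal.Quotient.mk_surjective c
  obtain ⟨a, ha⟩ := hs b
  refine ⟨residue _ a, ?_⟩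
  change residue _ (Ideal.Quotient.mk _ (algebraMap A B a)) = residue _ _
  symm
  rw [← sub_eq_zero, ← map_sub, ← map_sub, IsLocalRing.residue_eq_zero_iff]
  haveI : IsLocalHom (Ideal.Quotient.mk ((maximalIdeal A).map (algebraMap A B))) :=
    IsLocalHom.of_surjective _ Ideal.Quotient.mk_surjective
  rw [IsLocalRing.mem_maximalIdeal, mem_nonunits_iff] at ha ⊢
  exact fun h => ha ((isUnit_map_iff _ _).mp h)

/-- for a local homomorphism essentially of finite type with regular closed fibre ring and trivial
residue field extension, the closed fibre is formally smooth over the residue field. -/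
theorem formallySmooth_residueField_tensor (A B : Type u) [CommRing A] [IsLocalRing A] [CommRing B]
    [IsLocalRing B] [Algebra A B] [Algebra.EssFiniteType A B]
    [IsRegularLocalRing (B ⧸ (maximalIdeal A).map (algebraMap A B))]
    (hs : ∀ b : B, ∃ a : A, b - algebraMap A B a ∈ maximalIdeal B) :
    Algebra.FormallySmooth (ResidueField A) (ResidueField A ⊗[A] B) := by
  letI : Algebra (ResidueField A) (B ⧸ (maximalIdeal A).map (algebraMap A B)) :=
    inferInstanceAs (Algebra (A ⧸ maximalIdeal A) (B ⧸ (maximalIdeal A).map (algebraMap A B)))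
  haveI : IsScalarTower A (ResidueField A) (B ⧸ (maximalIdeal A).map (algebraMap A B)) :=
    inferInstanceAs (IsScalarTower A (A ⧸ maximalIdeal A)
      (B ⧸ (maximalIdeal A).map (algebraMap A B)))
  let e₂ : (B ⧸ (maximalIdeal A).map (algebraMap A B)) ≃ₐ[ResidueField A]
      (ResidueField A) ⊗[A] B :=
    Algebra.TensorProduct.quotIdealMapEquivQuotTensor B (maximalIdeal A)
  haveI : Algebra.EssFiniteType (ResidueField A) (B ⧸ (maximalIdeal A).map (algebraMap A B)) :=
    inferInstanceAs (Algebra.EssFiniteType (A ⧸ maximalIdeal A)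
      (B ⧸ (maximalIdeal A).map (algebraMap A B)))
  have hsurj := residueField_fibre_surjective A B hs
  have hfs := formallySmooth_of_isRegularLocalRing' (ResidueField A)
    (B ⧸ (maximalIdeal A).map (algebraMap A B)) hsurj
  exact Algebra.FormallySmooth.of_equiv e₂

end alg

open Groth.Agent.Lib.Helper67.FibreStalk in
/-- **pointwise smoothness criterion**: flat at `x`, regular closed fibre ring at `x`, trivial
residue field extension at `x` imply smooth at `x`. -/
theorem mem_smoothLocus_of_flat_of_regular_fibre {X Y : Scheme.{u}} (f : X ⟶ Y)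
    [LocallyOfFinitePresentation f] (x : X) (hflat : (f.stalkMap x).hom.Flat)
    (hreg0 : IsRegularLocalRing (X.presheaf.stalk x ⧸ fibreIdeal f x))
    (hres : ∀ b : X.presheaf.stalk x, ∃ a : Y.presheaf.stalk (f.base x),
      b - (f.stalkMap x).hom a ∈ maximalIdeal (X.presheaf.stalk x)) :
    x ∈ f.smoothLocus := by
  obtain ⟨_, ⟨U, hU, rfl⟩, hxU, -⟩ :=
    Y.isBasis_affineOpens.exists_subset_of_mem_open (Set.mem_univ (f.base x)) isOpen_univ
  obtain ⟨_, ⟨V, hV, rfl⟩, hxV, hVU⟩ :=
    X.isBasis_affineOpens.exists_subset_of_mem_open hxU (U.2.preimage f.continuous)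
  have hfp := f.finitePresentation_appLE hU hV hVU
  algebraize [(f.appLE U V hVU).hom]
  rw [Scheme.Hom.mem_smoothLocus, formallySmooth_stalkMap_iff U hU V hV hVU hxV]
  let p := (hU.primeIdealOf ⟨f.base x, hVU hxV⟩).asIdeal
  let q := (hV.primeIdealOf ⟨x, hxV⟩).asIdeal
  have hpq : q.LiesOver p :=
    ⟨congr($(IsAffineOpen.comap_primeIdealOf_appLE U hU V hV hVU hxV).1).symm⟩
  letI := Localization.AtPrime.algebraOfLiesOver p q
  have hflat' : Module.Flat Γ(Y, U) (Localization.AtPrime q) :=
    (Groth.Agent.Lib.Helper35.flat_stalkMap_iff U hU V hV hVU hxV).mp hflat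
  change Algebra.IsSmoothAt Γ(Y, U) q
  refine Groth.Agent.Lib.Helper98.SmoothFiberAt.isSmoothAt_of_flat_of_residueField_tensor p q
    hflat' ?_
  -- regular closed fibre on the chart
  have h1 : FibreRegular (f.stalkMap x).hom := (fibreRegular_iff _).mpr hreg0
  have h2 := (fibreRegular_respectsIso.arrow_mk_iso_iff
    (IsAffineOpen.arrowStalkMapIso f U hU V hV hVU hxV)).mp h1
  haveI h3 : IsRegularLocalRing (Localization.AtPrime q ⧸
      (maximalIdeal (Localization.AtPrime p)).map
        (algebraMap (Localization.AtPrime p) (Localization.AtPrime q))) :=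
    (fibreRegular_iff _).mp h2
  -- residue surjectivity on the chart
  have r1 : ResSurj (f.stalkMap x).hom := (resSurj_iff _).mpr hres
  have r2 := (resSurj_respectsIso.arrow_mk_iso_iff
    (IsAffineOpen.arrowStalkMapIso f U hU V hV hVU hxV)).mp r1
  have r3 : ∀ b : Localization.AtPrime q, ∃ a : Localization.AtPrime p,
      b - algebraMap (Localization.AtPrime p) (Localization.AtPrime q) a ∈
        maximalIdeal (Localization.AtPrime q) := (resSurj_iff _).mp r2
  haveI : Algebra.EssFiniteType Γ(Y, U) (Localization.AtPrime q) :=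
    Algebra.EssFiniteType.comp Γ(Y, U) Γ(X, V) (Localization.AtPrime q)
  haveI : Algebra.EssFiniteType (Localization.AtPrime p) (Localization.AtPrime q) :=
    Algebra.EssFiniteType.of_comp Γ(Y, U) (Localization.AtPrime p) (Localization.AtPrime q)
  exact formallySmooth_residueField_tensor (Localization.AtPrime p) (Localization.AtPrime q) r3

end

end Groth.Agent.Lib.Helper73.CotSm
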