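/-
helper73: immediate generizations of a point inside an open set (locally Noetherian schemes), and
quasi-finiteness at a point of the closure of such a generization.
-/
import Groth.Agent.Lib.Helper73.PrimeAvoidKrull
import Groth.Agent.Lib.Helper73.QFAt
import Groth.Agent.Lib.Helper73.FiniteGenerics

set_option linter.style.haveILetI false
set_option autoImplicit false
universe u
open CategoryTheory CategoryTheory.Limits AlgebraicGeometry

namespace Groth.Agent.Lib.Helper73.ImmGen

open Groth.Agent.Lib.Helper73.DimFormula Groth.Agent.Lib.Helper73.SchemeDim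

/-- in a Noetherian local ring, a nonempty open subset of the spectrum not containing the closed point
contains a prime directly below the maximal ideal. -/
theorem exists_covBy_closedPoint_mem_open {R : Type*} [CommRing R] [IsNoetherianRing R] [IsLocalRing R]
    (W : Set (PrimeSpectrum R)) (hW : IsOpen W) (hne : W.Nonempty) :
    ∃ q ∈ W, ∀ P : PrimeSpectrum R, q < P → P = IsLocalRing.closedPoint R := by
  classical
  obtain ⟨I, hI⟩ := (PrimeSpectrum.isClosed_iff_zeroLocus_ideal _).mp hW.isClosed_compl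
  have hWI : ∀ q : PrimeSpectrum R, q ∈ W ↔ ¬ I ≤ q.asIdeal := by
    intro q
    have : q ∈ Wᶜ ↔ q ∈ PrimeSpectrum.zeroLocus (I : Set R) := by rw [hI]
    rw [Set.mem_compl_iff, PrimeSpectrum.mem_zeroLocus, SetLike.coe_subset_coe] at this
    tauto
  -- a maximal element of `W`
  have hwf : WellFoundedGT (Ideal R) := inferInstance
  obtain ⟨q₀, hq₀⟩ := hne
  let T : Set (Ideal R) := {J | ∃ q ∈ W, q.asIdeal = J}
  have hT : T.Nonempty := ⟨q₀.asIdeal, q₀, hq₀, rfl⟩
  obtain ⟨J, ⟨q, hqW, rfl⟩, hmax⟩ := hwf.wf.has_min T hT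
  refine ⟨q, hqW, ?_⟩
  intro P hqP
  by_contra hPm
  have hPlt : P < IsLocalRing.closedPoint R := by
    refine lt_of_le_of_ne ?_ hPm
    exact IsLocalRing.le_maximalIdeal P.2.ne_top
  have hco : 2 ≤ Order.coheight q := by
    let c0 : LTSeries (PrimeSpectrum R) := RelSeries.singleton _ (IsLocalRing.closedPoint R)
    let c1 : LTSeries (PrimeSpectrum R) := c0.cons P (by
      rw [RelSeries.head_singleton]; exact hPlt)
    let c2 : LTSeries (PrimeSpectrum R) := c1.cons q (by
      rw [RelSeries.head_cons]; exact hqP)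
    have h := Order.length_le_coheight_head (p := c2)
    rw [RelSeries.head_cons] at h
    exact h
  have hfin : (q.asIdeal ⊔ I).minimalPrimes.Finite :=
    Ideal.finite_minimalPrimes_of_isNoetherianRing R _
  let emb : (q.asIdeal ⊔ I).minimalPrimes → PrimeSpectrum R := fun P' => ⟨P'.1, P'.2.1.1⟩
  haveI : Fintype (q.asIdeal ⊔ I).minimalPrimes := hfin.fintype
  let S : Finset (PrimeSpectrum R) := Finset.univ.image emb
  have hS : ∀ P' ∈ S, q < P' := by
    intro P' hP'
    obtain ⟨⟨P'', hP''⟩, -, rfl⟩ := Finset.mem_image.mp hP'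
    have hle : q.asIdeal ≤ P'' := le_sup_left.trans hP''.1.2
    refine lt_of_le_of_ne hle ?_
    intro h
    have hIle : I ≤ P'' := le_sup_right.trans hP''.1.2
    apply (hWI q).mp hqW
    have : q.asIdeal = P'' := congrArg PrimeSpectrum.asIdeal h
    rw [this]; exact hIle
  obtain ⟨Q, hqQ, hQS⟩ := exists_prime_gt_not_ge q hco S hS
  have hQW : Q ∈ W := by
    rw [hWI]
    intro hIQ
    have hle : q.asIdeal ⊔ I ≤ Q.asIdeal := sup_le hqQ.le hIQ
    haveI := Q.2
    obtain ⟨P', hP'min, hP'le⟩ := Ideal.exists_minimalPrimes_le hle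
    exact hQS (emb ⟨P', hP'min⟩) (Finset.mem_image.mpr ⟨⟨P', hP'min⟩, Finset.mem_univ _, rfl⟩) hP'le
  exact hmax Q.asIdeal ⟨Q, hQW, rfl⟩ hqQ


/-- in a locally Noetherian scheme, if an open `W` contains a generization of `x` but not `x`, then it
contains an immediate generization of `x`. -/
theorem exists_immediate_generization_mem_open (X : Scheme.{u}) [IsLocallyNoetherian X] (x : X)
    (W : X.Opens) (x' : X) (hx'W : x' ∈ W) (hx'x : x' ⤳ x) :
    ∃ z : X, z ∈ W ∧ z ⤳ x ∧ ∀ w : X, z ⤳ w → w ⤳ x → w = z ∨ w = x := by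
  let R := X.presheaf.stalk x
  let j : Spec R ⟶ X := X.fromSpecStalk x
  have hcl : j.base (IsLocalRing.closedPoint R) = x := Scheme.fromSpecStalk_closedPoint
  have hrange : Set.range j.base = {y | y ⤳ x} := Scheme.range_fromSpecStalk
  have hx'r : x' ∈ Set.range j.base := by rw [hrange]; exact hx'x
  obtain ⟨p', rfl⟩ := hx'r
  obtain ⟨q, hqW, hq⟩ := exists_covBy_closedPoint_mem_open (R := R) (j.base ⁻¹' (W : Set X))
    (W.isOpen.preimage j.continuous) ⟨p', hx'W⟩
  refine ⟨j.base q, hqW, ?_, ?_⟩
  · have : j.base q ∈ Set.range j.base := Set.mem_range_self q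
    rw [hrange] at this
    exact this
  · intro w hzw hwx
    have hwr : w ∈ Set.range j.base := by rw [hrange]; exact hwx
    obtain ⟨P, rfl⟩ := hwr
    have hqP : q ⤳ P := j.isEmbedding.isInducing.specializes_iff.mp hzw
    have hle : q ≤ P := (PrimeSpectrum.le_iff_specializes q P).mpr hqP
    rcases eq_or_lt_of_le hle with h | h
    · left; rw [h]
    · right
      rw [hq P h, hcl]


/-- in a Noetherian sober space, a closed point without proper generizations is isolated. -/
theorem isOpen_singleton_of_noetherianSpace {A : Type*} [TopologicalSpace A]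
    [TopologicalSpace.NoetherianSpace A] [QuasiSober A] [T0Space A] (p : A) (hcl : IsClosed ({p} : Set A))
    (hmax : ∀ q : A, q ⤳ p → q = p) : IsOpen ({p} : Set A) := by
  have hfin := TopologicalSpace.NoetherianSpace.finite_irreducibleComponents (α := A)
  let C : Set (Set A) := {Z ∈ irreducibleComponents A | Z ≠ {p}}
  have hCfin : C.Finite := hfin.subset (fun Z hZ => hZ.1)
  have hclosed : IsClosed (⋃₀ C) := by
    rw [Set.sUnion_eq_biUnion]
    exact hCfin.isClosed_biUnion fun Z hZ => isClosed_of_mem_irreducibleComponents Z hZ.1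
  have hp : p ∉ ⋃₀ C := by
    rintro ⟨Z, ⟨hZ, hZne⟩, hpZ⟩
    obtain ⟨ξ, -, hξ⟩ := exists_maximal_closure_eq_of_mem_irreducibleComponents hZ
    have hsp : ξ ⤳ p := by rw [specializes_iff_mem_closure, hξ]; exact hpZ
    have := hmax ξ hsp
    subst this
    apply hZne
    rw [← hξ, hcl.closure_eq]
  have heq : ({p} : Set A) = (⋃₀ C)ᶜ := by
    ext a
    constructor
    · rintro rfl; exact hp
    · intro ha
      by_contra hne
      apply ha
      refine ⟨irreducibleComponent a, ⟨irreducibleComponent_mem_irreducibleComponents a, ?_⟩,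
        mem_irreducibleComponent⟩
      intro h
      have : a ∈ ({p} : Set A) := by rw [← h]; exact mem_irreducibleComponent
      exact hne this
  rw [heq]
  exact hclosed.isOpen_compl

/-- in a locally Noetherian scheme, a closed point without proper generizations is isolated. -/
theorem isOpen_singleton_of_isClosed_of_maximal (F : Scheme.{u}) [IsLocallyNoetherian F] (p : F)
    (hcl : IsClosed ({p} : Set F)) (hmax : ∀ q : F, q ⤳ p → q = p) : IsOpen ({p} : Set F) := by
  obtain ⟨_, ⟨(U : F.Opens), hU, rfl⟩, hpU, -⟩ :=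
    (F.isBasis_affineOpens).exists_subset_of_mem_open (Set.mem_univ p) isOpen_univ
  replace hU : IsAffineOpen U := hU
  haveI : IsAffine U := hU
  haveI : IsNoetherian (U : Scheme.{u}) := { }
  haveI : TopologicalSpace.NoetherianSpace (U : Scheme.{u}) := inferInstance
  have hemb : Topology.IsOpenEmbedding (U.ι.base) := U.ι.isOpenEmbedding
  let p' : (U : Scheme.{u}) := ⟨p, hpU⟩
  have hp' : U.ι.base p' = p := rfl
  have h1 : IsClosed ({p'} : Set (U : Scheme.{u})) := by
    have : ({p'} : Set (U : Scheme.{u})) = U.ι.base ⁻¹' {p} := by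
      ext a
      simp only [Set.mem_singleton_iff, Set.mem_preimage]
      rw [← hp']
      exact hemb.injective.eq_iff.symm
    rw [this]
    exact hcl.preimage U.ι.continuous
  have h2 : ∀ q : (U : Scheme.{u}), q ⤳ p' → q = p' := by
    intro q hq
    apply hemb.injective
    rw [hp']
    exact hmax _ (hq.map U.ι.continuous)
  have h3 := isOpen_singleton_of_noetherianSpace p' h1 h2
  rw [hemb.isOpen_iff_image_isOpen, Set.image_singleton] at h3
  exact h3


/-- a point closed in its fibre has no proper specialization in its fibre. -/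
theorem eq_of_specializes_of_isClosed_in_fibre {X S : Scheme.{u}} (f : X ⟶ S) (x : X)
    (hcl : IsClosed (Subtype.val ⁻¹' {x} : Set ↑(f.base ⁻¹' {f.base x}))) (w : X) (hxw : x ⤳ w)
    (hw : f.base w = f.base x) : w = x := by
  let w' : ↑(f.base ⁻¹' {f.base x}) := ⟨w, hw⟩
  let x'' : ↑(f.base ⁻¹' {f.base x}) := ⟨x, rfl⟩
  have hsp : x'' ⤳ w' := Topology.IsInducing.subtypeVal.specializes_iff.mp hxw
  have hmem : x'' ∈ (Subtype.val ⁻¹' {x} : Set ↑(f.base ⁻¹' {f.base x})) := rfl
  have := hsp.mem_closed hcl hmem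
  exact this

/-- the closure of an immediate generization `z` of `x` outside the fibre of `x` (`x` closed in its fibre)
is quasi-finite over the base at `x`. -/
theorem quasiFiniteAt_closure_of_immediate {X S : Scheme.{u}} (f : X ⟶ S) [LocallyOfFiniteType f]
    [IsLocallyNoetherian S] (x : X)
    (hcl : IsClosed (Subtype.val ⁻¹' {x} : Set ↑(f.base ⁻¹' {f.base x}))) (z : X) (hzx : z ⤳ x)
    (hfz : f.base z ≠ f.base x) (himm : ∀ w : X, z ⤳ w → w ⤳ x → w = z ∨ w = x) :
    ∃ (I : X.IdealSheafData) (z₀ x₀ : ↑I.subscheme), I.subschemeι.base x₀ = x ∧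
      I.subschemeι.base z₀ = z ∧ (I.subschemeι ≫ f).QuasiFiniteAt x₀ := by
  let I := Scheme.IdealSheafData.vanishingIdeal (⟨closure {z}, isClosed_closure⟩ :
    TopologicalSpace.Closeds X)
  have hrange : Set.range I.subschemeι.base = closure {z} := by
    rw [Scheme.IdealSheafData.range_subschemeι, Scheme.IdealSheafData.coe_support_vanishingIdeal]
    rfl
  obtain ⟨x₀, hx₀⟩ : x ∈ Set.range I.subschemeι.base := by
    rw [hrange]; exact specializes_iff_mem_closure.mp hzx
  obtain ⟨z₀, hz₀⟩ : z ∈ Set.range I.subschemeι.base := by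
    rw [hrange]; exact subset_closure rfl
  refine ⟨I, z₀, x₀, hx₀, hz₀, ?_⟩
  set g := I.subschemeι ≫ f with hg
  have hinj : Function.Injective I.subschemeι.base := I.subschemeι.isEmbedding.injective
  have hgx₀ : g.base x₀ = f.base x := by rw [hg, Scheme.Hom.comp_apply, hx₀]
  rw [Scheme.Hom.quasiFiniteAt_iff_isOpen_singleton_asFiber]
  haveI : IsLocallyNoetherian (g.fiber (g.base x₀)) :=
    LocallyOfFiniteType.isLocallyNoetherian (g.fiberToSpecResidueField (g.base x₀))
  have hfib : ∀ a : g.fiber (g.base x₀), f.base (I.subschemeι.base ((g.fiberι (g.base x₀)).base a)) =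
      f.base x := by
    intro a
    rw [← hgx₀, ← Scheme.Hom.comp_apply]
    exact base_fiberι' g (g.base x₀) a
  have hfinj : Function.Injective (g.fiberι (g.base x₀)).base :=
    (g.fiberι (g.base x₀)).isEmbedding.injective
  apply isOpen_singleton_of_isClosed_of_maximal
  · have : ({g.asFiber x₀} : Set (g.fiber (g.base x₀))) =
        (fun a => I.subschemeι.base ((g.fiberι (g.base x₀)).base a)) ⁻¹' closure {x} := by
      ext a
      simp only [Set.mem_singleton_iff, Set.mem_preimage]
      constructor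
      · rintro rfl
        rw [Scheme.Hom.fiberι_asFiber, hx₀]
        exact subset_closure rfl
      · intro ha
        have h1 := eq_of_specializes_of_isClosed_in_fibre f x hcl _
          (specializes_iff_mem_closure.mpr ha) (hfib a)
        apply hfinj
        apply hinj
        rw [h1, Scheme.Hom.fiberι_asFiber, hx₀]
    rw [this]
    exact isClosed_closure.preimage
      (I.subschemeι.continuous.comp (g.fiberι (g.base x₀)).continuous)
  · intro q hq
    have h1 : (g.fiberι (g.base x₀)).base q ⤳ x₀ := by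
      have := hq.map (g.fiberι (g.base x₀)).continuous
      rwa [Scheme.Hom.fiberι_asFiber] at this
    have h2 : I.subschemeι.base ((g.fiberι (g.base x₀)).base q) ⤳ x := by
      rw [← hx₀]; exact h1.map I.subschemeι.continuous
    have h3 : z ⤳ I.subschemeι.base ((g.fiberι (g.base x₀)).base q) := by
      rw [specializes_iff_mem_closure, ← hrange]
      exact Set.mem_range_self _
    rcases himm _ h3 h2 with h | h
    · exact absurd ((congrArg f.base h).symm.trans (hfib q)) hfz
    · apply hfinj
      apply hinj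
      rw [h, Scheme.Hom.fiberι_asFiber, hx₀]


theorem exists_closed_subscheme_quasiFiniteAt {X S : Scheme.{u}} (f : X ⟶ S) [LocallyOfFiniteType f]
    [IsLocallyNoetherian S] (x : X)
    (hcl : IsClosed (Subtype.val ⁻¹' {x} : Set ↑(f.base ⁻¹' {f.base x}))) (U : X.Opens)
    (hx' : ∃ x' : X, x' ∈ U ∧ x' ⤳ x ∧ f.base x' ≠ f.base x) :
    ∃ (I : X.IdealSheafData) (z₀ x₀ : ↑I.subscheme), I.subschemeι.base x₀ = x ∧
      (I.subschemeι ≫ f).QuasiFiniteAt x₀ ∧
      I.subschemeι.base z₀ ∈ U ∧ I.subschemeι.base z₀ ⤳ x ∧ f.base (I.subschemeι.base z₀) ≠ f.base x := by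
  obtain ⟨x', hx'U, hx'x, hfx'⟩ := hx'
  haveI : IsLocallyNoetherian X := LocallyOfFiniteType.isLocallyNoetherian f
  let V : S.Opens := ⟨(closure {f.base x})ᶜ, isClosed_closure.isOpen_compl⟩
  let W : X.Opens := U ⊓ f ⁻¹ᵁ V
  have hnotV : ∀ w : X, w ⤳ x → f.base w ≠ f.base x → f.base w ∈ V := by
    intro w hw hne hmem
    apply hne
    have h1 : f.base x ⤳ f.base w := specializes_iff_mem_closure.mpr hmem
    have h2 : f.base w ⤳ f.base x := hw.map f.continuous
    exact (h1.antisymm h2).eq.symm
  have hx'W : x' ∈ W := ⟨hx'U, hnotV x' hx'x hfx'⟩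
  obtain ⟨z, hzW, hzx, himm⟩ := exists_immediate_generization_mem_open X x W x' hx'W hx'x
  have hfz : f.base z ≠ f.base x := by
    intro h
    have : f.base z ∈ V := hzW.2
    rw [h] at this
    exact this (subset_closure rfl)
  obtain ⟨I, z₀, x₀, hx₀, hz₀, hqf⟩ := quasiFiniteAt_closure_of_immediate f x hcl z hzx hfz himm
  refine ⟨I, z₀, x₀, hx₀, hqf, ?_, ?_, ?_⟩
  · rw [hz₀]; exact hzW.1
  · rw [hz₀]; exact hzx
  · rw [hz₀]; exact hfz

/-- in a locally Noetherian scheme, a point of the closure of an open set has a generization in it. -/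
theorem exists_specializes_of_mem_closure_open (X : Scheme.{u}) [IsLocallyNoetherian X] (U : X.Opens)
    (x : X) (hx : x ∈ closure (U : Set X)) : ∃ x' : X, x' ∈ U ∧ x' ⤳ x := by
  obtain ⟨Φ, N, hxN, hΦ, hN⟩ := exists_finset_generic_points X x
  obtain ⟨u, huN, huU⟩ := mem_closure_iff.mp hx N N.isOpen hxN
  obtain ⟨φ, hφ, hφu⟩ := hN u huN
  exact ⟨φ, hφu.mem_open U.isOpen huU, hΦ φ hφ⟩

end Groth.Agent.Lib.Helper73.ImmGen
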