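/-
helper73: dimension of the closure of a point of a scheme of finite type over a universally catenary
Noetherian local ring (the `δ` function).
-/
import Groth.Agent.Lib.Helper73.DedekindUC
import Groth.Agent.Lib.Helper73.ClosedFibreTrdeg
import Groth.Agent.Lib.Helper73.ImmGen
import Groth.Agent.Lib.Helper73.ConstructibleNhds
import Groth.Agent.Lib.Helper44.AlgzCat

set_option linter.style.haveILetI false
set_option autoImplicit false
universe u
open CategoryTheory CategoryTheory.Limits AlgebraicGeometry

namespace Groth.Agent.Lib.Helper73.DeltaDim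

open Groth.Agent.Lib.Helper73.SchemeDim Groth.Agent.Lib.Helper73.DimFormula
  Groth.Agent.Lib.Helper73.RelHt

theorem relHt_le_relHt_of_antitone {α β : Type*} [Preorder α] [Preorder β] (e : α → β)
    (he : ∀ a b : α, a < b → e b < e a) (a b : α) : relHt a b ≤ relHt (e b) (e a) := by
  refine relHt_le fun c h1 h2 => ?_
  let c' : LTSeries β := LTSeries.mk c.length (fun i => e (c i.rev)) (by
    intro i j hij
    exact he _ _ (c.strictMono (Fin.rev_lt_rev.mpr hij)))
  refine length_le_relHt' c' ?_ ?_
  · change e (c (Fin.rev 0)) = e b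
    rw [Fin.rev_zero, ← h2]; rfl
  · change e (c (Fin.rev (Fin.last _))) = e a
    rw [Fin.rev_last, ← h1]; rfl

/-- `dim A/p` as a relative height in the scheme `Spec A`, for a Noetherian local ring `A`. -/
theorem ringKrullDim_quotient_eq_relHt (A : Type u) [CommRing A] [IsNoetherianRing A] [IsLocalRing A]
    (y : Spec (CommRingCat.of A)) :
    ringKrullDim (A ⧸ (y : PrimeSpectrum A).asIdeal) =
      ((relHt (α := Spec (CommRingCat.of A))
        ((IsLocalRing.closedPoint A : PrimeSpectrum A) : Spec (CommRingCat.of A)) y : ℕ∞) : WithBot ℕ∞) := by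
  let P : PrimeSpectrum A := y
  let M : PrimeSpectrum A := IsLocalRing.closedPoint A
  rw [← Groth.Agent.Lib.Helper44.AlgzCat.coheight_eq_dim P]
  have h1 : Order.coheight P = relHt P M :=
    coheight_eq_relHt_of_isTop (fun _ _ => le_antisymm)
      (fun a => Groth.Agent.Lib.Helper44.AlgzCat.le_closedPoint a) P
  rw [h1]
  congr 1
  let toSch : PrimeSpectrum A → Spec (CommRingCat.of A) := fun p => p
  let toPS : Spec (CommRingCat.of A) → PrimeSpectrum A := fun p => p
  have hsp : ∀ a b : PrimeSpectrum A, a ≤ b ↔ toSch b ≤ toSch a := fun a b =>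
    PrimeSpectrum.le_iff_specializes a b
  have key1 : ∀ a b : PrimeSpectrum A, a < b → toSch b < toSch a := by
    intro a b hab
    exact lt_iff_le_not_ge.mpr ⟨(hsp a b).mp hab.le, fun h => hab.not_ge ((hsp b a).mpr h)⟩
  have key2 : ∀ a b : Spec (CommRingCat.of A), a < b → toPS b < toPS a := by
    intro a b hab
    have hab' := lt_iff_le_not_ge.mp hab
    exact lt_iff_le_not_ge.mpr ⟨(hsp (toPS b) (toPS a)).mpr hab'.1,
      fun h => hab'.2 ((hsp (toPS a) (toPS b)).mp h)⟩
  apply le_antisymm
  · exact relHt_le_relHt_of_antitone toSch key1 P M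
  · exact relHt_le_relHt_of_antitone toPS key2 _ _


/-- immediate generizations inside a closed subset. -/
theorem exists_immediate_generization_mem_open_of_closed (X : Scheme.{u}) [IsLocallyNoetherian X]
    (T : Set X) (hT : IsClosed T) (x : X) (W : X.Opens) (x' : X) (hx'T : x' ∈ T) (hx'W : x' ∈ W)
    (hx'x : x' ⤳ x) :
    ∃ z : X, z ∈ W ∧ z ∈ T ∧ z ⤳ x ∧ ∀ w : X, z ⤳ w → w ⤳ x → w = z ∨ w = x := by
  let I := Scheme.IdealSheafData.vanishingIdeal (⟨T, hT⟩ : TopologicalSpace.Closeds X)
  have hrange : Set.range I.subschemeι.base = T := by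
    rw [Scheme.IdealSheafData.range_subschemeι, Scheme.IdealSheafData.coe_support_vanishingIdeal]
    rfl
  haveI : IsLocallyNoetherian I.subscheme := LocallyOfFiniteType.isLocallyNoetherian I.subschemeι
  have hinj : Function.Injective I.subschemeι.base := I.subschemeι.isEmbedding.injective
  have hsp : ∀ a b : I.subscheme, a ⤳ b ↔ I.subschemeι.base a ⤳ I.subschemeι.base b :=
    fun a b => I.subschemeι.isEmbedding.isInducing.specializes_iff.symm
  have hxT : x ∈ T := hx'x.mem_closed hT hx'T
  obtain ⟨x₀, hx₀⟩ : x ∈ Set.range I.subschemeι.base := by rw [hrange]; exact hxT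
  obtain ⟨x'₀, hx'₀⟩ : x' ∈ Set.range I.subschemeι.base := by rw [hrange]; exact hx'T
  let W' : I.subscheme.Opens := ⟨I.subschemeι.base ⁻¹' W, W.isOpen.preimage I.subschemeι.continuous⟩
  have hx'₀W : x'₀ ∈ W' := by
    change I.subschemeι.base x'₀ ∈ W
    rw [hx'₀]; exact hx'W
  have hx'₀x₀ : x'₀ ⤳ x₀ := by rw [hsp, hx'₀, hx₀]; exact hx'x
  obtain ⟨z₀, hz₀W, hz₀x₀, himm⟩ :=
    Groth.Agent.Lib.Helper73.ImmGen.exists_immediate_generization_mem_open I.subscheme x₀ W' x'₀
      hx'₀W hx'₀x₀
  have hzT : I.subschemeι.base z₀ ∈ T := hrange ▸ Set.mem_range_self z₀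
  have hzx : I.subschemeι.base z₀ ⤳ x := by rw [← hx₀, ← hsp]; exact hz₀x₀
  refine ⟨I.subschemeι.base z₀, hz₀W, hzT, hzx, ?_⟩
  intro w hzw hwx
  have hwT : w ∈ T := hzw.mem_closed hT hzT
  obtain ⟨w₀, rfl⟩ : w ∈ Set.range I.subschemeι.base := by rw [hrange]; exact hwT
  rcases himm w₀ ((hsp _ _).mpr hzw) ((hsp _ _).mpr (hx₀ ▸ hwx)) with h | h
  · left; rw [h]
  · right; rw [h, hx₀]


open Groth.Agent.Lib.Helper73.ClosedFibreTrdeg Groth.Agent.Lib.Helper73.ConstructibleNhds Topology in
theorem dim_closure_eq_delta (A : Type u) [CommRing A] [IsNoetherianRing A] [IsLocalRing A]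
    (hA : CAlg.IsUniversallyCatenary A) {X : Scheme.{u}} (f : X ⟶ Spec (CommRingCat.of A))
    [LocallyOfFiniteType f] [QuasiCompact f] (x : X) (a b d : ℕ)
    (ha : ringKrullDim (A ⧸ (f.base x).asIdeal) = a)
    (hb : @Algebra.trdeg ((Spec (CommRingCat.of A)).residueField (f.base x)) (X.residueField x) _ _
      (f.residueFieldMap x).hom.toAlgebra = b)
    (hd : topologicalKrullDim ↥(closure ({x} : Set X)) = d) :
    ((closure ({x} : Set X) ∩ f.base ⁻¹' {((IsLocalRing.closedPoint A : PrimeSpectrum A) :
        ↥(Spec (CommRingCat.of A)))}).Nonempty → d = a + b) ∧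
    (closure ({x} : Set X) ∩ f.base ⁻¹' {((IsLocalRing.closedPoint A : PrimeSpectrum A) :
        ↥(Spec (CommRingCat.of A)))} = ∅ → d + 1 = a + b) := by
  set m : Spec (CommRingCat.of A) :=
    ((IsLocalRing.closedPoint A : PrimeSpectrum A) : ↥(Spec (CommRingCat.of A))) with hm
  haveI : IsLocallyNoetherian X := LocallyOfFiniteType.isLocallyNoetherian f
  haveI : CompactSpace X := QuasiCompact.compactSpace_of_compactSpace f
  haveI : QuasiSober ↥(closure ({x} : Set X)) :=
    isClosed_closure.isClosedEmbedding_subtypeVal.quasiSober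
  have hUC : ∀ s : Spec (CommRingCat.of A),
      CAlg.IsUniversallyCatenary ((Spec (CommRingCat.of A)).presheaf.stalk s) :=
    fun s => DedekindUC.isUniversallyCatenary_stalk_Spec A hA s
  have hmcl : IsClosed ({m} : Set (Spec (CommRingCat.of A))) :=
    IsLocalRing.isClosed_singleton_closedPoint A
  have hspm : ∀ s : Spec (CommRingCat.of A), s ⤳ m :=
    fun s => IsLocalRing.specializes_closedPoint (R := A) s
  have hrel : relHt m (f.base x) = (a : ℕ∞) := by
    have := ringKrullDim_quotient_eq_relHt A (f.base x)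
    rw [ha] at this
    exact_mod_cast this.symm
  have K1 : ∀ z : X, x ⤳ z → ∀ nz : ℕ,
      @Algebra.trdeg ((Spec (CommRingCat.of A)).residueField (f.base z)) (X.residueField z) _ _
        (f.residueFieldMap z).hom.toAlgebra = nz →
      relHt z x + nz = relHt (f.base z) (f.base x) + b :=
    fun z hz nz hnz => (relHt_add_trdeg_aux f hz b nz hb hnz).2 (hUC _)
  have K2 : ∀ s : Spec (CommRingCat.of A), f.base x ⤳ s →
      relHt s (f.base x) + relHt m s = a := by
    intro s hs
    rw [← hrel, relHt_add_of_specializes hs (hspm s) (hUC m)]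
  have K2a : ∀ s : Spec (CommRingCat.of A), f.base x ⤳ s → relHt s (f.base x) ≤ a :=
    fun s hs => (K2 s hs) ▸ le_self_add
  have hmlt : ∀ s : Spec (CommRingCat.of A), s ≠ m → m < s := by
    intro s hne
    rw [lt_iff_le_not_ge]
    refine ⟨hspm s, fun h => hne ?_⟩
    have h' : m ⤳ s := h
    exact h'.mem_closed hmcl rfl
  have hchain : ∀ c : LTSeries X, (∀ i, c i ∈ closure ({x} : Set X)) → ∀ nz : ℕ,
      @Algebra.trdeg ((Spec (CommRingCat.of A)).residueField (f.base c.head)) (X.residueField c.head)
        _ _ (f.residueFieldMap c.head).hom.toAlgebra = nz →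
      (c.length : ℕ∞) + nz ≤ relHt (f.base c.head) (f.base x) + b := by
    intro c hc nz hnz
    have h1 : (c.length : ℕ∞) ≤ relHt c.head x :=
      length_le_relHt_of_le (anti X) c (specializes_iff_mem_closure.mpr (hc _))
    rw [← K1 c.head (specializes_iff_mem_closure.mpr (hc 0)) nz hnz]
    gcongr
  have hlowchain : ∀ z₁ : X, x ⤳ z₁ → ∀ N : ℕ, relHt z₁ x = (N : ℕ∞) →
      ((N : ℕ) : WithBot ℕ∞) ≤ topologicalKrullDim ↥(closure ({x} : Set X)) := by
    intro z₁ hxz₁ N hN
    obtain ⟨c, hc1, hc2, hc3⟩ := exists_length_eq_relHt (a := z₁) (b := x) hxz₁ (anti X z₁ x)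
      (by rw [hN]; exact ENat.natCast_lt_top _)
    have hlen : c.length = N := by
      rw [hN] at hc3; exact_mod_cast hc3
    have := length_le_topologicalKrullDim_subtype (closure ({x} : Set X)) c (by
      intro i
      rw [← specializes_iff_mem_closure]
      have : c i ≤ c.last := c.monotone (Fin.le_last i)
      rw [hc2] at this
      exact this)
    rw [hlen] at this
    exact this
  constructor
  · intro hne
    have hup : topologicalKrullDim ↥(closure ({x} : Set X)) ≤ ((a + b : ℕ) : WithBot ℕ∞) := by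
      apply topologicalKrullDim_subtype_le
      intro c hc
      obtain ⟨nz, hnz⟩ := exists_trdeg_residueField_eq_nat' f c.head
      have h1 := hchain c hc nz hnz
      have h2 : relHt (f.base c.head) (f.base x) ≤ a :=
        K2a _ ((specializes_iff_mem_closure.mpr (hc 0)).map f.continuous)
      have h3 : (c.length : ℕ∞) ≤ (a : ℕ∞) + b :=
        le_self_add.trans (h1.trans (by gcongr))
      have h4 : c.length ≤ a + b := by exact_mod_cast h3
      exact_mod_cast h4
    have hlow : ((a + b : ℕ) : WithBot ℕ∞) ≤ topologicalKrullDim ↥(closure ({x} : Set X)) := by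
      have hTcl : IsClosed (closure ({x} : Set X) ∩ f.base ⁻¹' {m}) :=
        isClosed_closure.inter (hmcl.preimage f.continuous)
      obtain ⟨z₁, hz₁T, hz₁cl⟩ := hTcl.exists_closed_singleton hne
      have hxz₁ : x ⤳ z₁ := specializes_iff_mem_closure.mpr hz₁T.1
      have hfz₁ : f.base z₁ = m := hz₁T.2
      have hnz₁ := trdeg_eq_zero_of_closed_in_fibre f z₁ (fun w hw _ => hw.mem_closed hz₁cl rfl)
      have h1 := K1 z₁ hxz₁ 0 (by exact_mod_cast hnz₁)
      rw [hfz₁, hrel] at h1
      refine hlowchain z₁ hxz₁ (a + b) ?_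
      simpa using h1
    rw [hd] at hup hlow
    have h5 : d ≤ a + b := by exact_mod_cast hup
    have h6 : a + b ≤ d := by exact_mod_cast hlow
    omega
  · intro hemp
    have hnotm : ∀ z : X, x ⤳ z → f.base z ≠ m := by
      intro z hz hfz
      have : z ∈ closure ({x} : Set X) ∩ f.base ⁻¹' {m} := ⟨specializes_iff_mem_closure.mp hz, hfz⟩
      have h2 : z ∈ (∅ : Set X) := hemp ▸ this
      exact h2
    -- a point over an immediate generization of the closed point
    haveI : LocallyOfFinitePresentation f :=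
      LocallyOfFinitePresentation.iff_locallyOfFiniteType.mpr inferInstance
    let E : Set (Spec (CommRingCat.of A)) := f.base '' closure ({x} : Set X) ∪ (closure {f.base x})ᶜ
    have hE : IsLocallyConstructible E :=
      (f.isLocallyConstructible_image (isLocallyConstructible_of_isClosed isClosed_closure)).union
        (isLocallyConstructible_compl (isLocallyConstructible_of_isClosed isClosed_closure))
    have hnhds : E ∈ nhds (f.base x) := by
      refine mem_nhds_of_isLocallyConstructible hE (f.base x) (fun z hz => ?_)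
      by_cases hzc : z ∈ closure ({f.base x} : Set (Spec (CommRingCat.of A)))
      · left
        have : z = f.base x := ((specializes_iff_mem_closure.mpr hzc).antisymm hz).eq.symm
        rw [this]
        exact ⟨x, subset_closure rfl, rfl⟩
      · right; exact hzc
    obtain ⟨O, hOE, hOopen, hyO⟩ := mem_nhds_iff.mp hnhds
    have hmO : m ∉ O := by
      intro hmO
      rcases hOE hmO with ⟨z, hz, hfz⟩ | h
      · exact hnotm z (specializes_iff_mem_closure.mpr hz) hfz
      · exact h (specializes_iff_mem_closure.mp (hspm _))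
    obtain ⟨q, hqO, hqcl, hqm, himm⟩ := exists_immediate_generization_mem_open_of_closed
      (Spec (CommRingCat.of A)) (closure {f.base x}) isClosed_closure m ⟨O, hOopen⟩ (f.base x)
      (subset_closure rfl) hyO (hspm _)
    have hqne : q ≠ m := fun h => hmO (h ▸ hqO)
    have hyq : f.base x ⤳ q := specializes_iff_mem_closure.mpr hqcl
    obtain ⟨z₀, hz₀, hfz₀⟩ : q ∈ f.base '' closure ({x} : Set X) := by
      rcases hOE hqO with h | h
      · exact h
      · exact absurd hqcl h
    have hTcl : IsClosed (closure ({x} : Set X) ∩ f.base ⁻¹' closure {q}) :=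
      isClosed_closure.inter (isClosed_closure.preimage f.continuous)
    obtain ⟨z₁, hz₁T, hz₁cl⟩ := hTcl.exists_closed_singleton
      ⟨z₀, hz₀, by rw [Set.mem_preimage, hfz₀]; exact subset_closure rfl⟩
    have hxz₁ : x ⤳ z₁ := specializes_iff_mem_closure.mpr hz₁T.1
    have hfz₁ : f.base z₁ = q := by
      rcases himm (f.base z₁) (specializes_iff_mem_closure.mpr hz₁T.2) (hspm _) with h | h
      · exact h
      · exact absurd h (hnotm z₁ hxz₁)
    have hnz₁ := trdeg_eq_zero_of_closed_in_fibre f z₁ (fun w hw _ => hw.mem_closed hz₁cl rfl)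
    have h1 := K1 z₁ hxz₁ 0 (by exact_mod_cast hnz₁)
    rw [hfz₁] at h1
    have hmq : relHt m q = 1 := by
      refine relHt_eq_one (hmlt q hqne) ?_
      intro w hw1 hw2
      rcases himm w hw2.le hw1.le with h | h
      · rw [h] at hw2; exact lt_irrefl _ hw2
      · rw [h] at hw1; exact lt_irrefl _ hw1
    have h2 := K2 q hyq
    rw [hmq] at h2
    have hfin : relHt q (f.base x) ≠ ⊤ := ne_top_of_le_ne_top (ENat.natCast_ne_top a) (K2a q hyq)
    obtain ⟨k, hk⟩ := ENat.ne_top_iff_exists.mp hfin
    rw [← hk] at h1 h2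
    have hka : k + 1 = a := by exact_mod_cast h2
    have hlow := hlowchain z₁ hxz₁ (k + b) (by simpa using h1)
    have hup : topologicalKrullDim ↥(closure ({x} : Set X)) ≤ ((k + b : ℕ) : WithBot ℕ∞) := by
      apply topologicalKrullDim_subtype_le
      intro c hc
      obtain ⟨nz, hnz⟩ := exists_trdeg_residueField_eq_nat' f c.head
      have h3 := hchain c hc nz hnz
      have hxc : x ⤳ c.head := specializes_iff_mem_closure.mpr (hc 0)
      have h4 := K2 (f.base c.head) (hxc.map f.continuous)
      have h5 : 1 ≤ relHt m (f.base c.head) := one_le_relHt (hmlt _ (hnotm _ hxc))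
      have hfin' : relHt (f.base c.head) (f.base x) ≠ ⊤ :=
        ne_top_of_le_ne_top (ENat.natCast_ne_top a) (K2a _ (hxc.map f.continuous))
      obtain ⟨k', hk'⟩ := ENat.ne_top_iff_exists.mp hfin'
      rw [← hk'] at h3 h4
      have h6 : (k' : ℕ∞) + 1 ≤ a := by
        rw [← h4]; gcongr
      have h7 : k' + 1 ≤ a := by exact_mod_cast h6
      have h8 : (c.length : ℕ∞) ≤ (k' : ℕ∞) + b := le_self_add.trans h3
      have h9 : c.length ≤ k' + b := by exact_mod_cast h8
      have : c.length ≤ k + b := by omega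
      exact_mod_cast this
    rw [hd] at hup hlow
    have h5 : d ≤ k + b := by exact_mod_cast hup
    have h6 : k + b ≤ d := by exact_mod_cast hlow
    omega

end Groth.Agent.Lib.Helper73.DeltaDim
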