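import Mathlib
import Groth.Prelude.Def_Flat
import Groth.Prelude.Def_BlowUp2
import Groth.Agent.Lib.Helper29.TopDimLocalCover
import Groth.Agent.Lib.Helper29.TopDimZero

set_option autoImplicit false
universe u
open CategoryTheory CategoryTheory.Limits AlgebraicGeometry TopologicalSpace

namespace Groth.Agent.Lib.Helper73.EffCartierDim

/-- dimension of an affine open subset is the Krull dimension of its ring of sections. -/
theorem dim_affineOpen {X : Scheme.{u}} (U : X.Opens) (hU : IsAffineOpen U) :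
    topologicalKrullDim (U : Set X) = ringKrullDim Γ(X, U) := by
  rw [← PrimeSpectrum.topologicalKrullDim_eq_ringKrullDim]
  exact IsHomeomorph.topologicalKrullDim_eq _ (Scheme.homeoOfIso hU.isoSpec).isHomeomorph

/-- dimension of the range of an open immersion. -/
theorem dim_opensRange {W D : Scheme.{u}} (j : W ⟶ D) [IsOpenImmersion j] :
    topologicalKrullDim (j.opensRange : Set D) = topologicalKrullDim W := by
  symm
  exact IsHomeomorph.topologicalKrullDim_eq _
    (j.isOpenEmbedding.isEmbedding.toHomeomorph).isHomeomorph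

/-- dimension of the preimage of an affine open in the closed subscheme of an ideal sheaf. -/
theorem dim_subscheme_preimage {S : Scheme.{u}} (𝓘 : S.IdealSheafData) (W : S.affineOpens) :
    topologicalKrullDim ((𝓘.subschemeι ⁻¹ᵁ W.1 : 𝓘.subscheme.Opens) : Set 𝓘.subscheme) =
      ringKrullDim (Γ(S, W.1) ⧸ 𝓘.ideal W) := by
  rw [← 𝓘.opensRange_subschemeCover_map W, dim_opensRange,
    ← PrimeSpectrum.topologicalKrullDim_eq_ringKrullDim]
  rfl

theorem localDim_subscheme_add_one_le {S : Scheme.{u}} (𝓘 : S.IdealSheafData)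
    (h𝓘 : BlowUp.IsEffCartierIdeal 𝓘) (d : 𝓘.subscheme) (U : S.Opens)
    (hU : 𝓘.subschemeι d ∈ U) :
    FlatMor.localDim 𝓘.subscheme d + 1 ≤ topologicalKrullDim (U : Set S) := by
  obtain ⟨V, hsV, f, hf, hIV⟩ := h𝓘 (𝓘.subschemeι d)
  obtain ⟨g, hgU, hsg⟩ := V.2.exists_basicOpen_le ⟨𝓘.subschemeι d, hU⟩ hsV
  have hIW : 𝓘.ideal (S.affineBasicOpen g) =
      Ideal.span {(S.presheaf.map (homOfLE <| S.basicOpen_le g).op).hom f} := by
    rw [← 𝓘.map_ideal_basicOpen V g, hIV, Ideal.map_span, Set.image_singleton]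
  have hfW : (S.presheaf.map (homOfLE <| S.basicOpen_le g).op).hom f ∈
      nonZeroDivisors Γ(S, S.basicOpen g) := by
    have hloc := V.2.isLocalization_basicOpen g
    exact IsLocalization.map_nonZeroDivisors_le (.powers g) _ ⟨f, hf, rfl⟩
  have h1 : ringKrullDim (Γ(S, (S.affineBasicOpen g).1) ⧸ 𝓘.ideal (S.affineBasicOpen g)) + 1 ≤
      ringKrullDim Γ(S, (S.affineBasicOpen g).1) := by
    have := ringKrullDim_quotient_succ_le_of_nonZeroDivisor hfW
    rw [← hIW] at this
    exact this
  have h2 : topologicalKrullDim (S.basicOpen g : Set S) ≤ topologicalKrullDim (U : Set S) :=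
    Groth.Agent.Lib.Helper29.dim_mono_of_subset hgU
  have h3 : FlatMor.localDim 𝓘.subscheme d ≤
      ringKrullDim (Γ(S, (S.affineBasicOpen g).1) ⧸ 𝓘.ideal (S.affineBasicOpen g)) := by
    rw [← dim_subscheme_preimage 𝓘 (S.affineBasicOpen g)]
    exact Groth.Agent.Lib.Helper29.localDim_le_dim_of_mem d _ hsg
  calc FlatMor.localDim 𝓘.subscheme d + 1
      ≤ ringKrullDim (Γ(S, (S.affineBasicOpen g).1) ⧸ 𝓘.ideal (S.affineBasicOpen g)) + 1 := by
        gcongr
    _ ≤ ringKrullDim Γ(S, (S.affineBasicOpen g).1) := h1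
    _ = topologicalKrullDim (S.basicOpen g : Set S) :=
        (dim_affineOpen _ (S.affineBasicOpen g).2).symm
    _ ≤ _ := h2

end Groth.Agent.Lib.Helper73.EffCartierDim
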