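/-
helper73: core of EGA IV 13.3.x (closed irreducible subsets of an equidimensional morphism), extracted from S4943
so that the generic point data (`f x' = η`, `trdeg κ(x')/κ(η) = dim_x(X' ∩ X_y)`) is available.
-/
import Groth.Agent.Lib.Helper73.Equidim2

set_option linter.style.haveILetI false
set_option autoImplicit false
universe u
open Cardinal CategoryTheory AlgebraicGeometry

namespace Groth.Agent.Lib.Helper73.SchemeDim

theorem equidim_closed_irreducible_core {X Y : Scheme.{u}} [IrreducibleSpace Y]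
    [IsLocallyNoetherian Y] (f : X ⟶ Y) [LocallyOfFiniteType f] (x : X) (hf : EGA43.IsEquidimAt f x)
    (X' : TopologicalSpace.Closeds X) (x' : X) (hx' : closure ({x'} : Set X) = (X' : Set X)) (hx : x ∈ X') (n : ℕ)
    (hcodim : ringKrullDim (X.presheaf.stalk x') ≤ n)
    (hdim : FlatMor.localDim ↥((X' : Set X) ∩ f.base ⁻¹' {f.base x}) ⟨x, ⟨hx, rfl⟩⟩ + n ≤ FlatMor.fibreDimAt f x) :
    ringKrullDim (X.presheaf.stalk x') = n ∧
      FlatMor.localDim ↥((X' : Set X) ∩ f.base ⁻¹' {f.base x}) ⟨x, ⟨hx, rfl⟩⟩ + n = FlatMor.fibreDimAt f x ∧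
      f.base x' = genericPoint Y ∧
      ∃ d' : ℕ, FlatMor.localDim ↥((X' : Set X) ∩ f.base ⁻¹' {f.base x}) ⟨x, ⟨hx, rfl⟩⟩ = (d' : WithBot ℕ∞) ∧
        @Algebra.trdeg (Y.residueField (f.base x')) (X.residueField x') _ _
          (f.residueFieldMap x').hom.toAlgebra = d' := by
  haveI : IsLocallyNoetherian X := LocallyOfFiniteType.isLocallyNoetherian f
  obtain ⟨e, U, hxU, hA, hB⟩ := (isEquidimAt_iff f x).mp hf
  set ι := (Scheme.IdealSheafData.vanishingIdeal X').subschemeι with hι
  have hrange : Set.range ι.base = (X' : Set X) := by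
    rw [hι, Scheme.IdealSheafData.range_subschemeι, Scheme.IdealSheafData.coe_support_vanishingIdeal]
  have hx'x : x' ⤳ x := by
    rw [specializes_iff_mem_closure, hx']; exact hx
  have hx'U : x' ∈ U := hx'x.mem_open U.isOpen hxU
  have hx'X' : x' ∈ (X' : Set X) := by rw [← hx']; exact subset_closure rfl
  -- the local dimension `d'`
  obtain ⟨hL1, ζ₀, d', hζ₀T, hζ₀sp, hζ₀f, hnζ₀, hL⟩ :=
    localDim_closed_inter_fibre f (X' : Set X) X'.isClosed x ⟨hx, rfl⟩
  -- `fibreDimAt f x = e`
  have hFx : FlatMor.fibreDimAt f x = e := by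
    obtain ⟨ζ₁, n₁, hζ₁sp, hζ₁f, hζ₁max, hnζ₁, hF⟩ := exists_maximal_in_fibre_trdeg_eq_fibreDimAt f x
    have h1 := hB ζ₁ (hζ₁sp.mem_open U.isOpen hxU) hζ₁max
    have : ((n₁ : ℕ) : Cardinal.{u}) = e := by rw [← hnζ₁, ← h1]
    have : n₁ = e := by exact_mod_cast this
    rw [hF, this]
  have hFx' : FlatMor.fibreDimAt f x' = e := by
    obtain ⟨ζ₁, n₁, hζ₁sp, hζ₁f, hζ₁max, hnζ₁, hF⟩ := exists_maximal_in_fibre_trdeg_eq_fibreDimAt f x'
    have h1 := hB ζ₁ (hζ₁sp.mem_open U.isOpen hx'U) hζ₁max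
    have : ((n₁ : ℕ) : Cardinal.{u}) = e := by rw [← hnζ₁, ← h1]
    have : n₁ = e := by exact_mod_cast this
    rw [hF, this]
  rw [hL, hFx] at hdim
  have hdim' : d' + n ≤ e := by exact_mod_cast hdim
  -- Step 1: `n_{x'} ≤ d'`
  obtain ⟨nx', hnx'⟩ := exists_trdeg_residueField_eq_nat' f x'
  have hstep1 : nx' ≤ d' := by
    have := hL1 x' hx'X' hx'x
    -- x' need not be in the fibre of x; use Chevalley on the subscheme instead
    obtain ⟨w, hw⟩ := hrange.superset hx
    obtain ⟨ω, hω⟩ := hrange.superset hx'X'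
    have hsp : ω ⤳ w := by
      rw [← ι.isEmbedding.isInducing.specializes_iff, hω, hw]; exact hx'x
    have hnω : @Algebra.trdeg (Y.residueField ((ι ≫ f).base ω)) _ _ _
        ((ι ≫ f).residueFieldMap ω).hom.toAlgebra = nx' := by
      rw [trdeg_residueFieldMap_comp ι f ω, trdeg_residueFieldMap_congr_pt f hω]
      exact hnx'
    have h2 := trdeg_le_fibreDimAt' (ι ≫ f) hsp nx' hnω
    have hmem : ι.base w ∈ (X' : Set X) ∩ f.base ⁻¹' {f.base (ι.base w)} := by
      rw [hw]; exact ⟨hx, rfl⟩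
    rw [fibreDimAt_comp_preimm ι f w (X' : Set X) hrange hmem] at h2
    have h3 : FlatMor.localDim ↥((X' : Set X) ∩ f.base ⁻¹' {f.base (ι.base w)}) ⟨ι.base w, hmem⟩ =
        (d' : WithBot ℕ∞) := by
      subst hw
      exact hL
    rw [h3] at h2
    exact_mod_cast h2
  -- Step 3: the fibre local ring at `x'`
  obtain ⟨m', c, hm', hclen, hchead, hcf, -⟩ := exists_ltSeries_fibre_stalk f x'
  have hFeq := fibreDimAt_eq f x' nx' hnx'
  rw [hm', hFx'] at hFeq
  have hm'eq : e = m' + nx' := by exact_mod_cast hFeq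
  -- Step 4: `m' ≤ dim O_{X,x'} ≤ n`
  have hco : ringKrullDim (X.presheaf.stalk x') = Order.coheight x' := ringKrullDim_stalk_eq_coheight x'
  have hlen : (c.length : ℕ∞) ≤ Order.coheight x' := by
    rw [← hchead]; exact Order.length_le_coheight_head
  have hcoh_le : Order.coheight x' ≤ (n : ℕ∞) := by
    rw [hco] at hcodim
    exact_mod_cast hcodim
  have hm'n : m' ≤ n := by
    rw [hclen] at hlen
    exact_mod_cast hlen.trans hcoh_le
  have hnm' : n ≤ m' := by omega
  have hmn : m' = n := le_antisymm hm'n hnm'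
  have hcoh : Order.coheight x' = (n : ℕ∞) := by
    refine le_antisymm hcoh_le ?_
    rw [← hmn, ← hclen]; exact hlen
  have hd'eq : d' + n = e := by omega
  have hnx'eq : nx' = d' := by omega
  -- Step 5: `f x' = genericPoint Y`
  have hfx' : f.base x' = genericPoint Y := by
    have hlastmax : ∀ ξ' : X, ξ' ⤳ c.last → ξ' = c.last := by
      intro ξ' hsp
      by_contra hne
      have hle : c.last ≤ ξ' := hsp
      have hlt : c.last < ξ' := lt_iff_le_not_ge.mpr ⟨hle, fun h => hne (anti X ξ' c.last h hle)⟩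
      let c2 := c.snoc ξ' hlt
      have h1 : (c2.length : ℕ∞) ≤ Order.coheight c2.head := Order.length_le_coheight_head
      have h2 : c2.head = x' := by
        rw [RelSeries.head_snoc]; exact hchead
      have h3 : c2.length = c.length + 1 := RelSeries.snoc_length _ _ _
      rw [h2, h3, hcoh, hclen, hmn] at h1
      have : n + 1 ≤ n := by exact_mod_cast h1
      omega
    have hlastx' : c.last ⤳ x' := by
      have : c.head ≤ c.last := LTSeries.head_le_last c
      rw [hchead] at this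
      exact this
    have hlastU : c.last ∈ U := hlastx'.mem_open U.isOpen hx'U
    obtain ⟨hmaxY, -⟩ := hA c.last hlastU hlastmax
    have h4 : genericPoint Y = f.base c.last := hmaxY _ (genericPoint_specializes _)
    rw [h4]
    exact (hcf _).symm
  refine ⟨?_, ?_, hfx', d', hL, ?_⟩
  · rw [hco, hcoh]; rfl
  · rw [hL, hFx]
    exact_mod_cast hd'eq
  · rw [← hnx'eq]; exact hnx'

end Groth.Agent.Lib.Helper73.SchemeDim
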