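/-
helper73: local constructibility of the level sets of the fibre dimension for morphisms of finite
presentation.
-/
import Groth.Agent.Lib.Helper73.FibreDimRetro
import Groth.Agent.Lib.Helper73.FibreDimGen2
import Groth.Agent.Lib.Helper73.ConstructibleNhds

set_option linter.style.haveILetI false
set_option autoImplicit false
universe u
open CategoryTheory CategoryTheory.Limits AlgebraicGeometry Topology

namespace Groth.Agent.Lib.Helper73.FibreDimCons

open Groth.Agent.Lib.Helper73.SchemeDim Groth.Agent.Lib.Helper73.FibreDimRetro
  Groth.Agent.Lib.Helper73.ConstructibleNhds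

variable {X Y : Scheme.{u}}

theorem zero_le_fibreDimAt (f : X ⟶ Y) [LocallyOfFiniteType f] (x : X) :
    (0 : WithBot ℕ∞) ≤ FlatMor.fibreDimAt f x := by
  obtain ⟨ζ, m, -, -, -, hm⟩ := exists_specializes_trdeg_eq_fibreDimAt f x
  rw [hm]
  exact_mod_cast Nat.zero_le m

/-- the locus `{x | m ≤ dim_x X_{f x}}` is locally constructible (`f` lfp). -/
theorem isLocallyConstructible_setOf_le_fibreDimAt (f : X ⟶ Y) [LocallyOfFinitePresentation f]
    (m : ℕ) : IsLocallyConstructible {x : X | (m : WithBot ℕ∞) ≤ FlatMor.fibreDimAt f x} := by
  by_cases hm : m = 0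
  · subst hm
    convert IsLocallyConstructible.univ
    ext x
    simp only [Set.mem_ofPred_eq, Set.mem_univ, iff_true]
    exact_mod_cast zero_le_fibreDimAt f x
  · have h := (isRetrocompact_setOf_fibreDimAt_le f (m - 1)).isLocallyConstructible
      (isOpen_setOf_fibreDimAt_le f (m - 1))
    convert isLocallyConstructible_compl h using 1
    ext x
    simp only [Set.mem_ofPred_eq, Set.mem_compl_iff, not_le]
    obtain ⟨ζ, k, -, -, -, hk⟩ := exists_specializes_trdeg_eq_fibreDimAt f x
    rw [hk]
    constructor
    · intro h1
      have : m ≤ k := by exact_mod_cast h1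
      have : m - 1 < k := by omega
      exact_mod_cast this
    · intro h1
      have : m - 1 < k := by exact_mod_cast h1
      have : m ≤ k := by omega
      exact_mod_cast this

/-- `{y | m ≤ dim X_y}` is locally constructible for `f` of finite presentation. -/
theorem isLocallyConstructible_setOf_le_dim_fiber (f : X ⟶ Y) [LocallyOfFinitePresentation f]
    [QuasiCompact f] (m : ℕ) :
    IsLocallyConstructible {y : Y | (m : WithBot ℕ∞) ≤ topologicalKrullDim (f.fiber y)} := by
  have : {y : Y | (m : WithBot ℕ∞) ≤ topologicalKrullDim (f.fiber y)} =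
      f.base '' {x : X | (m : WithBot ℕ∞) ≤ FlatMor.fibreDimAt f x} := by
    ext y
    simp only [Set.mem_ofPred_eq, Set.mem_image]
    rw [natCast_le_topologicalKrullDim_fiber_iff]
    exact ⟨fun ⟨x, hx, h⟩ => ⟨x, h, hx⟩, fun ⟨x, h, hx⟩ => ⟨x, hx, h⟩⟩
  rw [this]
  exact f.isLocallyConstructible_image (isLocallyConstructible_setOf_le_fibreDimAt f m)

/-- fibres of a quasi-compact morphism locally of finite type are finite-dimensional. -/
theorem topologicalKrullDim_fiber_ne_top (f : X ⟶ Y) [LocallyOfFiniteType f] [QuasiCompact f]
    (y : Y) : topologicalKrullDim (f.fiber y) ≠ ⊤ := by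
  intro htop
  have hcov : (Set.univ : Set (f.fiber y)) ⊆ ⋃ N : ℕ,
      (f.fiberι y).base ⁻¹' {x : X | FlatMor.fibreDimAt f x ≤ N} := by
    intro z _
    obtain ⟨ζ, k, -, -, -, hk⟩ := exists_specializes_trdeg_eq_fibreDimAt f ((f.fiberι y).base z)
    exact Set.mem_iUnion.mpr ⟨k, hk.le⟩
  obtain ⟨t, ht⟩ := isCompact_univ.elim_finite_subcover _
    (fun N : ℕ => (isOpen_setOf_fibreDimAt_le f N).preimage (f.fiberι y).continuous) hcov
  have hN : ∀ z : f.fiber y, FlatMor.fibreDimAt f ((f.fiberι y).base z) ≤ (t.sup id : ℕ) := by
    intro z
    obtain ⟨N, hNt, hz⟩ := Set.mem_iUnion₂.mp (ht (Set.mem_univ z))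
    refine le_trans hz ?_
    have : N ≤ t.sup id := Finset.le_sup (f := id) hNt
    exact_mod_cast this
  have h1 : ((t.sup id + 1 : ℕ) : WithBot ℕ∞) ≤ topologicalKrullDim (f.fiber y) := by
    rw [htop]; exact le_top
  rw [natCast_le_topologicalKrullDim_fiber_iff] at h1
  obtain ⟨x, hx, hle⟩ := h1
  obtain ⟨z, rfl⟩ := exists_fiberι_eq f hx
  have := hle.trans (hN z)
  have : t.sup id + 1 ≤ t.sup id := by exact_mod_cast this
  omega

/-- **level sets of the fibre dimension are locally constructible.** -/
theorem isLocallyConstructible_setOf_dim_fiber_eq (f : X ⟶ Y) [LocallyOfFinitePresentation f]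
    [QuasiCompact f] (n : WithBot ℕ∞) :
    IsLocallyConstructible {y : Y | topologicalKrullDim (f.fiber y) = n} := by
  induction n with
  | bot =>
    convert isLocallyConstructible_compl (isLocallyConstructible_setOf_le_dim_fiber f 0) using 1
    ext y
    simp only [Set.mem_ofPred_eq, Set.mem_compl_iff]
    generalize topologicalKrullDim (f.fiber y) = D
    induction D with
    | bot => simp
    | coe D => simp
  | coe n =>
    induction n with
    | top =>
      convert IsLocallyConstructible.empty
      ext y
      simp only [Set.mem_ofPred_eq, Set.mem_empty_iff_false, iff_false]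
      exact topologicalKrullDim_fiber_ne_top f y
    | coe m =>
      convert (isLocallyConstructible_setOf_le_dim_fiber f m).inter
        (isLocallyConstructible_compl (isLocallyConstructible_setOf_le_dim_fiber f (m + 1))) using 1
      ext y
      simp only [Set.mem_ofPred_eq, Set.mem_inter_iff, Set.mem_compl_iff, not_le]
      have hne := topologicalKrullDim_fiber_ne_top f y
      generalize topologicalKrullDim (f.fiber y) = D at hne ⊢
      induction D with
      | bot => simp
      | coe D =>
        induction D with
        | top => exact absurd rfl hne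
        | coe d =>
          constructor
          · intro h
            have : d = m := by exact_mod_cast h
            subst this
            refine ⟨le_rfl, ?_⟩
            exact_mod_cast Nat.lt_succ_self d
          · rintro ⟨h1, h2⟩
            have h1' : m ≤ d := by exact_mod_cast h1
            have h2' : d < m + 1 := by exact_mod_cast h2
            have : d = m := by omega
            rw [this]

end Groth.Agent.Lib.Helper73.FibreDimCons
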