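import Mathlib
import Groth.Agent.S2162
import Groth.Agent.Lib.Helper61.GenFinFunField

/-! Generic smoothness from a geometrically reduced generic fibre (helper73):
`genericPoint_mem_smoothLocus`: for a dominant morphism `f : X ⟶ Y` of integral schemes, locally of
finite presentation, whose generic fibre is geometrically reduced, the generic point of `X` lies in
the smooth locus of `f`.  Ingredients: `isReduced_pullback_of_fibre'` (base change of `f` to a
field-valued point over `y0` is reduced if the fibre over `y0` is geometrically reduced),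
`isReduced_tensor_of_isReduced_pullback` (pass to affine charts), `isGeometricallyReduced_fractionRing`
(ring-level localisation argument), and `S2162.result`. -/

set_option autoImplicit false
set_option linter.style.haveILetI false
universe u

open CategoryTheory CategoryTheory.Limits AlgebraicGeometry TensorProduct

namespace Groth.Agent.Lib.Helper73.GenSm

noncomputable section

/-- if the fibre of `f` over `y0` is geometrically reduced, any base change of `f` to a field-valued
point lying over `y0` is reduced. -/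
theorem isReduced_pullback_of_fibre {X Y : Scheme.{u}} (f : X ⟶ Y) (y0 : Y)
    (hsep : GeometricallyReduced (f.fiberToSpecResidueField y0)) (Ω : Type u) [Field Ω]
    (φ0 : Y.residueField y0 ⟶ CommRingCat.of Ω) :
    AlgebraicGeometry.IsReduced (pullback f (Spec.map φ0 ≫ Y.fromSpecResidueField y0)) := by
  let y' := Spec.map φ0 ≫ Y.fromSpecResidueField y0
  let p : pullback f y' ⟶ f.fiber y0 :=
    pullback.lift (pullback.fst f y') (pullback.snd f y' ≫ Spec.map φ0)
      (by rw [Category.assoc]; exact pullback.condition)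
  refine hsep.geometrically_isReduced (Spec.map φ0) p (pullback.snd f y') ?_
  refine IsPullback.of_right (h₁₂ := f.fiberι y0) (h₂₂ := Y.fromSpecResidueField y0)
    (v₁₃ := f) ?_ ?_ (IsPullback.of_hasPullback f (Y.fromSpecResidueField y0))
  · have : p ≫ f.fiberι y0 = pullback.fst f y' := pullback.lift_fst _ _ _
    rw [this]
    exact IsPullback.of_hasPullback f y'
  · exact pullback.lift_snd _ _ _

theorem isReduced_pullback_of_fibre' {X Y : Scheme.{u}} (f : X ⟶ Y) (y0 : Y)
    (hsep : GeometricallyReduced (f.fiberToSpecResidueField y0)) (Ω : Type u) [Field Ω]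
    (y' : Spec (CommRingCat.of Ω) ⟶ Y) (hy : y' (IsLocalRing.closedPoint Ω) = y0) :
    AlgebraicGeometry.IsReduced (pullback f y') := by
  subst hy
  have h := Scheme.descResidueField_stalkClosedPointTo_fromSpecResidueField Ω Y y'
  have := isReduced_pullback_of_fibre f _ hsep Ω (Scheme.descResidueField (Scheme.stalkClosedPointTo y'))
  rwa [h] at this

/-- reducedness of the base change of `f` to `Spec Ω` gives reducedness of `Ω ⊗ Γ(X, V)` over
`Γ(Y, U)`. -/
theorem isReduced_tensor_of_isReduced_pullback {X Y : Scheme.{u}} (f : X ⟶ Y) {U : Y.Opens}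
    (hU : IsAffineOpen U) {V : X.Opens} (hV : IsAffineOpen V) (hVU : V ≤ f ⁻¹ᵁ U)
    (Ω : Type u) [Field Ω] [Algebra Γ(Y, U) Ω] [Algebra Γ(Y, U) Γ(X, V)]
    (halg : algebraMap Γ(Y, U) Γ(X, V) = (f.appLE U V hVU).hom)
    (hred : AlgebraicGeometry.IsReduced
      (pullback f (Spec.map (CommRingCat.ofHom (algebraMap Γ(Y, U) Ω)) ≫ hU.fromSpec))) :
    _root_.IsReduced (Ω ⊗[Γ(Y, U)] Γ(X, V)) := by
  have e₁ : Spec.map (CommRingCat.ofHom (algebraMap Γ(Y, U) Γ(X, V))) ≫ hU.fromSpec =
      hV.fromSpec ≫ f := by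
    rw [halg]
    exact IsAffineOpen.SpecMap_appLE_fromSpec f hU hV hVU
  let y' := Spec.map (CommRingCat.ofHom (algebraMap Γ(Y, U) Ω)) ≫ hU.fromSpec
  let j := pullback.map (Spec.map (CommRingCat.ofHom (algebraMap Γ(Y, U) Γ(X, V))))
    (Spec.map (CommRingCat.ofHom (algebraMap Γ(Y, U) Ω))) f y' hV.fromSpec (𝟙 _) hU.fromSpec e₁
    (by simp [y'])
  have h1 : AlgebraicGeometry.IsReduced (pullback
      (Spec.map (CommRingCat.ofHom (algebraMap Γ(Y, U) Γ(X, V))))
      (Spec.map (CommRingCat.ofHom (algebraMap Γ(Y, U) Ω)))) :=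
    isReduced_of_isOpenImmersion j
  have h2 : AlgebraicGeometry.IsReduced (Spec (CommRingCat.of (Γ(X, V) ⊗[Γ(Y, U)] Ω))) :=
    isReduced_of_isOpenImmersion (pullbackSpecIso Γ(Y, U) Γ(X, V) Ω).inv
  have h3 : _root_.IsReduced (Γ(X, V) ⊗[Γ(Y, U)] Ω) := (affine_isReduced_iff _).mp h2
  exact isReduced_of_injective (Algebra.TensorProduct.comm Γ(Y, U) Ω Γ(X, V))
    (Algebra.TensorProduct.comm Γ(Y, U) Ω Γ(X, V)).injective

/-- ring-level: from reducedness of `Ω ⊗[R] S` to geometric reducedness of `Frac S` over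
`Frac R`. -/
theorem isGeometricallyReduced_fractionRing {R S K L : Type u} [CommRing R] [IsDomain R]
    [CommRing S] [IsDomain S] [Algebra R S] [FaithfulSMul R S] [Field K] [Field L]
    [Algebra R K] [IsFractionRing R K] [Algebra S L] [IsFractionRing S L] [Algebra K L]
    [Algebra R L] [IsScalarTower R S L] [IsScalarTower R K L]
    (hred : IsReduced (AlgebraicClosure K ⊗[R] S)) :
    Algebra.IsGeometricallyReduced K L := by
  classical
  letI : Algebra S (TensorProduct R K S) := Algebra.TensorProduct.rightAlgebra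
  haveI hloc : IsLocalization (Algebra.algebraMapSubmonoid S (nonZeroDivisors R))
      (TensorProduct R K S) := IsLocalization.tensorRight K (nonZeroDivisors R)
  have hT : Algebra.algebraMapSubmonoid S (nonZeroDivisors R) ≤ nonZeroDivisors S :=
    map_le_nonZeroDivisors_of_injective _ (FaithfulSMul.algebraMap_injective R S) le_rfl
  haveI : IsDomain (TensorProduct R K S) :=
    IsLocalization.isDomain_of_le_nonZeroDivisors (TensorProduct R K S) hT
  let φ : TensorProduct R K S →ₐ[K] L :=
    Algebra.TensorProduct.lift (Algebra.ofId K L) (IsScalarTower.toAlgHom R S L)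
      (fun _ _ => Commute.all _ _)
  letI : Algebra (TensorProduct R K S) L := φ.toRingHom.toAlgebra
  haveI : IsScalarTower K (TensorProduct R K S) L :=
    IsScalarTower.of_algebraMap_eq' φ.comp_algebraMap.symm
  haveI : IsScalarTower S (TensorProduct R K S) L := IsScalarTower.of_algebraMap_eq fun s => by
    change algebraMap S L s = φ ((1 : K) ⊗ₜ[R] s)
    simp [φ]
  haveI : IsFractionRing (TensorProduct R K S) L :=
    IsFractionRing.isFractionRing_of_isDomain_of_isLocalization
      (Algebra.algebraMapSubmonoid S (nonZeroDivisors R)) (TensorProduct R K S) L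
  -- `Ω ⊗[K] (K ⊗[R] S) ≃ Ω ⊗[R] S`
  have h1 : IsReduced (AlgebraicClosure K ⊗[K] (K ⊗[R] S)) :=
    isReduced_of_injective
      (Algebra.TensorProduct.cancelBaseChange R K K (AlgebraicClosure K) S)
      (Algebra.TensorProduct.cancelBaseChange R K K (AlgebraicClosure K) S).injective
  have h2 : IsReduced (AlgebraicClosure K ⊗[K] Localization.AtPrime (⊥ : Ideal (K ⊗[R] S))) :=
    Groth.Agent.Lib.Helper62.GenRed.isReduced_tensor_localization K (AlgebraicClosure K)
      (K ⊗[R] S) ⊥ h1
  haveI h3 : Algebra.IsGeometricallyReduced K (Localization.AtPrime (⊥ : Ideal (K ⊗[R] S))) :=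
    (Algebra.isGeometricallyReduced_field_iff _ _).mpr h2
  have hprime := Groth.Agent.Lib.Helper62.DimLoc.primeCompl_bot_eq (K ⊗[R] S)
  haveI : IsLocalization (⊥ : Ideal (K ⊗[R] S)).primeCompl L := by
    rw [hprime]
    infer_instance
  let e : Localization.AtPrime (⊥ : Ideal (K ⊗[R] S)) ≃ₐ[K] L :=
    (IsLocalization.algEquiv (⊥ : Ideal (K ⊗[R] S)).primeCompl _ _).restrictScalars K
  exact Algebra.IsGeometricallyReduced.of_injective e.symm.toAlgHom e.symm.injective


/-- the stalk at the generic point is a field. -/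
theorem isField_stalk_of_eq (Y : Scheme.{u}) [IsIntegral Y] (y : Y) (hy : y = genericPoint Y) :
    IsField (Y.presheaf.stalk y) := by
  subst hy
  exact Field.toIsField Y.functionField

/-- the generic point is a smooth point when the generic fibre is geometrically reduced. -/
theorem genericPoint_mem_smoothLocus {X Y : Scheme.{u}} [IsIntegral X] [IsIntegral Y]
    (f : X ⟶ Y) [IsDominant f] [LocallyOfFinitePresentation f]
    (hsep : GeometricallyReduced (f.fiberToSpecResidueField (f (genericPoint X)))) :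
    genericPoint X ∈ f.smoothLocus := by
  have hη : f (genericPoint X) = genericPoint Y :=
    Groth.Agent.Lib.Helper61.GenFin.map_genericPoint f
  obtain ⟨_, ⟨U, hU, rfl⟩, hxU, -⟩ :=
    Y.isBasis_affineOpens.exists_subset_of_mem_open (Set.mem_univ (f (genericPoint X))) isOpen_univ
  obtain ⟨_, ⟨V, hV, rfl⟩, hxV, hVU⟩ :=
    X.isBasis_affineOpens.exists_subset_of_mem_open hxU (U.2.preimage f.continuous)
  replace hU : IsAffineOpen U := hU
  replace hV : IsAffineOpen V := hV
  haveI : Nonempty U := ⟨⟨f (genericPoint X), hxU⟩⟩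
  haveI : Nonempty V := ⟨⟨genericPoint X, hxV⟩⟩
  have hfp := f.finitePresentation_appLE hU hV hVU
  algebraize [(f.appLE U V hVU).hom]
  rw [Scheme.Hom.mem_smoothLocus, formallySmooth_stalkMap_iff U hU V hV hVU hxV]
  have hq : hV.primeIdealOf ⟨genericPoint X, hxV⟩ = (⊥ : PrimeSpectrum Γ(X, V)) := by
    rw [← genericPoint_eq_bot_of_affine]
    exact hV.primeIdealOf_genericPoint
  rw [hq]
  -- injectivity of `Γ(Y, U) → Γ(X, V)`
  have hinj : Function.Injective (algebraMap Γ(Y, U) Γ(X, V)) := by
    rw [injective_iff_map_eq_zero]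
    intro r hr
    have hfield : IsField (Y.presheaf.stalk (f (genericPoint X))) :=
      isField_stalk_of_eq Y _ hη
    have h1 : (f.stalkMap (genericPoint X)).hom (Y.presheaf.germ U _ hxU r) = 0 := by
      have h2 := Scheme.Hom.germ_stalkMap_apply f U (genericPoint X) hxU r
      have h3 : X.presheaf.germ V (genericPoint X) hxV ((f.appLE U V hVU).hom r) =
          X.presheaf.germ (f ⁻¹ᵁ U) (genericPoint X) hxU ((f.app U).hom r) := by
        exact TopCat.Presheaf.germ_res_apply X.presheaf (homOfLE hVU) (genericPoint X) hxV _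
      have h4 : (f.appLE U V hVU).hom r = 0 := hr
      rw [h4, map_zero] at h3
      exact h2.trans h3.symm
    by_contra hr0
    have h5 : Y.presheaf.germ U _ hxU r ≠ 0 := by
      intro h
      exact hr0 ((injective_iff_map_eq_zero _).mp
        (germ_injective_of_isIntegral Y (f (genericPoint X)) hxU) r h)
    obtain ⟨b, hb⟩ := hfield.mul_inv_cancel h5
    have h6 := congrArg (f.stalkMap (genericPoint X)).hom hb
    rw [map_mul, h1, zero_mul, map_one] at h6
    exact zero_ne_one h6
  haveI : FaithfulSMul Γ(Y, U) Γ(X, V) := (faithfulSMul_iff_algebraMap_injective _ _).mpr hinj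
  haveI : Algebra.FiniteType Γ(Y, U) Γ(X, V) := inferInstance
  haveI : FaithfulSMul Γ(Y, U) (FractionRing Γ(X, V)) := by
    rw [faithfulSMul_iff_algebraMap_injective,
      IsScalarTower.algebraMap_eq Γ(Y, U) Γ(X, V) (FractionRing Γ(X, V))]
    exact (IsFractionRing.injective Γ(X, V) (FractionRing Γ(X, V))).comp hinj
  letI : Algebra (FractionRing Γ(Y, U)) (FractionRing Γ(X, V)) := FractionRing.liftAlgebra _ _
  haveI : IsScalarTower Γ(Y, U) (FractionRing Γ(Y, U)) (FractionRing Γ(X, V)) :=
    FractionRing.isScalarTower_liftAlgebra _ _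
  change Algebra.IsSmoothAt Γ(Y, U) (⊥ : Ideal Γ(X, V))
  rw [Groth.Agent.S2162.result (K := FractionRing Γ(Y, U)) (L := FractionRing Γ(X, V))]
  apply isGeometricallyReduced_fractionRing (R := Γ(Y, U)) (S := Γ(X, V))
  apply isReduced_tensor_of_isReduced_pullback f hU hV hVU (AlgebraicClosure (FractionRing Γ(Y, U)))
    rfl
  apply isReduced_pullback_of_fibre' f (f (genericPoint X)) hsep
  have hyU : genericPoint Y ∈ U := hη ▸ hxU
  have hgen : hU.primeIdealOf ⟨genericPoint Y, hyU⟩ = (⊥ : PrimeSpectrum Γ(Y, U)) := by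
    rw [← genericPoint_eq_bot_of_affine]
    exact hU.primeIdealOf_genericPoint
  have h7 : (Spec.map (CommRingCat.ofHom (algebraMap Γ(Y, U)
      (AlgebraicClosure (FractionRing Γ(Y, U)))))) (IsLocalRing.closedPoint _) =
      (⊥ : PrimeSpectrum Γ(Y, U)) := by
    apply PrimeSpectrum.ext
    ext r
    change algebraMap Γ(Y, U) (AlgebraicClosure (FractionRing Γ(Y, U))) r ∈
      IsLocalRing.maximalIdeal _ ↔ r ∈ (⊥ : Ideal Γ(Y, U))
    rw [IsLocalRing.maximalIdeal_eq_bot, Ideal.mem_bot, Ideal.mem_bot]
    refine map_eq_zero_iff _ ?_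
    rw [IsScalarTower.algebraMap_eq Γ(Y, U) (FractionRing Γ(Y, U))
      (AlgebraicClosure (FractionRing Γ(Y, U)))]
    exact (algebraMap (FractionRing Γ(Y, U)) (AlgebraicClosure (FractionRing Γ(Y, U)))).injective.comp
      (IsFractionRing.injective Γ(Y, U) (FractionRing Γ(Y, U)))
  have h8 : hU.fromSpec (⊥ : PrimeSpectrum Γ(Y, U)) = genericPoint Y := by
    rw [← hgen, hU.fromSpec_primeIdealOf]
  exact (congrArg hU.fromSpec h7).trans (h8.trans hη.symm)

end

end Groth.Agent.Lib.Helper73.GenSm
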