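import Mathlib
import Groth.Agent.S1535
import Groth.Agent.Lib.Helper73.GenSm
import Groth.Agent.Lib.Helper21.ConstrDim
import Groth.Agent.Lib.Helper62.SmoothReg6

/-! Generic smoothness in characteristic zero (helper73). -/

set_option autoImplicit false
set_option linter.style.haveILetI false
universe u

open CategoryTheory CategoryTheory.Limits AlgebraicGeometry TensorProduct

namespace Groth.Agent.Lib.Helper73.GenSm

noncomputable section

/-- stalks of a scheme over a field of characteristic zero have characteristic zero. -/
theorem charZero_stalk (k : Type u) [Field k] [CharZero k] {Y : Scheme.{u}}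
    (qY : Y ⟶ Spec (CommRingCat.of k)) (y : Y) : CharZero (Y.presheaf.stalk y) := by
  let ψ : k →+* Y.presheaf.stalk y :=
    ((Scheme.ΓSpecIso (CommRingCat.of k)).inv ≫ qY.appTop ≫ Y.presheaf.germ ⊤ y trivial).hom
  exact charZero_of_injective_ringHom ψ.injective

/-- abstract: a regular local ring essentially of finite type over a field of characteristic zero
is formally smooth. -/
theorem formallySmooth_of_isField_of_regular {A B : Type u} [CommRing A] [CommRing B]
    (φ : A →+* B) (hA : IsField A) [CharZero A] (hφ : φ.EssFiniteType) [IsRegularLocalRing B] :
    φ.FormallySmooth := by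
  letI : Field A := hA.toField
  algebraize [φ]
  haveI : CharZero A := ‹_›
  haveI : PerfectField A := PerfectField.ofCharZero
  exact Groth.Agent.Lib.Helper62.SmoothReg.formallySmooth_of_isRegularLocalRing A B

/-- a regular point over the generic point of an integral scheme of characteristic zero is a
smooth point. -/
theorem mem_smoothLocus_of_generic_charZero {X Y : Scheme.{u}} [IsIntegral Y] (f : X ⟶ Y)
    [LocallyOfFinitePresentation f] (x : X) (hx : f x = genericPoint Y)
    [CharZero (Y.presheaf.stalk (f x))] (hreg : IsRegularLocalRing (X.presheaf.stalk x)) :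
    x ∈ f.smoothLocus := by
  rw [Scheme.Hom.mem_smoothLocus]
  exact formallySmooth_of_isField_of_regular _ (isField_stalk_of_eq Y _ hx)
    (LocallyOfFiniteType.stalkMap f x)

end

end Groth.Agent.Lib.Helper73.GenSm
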