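import Mathlib
import Groth.Agent.Lib.Helper73.GenSm0
import Groth.Agent.Lib.Helper73.SmoothFibreDim2
import Groth.Agent.Lib.Helper73.FibreDimRetro
import Groth.Agent.Lib.Helper73.LocalFibreDim
import Groth.Agent.Lib.Helper73.DimLocal

set_option autoImplicit false
universe u

open CategoryTheory CategoryTheory.Limits AlgebraicGeometry

namespace Groth.Agent.Lib.Helper73.GenSmRel

variable {X Y W : Scheme.{u}}

/-- a standard smooth chart gives smoothness of relative dimension on the chart. -/
theorem smoothOfRelativeDimension_of_chart (m : ℕ) (g : W ⟶ Y) (U₀ : Y.Opens)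
    (hU₀ : IsAffineOpen U₀) (V₀ : W.Opens) (hV₀ : IsAffineOpen V₀) (e : V₀ ≤ g ⁻¹ᵁ U₀)
    (hstd : RingHom.IsStandardSmoothOfRelativeDimension m (g.appLE U₀ V₀ e).hom) :
    SmoothOfRelativeDimension m (V₀.ι ≫ g) := by
  have : IsAffine U₀.toScheme := hU₀
  have : IsAffine V₀.toScheme := hV₀
  have h1 : SmoothOfRelativeDimension m (g.resLE U₀ V₀ e) := by
    rw [HasRingHomProperty.iff_of_isAffine (P := @SmoothOfRelativeDimension m)]
    apply RingHom.locally_of RingHom.isStandardSmoothOfRelativeDimension_respectsIso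
    have key : RingHom.IsStandardSmoothOfRelativeDimension m
        (U₀.topIso.hom ≫ g.appLE U₀ V₀ e ≫ V₀.topIso.inv).hom :=
      (RingHom.isStandardSmoothOfRelativeDimension_respectsIso.cancel_left_isIso
        U₀.topIso.hom (g.appLE U₀ V₀ e ≫ V₀.topIso.inv)).mpr
        ((RingHom.isStandardSmoothOfRelativeDimension_respectsIso.cancel_right_isIso
          (g.appLE U₀ V₀ e) V₀.topIso.inv).mpr hstd)
    have e1 : (g.resLE U₀ V₀ e).app ⊤ = U₀.topIso.hom ≫ g.appLE U₀ V₀ e ≫ V₀.topIso.inv :=
      Scheme.Hom.resLE_app_top g e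
    change RingHom.IsStandardSmoothOfRelativeDimension m ((g.resLE U₀ V₀ e).app ⊤).hom
    rw [e1]
    exact key
  rw [← Scheme.Hom.resLE_comp_ι g e]
  exact inferInstanceAs (SmoothOfRelativeDimension (m + 0) (g.resLE U₀ V₀ e ≫ U₀.ι))

/-- the residue map of a local ring which is a field is bijective. -/
theorem residue_bijective_of_isField (Z : Scheme.{u}) (z : Z) (hZ : IsField (Z.presheaf.stalk z)) :
    Function.Bijective (Z.residue z).hom := by
  refine ⟨?_, IsLocalRing.residue_surjective⟩
  rw [RingHom.injective_iff_ker_eq_bot]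
  change RingHom.ker (IsLocalRing.residue (Z.presheaf.stalk z)) = ⊥
  rw [IsLocalRing.ker_residue]
  exact IsLocalRing.isField_iff_maximalIdeal_eq.mp hZ

/-- transcendence degree of residue fields versus local rings, when the local rings are fields. -/
theorem trdeg_residueField_eq (f : X ⟶ Y) (x : X) (hX : IsField (X.presheaf.stalk x))
    (hY : IsField (Y.presheaf.stalk (f x))) :
    @Algebra.trdeg (Y.residueField (f x)) (X.residueField x) _ _
      (f.residueFieldMap x).hom.toAlgebra =
    @Algebra.trdeg (Y.presheaf.stalk (f x)) (X.presheaf.stalk x) _ _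
      (f.stalkMap x).hom.toAlgebra := by
  letI := (f.residueFieldMap x).hom.toAlgebra
  letI := (f.stalkMap x).hom.toAlgebra
  symm
  refine Groth.Agent.Lib.Helper73.DimFormula.trdeg_eq_of_ringEquiv
    (RingEquiv.ofBijective _ (residue_bijective_of_isField Y (f x) hY))
    (RingEquiv.ofBijective _ (residue_bijective_of_isField X x hX)) (fun d => ?_)
  have h1 := Scheme.residue_residueFieldMap f x
  have h2 := congrArg (fun φ => φ.hom d) h1
  exact h2.symm

/-- the local ring of the fibre at the generic point has dimension zero. -/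
theorem ringKrullDim_fiber_stalk_genericPoint [IsIntegral X] (f : X ⟶ Y) :
    ringKrullDim ((f.fiber (f (genericPoint X))).presheaf.stalk (f.asFiber (genericPoint X))) =
      0 := by
  rw [AlgebraicGeometry.ringKrullDim_stalk_eq_coheight]
  have : Order.coheight (f.asFiber (genericPoint X)) = 0 := by
    rw [Order.coheight_eq_zero]
    intro y hy
    have h1 : y ⤳ f.asFiber (genericPoint X) := hy
    have h2 : f.fiberι _ y ⤳ f.fiberι _ (f.asFiber (genericPoint X)) :=
      h1.map (f.fiberι _).continuous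
    rw [Scheme.Hom.fiberι_asFiber] at h2
    have h3 : genericPoint X ⤳ f.fiberι _ y := genericPoint_specializes _
    have h4 : f.fiberι _ y = f.fiberι _ (f.asFiber (genericPoint X)) := by
      rw [Scheme.Hom.fiberι_asFiber]
      exact (h2.antisymm h3).eq
    have h5 := (f.fiberι _).isEmbedding.injective h4
    rw [h5]
  rw [this]
  rfl

/-- a local ring which is a field is regular. -/
theorem isRegularLocalRing_of_isField (F : Type*) [CommRing F] [IsLocalRing F] (hF : IsField F) :
    IsRegularLocalRing F := by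
  let _ := hF.toField
  have hN : IsNoetherianRing F := inferInstance
  apply IsRegularLocalRing.of_spanFinrank_maximalIdeal_le
  rw [IsLocalRing.maximalIdeal_eq_bot]
  have : (⊥ : Ideal F).spanFinrank = 0 := by
    rw [Submodule.spanFinrank_eq_zero_iff_eq_bot (Submodule.fg_bot)]
  rw [this]
  simp

open Groth.Agent.Lib.Helper73.SmoothFibreDim in
/-- generic smoothness on the source in characteristic zero, with the relative dimension. -/
theorem exists_open_smoothOfRelativeDimension
    (X Y : Scheme.{u}) [IsIntegral X] [IsIntegral Y] [IsNoetherian X] [IsNoetherian Y]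
    (π : X ⟶ Y) [LocallyOfFiniteType π]
    (hdom : π (genericPoint X) = genericPoint Y) [CharZero Y.functionField]
    (n : ℕ) (hn : @Algebra.trdeg (Y.presheaf.stalk (π (genericPoint X))) X.functionField _ _
      (π.stalkMap (genericPoint X)).hom.toAlgebra = n) :
    ∃ U : X.Opens, (U : Set X).Nonempty ∧ SmoothOfRelativeDimension n (U.ι ≫ π) := by
  have hfp : LocallyOfFinitePresentation π :=
    LocallyOfFinitePresentation.iff_locallyOfFiniteType.mpr inferInstance
  have hXf : IsField (X.presheaf.stalk (genericPoint X)) := Field.toIsField X.functionField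
  have hYf : IsField (Y.presheaf.stalk (π (genericPoint X))) :=
    Groth.Agent.Lib.Helper73.GenSm.isField_stalk_of_eq Y _ hdom
  have hch : CharZero (Y.presheaf.stalk (π (genericPoint X))) := by
    rw [hdom]
    exact (inferInstance : CharZero Y.functionField)
  have hreg : IsRegularLocalRing (X.presheaf.stalk (genericPoint X)) :=
    isRegularLocalRing_of_isField _ hXf
  have hξ : genericPoint X ∈ π.smoothLocus :=
    Groth.Agent.Lib.Helper73.GenSm.mem_smoothLocus_of_generic_charZero π (genericPoint X) hdom hreg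
  have hsm : Smooth (π.smoothLocus.ι ≫ π) := by
    rw [← Scheme.Hom.smoothLocus_eq_top_iff, ← Scheme.Hom.preimage_smoothLocus_eq]
    exact Scheme.Opens.ι_preimage_self _
  obtain ⟨m, hm⟩ := exists_smoothOfRelDimAt (π.smoothLocus.ι ≫ π) ⟨genericPoint X, hξ⟩
  have h1 : FlatMor.fibreDimAt (π.smoothLocus.ι ≫ π) ⟨genericPoint X, hξ⟩ = (m : WithBot ℕ∞) :=
    fibreDimAt_eq_of_smoothOfRelDimAt m _ _ hm
  have h2 : FlatMor.fibreDimAt (π.smoothLocus.ι ≫ π) ⟨genericPoint X, hξ⟩ =
      FlatMor.fibreDimAt π (genericPoint X) :=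
    Groth.Agent.Lib.Helper73.FibreDimRetro.fibreDimAt_comp_openImmersion π.smoothLocus.ι π _
  have h3 : FlatMor.fibreDimAt π (genericPoint X) = (n : WithBot ℕ∞) := by
    rw [Groth.Agent.Lib.Helper73.SchemeDim.fibreDimAt_eq π (genericPoint X) n
      ((trdeg_residueField_eq π (genericPoint X) hXf hYf).trans hn),
      ringKrullDim_fiber_stalk_genericPoint, zero_add]
  have hmn : m = n := by
    have : (m : WithBot ℕ∞) = (n : WithBot ℕ∞) := by rw [← h1, h2, h3]
    exact_mod_cast this
  subst hmn
  obtain ⟨U₀, hU₀, V₀, hV₀, hxV₀, e, hstd⟩ := hm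
  have h4 := smoothOfRelativeDimension_of_chart m (π.smoothLocus.ι ≫ π) U₀ hU₀ V₀ hV₀ e hstd
  refine ⟨π.smoothLocus.ι ''ᵁ V₀, ⟨genericPoint X, ⟨⟨genericPoint X, hξ⟩, hxV₀, rfl⟩⟩, ?_⟩
  have h5 : (π.smoothLocus.ι ''ᵁ V₀).ι ≫ π =
      (π.smoothLocus.ι.isoImage V₀).inv ≫ V₀.ι ≫ π.smoothLocus.ι ≫ π := by
    rw [← Scheme.Hom.isoImage_inv_ι π.smoothLocus.ι V₀]
    simp only [Category.assoc]
  rw [h5]
  exact HasRingHomProperty.comp_of_isOpenImmersion (@SmoothOfRelativeDimension m)
    (π.smoothLocus.ι.isoImage V₀).inv _ h4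

end Groth.Agent.Lib.Helper73.GenSmRel
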