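import Mathlib
import Groth.Agent.Lib.Helper24.FibreClosure
import Groth.Agent.Lib.Helper21.ConstrDim

/-! Topology of homogeneous constructible subsets of schemes of finite type over a field (helper73):
such a set is open in its closure and its boundary has smaller dimension. -/

set_option autoImplicit false
set_option linter.style.haveILetI false
universe u

open CategoryTheory CategoryTheory.Limits AlgebraicGeometry TopologicalSpace Topology

namespace Groth.Agent.Lib.Helper73.OrbitTop

open Groth.Agent.Lib.Helper21.FieldDim Groth.Agent.Lib.Helper24.FibreClosure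

variable {k : Type u} [Field k] {X : Scheme.{u}} (f : X ⟶ Spec (CommRingCat.of k))
  [LocallyOfFiniteType f] [QuasiCompact f]

include f in
theorem isNoetherian : IsNoetherian X := by
  haveI : IsLocallyNoetherian X := LocallyOfFiniteType.isLocallyNoetherian f
  haveI : CompactSpace X := QuasiCompact.compactSpace_of_compactSpace f
  exact {}

include f in
theorem isConstructible_of_isClosed {D : Set X} (hD : IsClosed D) : IsConstructible D := by
  haveI := isNoetherian f
  haveI : QuasiSeparatedSpace X := inferInstance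
  exact ((NoetherianSpace.isCompact Dᶜ).isConstructible hD.isOpen_compl).of_compl

include f in
/-- a homogeneous constructible set is disjoint from the closure of its boundary. -/
theorem disjoint_closure_diff (O : Set X) (hO : IsConstructible O)
    (hhom : ∀ u ∈ O, ∀ y ∈ O, IsClosed ({u} : Set X) → IsClosed ({y} : Set X) →
      ∃ A B : X → X, Continuous B ∧ (∀ z, A (B z) = z) ∧ (∀ z, B (A z) = z) ∧ A u = y ∧
        (∀ z ∈ O, A z ∈ O) ∧ (∀ z ∈ O, B z ∈ O)) :
    Disjoint O (closure (closure O \ O)) := by
  haveI := isNoetherian f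
  haveI : JacobsonSpace X := LocallyOfFiniteType.jacobsonSpace f
  rw [Set.disjoint_left]
  intro y0 hy0O hy0D
  have hT' : IsConstructible (O ∩ closure (closure O \ O)) :=
    hO.inter (isConstructible_of_isClosed f isClosed_closure)
  obtain ⟨W, hW, hy0W, hsub⟩ := exists_open_inter_closure_subset hT' ⟨hy0O, hy0D⟩
  obtain ⟨y, hy, hyc⟩ := nonempty_inter_closedPoints
    (⟨y0, subset_closure rfl, hy0W⟩ : (closure ({y0} : Set X) ∩ W).Nonempty)
    (isClosed_closure.isLocallyClosed.inter hW.isLocallyClosed)
  have hyO : y ∈ O := (hsub hy).1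
  have hyD : y ∈ closure (closure O \ O) := (hsub hy).2
  obtain ⟨ξ, hξmax, -, -⟩ := exists_isMaxInOf_specializes f isClosed_closure
    (subset_closure hy0O : y0 ∈ closure O)
  have hξ : ξ ∉ closure (closure O \ O) :=
    not_mem_closure_diff_of_maximal hO hξmax.1 (fun t ht hsp => hξmax.2 t ht hsp (base_eq f t ξ))
  obtain ⟨u, hu, huc⟩ := nonempty_inter_closedPoints
    (⟨ξ, hξmax.1, hξ⟩ : (closure O ∩ (closure (closure O \ O))ᶜ).Nonempty)
    (isClosed_closure.isLocallyClosed.inter isClosed_closure.isOpen_compl.isLocallyClosed)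
  have huO : u ∈ O := by
    by_contra h
    exact hu.2 (subset_closure ⟨hu.1, h⟩)
  obtain ⟨A, B, hB, hAB, hBA, hAu, hAO, hBO⟩ := hhom u huO y hyO huc hyc
  have hB1 : ∀ z ∈ closure O \ O, B z ∈ closure O \ O := by
    rintro z ⟨hz1, hz2⟩
    refine ⟨?_, fun h => hz2 (hAB z ▸ hAO _ h)⟩
    have h1 : B z ∈ closure (B '' O) := image_closure_subset_closure_image hB ⟨z, hz1, rfl⟩
    refine closure_mono ?_ h1
    rintro _ ⟨w, hw, rfl⟩
    exact hBO w hw
  have hBD : ∀ z ∈ closure (closure O \ O), B z ∈ closure (closure O \ O) := by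
    intro z hz
    have h1 : B z ∈ closure (B '' (closure O \ O)) :=
      image_closure_subset_closure_image hB ⟨z, hz, rfl⟩
    refine closure_mono ?_ h1
    rintro _ ⟨w, hw, rfl⟩
    exact hB1 w hw
  have huD : u ∈ closure (closure O \ O) := by
    have := hBD y hyD
    rwa [← hAu, hBA] at this
  exact hu.2 huD

/-- residue transcendence degrees are bounded on a scheme of finite type over a field. -/
theorem exists_td_le : ∃ m : ℕ, ∀ x : X, td f x ≤ m := by
  classical
  haveI := isNoetherian f
  let F : Set X → ℕ := fun Z => if h : ∃ η : X, IsGenericPoint η Z then td f h.choose else 0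
  have hfin : (irreducibleComponents X).Finite := NoetherianSpace.finite_irreducibleComponents
  obtain ⟨m, hm⟩ := (hfin.image F).bddAbove
  refine ⟨m, fun x => ?_⟩
  have hZ : irreducibleComponent x ∈ irreducibleComponents X :=
    irreducibleComponent_mem_irreducibleComponents x
  have hex : ∃ η : X, IsGenericPoint η (irreducibleComponent x) :=
    QuasiSober.sober isIrreducible_irreducibleComponent isClosed_irreducibleComponent
  have h1 : F (irreducibleComponent x) ≤ m := hm ⟨_, hZ, rfl⟩
  have h2 : F (irreducibleComponent x) = td f hex.choose := dif_pos hex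
  have h3 : hex.choose ⤳ x := hex.choose_spec.specializes mem_irreducibleComponent
  exact (td_le_of_specializes f h3).trans (h2 ▸ h1)

include f in
/-- the boundary of a constructible set which is disjoint from the closure of its boundary has
smaller dimension. -/
theorem dim_boundary_lt (O : Set X) (hO : IsConstructible O) (hne : O.Nonempty)
    (hdisj : Disjoint O (closure (closure O \ O))) :
    IsLocallyClosed O ∧ IsClosed (closure O \ O) ∧
      topologicalKrullDim ↥(closure O \ O) < topologicalKrullDim ↥O := by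
  haveI := isNoetherian f
  have hE : closure (closure O \ O) = closure O \ O := by
    refine le_antisymm ?_ subset_closure
    intro z hz
    refine ⟨closure_minimal Set.sdiff_subset isClosed_closure hz, fun h => ?_⟩
    exact Set.disjoint_left.mp hdisj h hz
  have hEc : IsClosed (closure O \ O) := hE ▸ isClosed_closure
  have hOeq : O = closure O ∩ (closure O \ O)ᶜ := by
    ext z
    constructor
    · intro hz
      exact ⟨subset_closure hz, fun h => h.2 hz⟩
    · rintro ⟨hz1, hz2⟩
      by_contra h
      exact hz2 ⟨hz1, h⟩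
  have hlc : IsLocallyClosed O := by
    rw [hOeq]
    exact isClosed_closure.isLocallyClosed.inter hEc.isOpen_compl.isLocallyClosed
  refine ⟨hlc, hEc, ?_⟩
  -- maximal transcendence degree on `O`
  obtain ⟨m, hm⟩ := exists_td_le f
  have hbdd : BddAbove (td f '' O) := ⟨m, by rintro _ ⟨x, -, rfl⟩; exact hm x⟩
  obtain ⟨ξ0, hξ0, hM⟩ := Nat.sSup_mem (hne.image (td f)) hbdd
  have hmax : ∀ ξ ∈ O, td f ξ ≤ td f ξ0 := fun ξ hξ => hM ▸ le_csSup hbdd ⟨ξ, hξ, rfl⟩
  have h1 : ((td f ξ0 : ℕ) : WithBot ℕ∞) ≤ topologicalKrullDim ↥O :=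
    (dim_le_iff_of_isLocallyClosed f O hlc _).mp le_rfl ξ0 hξ0
  -- points of the boundary
  have hbd : ∀ x ∈ closure O \ O, td f x < td f ξ0 := by
    rintro x ⟨hx1, hx2⟩
    obtain ⟨ξ, hξmax, hsp, -⟩ := exists_isMaxInOf_specializes f isClosed_closure hx1
    have hξ : ξ ∉ closure (closure O \ O) :=
      not_mem_closure_diff_of_maximal hO hξmax.1
        (fun t ht hsp => hξmax.2 t ht hsp (base_eq f t ξ))
    have hξO : ξ ∈ O := by
      by_contra h
      exact hξ (subset_closure ⟨hξmax.1, h⟩)
    have hne' : ξ ≠ x := fun h => hx2 (h ▸ hξO)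
    exact (td_lt_of_specializes f hsp hne').trans_le (hmax ξ hξO)
  by_cases hEne : (closure O \ O).Nonempty
  · obtain ⟨x0, hx0⟩ := hEne
    have hpos : 1 ≤ td f ξ0 := Nat.one_le_of_lt (hbd x0 hx0)
    have h2 : topologicalKrullDim ↥(closure O \ O) ≤ ((td f ξ0 - 1 : ℕ) : WithBot ℕ∞) := by
      rw [dim_le_iff_of_isLocallyClosed f _ hEc.isLocallyClosed]
      intro x hx
      have := hbd x hx
      exact_mod_cast Nat.le_sub_one_of_lt this
    refine lt_of_le_of_lt h2 (lt_of_lt_of_le ?_ h1)
    exact_mod_cast Nat.sub_one_lt (by omega)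
  · rw [Set.not_nonempty_iff_eq_empty] at hEne
    have hemp : IsEmpty ↥(closure O \ O) := by
      rw [hEne]
      infer_instance
    have h2 : topologicalKrullDim ↥(closure O \ O) = ⊥ := by
      rw [topologicalKrullDim]
      haveI : IsEmpty (IrreducibleCloseds ↥(closure O \ O)) :=
        ⟨fun s => by
          obtain ⟨z, -⟩ := s.isIrreducible.nonempty
          exact hemp.false z⟩
      exact Order.krullDim_eq_bot
    rw [h2]
    exact lt_of_lt_of_le (WithBot.bot_lt_coe _) h1

end Groth.Agent.Lib.Helper73.OrbitTop
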