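import Mathlib
import Groth.Agent.Lib.Helper73.OrbitTop
import Groth.Agent.Lib.Helper73.ActTrans

/-! Orbits of group schemes of finite type over an algebraically closed field (helper73): the orbit of
a rational point is locally closed, its boundary is closed, stable, and of smaller dimension. -/

set_option autoImplicit false
set_option linter.style.haveILetI false
set_option linter.unusedSectionVars false
universe u

open CategoryTheory CategoryTheory.Limits MonoidalCategory CartesianMonoidalCategory MonObj GrpObj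
  AlgebraicGeometry TopologicalSpace Topology

namespace Groth.Agent.Lib.Helper73.OrbitLC

open Groth.Agent.Lib.Helper73.ActTrans Groth.Agent.Lib.Helper73.OrbitTop

noncomputable section

variable {k : Type u} [Field k] [IsAlgClosed k] {G X : Over (Spec (CommRingCat.of k))} [GrpObj G]
  [LocallyOfFiniteType G.hom] [QuasiCompact G.hom] [LocallyOfFiniteType X.hom] [QuasiCompact X.hom]
  (a : AlgGrp.Action G X) (x : 𝟙_ (Over (Spec (CommRingCat.of k))) ⟶ X)

/-- the orbit of `x`. -/
def orbit : Set X.left := Set.range (a.orbitMap x).left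

set_option backward.isDefEq.respectTransparency.types false in
theorem isConstructible_orbit : IsConstructible (orbit a x) := by
  haveI := isNoetherian X.hom
  haveI := isNoetherian G.hom
  haveI : QuasiSeparatedSpace X.left := inferInstance
  haveI : QuasiSeparated X.hom :=
    (HasAffineProperty.iff_of_isAffine (P := @QuasiSeparated)).mpr ‹QuasiSeparatedSpace X.left›
  have hw : (a.orbitMap x).left ≫ X.hom = G.hom := Over.w (a.orbitMap x)
  haveI : LocallyOfFiniteType ((a.orbitMap x).left ≫ X.hom) := hw ▸ inferInstance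
  haveI : LocallyOfFiniteType (a.orbitMap x).left := locallyOfFiniteType_of_comp _ X.hom
  haveI : QuasiCompact ((a.orbitMap x).left ≫ X.hom) := hw ▸ inferInstance
  haveI : QuasiCompact (a.orbitMap x).left := QuasiCompact.of_comp _ X.hom
  haveI : LocallyOfFinitePresentation (a.orbitMap x).left :=
    LocallyOfFinitePresentation.iff_locallyOfFiniteType.mpr inferInstance
  have := (a.orbitMap x).left.isConstructible_image (s := Set.univ) IsConstructible.univ
  rwa [Set.image_univ] at this

theorem unit_toUnit : toUnit (𝟙_ (Over (Spec (CommRingCat.of k)))) = 𝟙 _ := toUnit_unique _ _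

/-- translations preserve the orbit. -/
theorem actIso_mem_orbit (τ : 𝟙_ (Over (Spec (CommRingCat.of k))) ⟶ G) {z : X.left}
    (hz : z ∈ orbit a x) : (actIso a τ).hom.left z ∈ orbit a x := by
  obtain ⟨g, rfl⟩ := hz
  have h1 := congrArg (fun m => m.left) (mulLeft_orbitMap a τ x)
  have h2 : ((mulLeft τ).hom.left ≫ (a.orbitMap x).left) g =
      ((a.orbitMap x).left ≫ (actIso a τ).hom.left) g := congrArg (fun m : G.left ⟶ X.left => m g) h1
  exact ⟨(mulLeft τ).hom.left g, h2⟩

/-- closed points of the orbit are images of rational points of `G`. -/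
theorem exists_section_of_isClosed {y : X.left} (hy : y ∈ orbit a x) (hyc : IsClosed ({y} : Set X.left)) :
    ∃ τ : 𝟙_ (Over (Spec (CommRingCat.of k))) ⟶ G,
      (a.orbitMap x).left (τ.left (IsLocalRing.closedPoint k)) = y := by
  haveI : JacobsonSpace G.left := LocallyOfFiniteType.jacobsonSpace G.hom
  have hcl : IsClosed ((a.orbitMap x).left ⁻¹' {y}) := hyc.preimage (a.orbitMap x).left.continuous
  obtain ⟨g0, rfl⟩ := hy
  obtain ⟨g, hg, hgc⟩ := nonempty_inter_closedPoints
    (⟨g0, rfl⟩ : ((a.orbitMap x).left ⁻¹' {(a.orbitMap x).left g0}).Nonempty) hcl.isLocallyClosed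
  refine ⟨Over.homMk (pointOfClosedPoint G.hom g hgc) (pointOfClosedPoint_comp _ _ _), ?_⟩
  have : (pointOfClosedPoint G.hom g hgc) (IsLocalRing.closedPoint k) = g :=
    pointOfClosedPoint_apply _ _ _ _
  exact (congrArg (a.orbitMap x).left this).trans hg

theorem actIso_inv_hom_apply (τ : 𝟙_ (Over (Spec (CommRingCat.of k))) ⟶ G) (z : X.left) :
    (actIso a τ).hom.left ((actIso a τ).inv.left z) = z := by
  have h1 := congrArg (fun m => m.left) (actIso a τ).inv_hom_id
  exact congrArg (fun m : X.left ⟶ X.left => m z) h1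

theorem actIso_hom_inv_apply (τ : 𝟙_ (Over (Spec (CommRingCat.of k))) ⟶ G) (z : X.left) :
    (actIso a τ).inv.left ((actIso a τ).hom.left z) = z := by
  have h1 := congrArg (fun m => m.left) (actIso a τ).hom_inv_id
  exact congrArg (fun m : X.left ⟶ X.left => m z) h1

theorem actIso_inv_mem_orbit (τ : 𝟙_ (Over (Spec (CommRingCat.of k))) ⟶ G) {z : X.left}
    (hz : z ∈ orbit a x) : (actIso a τ).inv.left z ∈ orbit a x :=
  actIso_mem_orbit a x τ⁻¹ hz

/-- the homogeneity of the orbit. -/
theorem orbit_homogeneous (u : X.left) (hu : u ∈ orbit a x) (y : X.left) (hy : y ∈ orbit a x)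
    (huc : IsClosed ({u} : Set X.left)) (hyc : IsClosed ({y} : Set X.left)) :
    ∃ A B : X.left → X.left, Continuous B ∧ (∀ z, A (B z) = z) ∧ (∀ z, B (A z) = z) ∧ A u = y ∧
      (∀ z ∈ orbit a x, A z ∈ orbit a x) ∧ (∀ z ∈ orbit a x, B z ∈ orbit a x) := by
  obtain ⟨σ, hσ⟩ := exists_section_of_isClosed a x hu huc
  obtain ⟨τ, hτ⟩ := exists_section_of_isClosed a x hy hyc
  refine ⟨(actIso a (τ * σ⁻¹)).hom.left, (actIso a (τ * σ⁻¹)).inv.left,
    (actIso a (τ * σ⁻¹)).inv.left.continuous, actIso_inv_hom_apply a _, actIso_hom_inv_apply a _, ?_,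
    fun z hz => actIso_mem_orbit a x _ hz, fun z hz => actIso_inv_mem_orbit a x _ hz⟩
  have hL : σ ≫ (mulLeft (τ * σ⁻¹)).hom = τ := by
    rw [comp_mulLeft_hom, unit_toUnit, Category.id_comp, inv_mul_cancel_right]
  have h1 := congrArg (fun m => m.left) (mulLeft_orbitMap a (τ * σ⁻¹) x)
  have h2 : ((mulLeft (τ * σ⁻¹)).hom.left ≫ (a.orbitMap x).left)
      (σ.left (IsLocalRing.closedPoint k)) =
      ((a.orbitMap x).left ≫ (actIso a (τ * σ⁻¹)).hom.left) (σ.left (IsLocalRing.closedPoint k)) :=
    congrArg (fun m : G.left ⟶ X.left => m (σ.left (IsLocalRing.closedPoint k))) h1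
  have h3 : (mulLeft (τ * σ⁻¹)).hom.left (σ.left (IsLocalRing.closedPoint k)) =
      τ.left (IsLocalRing.closedPoint k) :=
    congrArg (fun m => m.left (IsLocalRing.closedPoint k)) hL
  rw [← hσ, ← hτ, ← h3]
  exact h2.symm

theorem orbit_nonempty : (orbit a x).Nonempty :=
  ⟨_, ⟨η[G].left (IsLocalRing.closedPoint k), rfl⟩⟩

/-- the orbit is disjoint from the closure of its boundary. -/
theorem disjoint_orbit :
    Disjoint (orbit a x) (closure (closure (orbit a x) \ orbit a x)) :=
  disjoint_closure_diff X.hom (orbit a x) (isConstructible_orbit a x) (orbit_homogeneous a x)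

theorem orbit_main :
    IsLocallyClosed (orbit a x) ∧ IsClosed (closure (orbit a x) \ orbit a x) ∧
      topologicalKrullDim ↥(closure (orbit a x) \ orbit a x) < topologicalKrullDim ↥(orbit a x) :=
  dim_boundary_lt X.hom (orbit a x) (isConstructible_orbit a x) (orbit_nonempty a x)
    (disjoint_orbit a x)

/-- the boundary is stable under translations. -/
theorem actIso_mem_boundary (τ : 𝟙_ (Over (Spec (CommRingCat.of k))) ⟶ G) {z : X.left}
    (hz : z ∈ closure (orbit a x) \ orbit a x) :
    (actIso a τ).hom.left z ∈ closure (orbit a x) \ orbit a x := by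
  obtain ⟨hz1, hz2⟩ := hz
  refine ⟨?_, fun h => hz2 ?_⟩
  · have h1 : (actIso a τ).hom.left z ∈ closure ((actIso a τ).hom.left '' orbit a x) :=
      image_closure_subset_closure_image (actIso a τ).hom.left.continuous ⟨z, hz1, rfl⟩
    refine closure_mono ?_ h1
    rintro _ ⟨w, hw, rfl⟩
    exact actIso_mem_orbit a x τ hw
  · have := actIso_inv_mem_orbit a x τ h
    rwa [actIso_hom_inv_apply] at this

/-- the orbit of a rational point of the boundary lies in the boundary. -/
theorem orbit_subset_boundary (y : 𝟙_ (Over (Spec (CommRingCat.of k))) ⟶ X)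
    (hy : y.left (IsLocalRing.closedPoint k) ∈ closure (orbit a x) \ orbit a x) :
    orbit a y ⊆ closure (orbit a x) \ orbit a x := by
  haveI : JacobsonSpace G.left := LocallyOfFiniteType.jacobsonSpace G.hom
  have hEc : IsClosed (closure (orbit a x) \ orbit a x) := (orbit_main a x).2.1
  have hcl : IsClosed ((a.orbitMap y).left ⁻¹' (closure (orbit a x) \ orbit a x)) :=
    hEc.preimage (a.orbitMap y).left.continuous
  have hsub : closedPoints G.left ⊆
      (a.orbitMap y).left ⁻¹' (closure (orbit a x) \ orbit a x) := by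
    intro g hg
    let τ : 𝟙_ (Over (Spec (CommRingCat.of k))) ⟶ G :=
      Over.homMk (pointOfClosedPoint G.hom g hg) (pointOfClosedPoint_comp _ _ _)
    have hτ : τ.left (IsLocalRing.closedPoint k) = g := pointOfClosedPoint_apply _ _ _ _
    have h1 : τ ≫ a.orbitMap y = y ≫ (actIso a τ).hom := by
      rw [AlgGrp.Action.comp_orbitMap, comp_actIso_hom, unit_toUnit, Category.id_comp,
        Category.id_comp]
    have h2 : (a.orbitMap y).left (τ.left (IsLocalRing.closedPoint k)) =
        (actIso a τ).hom.left (y.left (IsLocalRing.closedPoint k)) :=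
      congrArg (fun m => m.left (IsLocalRing.closedPoint k)) h1
    rw [Set.mem_preimage, ← hτ, h2]
    exact actIso_mem_boundary a x τ hy
  have huniv : (a.orbitMap y).left ⁻¹' (closure (orbit a x) \ orbit a x) = Set.univ := by
    refine Set.eq_univ_of_univ_subset ?_
    rw [← closure_closedPoints]
    exact hcl.closure_subset_iff.mpr hsub
  rintro _ ⟨g, rfl⟩
  have : g ∈ (a.orbitMap y).left ⁻¹' (closure (orbit a x) \ orbit a x) := huniv ▸ Set.mem_univ g
  exact this

end

end Groth.Agent.Lib.Helper73.OrbitLC
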