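import Mathlib
import Groth.Prelude.Def_W4c6nonredquotmfGoodQuot
import Groth.Prelude.Def_ChGrp
import Groth.Agent.Lib.Helper73.ActTrans
import Groth.Agent.Lib.Helper73.GoodQuot
import Groth.Agent.Lib.Helper73.OrbitLC

set_option autoImplicit false
universe u

open CategoryTheory CategoryTheory.Limits MonoidalCategory CartesianMonoidalCategory MonObj GrpObj
  AlgebraicGeometry

namespace Groth.Agent.Lib.Helper73.GoodQuot

open Groth.Agent.Lib.Helper73.ActTrans

noncomputable section

section Restrict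

variable {S : Scheme.{u}} {G X X' : Over S} [GrpObj G] (a : AlgGrp.Action G X) (j : X' ⟶ X)
  (act' : G ⊗ X' ⟶ X') (hact : act' ≫ j = (G ◁ j) ≫ a.act)

include hact in
theorem lift_act' {T : Over S} (g : T ⟶ G) (x : T ⟶ X') :
    lift g x ≫ act' ≫ j = lift g (x ≫ j) ≫ a.act := by
  rw [hact, lift_whiskerLeft_assoc]

/-- restriction of an action along a monomorphism through which the action factors. -/
def restrictAction [Mono j] : AlgGrp.Action G X' where
  act := act'
  one_act := by
    rw [← cancel_mono j, Category.assoc, hact, ← whisker_exchange_assoc, a.one_act,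
      leftUnitor_naturality]
  mul_act := by
    apply AlgGrp.Action.hom_ext_lift₃
    intro T g g' x
    rw [← cancel_mono j]
    simp only [Category.assoc]
    rw [lift_whiskerRight_assoc, ← Hom.mul_def, lift_act' a j act' hact,
      AlgGrp.Action.lift_mul_act, lift_lift_associator_hom_assoc, lift_whiskerLeft_assoc,
      lift_act' a j act' hact, Category.assoc, lift_act' a j act' hact]

theorem restrictAction_orbitMap [Mono j] (x' : 𝟙_ (Over S) ⟶ X') :
    (restrictAction a j act' hact).orbitMap x' ≫ j = a.orbitMap (x' ≫ j) := by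
  change (lift (𝟙 G) (toUnit G ≫ x') ≫ act') ≫ j = lift (𝟙 G) (toUnit G ≫ x' ≫ j) ≫ a.act
  rw [Category.assoc, lift_act' a j act' hact, Category.assoc]

end Restrict

section OpenRestrict

variable {S : Scheme.{u}} {G X : Over S} [GrpObj G] (a : AlgGrp.Action G X) (U : X.left.Opens)
  (hU : NRQuot.IsInvariantSet a (U : Set X.left))

/-- the open subscheme as an object over `S`. -/
abbrev overOpen : Over S := Over.mk (U.ι ≫ X.hom)

/-- the inclusion. -/
def overOpenι : overOpen U ⟶ X := Over.homMk U.ι rfl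

instance : Mono (overOpenι U) := by
  haveI : Mono (overOpenι U).left := inferInstanceAs (Mono U.ι)
  exact Over.mono_of_mono_left _

include hU in
theorem range_act_subset :
    Set.range ((G ◁ overOpenι U) ≫ a.act).left ⊆ Set.range U.ι := by
  rintro _ ⟨p, rfl⟩
  rw [Scheme.Opens.range_ι]
  change a.act.left ((G ◁ overOpenι U).left p) ∈ (U : Set X.left)
  apply hU
  have h1 : (G ◁ overOpenι U) ≫ snd G X = snd G (overOpen U) ≫ overOpenι U := whiskerLeft_snd _ _
  have h2 := congrArg (fun m => m.left) h1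
  have h3 : (snd G X).left ((G ◁ overOpenι U).left p) =
      U.ι ((snd G (overOpen U)).left p) :=
    congrArg (fun m : (G ⊗ overOpen U).left ⟶ X.left => m p) h2
  rw [h3]
  exact ((snd G (overOpen U)).left p).2

/-- the restricted action morphism. -/
def actOpen : G ⊗ overOpen U ⟶ overOpen U :=
  Over.homMk (IsOpenImmersion.lift U.ι ((G ◁ overOpenι U) ≫ a.act).left (range_act_subset a U hU))
    (by
      change _ ≫ U.ι ≫ X.hom = _
      rw [IsOpenImmersion.lift_fac_assoc]
      exact Over.w ((G ◁ overOpenι U) ≫ a.act))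

theorem actOpen_comp : actOpen a U hU ≫ overOpenι U = (G ◁ overOpenι U) ≫ a.act := by
  apply Over.OverMorphism.ext
  change IsOpenImmersion.lift U.ι _ _ ≫ U.ι = _
  exact IsOpenImmersion.lift_fac _ _ _

/-- the action restricted to an invariant open subscheme. -/
def restrictOpen : AlgGrp.Action G (overOpen U) :=
  restrictAction a (overOpenι U) (actOpen a U hU) (actOpen_comp a U hU)

theorem restrictOpen_orbitMap (x' : 𝟙_ (Over S) ⟶ overOpen U) :
    (restrictOpen a U hU).orbitMap x' ≫ overOpenι U = a.orbitMap (x' ≫ overOpenι U) :=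
  restrictAction_orbitMap a _ _ _ x'

theorem range_orbitMap_restrictOpen (x' : 𝟙_ (Over S) ⟶ overOpen U) :
    Set.range (a.orbitMap (x' ≫ overOpenι U)).left =
      U.ι '' Set.range ((restrictOpen a U hU).orbitMap x').left := by
  rw [← restrictOpen_orbitMap a U hU x']
  ext z
  constructor
  · rintro ⟨g, rfl⟩
    exact ⟨_, ⟨g, rfl⟩, rfl⟩
  · rintro ⟨_, ⟨g, rfl⟩, rfl⟩
    exact ⟨g, rfl⟩

end OpenRestrict

section ClosedOrbit

variable {k : Type u} [Field k] [IsAlgClosed k] {G X : Over (Spec (CommRingCat.of k))} [GrpObj G]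
  [LocallyOfFiniteType G.hom] [QuasiCompact G.hom] [LocallyOfFiniteType X.hom]
  (a : AlgGrp.Action G X)

omit [IsAlgClosed k] [LocallyOfFiniteType G.hom] [QuasiCompact G.hom] [LocallyOfFiniteType X.hom] in
theorem orbit_subset_of_isInvariantSet {F : Set X.left} (hF : NRQuot.IsInvariantSet a F)
    (z : 𝟙_ (Over (Spec (CommRingCat.of k))) ⟶ X) (hz : z.left (IsLocalRing.closedPoint k) ∈ F) :
    Set.range (a.orbitMap z).left ⊆ F := by
  rintro _ ⟨g, rfl⟩
  change a.act.left ((lift (𝟙 G) (toUnit G ≫ z)).left g) ∈ F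
  apply hF
  have h1 : lift (𝟙 G) (toUnit G ≫ z) ≫ snd G X = toUnit G ≫ z := lift_snd _ _
  have h2 := congrArg (fun m => m.left) h1
  have h3 : (snd G X).left ((lift (𝟙 G) (toUnit G ≫ z)).left g) = z.left ((toUnit G).left g) :=
    congrArg (fun m : G.left ⟶ X.left => m g) h2
  have h4 : (toUnit G).left g = IsLocalRing.closedPoint k :=
    Subsingleton.elim (α := Spec (CommRingCat.of k)) _ _
  exact Set.mem_of_eq_of_mem (h3.trans (congrArg z.left h4)) hz

set_option backward.isDefEq.respectTransparency.types false in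
set_option maxHeartbeats 800000 in
/-- a nonempty closed invariant subset contained in a quasi-compact invariant open contains a
closed orbit. -/
theorem exists_closed_orbit (U : X.left.Opens) [CompactSpace U]
    (hU : NRQuot.IsInvariantSet a (U : Set X.left))
    (F : Set X.left) (hFc : IsClosed F) (hFU : F ⊆ U) (hFne : F.Nonempty)
    (hFi : NRQuot.IsInvariantSet a F) :
    ∃ x : 𝟙_ (Over (Spec (CommRingCat.of k))) ⟶ X,
      x.left (IsLocalRing.closedPoint k) ∈ F ∧ IsClosed (Set.range (a.orbitMap x).left) := by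
  have : JacobsonSpace X.left := LocallyOfFiniteType.jacobsonSpace X.hom
  have i1 : LocallyOfFiniteType (overOpen (X := X) U).hom :=
    inferInstanceAs (LocallyOfFiniteType (U.ι ≫ X.hom))
  have i2 : QuasiCompact (overOpen (X := X) U).hom :=
    (HasAffineProperty.iff_of_isAffine (P := @QuasiCompact)).mpr
      (inferInstanceAs (CompactSpace U))
  have : JacobsonSpace (overOpen (X := X) U).left :=
    LocallyOfFiniteType.jacobsonSpace (overOpen (X := X) U).hom
  let aU := restrictOpen a U hU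
  -- points of `U` over `F`
  have hpt : ∀ (u0 : U), IsClosed ({u0} : Set U) →
      ∃ x' : 𝟙_ (Over (Spec (CommRingCat.of k))) ⟶ overOpen (X := X) U,
        x'.left (IsLocalRing.closedPoint k) = u0 := by
    intro u0 hu0c
    exact ⟨Over.homMk (pointOfClosedPoint (overOpen (X := X) U).hom u0 hu0c)
      (pointOfClosedPoint_comp _ _ _), pointOfClosedPoint_apply _ _ _ _⟩
  let 𝒮 : Set (𝟙_ (Over (Spec (CommRingCat.of k))) ⟶ overOpen (X := X) U) :=
    {x' | U.ι (x'.left (IsLocalRing.closedPoint k)) ∈ F}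
  have h𝒮 : 𝒮.Nonempty := by
    obtain ⟨x0, hx0F, hx0c⟩ := nonempty_inter_closedPoints hFne hFc.isLocallyClosed
    have hu0c : IsClosed ({(⟨x0, hFU hx0F⟩ : U)} : Set U) := by
      have : ({(⟨x0, hFU hx0F⟩ : U)} : Set U) = U.ι ⁻¹' {x0} := by
        ext w
        simp only [Set.mem_singleton_iff, Set.mem_preimage]
        exact Subtype.ext_iff
      rw [this]
      exact hx0c.preimage U.ι.continuous
    obtain ⟨x', hx'⟩ := hpt ⟨x0, hFU hx0F⟩ hu0c
    refine ⟨x', ?_⟩
    change U.ι (x'.left (IsLocalRing.closedPoint k)) ∈ F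
    rw [hx']
    exact hx0F
  let d : (𝟙_ (Over (Spec (CommRingCat.of k))) ⟶ overOpen (X := X) U) → WithBot ℕ∞ :=
    fun x' => topologicalKrullDim ↥(OrbitLC.orbit aU x')
  obtain ⟨_, ⟨x', hx'S, rfl⟩, hmin⟩ := wellFounded_lt.has_min (d '' 𝒮) (h𝒮.image d)
  -- orbits of points of `𝒮` stay over `F`
  have horb : ∀ z' ∈ 𝒮, OrbitLC.orbit aU z' ⊆ U.ι ⁻¹' F := by
    intro z' hz'
    rintro _ ⟨g, rfl⟩
    have h1 := congrArg (fun m => m.left) (restrictOpen_orbitMap a U hU z')
    have h2 : U.ι ((aU.orbitMap z').left g) = (a.orbitMap (z' ≫ overOpenι U)).left g :=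
      congrArg (fun m : G.left ⟶ X.left => m g) h1
    rw [Set.mem_preimage, h2]
    exact orbit_subset_of_isInvariantSet a hFi (z' ≫ overOpenι U) hz' ⟨g, rfl⟩
  have hF'c : IsClosed (U.ι ⁻¹' F) := hFc.preimage U.ι.continuous
  -- the boundary is empty
  have hB : closure (OrbitLC.orbit aU x') \ OrbitLC.orbit aU x' = ∅ := by
    by_contra hne
    have hBc : IsClosed (closure (OrbitLC.orbit aU x') \ OrbitLC.orbit aU x') :=
      (OrbitLC.orbit_main aU x').2.1
    obtain ⟨z, hzB, hzc⟩ := nonempty_inter_closedPoints (Set.nonempty_iff_ne_empty.mpr hne)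
      hBc.isLocallyClosed
    obtain ⟨z', hz'⟩ := hpt z hzc
    have hz'S : z' ∈ 𝒮 := by
      change U.ι (z'.left (IsLocalRing.closedPoint k)) ∈ F
      rw [hz']
      exact (hF'c.closure_subset_iff.mpr (horb x' hx'S)) hzB.1
    have hsub := OrbitLC.orbit_subset_boundary aU x' z' (hz' ▸ hzB)
    have hlt := (OrbitLC.orbit_main aU x').2.2
    have hle : d z' ≤ topologicalKrullDim ↥(closure (OrbitLC.orbit aU x') \ OrbitLC.orbit aU x') :=
      (Topology.IsEmbedding.inclusion hsub).isInducing.topologicalKrullDim_le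
    exact hmin (d z') ⟨z', hz'S, rfl⟩ (lt_of_le_of_lt hle hlt)
  have hOc : IsClosed (OrbitLC.orbit aU x') := by
    have : closure (OrbitLC.orbit aU x') ⊆ OrbitLC.orbit aU x' := by
      intro w hw
      by_contra hw'
      exact (Set.eq_empty_iff_forall_notMem.mp hB w) ⟨hw, hw'⟩
    exact closure_subset_iff_isClosed.mp this
  refine ⟨x' ≫ overOpenι U, hx'S, ?_⟩
  rw [range_orbitMap_restrictOpen a U hU x']
  change IsClosed (U.ι '' OrbitLC.orbit aU x')
  have hsubF : U.ι '' OrbitLC.orbit aU x' ⊆ F := by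
    rintro _ ⟨w, hw, rfl⟩
    exact horb x' hx'S hw
  refine closure_subset_iff_isClosed.mp ?_
  intro w hw
  have hwF : w ∈ F := (hFc.closure_subset_iff.mpr hsubF) hw
  have hwU : w ∈ (U : Set X.left) := hFU hwF
  refine ⟨⟨w, hwU⟩, ?_, rfl⟩
  have h5 := U.ι.isOpenEmbedding.isEmbedding.closure_eq_preimage_closure_image
    (OrbitLC.orbit aU x')
  rw [hOc.closure_eq] at h5
  rw [h5]
  exact hw

omit [QuasiCompact G.hom] in
/-- the fibres of an invariant morphism are invariant. -/
theorem isInvariantSet_preimage {Y : Over (Spec (CommRingCat.of k))} {φ : X ⟶ Y}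
    (hinv : GIT.IsInvariant a φ) (T : Set Y.left) :
    NRQuot.IsInvariantSet a (φ.left ⁻¹' T) := by
  intro p hp
  have h1 := congrArg (fun m => m.left) hinv
  have h2 : φ.left (a.act.left p) = φ.left ((snd G X).left p) :=
    congrArg (fun m : (G ⊗ X).left ⟶ Y.left => m p) h1
  have h3 : φ.left (a.act.left p) ∈ T := Set.mem_of_eq_of_mem h2 hp
  exact h3

/-- each fibre of a good quotient over a rational point contains a unique closed orbit. -/
theorem exists_unique_closed_orbit {Y : Over (Spec (CommRingCat.of k))} {φ : X ⟶ Y}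
    (h : NRQuot.IsGoodQuot a φ) (y : 𝟙_ (Over (Spec (CommRingCat.of k))) ⟶ Y) :
    ∃ x : 𝟙_ (Over (Spec (CommRingCat.of k))) ⟶ X, x ≫ φ = y ∧
      IsClosed (Set.range (a.orbitMap x).left) ∧
      ∀ x' : 𝟙_ (Over (Spec (CommRingCat.of k))) ⟶ X, x' ≫ φ = y →
        IsClosed (Set.range (a.orbitMap x').left) →
        ∃ g : 𝟙_ (Over (Spec (CommRingCat.of k))) ⟶ G, lift g x ≫ a.act = x' := by
  have hsurj : Function.Surjective φ.left := by
    have h1 := h.inter PEmpty.{u + 1} (fun i => i.elim) (fun i => i.elim) (fun i => i.elim)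
    simp only [Set.iInter_of_empty, Set.image_univ] at h1
    exact Set.range_eq_univ.mp h1
  obtain ⟨x0, hx0⟩ := hsurj (y.left (IsLocalRing.closedPoint k))
  obtain ⟨V, hV, hyV, -⟩ := exists_isAffineOpen_mem_and_subset
    (x := y.left (IsLocalRing.closedPoint k)) (U := ⊤) trivial
  have := h.affine
  have hUaff : IsAffineOpen (φ.left ⁻¹ᵁ V) := hV.preimage φ.left
  have : CompactSpace (φ.left ⁻¹ᵁ V) := isCompact_iff_compactSpace.mp hUaff.isCompact
  have hUinv : NRQuot.IsInvariantSet a ((φ.left ⁻¹ᵁ V : X.left.Opens) : Set X.left) :=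
    isInvariantSet_preimage a h.inv (V : Set Y.left)
  have hFc : IsClosed (φ.left ⁻¹' {y.left (IsLocalRing.closedPoint k)}) :=
    (isClosed_point Y y).preimage φ.left.continuous
  have hFU : φ.left ⁻¹' {y.left (IsLocalRing.closedPoint k)} ⊆
      ((φ.left ⁻¹ᵁ V : X.left.Opens) : Set X.left) := by
    intro w hw
    change φ.left w ∈ V
    rw [Set.mem_preimage, Set.mem_singleton_iff] at hw
    rw [hw]
    exact hyV
  obtain ⟨x, hxF, hxc⟩ := exists_closed_orbit a (φ.left ⁻¹ᵁ V) hUinv
    (φ.left ⁻¹' {y.left (IsLocalRing.closedPoint k)}) hFc hFU ⟨x0, hx0⟩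
    (isInvariantSet_preimage a h.inv _)
  have hxy : x ≫ φ = y := point_ext Y _ _ hxF
  refine ⟨x, hxy, hxc, fun x' hx'y hx'c => ?_⟩
  exact exists_act_eq_of_isClosed a h x x' hxc hx'c (hxy.trans hx'y.symm)

end ClosedOrbit

section Affine

variable {k : Type u} [Field k] [IsAlgClosed k] {G X : Over (Spec (CommRingCat.of k))} [GrpObj G]
  [IsAffine G.left] [LocallyOfFiniteType G.hom] [LocallyOfFiniteType X.hom]
  (a : AlgGrp.Action G X)

set_option backward.isDefEq.respectTransparency.types false in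
/-- the version for an affine group. -/
theorem exists_unique_closed_orbit_of_isAffine {Y : Over (Spec (CommRingCat.of k))} {φ : X ⟶ Y}
    (h : NRQuot.IsGoodQuot a φ) (y : 𝟙_ (Over (Spec (CommRingCat.of k))) ⟶ Y) :
    ∃ x : 𝟙_ (Over (Spec (CommRingCat.of k))) ⟶ X, x ≫ φ = y ∧
      IsClosed (Set.range (a.orbitMap x).left) ∧
      ∀ x' : 𝟙_ (Over (Spec (CommRingCat.of k))) ⟶ X, x' ≫ φ = y →
        IsClosed (Set.range (a.orbitMap x').left) →
        ∃ g : 𝟙_ (Over (Spec (CommRingCat.of k))) ⟶ G, lift g x ≫ a.act = x' := by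
  have : QuasiCompact G.hom :=
    (HasAffineProperty.iff_of_isAffine (P := @QuasiCompact)).mpr
      (inferInstanceAs (CompactSpace G.left))
  exact exists_unique_closed_orbit a h y

end Affine

end

end Groth.Agent.Lib.Helper73.GoodQuot
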