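import Mathlib
import Groth.Prelude.Def_Red
import Groth.Agent.S0404
import Groth.Agent.Lib.Helper21.GrpDim
import Groth.Agent.Lib.Helper21.FibreTd
import Groth.Agent.Lib.Helper73.FibreDimGen2
import Groth.Agent.Lib.Helper73.FibreDimRetro

/-!
helper73: the dimension of the fibres of a group scheme over a base:
`dim G_s` is the local fibre dimension along the unit section; upper semicontinuous (Chevalley),
and locally constant when `G` is flat and locally of finite presentation.
-/

set_option autoImplicit false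
universe u

open CategoryTheory CategoryTheory.Limits MonoidalCategory CartesianMonoidalCategory MonObj GrpObj
  AlgebraicGeometry

namespace Groth.Agent.Lib.Helper73.GrpFibreDim

open Groth.Agent.Lib.Helper21.FieldDim Groth.Agent.Lib.Helper73.SchemeDim
  Groth.Agent.Lib.Helper73.FibreDimRetro

variable {S : Scheme.{u}} (G : Over S) [GrpObj G]

theorem hom_unit (s : S) : G.hom (η[G].left s) = s := by
  have h : η[G].left ≫ G.hom = 𝟙 S := Over.w η[G]
  rw [← Scheme.Hom.comp_apply, h]
  rfl

variable [LocallyOfFiniteType G.hom]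

/-- the dimension of the fibre of a group scheme is the local fibre dimension at the unit. -/
theorem dim_fiber_eq_fibreDimAt_unit (s : S) :
    topologicalKrullDim ↥(G.hom.fiber s) = FlatMor.fibreDimAt G.hom (η[G].left s) := by
  have hmem : η[G].left s ∈ Set.range (G.hom.fiberι s) := by
    rw [Scheme.Hom.range_fiberι]
    exact hom_unit G s
  obtain ⟨z, hz⟩ := hmem
  rw [← localDim_fiber_eq_fibreDimAt G.hom _ s (hom_unit G s) z hz]
  have i1 : LocallyOfFiniteType (Red.bc (S.fromSpecResidueField s) G).hom :=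
    inferInstanceAs (LocallyOfFiniteType (pullback.snd G.hom (S.fromSpecResidueField s)))
  exact ((grp_equidim (k := S.residueField s) (Red.bc (S.fromSpecResidueField s) G)).2 z).symm

/-- upper semicontinuity of the fibre dimension of a group scheme. -/
theorem isOpen_setOf_dim_fiber_le (n : ℕ) :
    IsOpen {s : S | topologicalKrullDim ↥(G.hom.fiber s) ≤ n} := by
  have h : {s : S | topologicalKrullDim ↥(G.hom.fiber s) ≤ n} =
      η[G].left ⁻¹' {x | FlatMor.fibreDimAt G.hom x ≤ n} := by
    ext s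
    simp only [Set.mem_ofPred_eq, Set.mem_preimage]
    rw [dim_fiber_eq_fibreDimAt_unit]
  rw [h]
  exact (isOpen_setOf_fibreDimAt_le G.hom n).preimage η[G].left.continuous

/-- lower semicontinuity of the fibre dimension of a flat group scheme locally of finite
presentation. -/
theorem isOpen_setOf_le_dim_fiber [Flat G.hom] [LocallyOfFinitePresentation G.hom] (n : ℕ) :
    IsOpen {s : S | (n : WithBot ℕ∞) ≤ topologicalKrullDim ↥(G.hom.fiber s)} := by
  rw [isOpen_iff_forall_mem_open]
  intro s₀ hs₀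
  have hs₀' : (n : WithBot ℕ∞) ≤ topologicalKrullDim ↥(G.hom.fiber s₀) := hs₀
  obtain ⟨_, ⟨V, hV : IsAffineOpen V, rfl⟩, hsV, -⟩ :=
    (S.isBasis_affineOpens).exists_subset_of_mem_open (Set.mem_univ s₀) isOpen_univ
  have heV : η[G].left s₀ ∈ (G.hom ⁻¹ᵁ V : Set G.left) := by
    change G.hom (η[G].left s₀) ∈ V
    rw [hom_unit]
    exact hsV
  obtain ⟨_, ⟨U, hU : IsAffineOpen U, rfl⟩, heU, hUV⟩ :=
    (G.left.isBasis_affineOpens).exists_subset_of_mem_open heV (G.hom ⁻¹ᵁ V).isOpen
  have e : U ≤ G.hom ⁻¹ᵁ V := hUV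
  set h' := G.hom.resLE V U e with hh'
  have hcomm : h' ≫ (Scheme.Opens.ι V) = (Scheme.Opens.ι U) ≫ G.hom := Scheme.Hom.resLE_comp_ι _ _
  have : IsAffine (U : Scheme.{u}) := hU
  have : IsAffine (V : Scheme.{u}) := hV
  have hfl : Flat h' := inferInstance
  have hfp : LocallyOfFinitePresentation h' := inferInstance
  have hft : LocallyOfFiniteType h' := inferInstance
  have key : ∀ u : (U : Scheme.{u}), FlatMor.fibreDimAt h' u = FlatMor.fibreDimAt G.hom ((Scheme.Opens.ι U) u) := by
    intro u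
    have : LocallyOfFiniteType (h' ≫ (Scheme.Opens.ι V)) := inferInstance
    rw [← fibreDimAt_comp_mono h' (Scheme.Opens.ι V) u, ← fibreDimAt_comp_openImmersion (Scheme.Opens.ι U) G.hom u, hcomm]
  have hopen := Groth.Agent.S0404.result h'
    (if n = 0 then (⊥ : WithBot ℕ∞) else ((n - 1 : ℕ) : WithBot ℕ∞))
  refine ⟨(Scheme.Opens.ι V) '' {v | (if n = 0 then (⊥ : WithBot ℕ∞) else ((n - 1 : ℕ) : WithBot ℕ∞)) <
      topologicalKrullDim ↥(h'.fiber v)}, ?_, (Scheme.Opens.ι V).isOpenEmbedding.isOpenMap _ hopen, ?_⟩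
  · rintro _ ⟨v, hv, rfl⟩
    have hv' := natCast_le_of_pred_lt n _ hv
    rw [natCast_le_topologicalKrullDim_fiber_iff] at hv'
    obtain ⟨u, hu, hnu⟩ := hv'
    rw [key u] at hnu
    have h1 := fibreDimAt_le_dim_fiber G.hom ((Scheme.Opens.ι U) u)
    have h2 : G.hom ((Scheme.Opens.ι U) u) = (Scheme.Opens.ι V) v := by
      rw [← hu, ← Scheme.Hom.comp_apply, ← hcomm, Scheme.Hom.comp_apply]
    rw [h2] at h1
    exact hnu.trans h1
  · obtain ⟨v₀, hv₀⟩ : ∃ v₀ : (V : Scheme.{u}), (Scheme.Opens.ι V) v₀ = s₀ := by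
      have hm : s₀ ∈ Set.range (Scheme.Opens.ι V) := by
        rw [Scheme.Opens.range_ι]
        exact hsV
      exact hm
    obtain ⟨u₀, hu₀⟩ : ∃ u₀ : (U : Scheme.{u}), (Scheme.Opens.ι U) u₀ = η[G].left s₀ := by
      have hm : η[G].left s₀ ∈ Set.range (Scheme.Opens.ι U) := by
        rw [Scheme.Opens.range_ι]
        exact heU
      exact hm
    refine ⟨v₀, ?_, hv₀⟩
    apply lt_of_lt_of_le (pred_lt_natCast n)
    rw [natCast_le_topologicalKrullDim_fiber_iff]
    refine ⟨u₀, ?_, ?_⟩
    · apply (Scheme.Opens.ι V).isOpenEmbedding.injective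
      rw [← Scheme.Hom.comp_apply, hcomm, Scheme.Hom.comp_apply, hu₀, hv₀]
      exact hom_unit G s₀
    · rw [key, hu₀]
      rw [dim_fiber_eq_fibreDimAt_unit] at hs₀'
      exact hs₀'

/-- the fibre dimension of a flat group scheme locally of finite presentation is locally
constant. -/
theorem isLocallyConstant_dim_fiber [Flat G.hom] [LocallyOfFinitePresentation G.hom] :
    IsLocallyConstant (fun s : S => topologicalKrullDim ↥(G.hom.fiber s)) := by
  rw [IsLocallyConstant.iff_exists_open]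
  intro s₀
  obtain ⟨-, n, -, -, -, hn⟩ := exists_specializes_trdeg_eq_fibreDimAt G.hom (η[G].left s₀)
  rw [← dim_fiber_eq_fibreDimAt_unit] at hn
  refine ⟨{s | topologicalKrullDim ↥(G.hom.fiber s) ≤ n} ∩
      {s | (n : WithBot ℕ∞) ≤ topologicalKrullDim ↥(G.hom.fiber s)},
    (isOpen_setOf_dim_fiber_le G n).inter (isOpen_setOf_le_dim_fiber G n), ⟨hn.le, hn.ge⟩, ?_⟩
  rintro s ⟨h1, h2⟩
  exact (le_antisymm h1 h2).trans hn.symm

end Groth.Agent.Lib.Helper73.GrpFibreDim
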