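import Mathlib
import Groth.Prelude.Def_ActBC
import Groth.Agent.Lib.Helper73.OrbitLC
import Groth.Agent.Lib.Helper40.TorsorBC

/-! Orbits under base change (helper73). -/

set_option autoImplicit false
set_option linter.style.haveILetI false
set_option linter.unusedSectionVars false
universe u

open CategoryTheory CategoryTheory.Limits MonoidalCategory CartesianMonoidalCategory MonObj GrpObj
  AlgebraicGeometry TopologicalSpace Topology

namespace Groth.Agent.Lib.Helper73.OrbitBC

/-- local closedness descends along closed surjective continuous maps. -/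
theorem isLocallyClosed_of_preimage {X X' : Type*} [TopologicalSpace X] [TopologicalSpace X']
    (π : X' → X) (hc : Continuous π) (hcl : IsClosedMap π) (hs : Function.Surjective π) (S : Set X)
    (h : IsLocallyClosed (π ⁻¹' S)) : IsLocallyClosed S := by
  rw [isLocallyClosed_iff_isOpen_coborder, coborder, isOpen_compl_iff] at h ⊢
  have key : closure S \ S = π '' (closure (π ⁻¹' S) \ π ⁻¹' S) := by
    apply Set.Subset.antisymm
    · rintro z ⟨hz1, hz2⟩
      have hsub : closure S ⊆ π '' closure (π ⁻¹' S) := by
        refine closure_minimal ?_ (hcl _ isClosed_closure)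
        intro s hsS
        obtain ⟨s', rfl⟩ := hs s
        exact ⟨s', subset_closure hsS, rfl⟩
      obtain ⟨z', hz', rfl⟩ := hsub hz1
      exact ⟨z', ⟨hz', hz2⟩, rfl⟩
    · rintro _ ⟨z', ⟨hz1, hz2⟩, rfl⟩
      refine ⟨?_, hz2⟩
      have h1 : π z' ∈ closure (π '' (π ⁻¹' S)) :=
        image_closure_subset_closure_image hc ⟨z', hz1, rfl⟩
      exact closure_mono (Set.image_preimage_subset _ _) h1
  rw [key]
  exact hcl _ h

noncomputable section

variable {S S' : Scheme.{u}} (f : S' ⟶ S) {G X : Over S} [GrpObj G] (a : AlgGrp.Action G X)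
  (x : 𝟙_ (Over S) ⟶ X)

/-- base change of a section. -/
def bcPt : 𝟙_ (Over S') ⟶ Red.bc f X :=
  Functor.LaxMonoidal.ε (Over.pullback f) ≫ (Over.pullback f).map x

theorem orbitMap_bc : (a.bc f).orbitMap (bcPt f x) = (Over.pullback f).map (a.orbitMap x) := by
  unfold AlgGrp.Action.orbitMap bcPt
  rw [AlgGrp.Action.bc_act, Functor.map_comp, ← Category.assoc, ← Category.assoc]
  congr 1
  rw [← Functor.Monoidal.lift_μ, CategoryTheory.Functor.map_id, CategoryTheory.Functor.map_comp,
    Functor.Monoidal.toUnit_ε]

theorem range_bc_orbitMap :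
    Set.range ((a.bc f).orbitMap (bcPt f x)).left =
      (pullback.fst X.hom f) ⁻¹' (Set.range (a.orbitMap x).left) := by
  rw [orbitMap_bc]
  have hpb := Groth.Agent.Lib.Helper40.TorsorBC.isPullback_pullback_map f (a.orbitMap x)
  ext z
  constructor
  · rintro ⟨g', rfl⟩
    refine ⟨(pullback.fst G.hom f) g', ?_⟩
    exact (congrArg (fun m : (Red.bc f G).left ⟶ X.left => m g') hpb.w).symm
  · rintro ⟨g, hg⟩
    obtain ⟨p, hp1, -⟩ := Scheme.exists_preimage_of_isPullback hpb z g hg.symm
    exact ⟨p, hp1⟩

end

/-- the orbit of a rational point under a group scheme of finite type over a field is locally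
closed. -/
theorem isLocallyClosed_range_orbitMap (k : Type u) [Field k]
    (G X : Over (Spec (CommRingCat.of k))) [GrpObj G] [LocallyOfFiniteType G.hom]
    [QuasiCompact G.hom] [LocallyOfFiniteType X.hom] [QuasiCompact X.hom]
    (a : AlgGrp.Action G X) (x : 𝟙_ (Over (Spec (CommRingCat.of k))) ⟶ X) :
    IsLocallyClosed (Set.range (a.orbitMap x).left) := by
  let f : Spec (CommRingCat.of (AlgebraicClosure k)) ⟶ Spec (CommRingCat.of k) :=
    Spec.map (CommRingCat.ofHom (algebraMap k (AlgebraicClosure k)))
  haveI : LocallyOfFiniteType (Red.bc f G).hom :=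
    inferInstanceAs (LocallyOfFiniteType (pullback.snd G.hom f))
  haveI : QuasiCompact (Red.bc f G).hom := inferInstanceAs (QuasiCompact (pullback.snd G.hom f))
  haveI : LocallyOfFiniteType (Red.bc f X).hom :=
    inferInstanceAs (LocallyOfFiniteType (pullback.snd X.hom f))
  haveI : QuasiCompact (Red.bc f X).hom := inferInstanceAs (QuasiCompact (pullback.snd X.hom f))
  have h1 : IsLocallyClosed (Set.range ((a.bc f).orbitMap (bcPt f x)).left) :=
    (Groth.Agent.Lib.Helper73.OrbitLC.orbit_main (a.bc f) (bcPt f x)).1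
  rw [range_bc_orbitMap] at h1
  haveI : IsIntegralHom f := by
    rw [IsIntegralHom.SpecMap_iff]
    exact algebraMap_isIntegral_iff.mpr inferInstance
  haveI : Surjective f := ⟨fun y => ⟨IsLocalRing.closedPoint _, Subsingleton.elim _ _⟩⟩
  haveI : IsIntegralHom (pullback.fst X.hom f) := inferInstance
  haveI : Surjective (pullback.fst X.hom f) := inferInstance
  exact isLocallyClosed_of_preimage _ (pullback.fst X.hom f).continuous
    (pullback.fst X.hom f).isClosedMap (pullback.fst X.hom f).surjective _ h1

end Groth.Agent.Lib.Helper73.OrbitBC
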