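import Mathlib
import Groth.Prelude.Def_ChGrp
import Groth.Agent.Lib.Helper73.ActTrans
import Groth.Agent.Lib.Helper73.GoodQuot
import Groth.Agent.Lib.Helper73.ConnGrp
import Groth.Agent.Lib.Helper73.OrbitBC
import Groth.Agent.Lib.Helper73.FibreDimRetro
import Groth.Agent.Lib.Helper73.FibreDimGen2
import Groth.Agent.Lib.Helper21.FibreTd
import Groth.Agent.Lib.Helper21.FlatFibreDimField

/-!
helper73: dimension of orbits and stabilizers (k algebraically closed).
The local fibre dimension of the orbit map is constant on `G`; hence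
`dim G = dim (G · x) + dim G_x`.
-/

set_option autoImplicit false
universe u

open CategoryTheory CategoryTheory.Limits MonoidalCategory CartesianMonoidalCategory MonObj GrpObj
  AlgebraicGeometry

namespace Groth.Agent.Lib.Helper73.OrbitDim

open Groth.Agent.Lib.Helper73.ActTrans Groth.Agent.Lib.Helper73.GoodQuot
  Groth.Agent.Lib.Helper73.ConnGrp Groth.Agent.Lib.Helper73.SchemeDim
  Groth.Agent.Lib.Helper73.FibreDimRetro Groth.Agent.Lib.Helper21.FieldDim

/-- the local fibre dimension is invariant under an equivariance square of isomorphisms. -/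
theorem fibreDimAt_of_equivariant {G X : Scheme.{u}} (φ : G ⟶ X) [LocallyOfFiniteType φ]
    (L : G ⟶ G) (A : X ⟶ X) [IsIso L] [IsIso A] (heq : L ≫ φ = φ ≫ A) (g : G) :
    FlatMor.fibreDimAt φ (L g) = FlatMor.fibreDimAt φ g := by
  rw [← fibreDimAt_comp_openImmersion L φ g, heq, fibreDimAt_comp_mono φ A g]

noncomputable section

variable {k : Type u} [Field k] {G X : Over (Spec (CommRingCat.of k))} [GrpObj G]
  (a : AlgGrp.Action G X) (x : 𝟙_ (Over (Spec (CommRingCat.of k))) ⟶ X)

omit [GrpObj G] in
theorem locallyOfFiniteType_left [LocallyOfFiniteType G.hom] (f : G ⟶ X) :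
    LocallyOfFiniteType f.left := by
  have : LocallyOfFiniteType (f.left ≫ X.hom) := by rw [Over.w]; infer_instance
  exact locallyOfFiniteType_of_comp f.left X.hom

/-- translation invariance of the fibre dimension of the orbit map. -/
theorem fibreDimAt_orbitMap_point [LocallyOfFiniteType G.hom]
    (τ : 𝟙_ (Over (Spec (CommRingCat.of k))) ⟶ G) :
    FlatMor.fibreDimAt (a.orbitMap x).left (τ.left (IsLocalRing.closedPoint k)) =
      FlatMor.fibreDimAt (a.orbitMap x).left (η[G].left (IsLocalRing.closedPoint k)) := by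
  have := locallyOfFiniteType_left (a.orbitMap x)
  have h2 : η[G] ≫ (mulLeft τ).hom = τ := by
    rw [comp_mulLeft_hom, toUnit_unique (toUnit (𝟙_ (Over (Spec (CommRingCat.of k))))) (𝟙 _),
      Category.id_comp, unit_eq_one, _root_.mul_one]
  have e_η : (mulLeft τ).hom.left (η[G].left (IsLocalRing.closedPoint k)) =
      τ.left (IsLocalRing.closedPoint k) :=
    congrArg (fun m : 𝟙_ (Over (Spec (CommRingCat.of k))) ⟶ G =>
      m.left (IsLocalRing.closedPoint k)) h2
  rw [← e_η]
  have heq : (mulLeft τ).hom.left ≫ (a.orbitMap x).left =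
      (a.orbitMap x).left ≫ (actIso a τ).hom.left := by
    have := congrArg (fun m => m.left) (mulLeft_orbitMap a τ x)
    simpa using this
  have : IsIso (mulLeft τ).hom.left :=
    inferInstanceAs (IsIso ((Over.forget _).map (mulLeft τ).hom))
  have : IsIso (actIso a τ).hom.left :=
    inferInstanceAs (IsIso ((Over.forget _).map (actIso a τ).hom))
  exact fibreDimAt_of_equivariant _ _ _ heq _

variable [IsAlgClosed k]

/-- the local fibre dimension of the orbit map is constant. -/
theorem fibreDimAt_orbitMap_const [LocallyOfFiniteType G.hom] (g : G.left) :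
    FlatMor.fibreDimAt (a.orbitMap x).left g =
      FlatMor.fibreDimAt (a.orbitMap x).left (η[G].left (IsLocalRing.closedPoint k)) := by
  have := locallyOfFiniteType_left (a.orbitMap x)
  have hJ : JacobsonSpace G.left := LocallyOfFiniteType.jacobsonSpace G.hom
  obtain ⟨-, δ, -, -, -, hδ⟩ := exists_specializes_trdeg_eq_fibreDimAt (a.orbitMap x).left
    (η[G].left (IsLocalRing.closedPoint k))
  have hcl : ∀ p : G.left, IsClosed ({p} : Set G.left) →
      FlatMor.fibreDimAt (a.orbitMap x).left p = δ := by
    intro p hp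
    obtain ⟨Q, hQ, hQpt⟩ : ∃ Q : Spec (CommRingCat.of k) ⟶ G.left,
        Q ≫ G.hom = 𝟙 _ ∧ Q (IsLocalRing.closedPoint k) = p :=
      ⟨pointOfClosedPoint G.hom p hp, pointOfClosedPoint_comp _ _ _,
        pointOfClosedPoint_apply _ _ _ _⟩
    have h1 := fibreDimAt_orbitMap_point a x (Over.homMk Q hQ)
    rw [← hQpt, ← hδ]
    exact h1
  rw [hδ]
  apply le_antisymm
  · by_contra hne
    have hT : IsClosed {p : G.left | FlatMor.fibreDimAt (a.orbitMap x).left p ≤ δ}ᶜ :=
      (isOpen_setOf_fibreDimAt_le _ δ).isClosed_compl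
    obtain ⟨p, hp, hpc⟩ := nonempty_inter_closedPoints ⟨g, hne⟩ hT.isLocallyClosed
    exact hp (hcl p hpc).le
  · by_contra hne
    have hT : IsOpen {p : G.left | (δ : WithBot ℕ∞) ≤ FlatMor.fibreDimAt (a.orbitMap x).left p}ᶜ :=
      (isClosed_setOf_le_fibreDimAt _ δ).isOpen_compl
    obtain ⟨p, hp, hpc⟩ := nonempty_inter_closedPoints ⟨g, hne⟩ hT.isLocallyClosed
    exact hp (hcl p hpc).ge

omit [IsAlgClosed k] in
/-- the fibre of a morphism over a rational point, topologically. -/
theorem dim_pullback_point {Y Z : Scheme.{u}} (π : Y ⟶ Z) (f : Z ⟶ Spec (CommRingCat.of k))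
    (p : Spec (CommRingCat.of k) ⟶ Z) (hp : p ≫ f = 𝟙 _) :
    topologicalKrullDim ↥(pullback π p) =
      topologicalKrullDim ↥(π ⁻¹' {p (IsLocalRing.closedPoint k)}) := by
  have hci : IsClosedImmersion p := isClosedImmersion_of_comp_eq_id f p hp
  have hrange : Set.range (pullback.fst π p) = π ⁻¹' {p (IsLocalRing.closedPoint k)} := by
    rw [Scheme.Pullback.range_fst]
    congr 1
    rw [Set.range_eq_singleton]
    exact fun t => congrArg p (Subsingleton.elim _ _)
  rw [← hrange]
  exact (pullback.fst π p).isEmbedding.toHomeomorph.isHomeomorph.topologicalKrullDim_eq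

omit [IsAlgClosed k] in
theorem orbitMap_unit_apply :
    (a.orbitMap x).left (η[G].left (IsLocalRing.closedPoint k)) =
      x.left (IsLocalRing.closedPoint k) :=
  congrArg (fun m : 𝟙_ (Over (Spec (CommRingCat.of k))) ⟶ X =>
    m.left (IsLocalRing.closedPoint k)) (unit_comp_orbitMap a x)

/-- the dimension of the stabilizer is the local fibre dimension of the orbit map. -/
theorem dim_stabilizer [LocallyOfFiniteType G.hom] :
    topologicalKrullDim ↥(Limits.pullback (a.orbitMap x).left x.left) =
      FlatMor.fibreDimAt (a.orbitMap x).left (η[G].left (IsLocalRing.closedPoint k)) := by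
  have := locallyOfFiniteType_left (a.orbitMap x)
  have h1 := dim_pullback_point (a.orbitMap x).left X.hom x.left (Over.w x)
  refine h1.trans ?_
  rw [dim_preimage_singleton]
  apply le_antisymm
  · rw [dim_fiber_le_iff]
    intro g _
    exact (tdR_le_fibreDimAt (a.orbitMap x).left g).trans (fibreDimAt_orbitMap_const a x g).le
  · have h2 := fibreDimAt_le_dim_fiber (a.orbitMap x).left (η[G].left (IsLocalRing.closedPoint k))
    rwa [orbitMap_unit_apply] at h2

/-- **orbit-stabilizer dimension formula**. -/
theorem dim_eq_orbit_add_stabilizer [LocallyOfFiniteType G.hom] [QuasiCompact G.hom]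
    [LocallyOfFiniteType X.hom] [QuasiCompact X.hom] :
    topologicalKrullDim ↥G.left =
      topologicalKrullDim ↥(Set.range (a.orbitMap x).left) +
        topologicalKrullDim ↥(Limits.pullback (a.orbitMap x).left x.left) := by
  have := locallyOfFiniteType_left (a.orbitMap x)
  have hO : IsLocallyClosed (Set.range (a.orbitMap x).left) :=
    Groth.Agent.Lib.Helper73.OrbitBC.isLocallyClosed_range_orbitMap k G X a x
  rw [dim_stabilizer]
  obtain ⟨-, δ, -, -, -, hδ⟩ := exists_specializes_trdeg_eq_fibreDimAt (a.orbitMap x).left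
    (η[G].left (IsLocalRing.closedPoint k))
  rw [hδ]
  have hw : (a.orbitMap x).left ≫ X.hom = G.hom := Over.w _
  apply le_antisymm
  · rw [dim_le_iff G.hom]
    intro g
    rw [td_eq_add_tdR G.hom X.hom _ hw g]
    push_cast
    apply add_le_add
    · exact (dim_le_iff_of_isLocallyClosed X.hom _ hO _).mp le_rfl _ ⟨g, rfl⟩
    · have h3 := tdR_le_fibreDimAt (a.orbitMap x).left g
      rwa [fibreDimAt_orbitMap_const, hδ] at h3
  · have key : ∀ z ∈ Set.range (a.orbitMap x).left,
        ∃ ξ : G.left, td G.hom ξ = td X.hom z + δ := by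
      rintro _ ⟨g, rfl⟩
      obtain ⟨ξ, n, -, hξg, hn, hn'⟩ :=
        exists_specializes_trdeg_eq_fibreDimAt (a.orbitMap x).left g
      rw [fibreDimAt_orbitMap_const, hδ] at hn'
      have hnδ : n = δ := by exact_mod_cast hn'.symm
      subst hnδ
      refine ⟨ξ, ?_⟩
      rw [td_eq_add_tdR G.hom X.hom _ hw ξ, hξg, tdR_eq_of_trdegAt_eq _ hn]
    obtain h | h | ⟨n, h⟩ : topologicalKrullDim ↥G.left = ⊥ ∨ topologicalKrullDim ↥G.left = ⊤ ∨
        ∃ n : ℕ, topologicalKrullDim ↥G.left = n := by
      generalize topologicalKrullDim ↥G.left = D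
      induction D using WithBot.recBotCoe with
      | bot => left; rfl
      | coe c =>
        induction c using ENat.recTopCoe with
        | top => right; left; rfl
        | coe n => right; right; exact ⟨n, rfl⟩
    · have h4 := td_le_dim G.hom (η[G].left (IsLocalRing.closedPoint k))
      rw [h] at h4
      simp at h4
    · rw [h]; exact le_top
    · rw [h]
      have key2 : ∀ z ∈ Set.range (a.orbitMap x).left, td X.hom z + δ ≤ n := by
        intro z hz
        obtain ⟨ξ, hξ⟩ := key z hz
        have h5 := td_le_dim G.hom ξ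
        rw [h, hξ] at h5
        exact_mod_cast h5
      have hδn : δ ≤ n := by
        have := key2 _ ⟨η[G].left (IsLocalRing.closedPoint k), rfl⟩
        omega
      have h6 : topologicalKrullDim ↥(Set.range (a.orbitMap x).left) ≤
          ((n - δ : ℕ) : WithBot ℕ∞) := by
        rw [dim_le_iff_of_isLocallyClosed X.hom _ hO]
        intro z hz
        have := key2 z hz
        exact_mod_cast (by omega : td X.hom z ≤ n - δ)
      calc topologicalKrullDim ↥(Set.range (a.orbitMap x).left) + (δ : WithBot ℕ∞)
          ≤ ((n - δ : ℕ) : WithBot ℕ∞) + (δ : WithBot ℕ∞) := add_le_add h6 le_rfl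
        _ = (n : WithBot ℕ∞) := by exact_mod_cast (by omega : n - δ + δ = n)

end

end Groth.Agent.Lib.Helper73.OrbitDim
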