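import Mathlib
import Groth.Agent.Lib.Helper73.OrbitDim
import Groth.Agent.Lib.Helper73.GrpFibreDim
import Groth.Agent.Lib.Helper98.AlgSpLqf
import Groth.Agent.Lib.Helper40.TorsorBC

/-!
helper73: the local fibre dimension of a homomorphism of group schemes `u : G ⟶ H` over any base
is constant along the fibres of `G ⟶ S` (shear trick).  Consequences for the quasi-finite locus.
-/

set_option autoImplicit false
universe u

open CategoryTheory CategoryTheory.Limits MonoidalCategory CartesianMonoidalCategory MonObj GrpObj
  AlgebraicGeometry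

namespace Groth.Agent.Lib.Helper73.GrpHomFibreDim

noncomputable section

variable {S : Scheme.{u}} {G H : Over S} [GrpObj G] [GrpObj H] (v : G ⟶ H) [IsMonHom v]

/-- the shear `(g, h) ↦ (g, v(g) h)`. -/
def shear : G ⊗ H ≅ G ⊗ H where
  hom := lift (fst G H) ((fst G H ≫ v) * snd G H)
  inv := lift (fst G H) ((fst G H ≫ v)⁻¹ * snd G H)
  hom_inv_id := by
    ext
    · simp
    · rw [Category.assoc, lift_snd, MonObj.comp_mul, GrpObj.comp_inv, ← Category.assoc, lift_fst, lift_snd,
        Category.id_comp, inv_mul_cancel_left]
  inv_hom_id := by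
    ext
    · simp
    · rw [Category.assoc, lift_snd, MonObj.comp_mul, ← Category.assoc, lift_fst, lift_snd,
        Category.id_comp, mul_inv_cancel_left]

theorem shear_comm :
    (shear (𝟙 G)).hom ≫ (G ◁ v) = (G ◁ v) ≫ (shear v).hom := by
  ext
  · simp [shear]
  · simp only [shear, Category.assoc, whiskerLeft_snd, lift_snd, Category.comp_id]
    rw [← Category.assoc, lift_snd, MonObj.comp_mul, MonObj.mul_comp]
    simp

omit [GrpObj G] [GrpObj H] [IsMonHom v] in
theorem isPullback_whiskerLeft :
    IsPullback (G ◁ v).left (snd G G).left (snd G H).left v.left := by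
  have hR : IsPullback (fst G H).left (snd G H).left G.hom H.hom := by
    rw [Over.fst_left, Over.snd_left]; exact IsPullback.of_hasPullback _ _
  have hO : IsPullback ((G ◁ v).left ≫ (fst G H).left) (snd G G).left G.hom (v.left ≫ H.hom) := by
    rw [Over.w v, ← Over.comp_left, whiskerLeft_fst, Over.fst_left, Over.snd_left]
    exact IsPullback.of_hasPullback _ _
  refine IsPullback.of_right hO ?_ hR
  rw [← Over.comp_left, ← Over.comp_left, whiskerLeft_snd]

/-- **Shear trick**: the local fibre dimension of a homomorphism of group schemes at a point `x`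
equals the one at the unit point of the fibre through `x`. -/
theorem fibreDimAt_eq_unit [LocallyOfFiniteType v.left] (x : G.left) :
    FlatMor.fibreDimAt v.left x = FlatMor.fibreDimAt v.left (η[G].left (G.hom x)) := by
  have hpb := (isPullback_whiskerLeft v).flip
  have hLOFT : LocallyOfFiniteType (G ◁ v).left :=
    MorphismProperty.of_isPullback (P := @LocallyOfFiniteType) hpb inferInstance
  have hbc := fun z => Groth.Agent.Lib.Helper98.AlgSpFibreDimLocal.fibreDimAt_baseChange
    v.left (snd G G).left (G ◁ v).left (snd G H).left hpb z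
  have i1 : IsIso (shear (𝟙 G)).hom.left :=
    inferInstanceAs (IsIso ((Over.forget _).map (shear (𝟙 G)).hom))
  have i2 : IsIso (shear v).hom.left :=
    inferInstanceAs (IsIso ((Over.forget _).map (shear v).hom))
  have heq : (shear (𝟙 G)).hom.left ≫ (G ◁ v).left = (G ◁ v).left ≫ (shear v).hom.left := by
    rw [← Over.comp_left, ← Over.comp_left, shear_comm]
  have hinv := Groth.Agent.Lib.Helper73.OrbitDim.fibreDimAt_of_equivariant (G ◁ v).left
    (shear (𝟙 G)).hom.left (shear v).hom.left heq ((lift ι[G] (𝟙 G)).left x)
  rw [hbc, hbc] at hinv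
  have e1 : (snd G G).left ((lift ι[G] (𝟙 G)).left x) = x := by
    rw [← Scheme.Hom.comp_apply, ← Over.comp_left, lift_snd]; rfl
  have e2 : (snd G G).left ((shear (𝟙 G)).hom.left ((lift ι[G] (𝟙 G)).left x)) =
      η[G].left (G.hom x) := by
    have h : lift ι[G] (𝟙 G) ≫ (shear (𝟙 G)).hom ≫ snd G G = toUnit G ≫ η[G] := by
      simp only [shear, lift_snd, Category.comp_id]
      rw [MonObj.comp_mul, lift_fst, lift_snd, ← Hom.one_def]
      exact inv_mul_cancel (𝟙 G)
    have := congrArg (fun m : G ⟶ G => m.left x) h
    simpa using this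
  rw [e1, e2] at hinv
  exact hinv.symm

/-- The fibre `u_s` of a homomorphism of group schemes locally of finite type is locally
quasi-finite iff the local fibre dimension of `u` vanishes at the unit point over `s`. -/
theorem locallyQuasiFinite_fibre_iff [LocallyOfFiniteType v.left] (s : S) :
    LocallyQuasiFinite ((Over.pullback (S.fromSpecResidueField s)).map v).left ↔
      FlatMor.fibreDimAt v.left (η[G].left s) = 0 := by
  have hpb := (Groth.Agent.Lib.Helper40.TorsorBC.isPullback_pullback_map
    (S.fromSpecResidueField s) v).flip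
  have hLOFT : LocallyOfFiniteType ((Over.pullback (S.fromSpecResidueField s)).map v).left :=
    MorphismProperty.of_isPullback (P := @LocallyOfFiniteType) hpb inferInstance
  have hbc := fun z => Groth.Agent.Lib.Helper98.AlgSpFibreDimLocal.fibreDimAt_baseChange
    v.left (pullback.fst G.hom (S.fromSpecResidueField s))
    ((Over.pullback (S.fromSpecResidueField s)).map v).left
    (pullback.fst H.hom (S.fromSpecResidueField s)) hpb z
  constructor
  · intro hq
    obtain ⟨t, ht⟩ : ∃ t : Spec (S.residueField s), (S.fromSpecResidueField s) t = s :=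
      ⟨IsLocalRing.closedPoint _, Scheme.fromSpecResidueField_apply _ _⟩
    obtain ⟨z, hz, -⟩ := Scheme.Pullback.exists_preimage_pullback (f := G.hom)
      (g := S.fromSpecResidueField s) (η[G].left s) t
      (by rw [Groth.Agent.Lib.Helper73.GrpFibreDim.hom_unit, ht])
    have h1 := (Groth.Agent.Lib.Helper73.QFAt.quasiFiniteAt_iff_fibreDimAt_eq_zero _ z).mp
      (((Over.pullback (S.fromSpecResidueField s)).map v).left.quasiFiniteAt z)
    rw [hbc z, hz] at h1
    exact h1
  · intro h0
    apply Groth.Agent.Lib.Helper73.QFAt.locallyQuasiFinite_of_forall_quasiFiniteAt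
    intro z
    rw [Groth.Agent.Lib.Helper73.QFAt.quasiFiniteAt_iff_fibreDimAt_eq_zero, hbc z,
      fibreDimAt_eq_unit]
    have hs : G.hom ((pullback.fst G.hom (S.fromSpecResidueField s)) z) = s := by
      rw [← Scheme.Hom.comp_apply, pullback.condition, Scheme.Hom.comp_apply,
        Scheme.fromSpecResidueField_apply]
    rw [hs]
    exact h0

theorem locallyQuasiFinite_fibre_iff_quasiFiniteAt [LocallyOfFiniteType v.left] (s : S) :
    LocallyQuasiFinite ((Over.pullback (S.fromSpecResidueField s)).map v).left ↔
      v.left.QuasiFiniteAt (η[G].left s) := by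
  rw [locallyQuasiFinite_fibre_iff, Groth.Agent.Lib.Helper73.QFAt.quasiFiniteAt_iff_fibreDimAt_eq_zero]

/-- the set of `s` with `u_s` locally quasi-finite is open. -/
theorem isOpen_setOf_locallyQuasiFinite_fibre [LocallyOfFiniteType v.left] :
    IsOpen {s : S | LocallyQuasiFinite ((Over.pullback (S.fromSpecResidueField s)).map v).left} := by
  have : {s : S | LocallyQuasiFinite ((Over.pullback (S.fromSpecResidueField s)).map v).left} =
      η[G].left ⁻¹' (v.left.quasiFiniteLocus : Set G.left) := by
    ext s
    exact locallyQuasiFinite_fibre_iff_quasiFiniteAt v s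
  rw [this]
  exact v.left.quasiFiniteLocus.2.preimage η[G].left.continuous

/-- the quasi-finite locus of `u` is the preimage of the set of `s` with `u_s` locally
quasi-finite. -/
theorem quasiFiniteAt_iff_fibre [LocallyOfFiniteType v.left] (x : G.left) :
    v.left.QuasiFiniteAt x ↔
      LocallyQuasiFinite ((Over.pullback (S.fromSpecResidueField (G.hom x))).map v).left := by
  rw [locallyQuasiFinite_fibre_iff, Groth.Agent.Lib.Helper73.QFAt.quasiFiniteAt_iff_fibreDimAt_eq_zero,
    fibreDimAt_eq_unit]

end

end Groth.Agent.Lib.Helper73.GrpHomFibreDim
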