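import Mathlib
import Groth.Prelude.Def_MoreMor
import Groth.Agent.S1386
import Groth.Agent.S0386
import Groth.Agent.Lib.Helper73.GrpHomFibreDim
import Groth.Agent.Lib.Helper73.AbSchFlat
import Groth.Agent.Lib.Helper98.FlatAtBaseChange
import Groth.Agent.Lib.Helper40.FlatDescentSrc
import Groth.Agent.Lib.Helper24.LfpOfComp

/-!
helper73: the flat locus of a homomorphism of group schemes `u : G ⟶ H` over any base `S`, with `G`
flat over `S`, is a union of fibres of `G ⟶ S` (shear trick + descent of pointwise flatness along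
flat base change); with the fibrewise flatness criterion (S1386) it is the preimage of the set of
`s` with `u_s` flat.
-/

set_option autoImplicit false
universe u

open CategoryTheory CategoryTheory.Limits MonoidalCategory CartesianMonoidalCategory MonObj GrpObj
  AlgebraicGeometry

namespace Groth.Agent.Lib.Helper73.GrpHomFlat

open Groth.Agent.Lib.Helper73.GrpHomFibreDim

/-- descent of pointwise flatness along a flat base change. -/
theorem flat_stalkMap_descend {X Y X' Y' : Scheme.{u}} {f : X ⟶ Y} {j : Y' ⟶ Y}
    {f' : X' ⟶ Y'} {j' : X' ⟶ X} (H : IsPullback j' f' f j) [Flat j] (z : X')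
    (hf' : (f'.stalkMap z).hom.Flat) : (f.stalkMap (j' z)).hom.Flat := by
  have : Flat j' := MorphismProperty.of_isPullback (P := @Flat) H.flip inferInstance
  have h1 : ((f' ≫ j).stalkMap z).hom.Flat := by
    rw [Scheme.Hom.stalkMap_comp]
    exact RingHom.Flat.comp (Flat.stalkMap j _) hf'
  have h2 : ((j' ≫ f).stalkMap z).hom.Flat := by rw [H.w]; exact h1
  rw [Scheme.Hom.stalkMap_comp] at h2
  exact Groth.Agent.Lib.Helper40.FlatDescentSrc.ringHom_flat_of_comp (f.stalkMap (j' z)).hom
    (j'.stalkMap z).hom (Flat.stalkMap j' z) h2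

theorem flat_stalkMap_iff_of_isPullback {X Y X' Y' : Scheme.{u}} {f : X ⟶ Y} {j : Y' ⟶ Y}
    {f' : X' ⟶ Y'} {j' : X' ⟶ X} (H : IsPullback j' f' f j) [Flat j] (z : X') :
    (f'.stalkMap z).hom.Flat ↔ (f.stalkMap (j' z)).hom.Flat :=
  ⟨flat_stalkMap_descend H z,
    Groth.Agent.Lib.Helper98.FlatAtBaseChange.flat_stalkMap_of_isPullback H z⟩

noncomputable section

variable {S : Scheme.{u}} {G H : Over S} [GrpObj G] [GrpObj H] (v : G ⟶ H) [IsMonHom v]

omit [GrpObj H] [IsMonHom v] in
theorem snd_lift_inv_id (x : G.left) : (snd G G).left ((lift ι[G] (𝟙 G)).left x) = x := by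
  rw [← Scheme.Hom.comp_apply, ← Over.comp_left, lift_snd]; rfl

omit [GrpObj H] [IsMonHom v] in
theorem snd_shear_lift_inv_id (x : G.left) :
    (snd G G).left ((shear (𝟙 G)).hom.left ((lift ι[G] (𝟙 G)).left x)) = η[G].left (G.hom x) := by
  have h : lift ι[G] (𝟙 G) ≫ (shear (𝟙 G)).hom ≫ snd G G = toUnit G ≫ η[G] := by
    simp only [shear, lift_snd, Category.comp_id]
    rw [MonObj.comp_mul, lift_fst, lift_snd, ← Hom.one_def]
    exact inv_mul_cancel (𝟙 G)
  have := congrArg (fun m : G ⟶ G => m.left x) h
  simpa using this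

/-- **Shear trick for flatness**. -/
theorem flat_stalkMap_iff_unit [Flat G.hom] (x : G.left) :
    (v.left.stalkMap x).hom.Flat ↔ (v.left.stalkMap (η[G].left (G.hom x))).hom.Flat := by
  have hpb := (isPullback_whiskerLeft v).flip
  have : Flat (snd G H).left := by
    rw [Over.snd_left]; infer_instance
  have hbc := fun z => flat_stalkMap_iff_of_isPullback hpb z
  have i1 : IsIso (shear (𝟙 G)).hom.left :=
    inferInstanceAs (IsIso ((Over.forget _).map (shear (𝟙 G)).hom))
  have i2 : IsIso (shear v).hom.left :=
    inferInstanceAs (IsIso ((Over.forget _).map (shear v).hom))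
  have heq : (shear (𝟙 G)).hom.left ≫ (G ◁ v).left = (G ◁ v).left ≫ (shear v).hom.left := by
    rw [← Over.comp_left, ← Over.comp_left, shear_comm]
  have hsq : IsPullback (shear (𝟙 G)).hom.left (G ◁ v).left (G ◁ v).left (shear v).hom.left :=
    IsPullback.of_horiz_isIso ⟨heq⟩
  have hinv := flat_stalkMap_iff_of_isPullback hsq ((lift ι[G] (𝟙 G)).left x)
  rw [hbc, hbc, snd_lift_inv_id, snd_shear_lift_inv_id] at hinv
  exact hinv

omit [GrpObj G] [GrpObj H] [IsMonHom v] in
/-- fibrewise criterion: if `u_s` is flat then `u` is flat at the points over `s`. -/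
theorem flat_stalkMap_of_flat_fibre [Flat G.hom] [LocallyOfFinitePresentation G.hom]
    [LocallyOfFiniteType H.hom] (x : G.left) (s : S) (hs : H.hom (v.left x) = s)
    (hfl : Flat ((Over.pullback (S.fromSpecResidueField s)).map v).left) :
    (v.left.stalkMap x).hom.Flat := by
  subst hs
  have j1 : LocallyOfFinitePresentation (v.left ≫ H.hom) := by rw [Over.w]; infer_instance
  have j2 : Flat (v.left ≫ H.hom) := by rw [Over.w]; infer_instance
  have key := (Groth.Agent.S1386.result v.left H.hom).1
  have hcomp : Flat ((pullback.congrHom (Over.w v) rfl).hom ≫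
      ((Over.pullback (S.fromSpecResidueField (H.hom (v.left x)))).map v).left) := inferInstance
  have hfib : Flat (MoreMor.fiberMap v.left H.hom (H.hom (v.left x))) := by
    rw [Groth.Agent.Lib.Helper73.HomFinFlat.fiberMap_eq]
    exact hcomp
  exact ((key x).mp ⟨Flat.stalkMap _ x, Flat.stalkMap _ _⟩).2

theorem flat_fibre_iff [Flat G.hom] [LocallyOfFinitePresentation G.hom]
    [LocallyOfFiniteType H.hom] (s : S) :
    Flat ((Over.pullback (S.fromSpecResidueField s)).map v).left ↔
      (v.left.stalkMap (η[G].left s)).hom.Flat := by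
  constructor
  · intro hfl
    refine flat_stalkMap_of_flat_fibre v _ s ?_ hfl
    rw [← Scheme.Hom.comp_apply, Over.w v, Groth.Agent.Lib.Helper73.GrpFibreDim.hom_unit]
  · intro h0
    have hpb := (Groth.Agent.Lib.Helper40.TorsorBC.isPullback_pullback_map
      (S.fromSpecResidueField s) v).flip
    apply Flat.of_stalkMap
    intro z
    apply Groth.Agent.Lib.Helper98.FlatAtBaseChange.flat_stalkMap_of_isPullback hpb z
    rw [flat_stalkMap_iff_unit]
    have hs : G.hom ((pullback.fst G.hom (S.fromSpecResidueField s)) z) = s := by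
      rw [← Scheme.Hom.comp_apply, pullback.condition, Scheme.Hom.comp_apply,
        Scheme.fromSpecResidueField_apply]
    rw [hs]
    exact h0

theorem isOpen_setOf_flat_fibre [Flat G.hom] [LocallyOfFinitePresentation G.hom]
    [LocallyOfFiniteType H.hom] :
    IsOpen {s : S | Flat ((Over.pullback (S.fromSpecResidueField s)).map v).left} := by
  have j1 : LocallyOfFinitePresentation (v.left ≫ H.hom) := by rw [Over.w]; infer_instance
  have : LocallyOfFinitePresentation v.left :=
    Groth.Agent.Lib.Helper24.locallyOfFinitePresentation_of_comp v.left H.hom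
  have : {s : S | Flat ((Over.pullback (S.fromSpecResidueField s)).map v).left} =
      η[G].left ⁻¹' {x : G.left | (v.left.stalkMap x).hom.Flat} := by
    ext s
    exact flat_fibre_iff v s
  rw [this]
  exact (Groth.Agent.S0386.result v.left).preimage η[G].left.continuous

theorem flat_stalkMap_iff_fibre [Flat G.hom] [LocallyOfFinitePresentation G.hom]
    [LocallyOfFiniteType H.hom] (x : G.left) :
    (v.left.stalkMap x).hom.Flat ↔
      Flat ((Over.pullback (S.fromSpecResidueField (G.hom x))).map v).left := by
  rw [flat_fibre_iff, ← flat_stalkMap_iff_unit]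

end

end Groth.Agent.Lib.Helper73.GrpHomFlat
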