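import Mathlib
import Groth.Agent.S16765
import Groth.Agent.Lib.Helper73.GrpHomFlat

/-!
helper73: the unramified locus of a homomorphism of group schemes `u : G ⟶ H` over any base `S`
(locally of finite type) is a union of fibres of `G ⟶ S` (shear trick) and is the preimage of the
set of `s` with `u_s` unramified.
-/

set_option autoImplicit false
universe u

open CategoryTheory CategoryTheory.Limits MonoidalCategory CartesianMonoidalCategory MonObj GrpObj
  AlgebraicGeometry

namespace Groth.Agent.Lib.Helper73.GrpHomUnram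

open Groth.Agent.Lib.Helper73.GrpHomFibreDim Groth.Agent.Lib.Helper73.GrpHomFlat

/-- a property local at the source holds as soon as it holds near every point. -/
theorem of_forall_exists_nhd (P : MorphismProperty Scheme.{u}) [IsZariskiLocalAtSource P]
    {X Y : Scheme.{u}} (f : X ⟶ Y) (h : ∀ x : X, ∃ U : X.Opens, x ∈ U ∧ P (U.ι ≫ f)) : P f := by
  choose U hxU hU using h
  refine IsZariskiLocalAtSource.of_iSup_eq_top U ?_ hU
  rw [eq_top_iff]
  intro x _
  exact TopologicalSpace.Opens.mem_iSup.mpr ⟨x, hxU x⟩

/-- formally unramified, locally of finite type: pointwise characterization. -/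
theorem formallyUnramified_iff_forall_stalkMap {X Y : Scheme.{u}} (f : X ⟶ Y)
    [LocallyOfFiniteType f] :
    FormallyUnramified f ↔ ∀ x : X, (f.stalkMap x).hom.FormallyUnramified := by
  constructor
  · intro h x
    exact FormallyUnramified.stalkMap f x
  · intro h
    have : IsZariskiLocalAtSource @FormallyUnramified.{u} :=
      HasRingHomProperty.instIsZariskiLocalAtSource (Q := RingHom.FormallyUnramified)
    exact of_forall_exists_nhd @FormallyUnramified f fun x =>
      Groth.Agent.Lib.Helper35.exists_formallyUnramified_nhd_of_stalkMap f x (h x)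

theorem exists_nhd_iff_stalkMap {X Y : Scheme.{u}} (f : X ⟶ Y) [LocallyOfFiniteType f] (x : X) :
    (∃ U : X.Opens, x ∈ U ∧ FormallyUnramified (U.ι ≫ f)) ↔
      (f.stalkMap x).hom.FormallyUnramified :=
  ⟨fun ⟨U, hxU, _⟩ => Groth.Agent.Lib.Helper35.stalkMap_of_formallyUnramified_nhd f x U hxU,
    Groth.Agent.Lib.Helper35.exists_formallyUnramified_nhd_of_stalkMap f x⟩

noncomputable section

variable {S : Scheme.{u}} {G H : Over S} [GrpObj G] [GrpObj H] (v : G ⟶ H) [IsMonHom v]

omit [GrpObj H] [IsMonHom v] in
/-- abstract form of the shear trick. -/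
theorem shear_iff (Q₁ : (G ⊗ G).left → Prop) (Q₀ : G.left → Prop)
    (hbc : ∀ z, Q₁ z ↔ Q₀ ((snd G G).left z))
    (hiso : ∀ z, Q₁ ((shear (𝟙 G)).hom.left z) ↔ Q₁ z) (x : G.left) :
    Q₀ x ↔ Q₀ (η[G].left (G.hom x)) := by
  have := hiso ((lift ι[G] (𝟙 G)).left x)
  rw [hbc, hbc, snd_lift_inv_id, snd_shear_lift_inv_id] at this
  exact this.symm

/-- **Shear trick for unramifiedness**. -/
theorem unram_stalkMap_iff_unit [LocallyOfFiniteType v.left] (x : G.left) :
    (v.left.stalkMap x).hom.FormallyUnramified ↔
      (v.left.stalkMap (η[G].left (G.hom x))).hom.FormallyUnramified := by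
  have hpb := (isPullback_whiskerLeft v).flip
  have hLOFT : LocallyOfFiniteType (G ◁ v).left :=
    MorphismProperty.of_isPullback (P := @LocallyOfFiniteType) hpb inferInstance
  have i1 : IsIso (shear (𝟙 G)).hom.left :=
    inferInstanceAs (IsIso ((Over.forget _).map (shear (𝟙 G)).hom))
  have i2 : IsIso (shear v).hom.left :=
    inferInstanceAs (IsIso ((Over.forget _).map (shear v).hom))
  have heq : (shear (𝟙 G)).hom.left ≫ (G ◁ v).left = (G ◁ v).left ≫ (shear v).hom.left := by
    rw [← Over.comp_left, ← Over.comp_left, shear_comm]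
  have hsq : IsPullback (shear (𝟙 G)).hom.left (G ◁ v).left (G ◁ v).left (shear v).hom.left :=
    IsPullback.of_horiz_isIso ⟨heq⟩
  exact shear_iff (fun z => ((G ◁ v).left.stalkMap z).hom.FormallyUnramified)
    (fun x => (v.left.stalkMap x).hom.FormallyUnramified)
    (fun z => Groth.Agent.S16765.formallyUnramified_stalkMap_iff_of_isPullback hpb z)
    (fun z => (Groth.Agent.S16765.formallyUnramified_stalkMap_iff_of_isPullback hsq z).symm) x

theorem unram_fibre_iff [LocallyOfFiniteType v.left] (s : S) :
    FormallyUnramified ((Over.pullback (S.fromSpecResidueField s)).map v).left ↔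
      (v.left.stalkMap (η[G].left s)).hom.FormallyUnramified := by
  have hpb := (Groth.Agent.Lib.Helper40.TorsorBC.isPullback_pullback_map
    (S.fromSpecResidueField s) v).flip
  have hLOFT : LocallyOfFiniteType ((Over.pullback (S.fromSpecResidueField s)).map v).left :=
    MorphismProperty.of_isPullback (P := @LocallyOfFiniteType) hpb inferInstance
  have hbc := fun z => Groth.Agent.S16765.formallyUnramified_stalkMap_iff_of_isPullback hpb z
  rw [formallyUnramified_iff_forall_stalkMap]
  constructor
  · intro hq
    obtain ⟨t, ht⟩ : ∃ t : Spec (S.residueField s), (S.fromSpecResidueField s) t = s :=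
      ⟨IsLocalRing.closedPoint _, Scheme.fromSpecResidueField_apply _ _⟩
    obtain ⟨z, hz, -⟩ := Scheme.Pullback.exists_preimage_pullback (f := G.hom)
      (g := S.fromSpecResidueField s) (η[G].left s) t
      (by rw [Groth.Agent.Lib.Helper73.GrpFibreDim.hom_unit, ht])
    have h1 := (hbc z).mp (hq z)
    rw [hz] at h1
    exact h1
  · intro h0 z
    rw [hbc z, unram_stalkMap_iff_unit]
    have hs : G.hom ((pullback.fst G.hom (S.fromSpecResidueField s)) z) = s := by
      rw [← Scheme.Hom.comp_apply, pullback.condition, Scheme.Hom.comp_apply,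
        Scheme.fromSpecResidueField_apply]
    rw [hs]
    exact h0

theorem isOpen_setOf_unram_stalkMap {X Y : Scheme.{u}} (f : X ⟶ Y) [LocallyOfFiniteType f] :
    IsOpen {x : X | (f.stalkMap x).hom.FormallyUnramified} := by
  rw [isOpen_iff_forall_mem_open]
  intro x hx
  obtain ⟨U, hxU, hU⟩ := (exists_nhd_iff_stalkMap f x).mpr hx
  exact ⟨U, fun y hy => (exists_nhd_iff_stalkMap f y).mp ⟨U, hy, hU⟩, U.2, hxU⟩

theorem isOpen_setOf_unram_fibre [LocallyOfFiniteType v.left] :
    IsOpen {s : S | FormallyUnramified
      ((Over.pullback (S.fromSpecResidueField s)).map v).left} := by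
  have : {s : S | FormallyUnramified ((Over.pullback (S.fromSpecResidueField s)).map v).left} =
      η[G].left ⁻¹' {x : G.left | (v.left.stalkMap x).hom.FormallyUnramified} := by
    ext s
    exact unram_fibre_iff v s
  rw [this]
  exact (isOpen_setOf_unram_stalkMap v.left).preimage η[G].left.continuous

theorem unram_nhd_iff_fibre [LocallyOfFiniteType v.left] (x : G.left) :
    (∃ W : G.left.Opens, x ∈ W ∧ FormallyUnramified (W.ι ≫ v.left)) ↔
      FormallyUnramified ((Over.pullback (S.fromSpecResidueField (G.hom x))).map v).left := by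
  rw [exists_nhd_iff_stalkMap, unram_fibre_iff, ← unram_stalkMap_iff_unit]

end

end Groth.Agent.Lib.Helper73.GrpHomUnram
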