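import Mathlib
import Groth.Agent.S16763
import Groth.Agent.Lib.Helper73.GrpHomUnram

/-!
helper73: the smooth (resp. etale) locus of a homomorphism of group schemes `u : G ⟶ H` over any
base `S`, with `G` flat and locally of finite presentation over `S` and `H` locally of finite type,
is the preimage of the set of `s` with `u_s` smooth (resp. etale).
-/

set_option autoImplicit false
universe u

open CategoryTheory CategoryTheory.Limits MonoidalCategory CartesianMonoidalCategory MonObj GrpObj
  AlgebraicGeometry

namespace Groth.Agent.Lib.Helper73.GrpHomSmooth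

open Groth.Agent.Lib.Helper73.GrpHomFibreDim Groth.Agent.Lib.Helper73.GrpHomFlat
  Groth.Agent.Lib.Helper73.GrpHomUnram

/-- `f` is smooth on an open neighbourhood of `x`. -/
def SmoothNear {X Y : Scheme.{u}} (f : X ⟶ Y) (x : X) : Prop :=
  ∃ U : X.Opens, x ∈ U ∧ Smooth (U.ι ≫ f)

/-- base change of smoothness near a point. -/
theorem smoothNear_of_isPullback {X Y X' Y' : Scheme.{u}} {f : X ⟶ Y} {j : Y' ⟶ Y}
    {f' : X' ⟶ Y'} {j' : X' ⟶ X} (H : IsPullback j' f' f j) (z : X')
    (h : SmoothNear f (j' z)) : SmoothNear f' z := by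
  obtain ⟨U, hzU, hU⟩ := h
  refine ⟨j' ⁻¹ᵁ U, hzU, ?_⟩
  have sq := (isPullback_morphismRestrict j' U).paste_vert H
  exact MorphismProperty.of_isPullback sq hU

/-- descent of smoothness near a point along a base change flat at the point. -/
theorem smoothNear_descend {X Y X' Y' : Scheme.{u}} {f : X ⟶ Y} {j : Y' ⟶ Y}
    {f' : X' ⟶ Y'} {j' : X' ⟶ X} (H : IsPullback j' f' f j) [LocallyOfFinitePresentation f]
    (z : X') (hj : (j.stalkMap (f' z)).hom.Flat) (h : SmoothNear f' z) :
    SmoothNear f (j' z) := by
  have h1 : H.isoPullback.hom ≫ pullback.fst f j = j' := H.isoPullback_hom_fst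
  have h2 : H.isoPullback.hom ≫ pullback.snd f j = f' := H.isoPullback_hom_snd
  have e1 : (pullback.fst f j) (H.isoPullback.hom z) = j' z := by
    rw [← Scheme.Hom.comp_apply, h1]
  have e2 : (pullback.snd f j) (H.isoPullback.hom z) = f' z := by
    rw [← Scheme.Hom.comp_apply, h2]
  have e3 : H.isoPullback.inv (H.isoPullback.hom z) = z := by
    rw [← Scheme.Hom.comp_apply, Iso.hom_inv_id]; rfl
  have hsq : IsPullback H.isoPullback.inv (pullback.snd f j) f' (𝟙 Y') :=
    IsPullback.of_horiz_isIso ⟨by rw [Category.comp_id]; exact H.isoPullback_inv_snd⟩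
  have h' : SmoothNear (pullback.snd f j) (H.isoPullback.hom z) :=
    smoothNear_of_isPullback hsq _ (by rw [e3]; exact h)
  have hj' : (j.stalkMap ((pullback.snd f j) (H.isoPullback.hom z))).hom.Flat :=
    Eq.subst (motive := fun y => (j.stalkMap y).hom.Flat) e2.symm hj
  have := Groth.Agent.S2757.result f j (H.isoPullback.hom z) hj' h'
  rw [← e1]
  exact this

theorem smoothNear_iff_of_isPullback {X Y X' Y' : Scheme.{u}} {f : X ⟶ Y} {j : Y' ⟶ Y}
    {f' : X' ⟶ Y'} {j' : X' ⟶ X} (H : IsPullback j' f' f j) [LocallyOfFinitePresentation f]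
    [Flat j] (z : X') : SmoothNear f' z ↔ SmoothNear f (j' z) :=
  ⟨smoothNear_descend H z (Flat.stalkMap j _), smoothNear_of_isPullback H z⟩

theorem smoothNear_iff_stalkMap {X Y : Scheme.{u}} (f : X ⟶ Y) [LocallyOfFinitePresentation f]
    (x : X) : SmoothNear f x ↔ (f.stalkMap x).hom.FormallySmooth :=
  ⟨fun ⟨U, hxU, _⟩ => (Groth.Agent.S2757.stalkMap_of_smooth_nhd f x U hxU).2,
    Groth.Agent.S2757.exists_smooth_nhd_of_stalkMap f x⟩

theorem isOpen_setOf_smoothNear {X Y : Scheme.{u}} (f : X ⟶ Y) : IsOpen {x : X | SmoothNear f x} := by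
  rw [isOpen_iff_forall_mem_open]
  rintro x ⟨U, hxU, hU⟩
  exact ⟨U, fun y hy => ⟨U, hy, hU⟩, U.2, hxU⟩

theorem smooth_iff_forall_smoothNear {X Y : Scheme.{u}} (f : X ⟶ Y) :
    Smooth f ↔ ∀ x : X, SmoothNear f x := by
  constructor
  · intro h x
    exact ⟨⊤, trivial, inferInstance⟩
  · intro h
    have : IsZariskiLocalAtSource @Smooth.{u} :=
      HasRingHomProperty.instIsZariskiLocalAtSource (Q := RingHom.Smooth)
    exact of_forall_exists_nhd @Smooth f h

/-- generalised form of `S16763.backward`. -/
theorem formallySmooth_stalkMap_of_fibre {X Y S : Scheme.{u}} (g : Y ⟶ S) (h : X ⟶ S) (f : X ⟶ Y)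
    (w : f ≫ g = h) [LocallyOfFinitePresentation f] (s : S) (x' : h.fiber s)
    (hflat : (h.stalkMap (h.fiberι s x')).hom.Flat)
    (hsm : ((CohIII.fiberMapOver f h g w s).stalkMap x').hom.FormallySmooth) :
    (f.stalkMap (h.fiberι s x')).hom.FormallySmooth := by
  subst w
  exact Groth.Agent.S16763.backward g f s x' hflat hsm

noncomputable section

variable {S : Scheme.{u}} {G H : Over S} [GrpObj G] [GrpObj H] (v : G ⟶ H) [IsMonHom v]

omit [GrpObj G] [GrpObj H] [IsMonHom v] in
theorem fiberMapOver_eq (s : S) :
    CohIII.fiberMapOver v.left G.hom H.hom (Over.w v) s =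
      ((Over.pullback (S.fromSpecResidueField s)).map v).left := by
  have e1 : ((Over.pullback (S.fromSpecResidueField s)).map v).left ≫
      pullback.fst H.hom (S.fromSpecResidueField s) =
      pullback.fst G.hom (S.fromSpecResidueField s) ≫ v.left := pullback.lift_fst _ _ _
  have e2 : ((Over.pullback (S.fromSpecResidueField s)).map v).left ≫
      pullback.snd H.hom (S.fromSpecResidueField s) =
      pullback.snd G.hom (S.fromSpecResidueField s) := pullback.lift_snd _ _ _
  unfold CohIII.fiberMapOver
  apply pullback.hom_ext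
  · rw [pullback.lift_fst, e1]
  · rw [pullback.lift_snd, e2, Category.comp_id]

/-- **Shear trick for smoothness**. -/
theorem smoothNear_iff_unit [Flat G.hom] [LocallyOfFinitePresentation v.left] (x : G.left) :
    SmoothNear v.left x ↔ SmoothNear v.left (η[G].left (G.hom x)) := by
  have hpb := (isPullback_whiskerLeft v).flip
  have : Flat (snd G H).left := by
    rw [Over.snd_left]; infer_instance
  have hLOFP : LocallyOfFinitePresentation (G ◁ v).left :=
    MorphismProperty.of_isPullback (P := @LocallyOfFinitePresentation) hpb inferInstance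
  have i1 : IsIso (shear (𝟙 G)).hom.left :=
    inferInstanceAs (IsIso ((Over.forget _).map (shear (𝟙 G)).hom))
  have i2 : IsIso (shear v).hom.left :=
    inferInstanceAs (IsIso ((Over.forget _).map (shear v).hom))
  have heq : (shear (𝟙 G)).hom.left ≫ (G ◁ v).left = (G ◁ v).left ≫ (shear v).hom.left := by
    rw [← Over.comp_left, ← Over.comp_left, shear_comm]
  have hsq : IsPullback (shear (𝟙 G)).hom.left (G ◁ v).left (G ◁ v).left (shear v).hom.left :=
    IsPullback.of_horiz_isIso ⟨heq⟩
  exact shear_iff (fun z => SmoothNear (G ◁ v).left z) (fun x => SmoothNear v.left x)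
    (fun z => smoothNear_iff_of_isPullback hpb z)
    (fun z => (smoothNear_iff_of_isPullback hsq z).symm) x

theorem smooth_fibre_iff [Flat G.hom] [LocallyOfFinitePresentation G.hom]
    [LocallyOfFiniteType H.hom] (s : S) :
    Smooth ((Over.pullback (S.fromSpecResidueField s)).map v).left ↔
      SmoothNear v.left (η[G].left s) := by
  have j1 : LocallyOfFinitePresentation (v.left ≫ H.hom) := by rw [Over.w]; infer_instance
  have : LocallyOfFinitePresentation v.left :=
    Groth.Agent.Lib.Helper24.locallyOfFinitePresentation_of_comp v.left H.hom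
  have hpb := (Groth.Agent.Lib.Helper40.TorsorBC.isPullback_pullback_map
    (S.fromSpecResidueField s) v).flip
  constructor
  · intro hsm
    obtain ⟨x', hx'⟩ : ∃ x' : G.hom.fiber s, G.hom.fiberι s x' = η[G].left s := by
      have : η[G].left s ∈ Set.range (G.hom.fiberι s) := by
        rw [Scheme.Hom.range_fiberι]
        exact Groth.Agent.Lib.Helper73.GrpFibreDim.hom_unit G s
      exact this
    have hsm' : Smooth (CohIII.fiberMapOver v.left G.hom H.hom (Over.w v) s) := by
      rw [fiberMapOver_eq]; exact hsm
    have h1 : ((CohIII.fiberMapOver v.left G.hom H.hom (Over.w v) s).stalkMap x').hom.FormallySmooth := by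
      have hmem : x' ∈ (CohIII.fiberMapOver v.left G.hom H.hom (Over.w v) s).smoothLocus := by
        rw [Scheme.Hom.smoothLocus_eq_top]; trivial
      exact hmem
    have h2 := formallySmooth_stalkMap_of_fibre H.hom G.hom v.left (Over.w v) s x'
      (Flat.stalkMap _ _) h1
    rw [smoothNear_iff_stalkMap]
    exact Eq.subst (motive := fun y => (v.left.stalkMap y).hom.FormallySmooth) hx' h2
  · intro h0
    rw [smooth_iff_forall_smoothNear]
    intro z
    apply smoothNear_of_isPullback hpb z
    rw [smoothNear_iff_unit]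
    have hs : G.hom ((pullback.fst G.hom (S.fromSpecResidueField s)) z) = s := by
      rw [← Scheme.Hom.comp_apply, pullback.condition, Scheme.Hom.comp_apply,
        Scheme.fromSpecResidueField_apply]
    rw [hs]
    exact h0

theorem isOpen_setOf_smooth_fibre [Flat G.hom] [LocallyOfFinitePresentation G.hom]
    [LocallyOfFiniteType H.hom] :
    IsOpen {s : S | Smooth ((Over.pullback (S.fromSpecResidueField s)).map v).left} := by
  have : {s : S | Smooth ((Over.pullback (S.fromSpecResidueField s)).map v).left} =
      η[G].left ⁻¹' {x : G.left | SmoothNear v.left x} := by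
    ext s
    exact smooth_fibre_iff v s
  rw [this]
  exact (isOpen_setOf_smoothNear v.left).preimage η[G].left.continuous

theorem smoothNear_iff_fibre [Flat G.hom] [LocallyOfFinitePresentation G.hom]
    [LocallyOfFiniteType H.hom] (x : G.left) :
    SmoothNear v.left x ↔
      Smooth ((Over.pullback (S.fromSpecResidueField (G.hom x))).map v).left := by
  have j1 : LocallyOfFinitePresentation (v.left ≫ H.hom) := by rw [Over.w]; infer_instance
  have : LocallyOfFinitePresentation v.left :=
    Groth.Agent.Lib.Helper24.locallyOfFinitePresentation_of_comp v.left H.hom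
  rw [smooth_fibre_iff, ← smoothNear_iff_unit]

omit [GrpObj G] [GrpObj H] [IsMonHom v] in
theorem etale_iff_smooth_and_unram {X Y : Scheme.{u}} (f : X ⟶ Y) :
    Etale f ↔ Smooth f ∧ FormallyUnramified f := by
  constructor
  · intro h
    exact ⟨inferInstance, inferInstance⟩
  · rintro ⟨h1, h2⟩
    rw [Etale.iff_flat_and_formallyUnramified]
    exact ⟨inferInstance, h2, inferInstance⟩

omit [GrpObj G] [GrpObj H] [IsMonHom v] in
theorem etaleNear_iff {X Y : Scheme.{u}} (f : X ⟶ Y) [LocallyOfFinitePresentation f] (x : X) :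
    (∃ U : X.Opens, x ∈ U ∧ Etale (U.ι ≫ f)) ↔
      SmoothNear f x ∧ (f.stalkMap x).hom.FormallyUnramified := by
  constructor
  · rintro ⟨U, hxU, hU⟩
    exact ⟨⟨U, hxU, inferInstance⟩,
      Groth.Agent.Lib.Helper35.stalkMap_of_formallyUnramified_nhd f x U hxU⟩
  · rintro ⟨h1, h2⟩
    exact Groth.Agent.Lib.Helper35.exists_etale_nhd_of_stalkMap f x h2
      ((smoothNear_iff_stalkMap f x).mp h1)

theorem etale_fibre_iff [Flat G.hom] [LocallyOfFinitePresentation G.hom]
    [LocallyOfFiniteType H.hom] (s : S) :
    Etale ((Over.pullback (S.fromSpecResidueField s)).map v).left ↔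
      SmoothNear v.left (η[G].left s) ∧
        (v.left.stalkMap (η[G].left s)).hom.FormallyUnramified := by
  have j1 : LocallyOfFinitePresentation (v.left ≫ H.hom) := by rw [Over.w]; infer_instance
  have : LocallyOfFinitePresentation v.left :=
    Groth.Agent.Lib.Helper24.locallyOfFinitePresentation_of_comp v.left H.hom
  rw [etale_iff_smooth_and_unram, smooth_fibre_iff, unram_fibre_iff]

theorem isOpen_setOf_etale_fibre [Flat G.hom] [LocallyOfFinitePresentation G.hom]
    [LocallyOfFiniteType H.hom] :
    IsOpen {s : S | Etale ((Over.pullback (S.fromSpecResidueField s)).map v).left} := by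
  have j1 : LocallyOfFinitePresentation (v.left ≫ H.hom) := by rw [Over.w]; infer_instance
  have : LocallyOfFinitePresentation v.left :=
    Groth.Agent.Lib.Helper24.locallyOfFinitePresentation_of_comp v.left H.hom
  have : {s : S | Etale ((Over.pullback (S.fromSpecResidueField s)).map v).left} =
      η[G].left ⁻¹' ({x : G.left | SmoothNear v.left x} ∩
        {x : G.left | (v.left.stalkMap x).hom.FormallyUnramified}) := by
    ext s
    exact etale_fibre_iff v s
  rw [this]
  exact ((isOpen_setOf_smoothNear v.left).inter (isOpen_setOf_unram_stalkMap v.left)).preimage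
    η[G].left.continuous

theorem etaleNear_iff_fibre [Flat G.hom] [LocallyOfFinitePresentation G.hom]
    [LocallyOfFiniteType H.hom] (x : G.left) :
    (∃ W : G.left.Opens, x ∈ W ∧ Etale (W.ι ≫ v.left)) ↔
      Etale ((Over.pullback (S.fromSpecResidueField (G.hom x))).map v).left := by
  have j1 : LocallyOfFinitePresentation (v.left ≫ H.hom) := by rw [Over.w]; infer_instance
  have : LocallyOfFinitePresentation v.left :=
    Groth.Agent.Lib.Helper24.locallyOfFinitePresentation_of_comp v.left H.hom
  rw [etaleNear_iff, etale_fibre_iff, ← smoothNear_iff_unit, ← unram_stalkMap_iff_unit]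

end

end Groth.Agent.Lib.Helper73.GrpHomSmooth
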