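import Mathlib
import Groth.Agent.S0112
import Groth.Agent.Lib.Helper61.EtaleSourceDescent

/-!
helper73: `LocallyOfFinitePresentation` descends along flat, locally finitely presented covers of the
source (fppf local on the source), local form.
-/

set_option autoImplicit false
universe u

open CategoryTheory CategoryTheory.Limits AlgebraicGeometry

namespace Groth.Agent.Lib.Helper73.LofpSrcDescent

open Groth.Agent.Lib.Helper61.EtaleSourceDescent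

/-- If `f` is flat and locally of finite presentation and `f ≫ g` is locally of finite presentation,
then `g` is locally of finite presentation on an open neighbourhood of `f x`. -/
theorem exists_lofp_nhd_of_comp {X Y Z : Scheme.{u}} (f : X ⟶ Y) (g : Y ⟶ Z) [Flat f]
    [LocallyOfFinitePresentation f] [LocallyOfFinitePresentation (f ≫ g)] (x : X) :
    ∃ V : Y.Opens, f x ∈ V ∧ LocallyOfFinitePresentation (V.ι ≫ g) := by
  -- affine charts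
  obtain ⟨_, ⟨Z₀, hZ₀, rfl⟩, hzZ₀, -⟩ :=
    Z.isBasis_affineOpens.exists_subset_of_mem_open (Set.mem_univ (g (f x))) isOpen_univ
  replace hZ₀ : IsAffineOpen Z₀ := hZ₀
  obtain ⟨_, ⟨Y₀, hY₀, rfl⟩, hyY₀, hY₀Z₀'⟩ :=
    Y.isBasis_affineOpens.exists_subset_of_mem_open hzZ₀ (Z₀.2.preimage g.continuous)
  replace hY₀ : IsAffineOpen Y₀ := hY₀
  have hY₀Z₀ : Y₀ ≤ g ⁻¹ᵁ Z₀ := hY₀Z₀'
  obtain ⟨_, ⟨X₁, hX₁, rfl⟩, hxX₁, hX₁Y₀'⟩ :=
    X.isBasis_affineOpens.exists_subset_of_mem_open hyY₀ (Y₀.2.preimage f.continuous)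
  replace hX₁ : IsAffineOpen X₁ := hX₁
  have hX₁Y₀ : X₁ ≤ f ⁻¹ᵁ Y₀ := hX₁Y₀'
  -- the open image of `X₁`
  let W : Y.Opens := ⟨f '' (X₁ : Set X), f.isOpenMap _ X₁.2⟩
  have hyW : f x ∈ W := ⟨x, hxX₁, rfl⟩
  obtain ⟨a, haW, hya⟩ := hY₀.exists_basicOpen_le (V := W) ⟨f x, hyW⟩ hyY₀
  have hV : IsAffineOpen (Y.basicOpen a) := hY₀.basicOpen a
  set V : Y.Opens := Y.basicOpen a with hVdef
  have hVY₀ : V ≤ Y₀ := Y.basicOpen_le a
  have hVZ₀ : V ≤ g ⁻¹ᵁ Z₀ := hVY₀.trans hY₀Z₀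
  have hX₂ : IsAffineOpen (X.basicOpen (f.appLE Y₀ X₁ hX₁Y₀ a)) := hX₁.basicOpen _
  set X₂ : X.Opens := X.basicOpen (f.appLE Y₀ X₁ hX₁Y₀ a) with hX₂def
  have hX₂eq : X₂ = X₁ ⊓ f ⁻¹ᵁ V := Scheme.basicOpen_appLE f X₁ Y₀ hX₁Y₀ a
  have hX₂V : X₂ ≤ f ⁻¹ᵁ V := by rw [hX₂eq]; exact inf_le_right
  have hX₂Z₀ : X₂ ≤ (f ≫ g) ⁻¹ᵁ Z₀ := fun z hz => hVZ₀ (hX₂V hz)
  refine ⟨V, hya, ?_⟩
  -- ring maps
  have hψ : RingHom.FinitePresentation (f.appLE V X₂ hX₂V).hom :=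
    HasRingHomProperty.appLE (P := @LocallyOfFinitePresentation) f inferInstance ⟨V, hV⟩
      ⟨X₂, hX₂⟩ hX₂V
  have hψ' : RingHom.Flat (f.appLE V X₂ hX₂V).hom :=
    HasRingHomProperty.appLE (P := @Flat) f inferInstance ⟨V, hV⟩ ⟨X₂, hX₂⟩ hX₂V
  have hχ : RingHom.FinitePresentation ((f ≫ g).appLE Z₀ X₂ hX₂Z₀).hom :=
    HasRingHomProperty.appLE (P := @LocallyOfFinitePresentation) (f ≫ g) inferInstance ⟨Z₀, hZ₀⟩
      ⟨X₂, hX₂⟩ hX₂Z₀
  let _ : Algebra Γ(Z, Z₀) Γ(Y, V) := (g.appLE Z₀ V hVZ₀).hom.toAlgebra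
  let _ : Algebra Γ(Y, V) Γ(X, X₂) := (f.appLE V X₂ hX₂V).hom.toAlgebra
  let _ : Algebra Γ(Z, Z₀) Γ(X, X₂) := ((f ≫ g).appLE Z₀ X₂ hX₂Z₀).hom.toAlgebra
  have : IsScalarTower Γ(Z, Z₀) Γ(Y, V) Γ(X, X₂) := .of_algebraMap_eq' (by
    simp only [RingHom.algebraMap_toAlgebra]
    rw [← CommRingCat.hom_comp]
    exact congrArg CommRingCat.Hom.hom
      (Scheme.Hom.appLE_comp_appLE f g Z₀ V X₂ hVZ₀ hX₂V).symm)
  have : Algebra.FinitePresentation Γ(Y, V) Γ(X, X₂) := hψ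
  have : Module.Flat Γ(Y, V) Γ(X, X₂) := hψ'
  have : Algebra.FinitePresentation Γ(Z, Z₀) Γ(X, X₂) := hχ
  have hsurj : Function.Surjective (PrimeSpectrum.comap (algebraMap Γ(Y, V) Γ(X, X₂))) := by
    intro p
    obtain ⟨v, hv, rfl⟩ := exists_primeIdealOf_eq hV p
    obtain ⟨x₁, hx₁, rfl⟩ : v ∈ W := haW hv
    have hx₁X₂ : x₁ ∈ X₂ := by rw [hX₂eq]; exact ⟨hx₁, hv⟩
    exact ⟨hX₂.primeIdealOf ⟨x₁, hx₁X₂⟩,
      IsAffineOpen.comap_primeIdealOf_appLE V hV X₂ hX₂ hX₂V hx₁X₂⟩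
  have hff : Module.FaithfullyFlat Γ(Y, V) Γ(X, X₂) :=
    Module.FaithfullyFlat.of_comap_surjective hsurj
  have hFP : Algebra.FinitePresentation Γ(Z, Z₀) Γ(Y, V) :=
    Groth.Agent.S0112.result (R := Γ(Z, Z₀)) (A := Γ(Y, V)) (B := Γ(X, X₂))
  have hφ : RingHom.FinitePresentation (g.appLE Z₀ V hVZ₀).hom := hFP
  -- back to schemes
  have hres : LocallyOfFinitePresentation (g.resLE Z₀ V hVZ₀) := by
    have : IsAffine (Z₀ : Scheme.{u}) := hZ₀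
    have : IsAffine (V : Scheme.{u}) := hV
    rw [HasRingHomProperty.iff_of_isAffine (P := @LocallyOfFinitePresentation)]
    have : (RingHom.toMorphismProperty RingHom.FinitePresentation).RespectsIso :=
      RingHom.toMorphismProperty_respectsIso_iff.mp RingHom.finitePresentation_respectsIso
    exact (MorphismProperty.arrow_mk_iso_iff
      (RingHom.toMorphismProperty RingHom.FinitePresentation)
      (arrowResLEAppIso g Z₀ V hVZ₀)).mpr hφ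
  rw [← Scheme.Hom.resLE_comp_ι g hVZ₀]
  infer_instance

end Groth.Agent.Lib.Helper73.LofpSrcDescent
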