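import Mathlib
import Groth.Agent.Lib.Helper73.LofpSrcDescent
import Groth.Agent.Lib.Helper73.GrpHomSmooth
import Groth.Agent.Lib.Helper78.AlgSpMisc3

/-!
helper73: the locus where a homomorphism of group schemes `u : G ⟶ H` (with `G` flat and locally of
finite presentation over the base) is locally of finite presentation is a union of fibres of
`G ⟶ S`; consequences over a one point base (local artinian ring).
-/

set_option autoImplicit false
universe u

open CategoryTheory CategoryTheory.Limits MonoidalCategory CartesianMonoidalCategory MonObj GrpObj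
  AlgebraicGeometry

namespace Groth.Agent.Lib.Helper73.GrpHomLofp

open Groth.Agent.Lib.Helper73.GrpHomFibreDim Groth.Agent.Lib.Helper73.GrpHomFlat
  Groth.Agent.Lib.Helper73.GrpHomUnram Groth.Agent.Lib.Helper73.GrpHomSmooth

/-- `f` is locally of finite presentation on an open neighbourhood of `x`. -/
def LofpNear {X Y : Scheme.{u}} (f : X ⟶ Y) (x : X) : Prop :=
  ∃ U : X.Opens, x ∈ U ∧ LocallyOfFinitePresentation (U.ι ≫ f)

theorem lofpNear_of_isPullback {X Y X' Y' : Scheme.{u}} {f : X ⟶ Y} {j : Y' ⟶ Y}
    {f' : X' ⟶ Y'} {j' : X' ⟶ X} (H : IsPullback j' f' f j) (z : X')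
    (h : LofpNear f (j' z)) : LofpNear f' z := by
  obtain ⟨U, hzU, hU⟩ := h
  refine ⟨j' ⁻¹ᵁ U, hzU, ?_⟩
  have sq := (isPullback_morphismRestrict j' U).paste_vert H
  exact MorphismProperty.of_isPullback sq hU

theorem lofpNear_descend {X Y X' Y' : Scheme.{u}} {f : X ⟶ Y} {j : Y' ⟶ Y}
    {f' : X' ⟶ Y'} {j' : X' ⟶ X} (H : IsPullback j' f' f j) [Flat j]
    [LocallyOfFinitePresentation j] (z : X') (h : LofpNear f' z) : LofpNear f (j' z) := by
  obtain ⟨U', hzU', hU'⟩ := h
  have : Flat j' := MorphismProperty.of_isPullback (P := @Flat) H.flip inferInstance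
  have : LocallyOfFinitePresentation j' :=
    MorphismProperty.of_isPullback (P := @LocallyOfFinitePresentation) H.flip inferInstance
  have h1 : Flat (U'.ι ≫ j') := inferInstance
  have h2 : LocallyOfFinitePresentation (U'.ι ≫ j') := inferInstance
  have h3 : LocallyOfFinitePresentation ((U'.ι ≫ f') ≫ j) := inferInstance
  have h4 : LocallyOfFinitePresentation ((U'.ι ≫ j') ≫ f) := by
    rw [Category.assoc, H.w, ← Category.assoc]; exact h3
  obtain ⟨V, hV, hVlofp⟩ :=
    Groth.Agent.Lib.Helper73.LofpSrcDescent.exists_lofp_nhd_of_comp (U'.ι ≫ j') f ⟨z, hzU'⟩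
  exact ⟨V, hV, hVlofp⟩

theorem lofpNear_iff_of_isPullback {X Y X' Y' : Scheme.{u}} {f : X ⟶ Y} {j : Y' ⟶ Y}
    {f' : X' ⟶ Y'} {j' : X' ⟶ X} (H : IsPullback j' f' f j) [Flat j]
    [LocallyOfFinitePresentation j] (z : X') : LofpNear f' z ↔ LofpNear f (j' z) :=
  ⟨lofpNear_descend H z, lofpNear_of_isPullback H z⟩

theorem lofp_iff_forall_lofpNear {X Y : Scheme.{u}} (f : X ⟶ Y) :
    LocallyOfFinitePresentation f ↔ ∀ x : X, LofpNear f x := by
  constructor
  · intro h x
    exact ⟨⊤, trivial, inferInstance⟩
  · intro h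
    have : IsZariskiLocalAtSource @LocallyOfFinitePresentation.{u} :=
      HasRingHomProperty.instIsZariskiLocalAtSource (Q := RingHom.FinitePresentation)
    exact of_forall_exists_nhd @LocallyOfFinitePresentation f h

noncomputable section

variable {S : Scheme.{u}} {G H : Over S} [GrpObj G] [GrpObj H] (v : G ⟶ H) [IsMonHom v]

/-- **Shear trick for local finite presentation**. -/
theorem lofpNear_iff_unit [Flat G.hom] [LocallyOfFinitePresentation G.hom] (x : G.left) :
    LofpNear v.left x ↔ LofpNear v.left (η[G].left (G.hom x)) := by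
  have hpb := (isPullback_whiskerLeft v).flip
  have : Flat (snd G H).left := by
    rw [Over.snd_left]; infer_instance
  have : LocallyOfFinitePresentation (snd G H).left := by
    rw [Over.snd_left]; infer_instance
  have i1 : IsIso (shear (𝟙 G)).hom.left :=
    inferInstanceAs (IsIso ((Over.forget _).map (shear (𝟙 G)).hom))
  have i2 : IsIso (shear v).hom.left :=
    inferInstanceAs (IsIso ((Over.forget _).map (shear v).hom))
  have heq : (shear (𝟙 G)).hom.left ≫ (G ◁ v).left = (G ◁ v).left ≫ (shear v).hom.left := by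
    rw [← Over.comp_left, ← Over.comp_left, shear_comm]
  have hsq : IsPullback (shear (𝟙 G)).hom.left (G ◁ v).left (G ◁ v).left (shear v).hom.left :=
    IsPullback.of_horiz_isIso ⟨heq⟩
  exact shear_iff (fun z => LofpNear (G ◁ v).left z) (fun x => LofpNear v.left x)
    (fun z => lofpNear_iff_of_isPullback hpb z)
    (fun z => (lofpNear_iff_of_isPullback hsq z).symm) x

omit [GrpObj H] [IsMonHom v] in
/-- over a one point base a property constant along the fibres holds everywhere as soon as it
holds at one point. -/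
theorem forall_of_subsingleton [Subsingleton S] (Q₀ : G.left → Prop)
    (h : ∀ x, Q₀ x ↔ Q₀ (η[G].left (G.hom x))) (x₀ : G.left) (hx₀ : Q₀ x₀) (x : G.left) :
    Q₀ x := by
  rw [h x, Subsingleton.elim (G.hom x) (G.hom x₀), ← h x₀]
  exact hx₀

end

end Groth.Agent.Lib.Helper73.GrpHomLofp
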