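import Mathlib
import Groth.Agent.Lib.Helper73.GrpHomLofp
import Groth.Agent.Lib.Helper98.GrpUnivOpen

/-!
helper73: generalized shear trick (translation by a `T`-point) and descent of "`P` near a point"
along flat, locally finitely presented base change for morphisms that are not assumed locally of
finite presentation; application to the largest open on which a homomorphism of group schemes is
flat and locally of finite presentation / smooth / etale.
-/

set_option autoImplicit false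
universe u

open CategoryTheory CategoryTheory.Limits MonoidalCategory CartesianMonoidalCategory MonObj GrpObj
  AlgebraicGeometry

namespace Groth.Agent.Lib.Helper73.GrpHomMaxOpen

open Groth.Agent.Lib.Helper73.GrpHomFibreDim Groth.Agent.Lib.Helper73.GrpHomFlat
  Groth.Agent.Lib.Helper73.GrpHomUnram Groth.Agent.Lib.Helper73.GrpHomSmooth
  Groth.Agent.Lib.Helper73.GrpHomLofp

/-- `P` holds for `f` on an open neighbourhood of `x`. -/
def PNear (P : MorphismProperty Scheme.{u}) {X Y : Scheme.{u}} (f : X ⟶ Y) (x : X) : Prop :=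
  ∃ W : X.Opens, x ∈ W ∧ P (W.ι ≫ f)

theorem pNear_restrict (P : MorphismProperty Scheme.{u}) [IsZariskiLocalAtSource P]
    {X Y : Scheme.{u}} (f : X ⟶ Y) (U : X.Opens) (x : U) (h : PNear P f (U.ι x)) :
    PNear P (U.ι ≫ f) x := by
  obtain ⟨W, hxW, hW⟩ := h
  refine ⟨U.ι ⁻¹ᵁ W, hxW, ?_⟩
  have e : (U.ι ⁻¹ᵁ W).ι ≫ U.ι ≫ f = (U.ι ∣_ W) ≫ W.ι ≫ f := by
    rw [← Category.assoc, ← Category.assoc, morphismRestrict_ι]
  rw [e]
  exact IsZariskiLocalAtSource.comp hW _

theorem pNear_of_restrict (P : MorphismProperty Scheme.{u}) [P.RespectsIso]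
    {X Y : Scheme.{u}} (f : X ⟶ Y) (U : X.Opens) (x : U) (h : PNear P (U.ι ≫ f) x) :
    PNear P f (U.ι x) := by
  obtain ⟨W, hxW, hW⟩ := h
  refine ⟨U.ι ''ᵁ W, ⟨x, hxW, rfl⟩, ?_⟩
  have e : (U.ι ''ᵁ W).ι ≫ f = (U.ι.isoImage W).inv ≫ W.ι ≫ U.ι ≫ f := by
    rw [← Scheme.Hom.isoImage_inv_ι, Category.assoc, Category.assoc]
  rw [e]
  exact (P.cancel_left_of_respectsIso _ _).mpr hW

theorem pNear_of_isPullback (P : MorphismProperty Scheme.{u}) [P.IsStableUnderBaseChange]
    {X Y X' Y' : Scheme.{u}} {f : X ⟶ Y} {j : Y' ⟶ Y}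
    {f' : X' ⟶ Y'} {j' : X' ⟶ X} (H : IsPullback j' f' f j) (z : X')
    (h : PNear P f (j' z)) : PNear P f' z := by
  obtain ⟨U, hzU, hU⟩ := h
  refine ⟨j' ⁻¹ᵁ U, hzU, ?_⟩
  have sq := (isPullback_morphismRestrict j' U).paste_vert H
  exact MorphismProperty.of_isPullback sq hU

theorem isPullback_restrict {X Y X' Y' : Scheme.{u}} {f : X ⟶ Y} {j : Y' ⟶ Y}
    {f' : X' ⟶ Y'} {j' : X' ⟶ X} (H : IsPullback j' f' f j) (U : X.Opens) :
    IsPullback (j' ∣_ U) ((j' ⁻¹ᵁ U).ι ≫ f') (U.ι ≫ f) j :=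
  (isPullback_morphismRestrict j' U).paste_vert H

theorem morphismRestrict_apply' {X X' : Scheme.{u}} (j' : X' ⟶ X) (U : X.Opens)
    (z : ↥(j' ⁻¹ᵁ U)) : U.ι ((j' ∣_ U) z) = j' ((j' ⁻¹ᵁ U).ι z) := by
  rw [← Scheme.Hom.comp_apply, ← Scheme.Hom.comp_apply, morphismRestrict_ι]

/-- descent of smoothness near a point along a flat, locally finitely presented base change
(the morphism itself is not assumed locally of finite presentation). -/
theorem smoothNear_descend' {X Y X' Y' : Scheme.{u}} {f : X ⟶ Y} {j : Y' ⟶ Y}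
    {f' : X' ⟶ Y'} {j' : X' ⟶ X} (H : IsPullback j' f' f j) [Flat j]
    [LocallyOfFinitePresentation j] (z : X') (h : PNear @Smooth f' z) :
    PNear @Smooth f (j' z) := by
  have hl : LofpNear f' z := by
    obtain ⟨W, hzW, hW⟩ := h
    have : Smooth (W.ι ≫ f') := hW
    exact ⟨W, hzW, inferInstance⟩
  obtain ⟨U, hjz, hU⟩ := lofpNear_descend H z hl
  have sq := isPullback_restrict H U
  have : IsZariskiLocalAtSource @Smooth.{u} :=
    HasRingHomProperty.instIsZariskiLocalAtSource (Q := RingHom.Smooth)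
  have h1 : PNear @Smooth ((j' ⁻¹ᵁ U).ι ≫ f') ⟨z, hjz⟩ :=
    pNear_restrict @Smooth f' (j' ⁻¹ᵁ U) ⟨z, hjz⟩ h
  have h2 : SmoothNear (U.ι ≫ f) ((j' ∣_ U) ⟨z, hjz⟩) :=
    smoothNear_descend sq ⟨z, hjz⟩ (Flat.stalkMap j _) h1
  have h3 := pNear_of_restrict @Smooth f U _ h2
  rw [morphismRestrict_apply'] at h3
  exact h3

/-- descent of etaleness near a point. -/
theorem etaleNear_descend' {X Y X' Y' : Scheme.{u}} {f : X ⟶ Y} {j : Y' ⟶ Y}
    {f' : X' ⟶ Y'} {j' : X' ⟶ X} (H : IsPullback j' f' f j) [Flat j]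
    [LocallyOfFinitePresentation j] (z : X') (h : PNear @Etale f' z) :
    PNear @Etale f (j' z) := by
  obtain ⟨W, hzW, hW⟩ := h
  have hWe : Etale (W.ι ≫ f') := hW
  have hsm' : PNear @Smooth f' z := ⟨W, hzW, inferInstanceAs (Smooth (W.ι ≫ f'))⟩
  have hun' : (f'.stalkMap z).hom.FormallyUnramified :=
    Groth.Agent.Lib.Helper35.stalkMap_of_formallyUnramified_nhd f' z W hzW
  obtain ⟨U, hjz, hU⟩ := smoothNear_descend' H z hsm'
  have hUs : Smooth (U.ι ≫ f) := hU
  have sq := isPullback_restrict H U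
  have hun1 : (((j' ⁻¹ᵁ U).ι ≫ f').stalkMap ⟨z, hjz⟩).hom.FormallyUnramified :=
    (Groth.Agent.Lib.Helper35.stalkMap_comp_openImmersion_iff
      RingHom.FormallyUnramified.respectsIso (j' ⁻¹ᵁ U).ι f' ⟨z, hjz⟩).mpr hun'
  have hun2 : ((U.ι ≫ f).stalkMap ((j' ∣_ U) ⟨z, hjz⟩)).hom.FormallyUnramified :=
    (Groth.Agent.S16765.formallyUnramified_stalkMap_iff_of_isPullback sq ⟨z, hjz⟩).mp hun1
  have hsm2 : ((U.ι ≫ f).stalkMap ((j' ∣_ U) ⟨z, hjz⟩)).hom.FormallySmooth :=
    (smoothNear_iff_stalkMap (U.ι ≫ f) _).mp ⟨⊤, trivial, inferInstance⟩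
  have h4 := Groth.Agent.Lib.Helper35.exists_etale_nhd_of_stalkMap (U.ι ≫ f)
    ((j' ∣_ U) ⟨z, hjz⟩) hun2 hsm2
  have h5 := pNear_of_restrict @Etale f U _ h4
  rw [morphismRestrict_apply'] at h5
  exact h5

/-- flat and locally of finite presentation. -/
def FlatLofp : MorphismProperty Scheme.{u} := @Flat ⊓ @LocallyOfFinitePresentation

theorem flatLofpNear_descend' {X Y X' Y' : Scheme.{u}} {f : X ⟶ Y} {j : Y' ⟶ Y}
    {f' : X' ⟶ Y'} {j' : X' ⟶ X} (H : IsPullback j' f' f j) [Flat j]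
    [LocallyOfFinitePresentation j] (z : X') (h : PNear FlatLofp f' z) :
    PNear FlatLofp f (j' z) := by
  obtain ⟨W, hzW, hWf, hWp⟩ := h
  have hWf' : Flat (W.ι ≫ f') := hWf
  have hl : LofpNear f' z := ⟨W, hzW, hWp⟩
  have hfl' : (f'.stalkMap z).hom.Flat :=
    (Groth.Agent.Lib.Helper35.stalkMap_comp_openImmersion_iff RingHom.Flat.respectsIso W.ι f'
      ⟨z, hzW⟩).mp (Flat.stalkMap (W.ι ≫ f') ⟨z, hzW⟩)
  obtain ⟨U, hjz, hU⟩ := lofpNear_descend H z hl
  have hfl : (f.stalkMap (j' z)).hom.Flat := flat_stalkMap_descend H z hfl'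
  have hfl2 : ((U.ι ≫ f).stalkMap ⟨j' z, hjz⟩).hom.Flat :=
    (Groth.Agent.Lib.Helper35.stalkMap_comp_openImmersion_iff RingHom.Flat.respectsIso U.ι f
      ⟨j' z, hjz⟩).mpr hfl
  have hopen := Groth.Agent.S0386.result (U.ι ≫ f)
  let O : (U : Scheme.{u}).Opens := ⟨_, hopen⟩
  have hOfl : Flat (O.ι ≫ U.ι ≫ f) := by
    apply Flat.of_stalkMap
    intro y
    exact (Groth.Agent.Lib.Helper35.stalkMap_comp_openImmersion_iff RingHom.Flat.respectsIso O.ι
      (U.ι ≫ f) y).mpr y.2
  have hO : PNear FlatLofp (U.ι ≫ f) ⟨j' z, hjz⟩ :=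
    ⟨O, hfl2, hOfl, inferInstanceAs (LocallyOfFinitePresentation (O.ι ≫ U.ι ≫ f))⟩
  have : (FlatLofp.{u}).RespectsIso := by unfold FlatLofp; infer_instance
  exact pNear_of_restrict FlatLofp f U _ hO

noncomputable section

variable {S : Scheme.{u}} {T G H : Over S} [GrpObj G] [GrpObj H] (a : T ⟶ G) (v : G ⟶ H)
  [IsMonHom v]

/-- the shear `(t, h) ↦ (t, v(a(t)) h)`. -/
def shearAt : T ⊗ H ≅ T ⊗ H where
  hom := lift (fst T H) ((fst T H ≫ a ≫ v) * snd T H)
  inv := lift (fst T H) ((fst T H ≫ a ≫ v)⁻¹ * snd T H)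
  hom_inv_id := by
    ext
    · simp
    · rw [Category.assoc, lift_snd, MonObj.comp_mul, GrpObj.comp_inv, ← Category.assoc, lift_fst,
        lift_snd, Category.id_comp, inv_mul_cancel_left]
  inv_hom_id := by
    ext
    · simp
    · rw [Category.assoc, lift_snd, MonObj.comp_mul, ← Category.assoc, lift_fst, lift_snd,
        Category.id_comp, mul_inv_cancel_left]

theorem shearAt_comm :
    (shearAt a (𝟙 G)).hom ≫ (T ◁ v) = (T ◁ v) ≫ (shearAt a v).hom := by
  ext
  · simp [shearAt]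
  · simp only [shearAt, Category.assoc, whiskerLeft_snd, lift_snd, Category.comp_id]
    rw [← Category.assoc, lift_snd, MonObj.comp_mul, MonObj.mul_comp]
    simp

omit [GrpObj G] [GrpObj H] [IsMonHom v] in
theorem isPullback_whiskerLeft' :
    IsPullback (T ◁ v).left (snd T G).left (snd T H).left v.left := by
  have hR : IsPullback (fst T H).left (snd T H).left T.hom H.hom := by
    rw [Over.fst_left, Over.snd_left]; exact IsPullback.of_hasPullback _ _
  have hO : IsPullback ((T ◁ v).left ≫ (fst T H).left) (snd T G).left T.hom (v.left ≫ H.hom) := by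
    rw [Over.w v, ← Over.comp_left, whiskerLeft_fst, Over.fst_left, Over.snd_left]
    exact IsPullback.of_hasPullback _ _
  refine IsPullback.of_right hO ?_ hR
  rw [← Over.comp_left, ← Over.comp_left, whiskerLeft_snd]

omit [GrpObj H] [IsMonHom v] in
theorem shearAt_snd : (shearAt a (𝟙 G)).hom ≫ snd T G = (fst T G ≫ a) * snd T G := by
  simp [shearAt]

/-- **Generalized shear trick**: a pointwise property of `v` which is invariant under the base
change `T ◁ v` of `v` and under the shears takes the same value at `g` and at `a(t) · g`. -/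
theorem shearAt_iff (P : MorphismProperty Scheme.{u}) [P.IsStableUnderBaseChange]
    (hdesc : ∀ {X Y X' Y' : Scheme.{u}} {f : X ⟶ Y} {j : Y' ⟶ Y} {f' : X' ⟶ Y'} {j' : X' ⟶ X}
      (_ : IsPullback j' f' f j) [Flat j] [LocallyOfFinitePresentation j] (z : X'),
      PNear P f' z → PNear P f (j' z))
    [Flat T.hom] [LocallyOfFinitePresentation T.hom] (z : (T ⊗ G).left) :
    PNear P v.left ((snd T G).left z) ↔
      PNear P v.left (((fst T G ≫ a) * snd T G).left z) := by
  have hpb := (isPullback_whiskerLeft' (T := T) v).flip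
  have : Flat (snd T H).left := by
    rw [Over.snd_left]; infer_instance
  have : LocallyOfFinitePresentation (snd T H).left := by
    rw [Over.snd_left]; infer_instance
  have i1 : IsIso (shearAt a (𝟙 G)).hom.left :=
    inferInstanceAs (IsIso ((Over.forget _).map (shearAt a (𝟙 G)).hom))
  have i2 : IsIso (shearAt a v).hom.left :=
    inferInstanceAs (IsIso ((Over.forget _).map (shearAt a v).hom))
  have heq : (shearAt a (𝟙 G)).hom.left ≫ (T ◁ v).left =
      (T ◁ v).left ≫ (shearAt a v).hom.left := by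
    rw [← Over.comp_left, ← Over.comp_left, shearAt_comm]
  have hsq : IsPullback (shearAt a (𝟙 G)).hom.left (T ◁ v).left (T ◁ v).left
      (shearAt a v).hom.left := IsPullback.of_horiz_isIso ⟨heq⟩
  have hbc : ∀ w, PNear P (T ◁ v).left w ↔ PNear P v.left ((snd T G).left w) :=
    fun w => ⟨hdesc hpb w, pNear_of_isPullback P hpb w⟩
  have hiso : PNear P (T ◁ v).left z ↔ PNear P (T ◁ v).left ((shearAt a (𝟙 G)).hom.left z) :=
    ⟨hdesc hsq z, pNear_of_isPullback P hsq z⟩
  rw [hbc, hbc] at hiso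
  have e : (snd T G).left ((shearAt a (𝟙 G)).hom.left z) =
      ((fst T G ≫ a) * snd T G).left z := by
    rw [← shearAt_snd, Over.comp_left]; rfl
  rw [e] at hiso
  exact hiso

end

section Core

variable (P : MorphismProperty Scheme.{u}) [P.IsStableUnderBaseChange]
  (hdesc : ∀ {X Y X' Y' : Scheme.{u}} {f : X ⟶ Y} {j : Y' ⟶ Y} {f' : X' ⟶ Y'} {j' : X' ⟶ X}
    (_ : IsPullback j' f' f j) [Flat j] [LocallyOfFinitePresentation j] (z : X'),
    PNear P f' z → PNear P f (j' z))
  (hflp : ∀ {X Y : Scheme.{u}} (f : X ⟶ Y), P f → Flat f ∧ LocallyOfFinitePresentation f)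

include hdesc hflp in
/-- the largest open on which a homomorphism of group schemes has `P` is an open subgroup over its
(open) image in the base. -/
theorem maxOpen_isSubgroup (S : Scheme.{u}) (G H : Over S) [GrpObj G] [GrpObj H]
    (v : G ⟶ H) [IsMonHom v]
    (hfl : Flat G.hom ∨ Flat H.hom)
    (hfp : LocallyOfFinitePresentation G.hom ∨ LocallyOfFinitePresentation H.hom)
    (V : G.left.Opens) (hV : P (V.ι ≫ v.left))
    (hmax : ∀ W : G.left.Opens, P (W.ι ≫ v.left) → W ≤ V) :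
    IsOpen (G.hom.base '' (V : Set G.left)) ∧
    (∀ g ∈ V, ∀ p : ↥(𝟙_ (Over S)).left, (𝟙_ (Over S)).hom.base p = G.hom.base g →
      η[G].left.base p ∈ V) ∧
    (∀ g ∈ V, ι[G].left.base g ∈ V) ∧
    (∀ z : ↥(G ⊗ G).left, (fst G G).left.base z ∈ V → (snd G G).left.base z ∈ V →
      μ[G].left.base z ∈ V) := by
  obtain ⟨hVfl, hVfp⟩ := hflp _ hV
  have hTfl : Flat (V.ι ≫ G.hom) := by
    rcases hfl with h | h
    · infer_instance
    · have e : V.ι ≫ G.hom = (V.ι ≫ v.left) ≫ H.hom := by rw [Category.assoc, Over.w]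
      rw [e]; infer_instance
  have hTfp : LocallyOfFinitePresentation (V.ι ≫ G.hom) := by
    rcases hfp with h | h
    · infer_instance
    · have e : V.ι ≫ G.hom = (V.ι ≫ v.left) ≫ H.hom := by rw [Category.assoc, Over.w]
      rw [e]; infer_instance
  let T : Over S := Over.mk (V.ι ≫ G.hom)
  let a : T ⟶ G := Over.homMk V.ι rfl
  have iT1 : Flat T.hom := hTfl
  have iT2 : LocallyOfFinitePresentation T.hom := hTfp
  have hmem : ∀ x : G.left, x ∈ V ↔ PNear P v.left x :=
    fun x => ⟨fun hx => ⟨V, hx, hV⟩, fun ⟨W, hxW, hW⟩ => hmax W hW hxW⟩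
  have key := fun z => shearAt_iff a v P hdesc z
  -- the unit
  have hunit : ∀ g (hg : g ∈ V), η[G].left (G.hom g) ∈ V := by
    intro g hg
    have k := key ((lift (𝟙 T) (toUnit T ≫ η[G])).left ⟨g, hg⟩)
    have e1 : (snd T G).left ((lift (𝟙 T) (toUnit T ≫ η[G])).left ⟨g, hg⟩) =
        η[G].left (G.hom g) := by
      have h : lift (𝟙 T) (toUnit T ≫ η[G]) ≫ snd T G = toUnit T ≫ η[G] := lift_snd _ _
      have := congrArg (fun m : T ⟶ G => m.left ⟨g, hg⟩) h
      exact this
    have e2 : ((fst T G ≫ a) * snd T G).left ((lift (𝟙 T) (toUnit T ≫ η[G])).left ⟨g, hg⟩) =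
        g := by
      have h : lift (𝟙 T) (toUnit T ≫ η[G]) ≫ ((fst T G ≫ a) * snd T G) = a := by
        rw [MonObj.comp_mul, ← Category.assoc, lift_fst, lift_snd, Category.id_comp,
          ← Hom.one_def, _root_.mul_one]
      have := congrArg (fun m : T ⟶ G => m.left ⟨g, hg⟩) h
      exact this
    rw [e1, e2] at k
    exact (hmem _).mpr (k.mpr ((hmem g).mp hg))
  refine ⟨?_, ?_, ?_, ?_⟩
  · have : G.hom.base '' (V : Set G.left) = Set.range (V.ι ≫ G.hom) := by
      rw [Scheme.Hom.comp_base, TopCat.coe_comp, Set.range_comp, Scheme.Opens.range_ι]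
    rw [this]
    exact (V.ι ≫ G.hom).isOpenMap.isOpen_range
  · intro g hg p hp
    have hp' : p = G.hom g := hp
    rw [hp']
    exact hunit g hg
  · intro g hg
    have k := key ((lift (𝟙 T) (a ≫ ι[G])).left ⟨g, hg⟩)
    have e1 : (snd T G).left ((lift (𝟙 T) (a ≫ ι[G])).left ⟨g, hg⟩) = ι[G].left g := by
      have h : lift (𝟙 T) (a ≫ ι[G]) ≫ snd T G = a ≫ ι[G] := lift_snd _ _
      have := congrArg (fun m : T ⟶ G => m.left ⟨g, hg⟩) h
      exact this
    have e2 : ((fst T G ≫ a) * snd T G).left ((lift (𝟙 T) (a ≫ ι[G])).left ⟨g, hg⟩) =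
        η[G].left (G.hom g) := by
      have h : lift (𝟙 T) (a ≫ ι[G]) ≫ ((fst T G ≫ a) * snd T G) = toUnit T ≫ η[G] := by
        rw [MonObj.comp_mul, ← Category.assoc, lift_fst, lift_snd, Category.id_comp,
          ← Hom.one_def, ← Hom.inv_def, mul_inv_cancel]
      have := congrArg (fun m : T ⟶ G => m.left ⟨g, hg⟩) h
      exact this
    rw [e1, e2] at k
    exact (hmem _).mpr (k.mpr ((hmem _).mp (hunit g hg)))
  · intro z hz1 hz2
    have hpbR := Groth.Agent.Lib.Helper98.GrpUnivOpen.isPullback_whiskerRight' G a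
    obtain ⟨w, hw1, hw2⟩ := Scheme.Pullback.exists_preimage_pullback (f := (fst G G).left)
      (g := a.left) z ⟨(fst G G).left z, hz1⟩ rfl
    have ez : (a ▷ G).left (hpbR.isoPullback.inv w) = z := by
      rw [← Scheme.Hom.comp_apply, hpbR.isoPullback_inv_fst, hw1]
    have k := key (hpbR.isoPullback.inv w)
    have e1 : (snd T G).left (hpbR.isoPullback.inv w) = (snd G G).left z := by
      have h : (a ▷ G) ≫ snd G G = snd T G := whiskerRight_snd _ _
      have := congrArg (fun m : T ⊗ G ⟶ G => m.left (hpbR.isoPullback.inv w)) h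
      rw [← ez]
      exact this.symm
    have e2 : ((fst T G ≫ a) * snd T G).left (hpbR.isoPullback.inv w) = μ[G].left z := by
      have h : (fst T G ≫ a) * snd T G = (a ▷ G) ≫ μ[G] := by
        have hl : lift (fst T G ≫ a) (snd T G) = a ▷ G := by
          ext <;> simp
        rw [Hom.mul_def, hl]
      have := congrArg (fun m : T ⊗ G ⟶ G => m.left (hpbR.isoPullback.inv w)) h
      rw [← ez]
      exact this
    rw [e1, e2] at k
    exact (hmem _).mpr (k.mp ((hmem _).mp hz2))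

end Core

end Groth.Agent.Lib.Helper73.GrpHomMaxOpen
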