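import Mathlib
import Groth.Agent.S3694
import Groth.Agent.Lib.Helper73.GrpHomSmooth

/-!
helper73: open-immersion locus of a universally injective homomorphism of group schemes.
-/

set_option autoImplicit false
universe u

open CategoryTheory CategoryTheory.Limits MonoidalCategory CartesianMonoidalCategory MonObj GrpObj
  AlgebraicGeometry

namespace Groth.Agent.Lib.Helper73.GrpHomOpenImm

open Groth.Agent.Lib.Helper73.GrpHomSmooth Groth.Agent.Lib.Helper73.GrpHomUnram

/-- a property local at the source holds on an open as soon as it holds near every point of it. -/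
theorem of_forall_mem_exists_nhd (P : MorphismProperty Scheme.{u}) [IsZariskiLocalAtSource P]
    {X Y : Scheme.{u}} (f : X ⟶ Y) (V : X.Opens)
    (h : ∀ x ∈ V, ∃ U : X.Opens, x ∈ U ∧ P (U.ι ≫ f)) : P (V.ι ≫ f) := by
  apply of_forall_exists_nhd P
  intro y
  obtain ⟨U, hyU, hU⟩ := h y.1 y.2
  refine ⟨V.ι ⁻¹ᵁ U, hyU, ?_⟩
  have e : (V.ι ⁻¹ᵁ U).ι ≫ V.ι ≫ f = (V.ι ∣_ U) ≫ U.ι ≫ f := by
    rw [← Category.assoc, ← Category.assoc, morphismRestrict_ι]
  rw [e]
  exact IsZariskiLocalAtSource.comp hU _

noncomputable section

variable {S : Scheme.{u}} {G H : Over S} [GrpObj G] [GrpObj H] (v : G ⟶ H) [IsMonHom v]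

omit [GrpObj G] [GrpObj H] [IsMonHom v] in
theorem isOpenImmersion_fibre_iff_etale [UniversallyInjective v.left] (s : S) :
    IsOpenImmersion ((Over.pullback (S.fromSpecResidueField s)).map v).left ↔
      Etale ((Over.pullback (S.fromSpecResidueField s)).map v).left := by
  have hpb := (Groth.Agent.Lib.Helper40.TorsorBC.isPullback_pullback_map
    (S.fromSpecResidueField s) v).flip
  have : UniversallyInjective ((Over.pullback (S.fromSpecResidueField s)).map v).left :=
    MorphismProperty.of_isPullback (P := @UniversallyInjective) hpb inferInstance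
  constructor
  · intro h
    infer_instance
  · intro h
    exact Groth.Agent.S3694.result _

theorem isOpen_setOf_isOpenImmersion_fibre [UniversallyInjective v.left] [Flat G.hom]
    [LocallyOfFinitePresentation G.hom] [LocallyOfFiniteType H.hom] :
    IsOpen {s : S | IsOpenImmersion ((Over.pullback (S.fromSpecResidueField s)).map v).left} := by
  have : {s : S | IsOpenImmersion ((Over.pullback (S.fromSpecResidueField s)).map v).left} =
      {s : S | Etale ((Over.pullback (S.fromSpecResidueField s)).map v).left} := by
    ext s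
    exact isOpenImmersion_fibre_iff_etale v s
  rw [this]
  exact isOpen_setOf_etale_fibre v

theorem isOpenImmersion_restrict [UniversallyInjective v.left] [Flat G.hom]
    [LocallyOfFinitePresentation G.hom] [LocallyOfFiniteType H.hom] (W : S.Opens)
    (hW : (W : Set S) ⊆
      {s : S | IsOpenImmersion ((Over.pullback (S.fromSpecResidueField s)).map v).left}) :
    IsOpenImmersion ((G.hom ⁻¹ᵁ W).ι ≫ v.left) := by
  have : IsZariskiLocalAtSource @Etale.{u} :=
    HasRingHomProperty.instIsZariskiLocalAtSource (Q := RingHom.Etale)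
  have het : Etale ((G.hom ⁻¹ᵁ W).ι ≫ v.left) := by
    apply of_forall_mem_exists_nhd @Etale
    intro x hx
    rw [etaleNear_iff_fibre]
    exact (isOpenImmersion_fibre_iff_etale v _).mp (hW hx)
  have : UniversallyInjective ((G.hom ⁻¹ᵁ W).ι ≫ v.left) :=
    MorphismProperty.comp_mem @UniversallyInjective _ _ inferInstance inferInstance
  exact Groth.Agent.S3694.result _

end

end Groth.Agent.Lib.Helper73.GrpHomOpenImm
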