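import Mathlib

/-!
helper73: algebraic core of "descent of finite type near a point along a field extension".
-/

set_option autoImplicit false
universe u

open TensorProduct

namespace Groth.Agent.Lib.Helper73.NearDescAlg

variable {k K B : Type u} [Field k] [Field K] [Algebra k K] [CommRing B] [Algebra k B]

/-- the base change map `C ⊗ K → B ⊗ K` of a subalgebra. -/
noncomputable abbrev incl (C : Subalgebra k B) : (C ⊗[k] K) →ₐ[k] (B ⊗[k] K) :=
  Algebra.TensorProduct.map C.val (AlgHom.id k K)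

theorem exists_fg_mem_range (x : B ⊗[k] K) :
    ∃ C : Subalgebra k B, C.FG ∧ x ∈ (incl (K := K) C).range := by
  classical
  obtain ⟨S, hS⟩ := TensorProduct.exists_finset x
  refine ⟨Algebra.adjoin k ((S.image fun j => j.1 : Finset B) : Set B),
    Subalgebra.fg_adjoin_finset _, ?_⟩
  rw [hS]
  refine Subalgebra.sum_mem _ fun s hs => ?_
  refine ⟨(⟨s.1, Algebra.subset_adjoin
    (Finset.mem_coe.mpr (Finset.mem_image_of_mem _ hs))⟩ : Algebra.adjoin k _) ⊗ₜ s.2, ?_⟩
  simp [incl]

theorem range_incl_mono {C C' : Subalgebra k B} (h : C ≤ C') :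
    (incl (K := K) C).range ≤ (incl (K := K) C').range := by
  rintro _ ⟨t, rfl⟩
  refine ⟨Algebra.TensorProduct.map (Subalgebra.inclusion h) (AlgHom.id k K) t, ?_⟩
  induction t using TensorProduct.induction_on with
  | zero => simp
  | tmul c a => simp [incl]
  | add x y hx hy => simp only [map_add, hx, hy]

theorem exists_fg_forall_mem_range (s : Finset (B ⊗[k] K)) :
    ∃ C : Subalgebra k B, C.FG ∧ ∀ x ∈ s, x ∈ (incl (K := K) C).range := by
  classical
  induction s using Finset.induction_on with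
  | empty => exact ⟨⊥, Subalgebra.fg_bot, by simp⟩
  | insert a s ha ih =>
    obtain ⟨C₁, h₁, h₁'⟩ := ih
    obtain ⟨C₂, h₂, h₂'⟩ := exists_fg_mem_range (K := K) a
    refine ⟨C₁ ⊔ C₂, h₁.sup h₂, fun x hx => ?_⟩
    rcases Finset.mem_insert.mp hx with rfl | hx
    · exact range_incl_mono le_sup_right h₂'
    · exact range_incl_mono le_sup_left (h₁' x hx)

theorem mem_map_of_mul_mem_range (C : Subalgebra k B) (b : B) (J : Ideal C)
    (hJ : ∀ c : C, (c : B) * b ∈ C → c ∈ J)
    (t t' : C ⊗[k] K) (h : incl C t * (b ⊗ₜ[k] (1 : K)) = incl C t') :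
    t ∈ Ideal.map (algebraMap C (C ⊗[k] K)) J := by
  classical
  let ℬ := Module.Basis.ofVectorSpace k K
  let eC := TensorProduct.equivFinsuppOfBasisRight (M := C) ℬ
  let eB := TensorProduct.equivFinsuppOfBasisRight (M := B) ℬ
  have ha : ∀ (s : C ⊗[k] K) i, eB (incl C s) i = (eC s i : B) := by
    intro s i
    induction s using TensorProduct.induction_on with
    | zero => simp
    | tmul c a =>
      simp [eB, eC, incl, TensorProduct.equivFinsuppOfBasisRight_apply_tmul_apply]
    | add x y hx hy => simp only [map_add, Finsupp.add_apply, hx, hy, Subalgebra.coe_add]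
  have hb : ∀ (x : B ⊗[k] K) i, eB (x * (b ⊗ₜ 1)) i = eB x i * b := by
    intro x i
    induction x using TensorProduct.induction_on with
    | zero => simp
    | tmul b' a =>
      simp [eB, Algebra.TensorProduct.tmul_mul_tmul,
        TensorProduct.equivFinsuppOfBasisRight_apply_tmul_apply, smul_mul_assoc]
    | add x y hx hy => simp only [add_mul, map_add, Finsupp.add_apply, hx, hy]
  have hmem : ∀ i, eC t i ∈ J := by
    intro i
    apply hJ
    rw [← ha, ← hb, h, ha]
    exact (eC t' i).2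
  have ht : t = (eC t).sum fun i m => m ⊗ₜ ℬ i := by
    rw [← TensorProduct.equivFinsuppOfBasisRight_symm_apply, LinearEquiv.symm_apply_apply]
  rw [ht]
  refine Ideal.sum_mem _ fun i _ => ?_
  show (eC t i) ⊗ₜ[k] ℬ i ∈ _
  have : (eC t i) ⊗ₜ[k] ℬ i = algebraMap C (C ⊗[k] K) (eC t i) * ((1 : C) ⊗ₜ ℬ i) := by
    rw [Algebra.TensorProduct.algebraMap_apply, Algebra.TensorProduct.tmul_mul_tmul]; simp
  rw [this]
  exact Ideal.mul_mem_right _ _ (Ideal.mem_map_of_mem _ (hmem i))

theorem finiteType_away (C : Subalgebra k B) (hC : C.FG) (g : C)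
    (h : ∀ b : B, ∃ n : ℕ, (g : B) ^ n * b ∈ C) :
    Algebra.FiniteType k (Localization.Away (g : B)) := by
  classical
  obtain ⟨S₀, hS₀⟩ := hC
  let inv : Localization.Away (g : B) := IsLocalization.Away.invSelf (g : B)
  let A' : Subalgebra k (Localization.Away (g : B)) :=
    Algebra.adjoin k ((algebraMap B (Localization.Away (g : B)) '' (S₀ : Set B)) ∪ {inv})
  have hfg : A'.FG := by
    refine ⟨(S₀.image (algebraMap B (Localization.Away (g : B)))) ∪ {inv}, ?_⟩
    simp [A']
  have hinv : inv ∈ A' := Algebra.subset_adjoin (Or.inr rfl)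
  have hCmem : ∀ c ∈ C, algebraMap B (Localization.Away (g : B)) c ∈ A' := by
    intro c hc
    rw [← hS₀] at hc
    have : Algebra.adjoin k (S₀ : Set B) ≤
        A'.comap (IsScalarTower.toAlgHom k B (Localization.Away (g : B))) := by
      apply Algebra.adjoin_le
      intro x hx
      exact Algebra.subset_adjoin (Or.inl ⟨x, hx, rfl⟩)
    exact this hc
  have hginv : algebraMap B (Localization.Away (g : B)) (g : B) * inv = 1 :=
    IsLocalization.Away.mul_invSelf (g : B)
  have hB : ∀ b : B, algebraMap B (Localization.Away (g : B)) b ∈ A' := by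
    intro b
    obtain ⟨n, hn⟩ := h b
    have e : algebraMap B (Localization.Away (g : B)) b =
        algebraMap B (Localization.Away (g : B)) ((g : B) ^ n * b) * inv ^ n := by
      rw [map_mul, map_pow]
      calc algebraMap B (Localization.Away (g : B)) b
          = (algebraMap B (Localization.Away (g : B)) (g : B) * inv) ^ n *
              algebraMap B (Localization.Away (g : B)) b := by rw [hginv, one_pow, one_mul]
        _ = _ := by ring
    rw [e]
    exact A'.mul_mem (hCmem _ hn) (A'.pow_mem hinv n)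
  have htop : A' = ⊤ := by
    rw [eq_top_iff]
    intro z _
    obtain ⟨⟨b, ⟨_, m, rfl⟩⟩, rfl⟩ := IsLocalization.mk'_surjective (Submonoid.powers (g : B)) z
    have : IsLocalization.mk' (Localization.Away (g : B)) b
        (⟨(g : B) ^ m, ⟨m, rfl⟩⟩ : Submonoid.powers (g : B)) =
        algebraMap B (Localization.Away (g : B)) b * inv ^ m := by
      rw [IsLocalization.mk'_eq_iff_eq_mul]
      simp only [map_pow]
      calc algebraMap B (Localization.Away (g : B)) b
          = algebraMap B (Localization.Away (g : B)) b *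
            (algebraMap B (Localization.Away (g : B)) (g : B) * inv) ^ m := by
              rw [hginv, one_pow, mul_one]
        _ = _ := by ring
    show IsLocalization.mk' (Localization.Away (g : B)) b
        (⟨(g : B) ^ m, ⟨m, rfl⟩⟩ : Submonoid.powers (g : B)) ∈ A'
    rw [this]
    exact A'.mul_mem (hB b) (A'.pow_mem hinv m)
  exact ⟨htop ▸ hfg⟩

/-- **Descent of finite type near a point along a field extension** (algebraic core). -/
theorem exists_away_finiteType (f₁ : B ⊗[k] K)
    (hft : ((algebraMap (B ⊗[k] K) (Localization.Away f₁)).comp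
      (Algebra.TensorProduct.includeRight : K →ₐ[k] B ⊗[k] K).toRingHom).FiniteType)
    (q' : PrimeSpectrum (B ⊗[k] K)) (hq' : f₁ ∉ q'.asIdeal) :
    ∃ g : B, g ⊗ₜ[k] (1 : K) ∉ q'.asIdeal ∧ Algebra.FiniteType k (Localization.Away g) := by
  classical
  let _ : Algebra K (Localization.Away f₁) := ((algebraMap (B ⊗[k] K) (Localization.Away f₁)).comp
      (Algebra.TensorProduct.includeRight : K →ₐ[k] B ⊗[k] K).toRingHom).toAlgebra
  have hft' : Algebra.FiniteType K (Localization.Away f₁) := hft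
  obtain ⟨s, hs⟩ := hft'.out
  have hnum : ∀ z : Localization.Away f₁, ∃ y : B ⊗[k] K, ∃ n : ℕ,
      z * algebraMap (B ⊗[k] K) (Localization.Away f₁) (f₁ ^ n) =
        algebraMap (B ⊗[k] K) (Localization.Away f₁) y := by
    intro z
    obtain ⟨⟨y, ⟨_, n, rfl⟩⟩, rfl⟩ := IsLocalization.mk'_surjective (Submonoid.powers f₁) z
    exact ⟨y, n, IsLocalization.mk'_spec _ _ _⟩
  choose num ex hnum' using hnum
  obtain ⟨C, hCfg, hC₀⟩ := exists_fg_forall_mem_range (K := K) (insert f₁ (s.image num))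
  have hC : ∀ x ∈ insert f₁ (s.image num), ∃ t : C ⊗[k] K, incl C t = x := fun x hx => by
    obtain ⟨t, ht⟩ := hC₀ x hx
    exact ⟨t, ht⟩
  obtain ⟨f₀, hf₀⟩ := hC f₁ (Finset.mem_insert_self _ _)
  have good : ∀ z : Localization.Away f₁, ∃ N : ℕ, ∃ t : C ⊗[k] K,
      z * algebraMap (B ⊗[k] K) (Localization.Away f₁) (f₁ ^ N) =
        algebraMap (B ⊗[k] K) (Localization.Away f₁) (incl C t) := by
    intro z
    have hz : z ∈ Algebra.adjoin K (s : Set (Localization.Away f₁)) := by rw [hs]; trivial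
    induction hz using Algebra.adjoin_induction with
    | mem x hx =>
      obtain ⟨t, ht⟩ := hC (num x) (Finset.mem_insert_of_mem (Finset.mem_image_of_mem _ hx))
      exact ⟨ex x, t, by rw [ht]; exact hnum' x⟩
    | algebraMap a =>
      refine ⟨0, (1 : C) ⊗ₜ a, ?_⟩
      rw [pow_zero, map_one, mul_one]
      have : incl C ((1 : C) ⊗ₜ[k] a) = (1 : B) ⊗ₜ[k] a := by simp [incl]
      rw [this]
      rfl
    | add x y _ _ hx hy =>
      obtain ⟨N₁, t₁, h₁⟩ := hx
      obtain ⟨N₂, t₂, h₂⟩ := hy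
      refine ⟨N₁ + N₂, t₁ * f₀ ^ N₂ + t₂ * f₀ ^ N₁, ?_⟩
      simp only [map_add, map_mul, map_pow, hf₀, pow_add] at h₁ h₂ ⊢
      linear_combination (algebraMap (B ⊗[k] K) (Localization.Away f₁) f₁) ^ N₂ * h₁ +
        (algebraMap (B ⊗[k] K) (Localization.Away f₁) f₁) ^ N₁ * h₂
    | mul x y _ _ hx hy =>
      obtain ⟨N₁, t₁, h₁⟩ := hx
      obtain ⟨N₂, t₂, h₂⟩ := hy
      refine ⟨N₁ + N₂, t₁ * t₂, ?_⟩
      simp only [map_mul, map_pow, pow_add] at h₁ h₂ ⊢
      rw [← h₁, ← h₂]
      ring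
  have claimA : ∀ b : B, ∃ N : ℕ, ∃ t : C ⊗[k] K,
      incl C (f₀ ^ N) * (b ⊗ₜ[k] (1 : K)) = incl C t := by
    intro b
    obtain ⟨N, t, h⟩ := good (algebraMap (B ⊗[k] K) (Localization.Away f₁) (b ⊗ₜ 1))
    rw [← map_mul, IsLocalization.eq_iff_exists (Submonoid.powers f₁)] at h
    obtain ⟨⟨_, M, rfl⟩, hM⟩ := h
    refine ⟨M + N, f₀ ^ M * t, ?_⟩
    rw [map_mul, map_pow, map_pow, hf₀, pow_add]
    simp only at hM
    linear_combination hM
  have hopen := PrimeSpectrum.isOpenMap_comap_algebraMap_tensorProduct_of_field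
    (K := k) (A := C) (B := K)
  let q'₀ : PrimeSpectrum (C ⊗[k] K) := PrimeSpectrum.comap (incl C).toRingHom q'
  have hq'₀ : f₀ ∉ q'₀.asIdeal := by
    show (incl C) f₀ ∉ q'.asIdeal
    rw [hf₀]; exact hq'
  have hV₀ : IsOpen (PrimeSpectrum.comap (algebraMap C (C ⊗[k] K)) ''
      (PrimeSpectrum.basicOpen f₀ : Set (PrimeSpectrum (C ⊗[k] K)))) :=
    hopen _ (PrimeSpectrum.basicOpen f₀).isOpen
  obtain ⟨_, ⟨g₀, rfl⟩, hg₀q, hg₀V⟩ :=
    PrimeSpectrum.isTopologicalBasis_basic_opens.exists_subset_of_mem_open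
      (show PrimeSpectrum.comap (algebraMap C (C ⊗[k] K)) q'₀ ∈
        PrimeSpectrum.comap (algebraMap C (C ⊗[k] K)) ''
          (PrimeSpectrum.basicOpen f₀ : Set (PrimeSpectrum (C ⊗[k] K))) from ⟨q'₀, hq'₀, rfl⟩) hV₀
  refine ⟨(g₀ : B), ?_, ?_⟩
  · have h1 : algebraMap C (C ⊗[k] K) g₀ ∉ q'₀.asIdeal := hg₀q
    have e : incl C (algebraMap C (C ⊗[k] K) g₀) = (g₀ : B) ⊗ₜ[k] (1 : K) := by
      simp [incl, Algebra.TensorProduct.algebraMap_apply]
    rw [← e]; exact h1
  · apply finiteType_away C hCfg g₀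
    intro b
    let J : Ideal C :=
      { carrier := {c | (c : B) * b ∈ C}
        add_mem' := fun {x y} hx hy => by
          show ((x + y : C) : B) * b ∈ C
          rw [Subalgebra.coe_add, add_mul]; exact C.add_mem hx hy
        zero_mem' := by show ((0 : C) : B) * b ∈ C; simp
        smul_mem' := fun c x hx => by
          show ((c • x : C) : B) * b ∈ C
          rw [smul_eq_mul, Subalgebra.coe_mul, mul_assoc]; exact C.mul_mem c.2 hx }
    have hrad : g₀ ∈ J.radical := by
      rw [Ideal.radical_eq_sInf, Ideal.mem_sInf]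
      rintro p ⟨hJp, hp⟩
      by_contra hgp
      have hmemb : (⟨p, hp⟩ : PrimeSpectrum C) ∈
          (PrimeSpectrum.basicOpen g₀ : Set (PrimeSpectrum C)) := hgp
      obtain ⟨p', hp'f, hp'⟩ := hg₀V hmemb
      obtain ⟨N, t, hNt⟩ := claimA b
      have hmem := mem_map_of_mul_mem_range C b J (fun c hc => hc) (f₀ ^ N) t hNt
      have hle : Ideal.map (algebraMap C (C ⊗[k] K)) J ≤ p'.asIdeal := by
        rw [Ideal.map_le_iff_le_comap]
        have : p'.asIdeal.comap (algebraMap C (C ⊗[k] K)) = p :=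
          congrArg PrimeSpectrum.asIdeal hp'
        rw [this]; exact hJp
      exact hp'f (p'.isPrime.mem_of_pow_mem N (hle hmem))
    obtain ⟨n, hn⟩ := hrad
    refine ⟨n, ?_⟩
    have : ((g₀ ^ n : C) : B) * b ∈ C := hn
    simpa using this

end Groth.Agent.Lib.Helper73.NearDescAlg
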