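import Mathlib
import Groth.Agent.Lib.Helper73.NearDescAlg
import Groth.Agent.Lib.Helper73.GrpHomMaxOpen

/-!
helper73: descent of "locally of finite type near a point" along the base change by a field
extension `Spec K ⟶ Spec k` (which is flat but not locally of finite presentation).
-/

set_option autoImplicit false
universe u

open CategoryTheory CategoryTheory.Limits AlgebraicGeometry TensorProduct

namespace Groth.Agent.Lib.Helper73.NearDescLoft

open Groth.Agent.Lib.Helper73.GrpHomMaxOpen

variable {k K : Type u} [Field k] [Field K] [Algebra k K]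

theorem core (B : Type u) [CommRing B] [Algebra k B] (q' : Spec (CommRingCat.of (B ⊗[k] K)))
    (h : PNear @LocallyOfFiniteType
      (Spec.map (CommRingCat.ofHom
        (Algebra.TensorProduct.includeRight : K →ₐ[k] B ⊗[k] K).toRingHom)) q') :
    PNear @LocallyOfFiniteType (Spec.map (CommRingCat.ofHom (algebraMap k B)))
      (Spec.map (CommRingCat.ofHom
        (Algebra.TensorProduct.includeLeftRingHom : B →+* B ⊗[k] K)) q') := by
  obtain ⟨W', hqW', hW'⟩ := h
  obtain ⟨_, ⟨f₁, rfl⟩, hqf, hfW⟩ :=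
    PrimeSpectrum.isTopologicalBasis_basic_opens.exists_subset_of_mem_open
      (show q' ∈ (W' : Set ↥(Spec (CommRingCat.of (B ⊗[k] K)))) from hqW') W'.isOpen
  have hrange : Set.range (Spec.map (CommRingCat.ofHom
      (algebraMap (B ⊗[k] K) (Localization.Away f₁)))) ⊆ Set.range W'.ι := by
    rw [Scheme.Opens.range_ι]
    have : Set.range (Spec.map (CommRingCat.ofHom
        (algebraMap (B ⊗[k] K) (Localization.Away f₁)))) =
        (PrimeSpectrum.basicOpen f₁ : Set (PrimeSpectrum (B ⊗[k] K))) :=
      PrimeSpectrum.localization_away_comap_range _ f₁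
    rw [this]; exact hfW
  have hfac := IsOpenImmersion.lift_fac W'.ι (Spec.map (CommRingCat.ofHom
      (algebraMap (B ⊗[k] K) (Localization.Away f₁)))) hrange
  have hP : LocallyOfFiniteType (Spec.map (CommRingCat.ofHom
      (algebraMap (B ⊗[k] K) (Localization.Away f₁))) ≫ Spec.map (CommRingCat.ofHom
        (Algebra.TensorProduct.includeRight : K →ₐ[k] B ⊗[k] K).toRingHom)) := by
    rw [← hfac, Category.assoc]
    exact IsZariskiLocalAtSource.comp hW' _
  rw [← Spec.map_comp, HasRingHomProperty.Spec_iff (P := @LocallyOfFiniteType)] at hP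
  obtain ⟨g, hg, hft⟩ := NearDescAlg.exists_away_finiteType f₁ hP ⟨q'.asIdeal, q'.isPrime⟩ hqf
  have hmem : Spec.map (CommRingCat.ofHom
      (Algebra.TensorProduct.includeLeftRingHom : B →+* B ⊗[k] K)) q' ∈
      Set.range (Spec.map (CommRingCat.ofHom (algebraMap B (Localization.Away g)))) := by
    have : Set.range (Spec.map (CommRingCat.ofHom (algebraMap B (Localization.Away g)))) =
        (PrimeSpectrum.basicOpen g : Set (PrimeSpectrum B)) :=
      PrimeSpectrum.localization_away_comap_range _ g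
    rw [this]
    exact hg
  refine ⟨(Spec.map (CommRingCat.ofHom (algebraMap B (Localization.Away g)))).opensRange,
    hmem, ?_⟩
  have e := (Spec.map (CommRingCat.ofHom (algebraMap B (Localization.Away g)))).isoOpensRange_hom_ι
  rw [← MorphismProperty.cancel_left_of_respectsIso @LocallyOfFiniteType
    (Spec.map (CommRingCat.ofHom (algebraMap B (Localization.Away g)))).isoOpensRange.hom,
    ← Category.assoc, e, ← Spec.map_comp, HasRingHomProperty.Spec_iff (P := @LocallyOfFiniteType)]
  have : (CommRingCat.ofHom (algebraMap k B) ≫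
      CommRingCat.ofHom (algebraMap B (Localization.Away g))).hom =
      algebraMap k (Localization.Away g) := by
    rw [IsScalarTower.algebraMap_eq k B (Localization.Away g)]; rfl
  rw [this]
  exact RingHom.finiteType_algebraMap.mpr hft

theorem spec_case (B : Type u) [CommRing B] [Algebra k B] {X' : Scheme.{u}}
    {f' : X' ⟶ Spec (CommRingCat.of K)} {j' : X' ⟶ Spec (CommRingCat.of B)}
    (H : IsPullback j' f' (Spec.map (CommRingCat.ofHom (algebraMap k B)))
      (Spec.map (CommRingCat.ofHom (algebraMap k K))))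
    (z : X') (h : PNear @LocallyOfFiniteType f' z) :
    PNear @LocallyOfFiniteType (Spec.map (CommRingCat.ofHom (algebraMap k B))) (j' z) := by
  let e : X' ≅ Spec (CommRingCat.of (B ⊗[k] K)) := H.isoPullback ≪≫ pullbackSpecIso k B K
  have e1 : e.hom ≫ Spec.map (CommRingCat.ofHom
      (Algebra.TensorProduct.includeLeftRingHom : B →+* B ⊗[k] K)) = j' := by
    simp only [e, Iso.trans_hom, Category.assoc, pullbackSpecIso_hom_fst]
    exact H.isoPullback_hom_fst
  have e2 : e.hom ≫ Spec.map (CommRingCat.ofHom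
      (Algebra.TensorProduct.includeRight : K →ₐ[k] B ⊗[k] K).toRingHom) = f' := by
    have e2' : (pullbackSpecIso k B K).hom ≫ Spec.map (CommRingCat.ofHom
        (Algebra.TensorProduct.includeRight : K →ₐ[k] B ⊗[k] K).toRingHom) =
        pullback.snd _ _ := pullbackSpecIso_hom_snd k B K
    simp only [e, Iso.trans_hom, Category.assoc, e2']
    exact H.isoPullback_hom_snd
  have h' : PNear @LocallyOfFiniteType (Spec.map (CommRingCat.ofHom
      (Algebra.TensorProduct.includeRight : K →ₐ[k] B ⊗[k] K).toRingHom)) (e.hom z) := by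
    have sq : IsPullback e.inv (Spec.map (CommRingCat.ofHom
        (Algebra.TensorProduct.includeRight : K →ₐ[k] B ⊗[k] K).toRingHom)) f' (𝟙 _) :=
      IsPullback.of_horiz_isIso ⟨by rw [← e2]; simp⟩
    apply pNear_of_isPullback _ sq
    have : e.inv (e.hom z) = z := by
      rw [← Scheme.Hom.comp_apply, e.hom_inv_id]; rfl
    rw [this]; exact h
  have := core B (e.hom z) h'
  rw [← Scheme.Hom.comp_apply, e1] at this
  exact this

theorem affine_case {X X' : Scheme.{u}} [IsAffine X] {f : X ⟶ Spec (CommRingCat.of k)}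
    {f' : X' ⟶ Spec (CommRingCat.of K)} {j' : X' ⟶ X}
    (H : IsPullback j' f' f (Spec.map (CommRingCat.ofHom (algebraMap k K)))) (z : X')
    (h : PNear @LocallyOfFiniteType f' z) : PNear @LocallyOfFiniteType f (j' z) := by
  obtain ⟨ψ, hψ⟩ := Spec.map_surjective (X.isoSpec.inv ≫ f)
  letI : Algebra k Γ(X, ⊤) := ψ.hom.toAlgebra
  have hψ' : Spec.map (CommRingCat.ofHom (algebraMap k Γ(X, ⊤))) = X.isoSpec.inv ≫ f := hψ
  have H' : IsPullback (j' ≫ X.isoSpec.hom) f'
      (Spec.map (CommRingCat.ofHom (algebraMap k Γ(X, ⊤))))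
      (Spec.map (CommRingCat.ofHom (algebraMap k K))) := by
    rw [hψ']
    exact IsPullback.of_iso H (Iso.refl _) X.isoSpec (Iso.refl _) (Iso.refl _) (by simp) (by simp)
      (by simp) (by simp)
  have h1 := spec_case (k := k) (K := K) Γ(X, ⊤) H' z h
  have sq : IsPullback X.isoSpec.hom f (Spec.map (CommRingCat.ofHom (algebraMap k Γ(X, ⊤))))
      (𝟙 _) := IsPullback.of_horiz_isIso ⟨by rw [hψ']; simp⟩
  exact pNear_of_isPullback _ sq (j' z) (by rwa [Scheme.Hom.comp_apply] at h1)

/-- **Descent of "locally of finite type near a point" along a field extension.** -/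
theorem loftNear_descend_field {X X' : Scheme.{u}} {f : X ⟶ Spec (CommRingCat.of k)}
    {f' : X' ⟶ Spec (CommRingCat.of K)} {j' : X' ⟶ X}
    (H : IsPullback j' f' f (Spec.map (CommRingCat.ofHom (algebraMap k K)))) (z : X')
    (h : PNear @LocallyOfFiniteType f' z) : PNear @LocallyOfFiniteType f (j' z) := by
  obtain ⟨U, hU, hzU⟩ : ∃ U : X.Opens, IsAffineOpen U ∧ j' z ∈ U := by
    obtain ⟨_, ⟨U, hU, rfl⟩, hyU, -⟩ :=
      X.isBasis_affineOpens.exists_subset_of_mem_open (Set.mem_univ (j' z)) isOpen_univ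
    exact ⟨U, hU, hyU⟩
  have : IsAffine U := hU
  have HU := isPullback_restrict H U
  have h₁ : PNear @LocallyOfFiniteType ((j' ⁻¹ᵁ U).ι ≫ f') (⟨z, hzU⟩ : ↥(j' ⁻¹ᵁ U)) :=
    pNear_restrict _ f' (j' ⁻¹ᵁ U) ⟨z, hzU⟩ h
  have h₂ := affine_case HU (⟨z, hzU⟩ : ↥(j' ⁻¹ᵁ U)) h₁
  have h₃ := pNear_of_restrict _ f U _ h₂
  rwa [morphismRestrict_apply'] at h₃

end Groth.Agent.Lib.Helper73.NearDescLoft
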