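import Mathlib
import Groth.Agent.Lib.Helper73.NearDescLoft

/-!
helper73: a group scheme over a field which has a nonempty open subscheme locally of finite type
is locally of finite type (translation by a point with values in a field extension + descent of
"locally of finite type near a point" along that field extension).
-/

set_option autoImplicit false
universe u

open CategoryTheory CategoryTheory.Limits MonoidalCategory CartesianMonoidalCategory MonObj GrpObj
  AlgebraicGeometry

namespace Groth.Agent.Lib.Helper73.GrpLoftField

open Groth.Agent.Lib.Helper73.GrpHomMaxOpen Groth.Agent.Lib.Helper73.NearDescLoft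

/-- translation step: for `K`-points `g`, `b` of `G`, `G` is locally of finite type near the image
of `g` as soon as it is so near the image of `b`. -/
theorem pNear_of_points {k K : Type u} [Field k] [Field K] [Algebra k K]
    (G : Over (Spec (CommRingCat.of k))) [GrpObj G]
    (g b : Over.mk (Spec.map (CommRingCat.ofHom (algebraMap k K))) ⟶ G)
    (pt : ↥(Spec (CommRingCat.of K)))
    (h : PNear @LocallyOfFiniteType G.hom (b.left pt)) :
    PNear @LocallyOfFiniteType G.hom (g.left pt) := by
  let T : Over (Spec (CommRingCat.of k)) := Over.mk (Spec.map (CommRingCat.ofHom (algebraMap k K)))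
  let a : T ⟶ G := g * b⁻¹
  have hR : IsPullback (fst T G).left (snd T G).left T.hom G.hom := by
    rw [Over.fst_left, Over.snd_left]; exact IsPullback.of_hasPullback _ _
  let z : ↥(T ⊗ G).left := (lift (𝟙 T) b).left pt
  have e1 : (snd T G).left z = b.left pt := by
    have h' : lift (𝟙 T) b ≫ snd T G = b := lift_snd _ _
    exact congrArg (fun m : T ⟶ G => m.left pt) h'
  have e2 : ((fst T G ≫ a) * snd T G).left z = g.left pt := by
    have h' : lift (𝟙 T) b ≫ ((fst T G ≫ a) * snd T G) = g := by
      rw [MonObj.comp_mul, ← Category.assoc, lift_fst, lift_snd, Category.id_comp]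
      exact inv_mul_cancel_right g b
    exact congrArg (fun m : T ⟶ G => m.left pt) h'
  -- base change
  have s1 : PNear @LocallyOfFiniteType (fst T G).left z :=
    pNear_of_isPullback _ hR.flip z (by rw [e1]; exact h)
  -- shear
  have i1 : IsIso (shearAt a (𝟙 G)).hom.left :=
    inferInstanceAs (IsIso ((Over.forget _).map (shearAt a (𝟙 G)).hom))
  have hfst : (shearAt a (𝟙 G)).hom.left ≫ (fst T G).left = (fst T G).left := by
    rw [← Over.comp_left]
    congr 1
    simp [shearAt]
  have sq : IsPullback (inv (shearAt a (𝟙 G)).hom.left) (fst T G).left (fst T G).left (𝟙 _) :=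
    IsPullback.of_horiz_isIso ⟨by rw [Category.comp_id, IsIso.inv_comp_eq, hfst]⟩
  have s2 : PNear @LocallyOfFiniteType (fst T G).left ((shearAt a (𝟙 G)).hom.left z) := by
    apply pNear_of_isPullback _ sq
    have : (inv (shearAt a (𝟙 G)).hom.left) ((shearAt a (𝟙 G)).hom.left z) = z := by
      rw [← Scheme.Hom.comp_apply, IsIso.hom_inv_id]; rfl
    rw [this]; exact s1
  -- descent
  have s3 := loftNear_descend_field (k := k) (K := K) hR.flip _ s2
  have e3 : (snd T G).left ((shearAt a (𝟙 G)).hom.left z) =
      ((fst T G ≫ a) * snd T G).left z := by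
    rw [← shearAt_snd, Over.comp_left]; rfl
  rw [e3, e2] at s3
  exact s3

/-- **A group scheme over a field with a nonempty open subscheme locally of finite type is locally
of finite type.** -/
theorem loft_of_nonempty_open_field (k : Type u) [Field k]
    (G : Over (Spec (CommRingCat.of k))) [GrpObj G]
    (W : G.left.Opens) (hW : (W : Set G.left).Nonempty)
    (hWft : LocallyOfFiniteType (W.ι ≫ G.hom)) :
    LocallyOfFiniteType G.hom := by
  apply Groth.Agent.Lib.Helper73.GrpHomUnram.of_forall_exists_nhd
  intro x
  obtain ⟨w, hw⟩ := hW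
  obtain ⟨px⟩ : Nonempty ↥(Spec (G.left.residueField x)) :=
    inferInstanceAs (Nonempty (PrimeSpectrum (G.left.residueField x)))
  obtain ⟨pw⟩ : Nonempty ↥(Spec (G.left.residueField w)) :=
    inferInstanceAs (Nonempty (PrimeSpectrum (G.left.residueField w)))
  have hsub : Subsingleton ↥(Spec (CommRingCat.of k)) :=
    inferInstanceAs (Subsingleton (PrimeSpectrum k))
  obtain ⟨p, -, -⟩ := Scheme.Pullback.exists_preimage_pullback
    (f := G.left.fromSpecResidueField x ≫ G.hom) (g := G.left.fromSpecResidueField w ≫ G.hom)
    px pw (Subsingleton.elim _ _)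
  -- the field `K` and its `k`-algebra structure
  let P := pullback (G.left.fromSpecResidueField x ≫ G.hom)
    (G.left.fromSpecResidueField w ≫ G.hom)
  let φ : CommRingCat.of k ⟶ P.residueField p :=
    Spec.preimage (P.fromSpecResidueField p ≫ pullback.fst _ _ ≫
      G.left.fromSpecResidueField x ≫ G.hom)
  have hφ : Spec.map φ = P.fromSpecResidueField p ≫ pullback.fst _ _ ≫
      G.left.fromSpecResidueField x ≫ G.hom := Spec.map_preimage _
  letI : Algebra k (P.residueField p) := φ.hom.toAlgebra
  have hφ' : Spec.map (CommRingCat.ofHom (algebraMap k (P.residueField p))) =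
      P.fromSpecResidueField p ≫ pullback.fst _ _ ≫
        G.left.fromSpecResidueField x ≫ G.hom := hφ
  let g : Over.mk (Spec.map (CommRingCat.ofHom (algebraMap k (P.residueField p)))) ⟶ G :=
    Over.homMk (P.fromSpecResidueField p ≫ pullback.fst _ _ ≫ G.left.fromSpecResidueField x)
      (by simp only [Category.assoc, Over.mk_hom]; exact hφ'.symm)
  let b : Over.mk (Spec.map (CommRingCat.ofHom (algebraMap k (P.residueField p)))) ⟶ G :=
    Over.homMk (P.fromSpecResidueField p ≫ pullback.snd _ _ ≫ G.left.fromSpecResidueField w)
      (by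
        simp only [Category.assoc, Over.mk_hom]
        rw [hφ', ← pullback.condition])
  obtain ⟨pt⟩ : Nonempty ↥(Spec (CommRingCat.of (P.residueField p))) :=
    inferInstanceAs (Nonempty (PrimeSpectrum (P.residueField p)))
  have hg : g.left pt = x := by
    show (P.fromSpecResidueField p ≫ pullback.fst _ _ ≫ G.left.fromSpecResidueField x) pt = x
    rw [Scheme.Hom.comp_apply, Scheme.Hom.comp_apply, Scheme.fromSpecResidueField_apply]
  have hb : b.left pt = w := by
    show (P.fromSpecResidueField p ≫ pullback.snd _ _ ≫ G.left.fromSpecResidueField w) pt = w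
    rw [Scheme.Hom.comp_apply, Scheme.Hom.comp_apply, Scheme.fromSpecResidueField_apply]
  have := pNear_of_points G g b pt (by rw [hb]; exact ⟨W, hw, hWft⟩)
  rw [hg] at this
  exact this

end Groth.Agent.Lib.Helper73.GrpLoftField
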