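import Mathlib
import Groth.Agent.Lib.Helper73.GrpLoftField
import Groth.Agent.Lib.Helper53.ArtinLft

/-!
helper73: a group scheme over a local artinian ring which has a nonempty open subscheme locally of
finite type is locally of finite type (reduction to the residue field).
-/

set_option autoImplicit false
universe u

open CategoryTheory CategoryTheory.Limits MonoidalCategory CartesianMonoidalCategory MonObj GrpObj
  AlgebraicGeometry

namespace Groth.Agent.Lib.Helper73.GrpLoftArt

open Groth.Agent.Lib.Helper73.GrpHomMaxOpen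

theorem loft_of_nonempty_open_artinian (A : Type u) [CommRing A] [IsArtinianRing A]
    [IsLocalRing A] (G : Over (Spec (CommRingCat.of A))) [GrpObj G] (W : G.left.Opens)
    (hW : (W : Set G.left).Nonempty) (hWft : LocallyOfFiniteType (W.ι ≫ G.hom)) :
    LocallyOfFiniteType G.hom := by
  let iT : Spec (CommRingCat.of (IsLocalRing.ResidueField A)) ⟶ Spec (CommRingCat.of A) :=
    Spec.map (CommRingCat.ofHom (IsLocalRing.residue A))
  have hiT : IsClosedImmersion iT :=
    IsClosedImmersion.spec_of_surjective _ IsLocalRing.residue_surjective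
  have hnil : IsNilpotent iT.ker := by
    apply Groth.Agent.Lib.Helper53.ArtinLft.isNilpotent_ker_Spec_map
    rw [CommRingCat.hom_ofHom, IsLocalRing.ker_residue,
      ← IsLocalRing.jacobson_eq_maximalIdeal ⊥ bot_ne_top]
    exact IsArtinianRing.isNilpotent_jacobson_bot
  have sq : IsPullback (pullback.fst G.hom iT) (pullback.snd G.hom iT) G.hom iT :=
    IsPullback.of_hasPullback _ _
  have hsub : Subsingleton ↥(Spec (CommRingCat.of A)) :=
    inferInstanceAs (Subsingleton (PrimeSpectrum A))
  obtain ⟨p₀⟩ : Nonempty ↥(Spec (CommRingCat.of (IsLocalRing.ResidueField A))) :=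
    inferInstanceAs (Nonempty (PrimeSpectrum (IsLocalRing.ResidueField A)))
  have hsurj : Surjective iT := ⟨fun y => ⟨p₀, Subsingleton.elim _ _⟩⟩
  have hsurj' : Surjective (pullback.fst G.hom iT) :=
    MorphismProperty.pullback_fst (P := @Surjective) _ _ hsurj
  obtain ⟨w, hw⟩ := hW
  obtain ⟨w', hw'⟩ := (pullback.fst G.hom iT).surjective w
  have hk : LocallyOfFiniteType (((pullback.fst G.hom iT) ⁻¹ᵁ W).ι ≫ pullback.snd G.hom iT) :=
    MorphismProperty.of_isPullback (P := @LocallyOfFiniteType) (isPullback_restrict sq W) hWft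
  have hGk : LocallyOfFiniteType ((Over.pullback iT).obj G).hom :=
    Groth.Agent.Lib.Helper73.GrpLoftField.loft_of_nonempty_open_field
      (IsLocalRing.ResidueField A) ((Over.pullback iT).obj G) ((pullback.fst G.hom iT) ⁻¹ᵁ W)
      ⟨w', by show pullback.fst G.hom iT w' ∈ W; rw [hw']; exact hw⟩ hk
  have hnil' := Groth.Agent.Lib.Helper7.ThickBridge.isNilpotent_ker_of_isPullback sq hnil
  exact Groth.Agent.Lib.Helper31.AlgSpFlatAt.locallyOfFiniteType_of_isPullback_of_isNilpotent_ker
    sq hnil' hGk

end Groth.Agent.Lib.Helper73.GrpLoftArt
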