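import Mathlib
import Groth.Agent.Lib.Helper73.GrpHomUnram

/-!
helper73: for a group scheme `K` over `S`, the diagonal of `K ⟶ S` is a base change of the unit
section; `K ⟶ S` is unramified iff the unit section is an open immersion (`K` locally of finite
type).  Unramified homomorphisms and their kernels.
-/

set_option autoImplicit false
universe u v

open CategoryTheory CategoryTheory.Limits MonoidalCategory CartesianMonoidalCategory MonObj GrpObj
  AlgebraicGeometry

namespace Groth.Agent.Lib.Helper73.GrpUnitDiag

section General

variable {C : Type u} [Category.{v} C] [CartesianMonoidalCategory C] (K : C) [GrpObj K]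

/-- the diagonal of a group object is the base change of the unit along `(k, k') ↦ k⁻¹ k'`. -/
theorem isPullback_diag_unit :
    IsPullback (lift (𝟙 K) (𝟙 K)) (toUnit K) ((fst K K)⁻¹ * snd K K) η[K] := by
  refine ⟨⟨?_⟩, ⟨PullbackCone.IsLimit.mk _ (fun s => s.fst ≫ fst K K) ?_ ?_ ?_⟩⟩
  · rw [MonObj.comp_mul, GrpObj.comp_inv, lift_fst, lift_snd, inv_mul_cancel, Hom.one_def]
  · intro s
    have h := s.condition
    have h' : (s.fst ≫ fst K K)⁻¹ * (s.fst ≫ snd K K) = 1 := by
      rw [← GrpObj.comp_inv, ← MonObj.comp_mul, h, Hom.one_def]
      congr 1
      exact toUnit_unique _ _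
    have h'' : s.fst ≫ fst K K = s.fst ≫ snd K K := inv_mul_eq_one.mp h'
    ext
    · simp
    · simp [h'']
  · intro s
    exact toUnit_unique _ _
  · intro s m hm _
    rw [← hm]
    simp

end General

noncomputable section

variable {S : Scheme.{u}} (K : Over S) [GrpObj K]

/-- a group scheme locally of finite type is unramified iff its unit section is an open
immersion. -/
theorem formallyUnramified_iff_isOpenImmersion_unit [LocallyOfFiniteType K.hom] :
    FormallyUnramified K.hom ↔ IsOpenImmersion η[K].left := by
  constructor
  · intro h
    have hd : MorphismProperty.diagonal @IsOpenImmersion K.hom :=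
      inferInstanceAs (IsOpenImmersion (pullback.diagonal K.hom))
    have hpc : MorphismProperty.HasOfPostcompProperty @IsOpenImmersion
        (MorphismProperty.diagonal @IsOpenImmersion) :=
      (MorphismProperty.hasOfPostcompProperty_iff_le_diagonal (P := @IsOpenImmersion)
        (Q := MorphismProperty.diagonal @IsOpenImmersion)).mpr le_rfl
    have hcomp : IsOpenImmersion (η[K].left ≫ K.hom) := by
      rw [Over.w η[K]]
      exact inferInstanceAs (IsOpenImmersion (𝟙 S))
    exact MorphismProperty.of_postcomp (W := @IsOpenImmersion)
      (W' := MorphismProperty.diagonal @IsOpenImmersion) η[K].left K.hom hd hcomp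
  · intro h
    have hsq := ((isPullback_diag_unit K).map (Over.forget S)).flip
    have hΔ : IsOpenImmersion ((Over.forget S).map (lift (𝟙 K) (𝟙 K))) :=
      MorphismProperty.of_isPullback (P := @IsOpenImmersion) hsq h
    have hΔ' : IsOpenImmersion (pullback.diagonal K.hom) := hΔ
    infer_instance

end

end Groth.Agent.Lib.Helper73.GrpUnitDiag
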