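import Mathlib
import Groth.Prelude.Def_ChGrp
import Groth.Agent.Lib.Helper40.ActShear
import Groth.Agent.Lib.Helper21.GrpDim
import Groth.Agent.Lib.Helper73.LocalDimHomeo
import Groth.Agent.Lib.Helper40.TorsorBC
import Groth.Prelude.Def_ActBC

/-!
helper73: homogeneous spaces over a field: the local dimension is constant, hence all connected
components have the same dimension.
-/

set_option autoImplicit false
universe u

open CategoryTheory CategoryTheory.Limits MonoidalCategory CartesianMonoidalCategory MonObj GrpObj
  AlgebraicGeometry

namespace Groth.Agent.Lib.Helper73.HomogDim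

open Groth.Agent.Lib.Helper21.FieldDim Groth.Agent.Lib.Helper40.ActPts
  Groth.Agent.Lib.Helper73.SchemeDim

variable {k : Type u} [Field k] {G X : Over (Spec (CommRingCat.of k))} [GrpObj G]
  [LocallyOfFiniteType G.hom] [LocallyOfFiniteType X.hom] (a : AlgGrp.Action G X)

/-- the local dimension of a homogeneous space is constant. -/
theorem localDim_const (hΦ : Surjective (lift a.act (snd G X)).left) (x y : X.left) :
    FlatMor.localDim X.left x = FlatMor.localDim X.left y := by
  obtain ⟨q, hq1, hq2⟩ := Scheme.Pullback.exists_preimage_pullback (f := X.hom) (g := X.hom) y x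
    (Subsingleton.elim (α := PrimeSpectrum k) _ _)
  obtain ⟨p, hp⟩ := (lift a.act (snd G X)).left.surjective q
  have e1 : a.act.left p = y := by
    have h : (lift a.act (snd G X) ≫ fst X X).left p = y := by
      rw [Over.comp_left, Scheme.Hom.comp_apply, hp]
      exact hq1
    rwa [lift_fst] at h
  have e2 : (snd G X).left p = x := by
    have h : (lift a.act (snd G X) ≫ snd X X).left p = x := by
      rw [Over.comp_left, Scheme.Hom.comp_apply, hp]
      exact hq2
    rwa [lift_snd] at h
  let φ : (G ⊗ X).left ≅ (G ⊗ X).left := (Over.forget _).mapIso (shear a)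
  have h1 : FlatMor.localDim ↑(pullback G.hom X.hom) p =
      FlatMor.localDim ↑(pullback G.hom X.hom) ((shear a).hom.left p) :=
    localDim_eq_of_isHomeomorph (Scheme.homeoOfIso φ) (Scheme.homeoOfIso φ).isHomeomorph p
  have h2 := localDim_prod G.hom X.hom p
  have h3 := localDim_prod G.hom X.hom ((shear a).hom.left p)
  have e3 : (pullback.fst G.hom X.hom) ((shear a).hom.left p) = (pullback.fst G.hom X.hom) p := by
    change ((shear a).hom ≫ fst G X).left p = (fst G X).left p
    simp [shear]
  have e4 : (pullback.snd G.hom X.hom) ((shear a).hom.left p) = y := by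
    change ((shear a).hom ≫ snd G X).left p = y
    rw [shear_hom_snd]
    exact e1
  have e5 : (pullback.snd G.hom X.hom) p = x := e2
  rw [e3, e4] at h3
  rw [e5] at h2
  obtain ⟨n, hn⟩ := exists_localDim_eq_nat G.hom ((pullback.fst G.hom X.hom) p)
  rw [h2, h3, hn] at h1
  exact add_left_cancel_nat h1

omit [GrpObj G] [LocallyOfFiniteType G.hom] in
/-- when the local dimension is constant, the connected components have that dimension. -/
theorem dim_connectedComponent (x : X.left) :
    topologicalKrullDim ↥(connectedComponent x) ≤ FlatMor.localDim X.left x →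
    topologicalKrullDim ↥(connectedComponent x) = FlatMor.localDim X.left x := by
  intro hle
  apply le_antisymm hle
  rw [localDim_le_iff X.hom x]
  intro ξ hξ
  have hsub : closure ({ξ} : Set X.left) ⊆ connectedComponent x :=
    (isPreconnected_singleton.closure).subset_connectedComponent
      (specializes_iff_mem_closure.mp hξ)
  exact (dim_le_iff_of_isLocallyClosed X.hom _ isClosed_connectedComponent.isLocallyClosed _).mp
    le_rfl ξ (hsub (subset_closure rfl))

/-- all connected components of a homogeneous space over a field have the same dimension. -/
theorem dim_connectedComponent_eq (hΦ : Surjective (lift a.act (snd G X)).left) (x y : X.left) :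
    topologicalKrullDim ↥(connectedComponent x) = topologicalKrullDim ↥(connectedComponent y) := by
  have key : ∀ z : X.left,
      topologicalKrullDim ↥(connectedComponent z) = FlatMor.localDim X.left x := by
    intro z
    rw [← localDim_const a hΦ z x]
    apply dim_connectedComponent
    rw [dim_le_iff_of_isLocallyClosed X.hom _ isClosed_connectedComponent.isLocallyClosed]
    intro w _
    rw [localDim_const a hΦ z w]
    exact td_le_localDim X.hom w
  rw [key x, key y]

section Artinian

variable {A : Type u} [CommRing A] [IsArtinianRing A] [IsLocalRing A]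
  {G X : Over (Spec (CommRingCat.of A))} [GrpObj G] [LocallyOfFiniteType G.hom]
  [LocallyOfFiniteType X.hom] (a : AlgGrp.Action G X)

/-- all connected components of a homogeneous space over a local artinian ring have the same
dimension. -/
theorem dim_connectedComponent_eq_of_artinian (hΦ : Surjective (lift a.act (snd G X)).left)
    (x y : X.left) :
    topologicalKrullDim ↥(connectedComponent x) = topologicalKrullDim ↥(connectedComponent y) := by
  let k := IsLocalRing.ResidueField A
  let f : Spec (CommRingCat.of k) ⟶ Spec (CommRingCat.of A) :=
    Spec.map (CommRingCat.ofHom (IsLocalRing.residue A))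
  have hci : IsClosedImmersion f :=
    IsClosedImmersion.spec_of_surjective _ IsLocalRing.residue_surjective
  have hsurj : Surjective f :=
    ⟨fun s => ⟨default, Subsingleton.elim (α := PrimeSpectrum A) _ _⟩⟩
  have i1 : LocallyOfFiniteType (Red.bc f G).hom :=
    inferInstanceAs (LocallyOfFiniteType (pullback.snd G.hom f))
  have i2 : LocallyOfFiniteType (Red.bc f X).hom :=
    inferInstanceAs (LocallyOfFiniteType (pullback.snd X.hom f))
  have hΦ' : Surjective (lift (a.bc f).act (snd (Red.bc f G) (Red.bc f X))).left := by
    rw [Groth.Agent.Lib.Helper40.TorsorBC.theta_bc f a (a.bc f) (AlgGrp.Action.bc_act f a).symm]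
    simp only [Over.comp_left]
    have : Surjective ((Over.pullback f).map (lift a.act (snd G X))).left :=
      MorphismProperty.of_isPullback (P := @Surjective)
        (Groth.Agent.Lib.Helper40.TorsorBC.isPullback_pullback_map f _).flip hΦ
    have : IsIso (Functor.LaxMonoidal.μ (Over.pullback f) G X).left :=
      inferInstanceAs (IsIso ((Over.forget _).map (Functor.LaxMonoidal.μ (Over.pullback f) G X)))
    have : IsIso (Functor.OplaxMonoidal.δ (Over.pullback f) X X).left :=
      inferInstanceAs (IsIso ((Over.forget _).map (Functor.OplaxMonoidal.δ (Over.pullback f) X X)))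
    infer_instance
  have hh : IsHomeomorph (pullback.fst X.hom f) := by
    rw [isHomeomorph_iff_isEmbedding_surjective]
    exact ⟨(pullback.fst X.hom f).isEmbedding, (pullback.fst X.hom f).surjective⟩
  obtain ⟨x', rfl⟩ := (pullback.fst X.hom f).surjective x
  obtain ⟨y', rfl⟩ := (pullback.fst X.hom f).surjective y
  have key := dim_connectedComponent_eq (a.bc f) hΦ' x' y'
  have tr : ∀ z' : (Red.bc f X).left,
      topologicalKrullDim ↥(connectedComponent ((pullback.fst X.hom f) z')) =
        topologicalKrullDim ↥(connectedComponent z') := by
    intro z'
    have e1 : connectedComponent ((pullback.fst X.hom f) z') =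
        (hh.homeomorph _) '' connectedComponent z' := by
      apply Set.Subset.antisymm
      · intro w hw
        have h2 := (hh.homeomorph _).symm.continuous.image_connectedComponent_subset
          ((pullback.fst X.hom f) z')
        have h3 : (hh.homeomorph _).symm ((pullback.fst X.hom f) z') = z' :=
          (hh.homeomorph _).symm_apply_apply z'
        rw [h3] at h2
        exact ⟨(hh.homeomorph _).symm w, h2 ⟨w, hw, rfl⟩, (hh.homeomorph _).apply_symm_apply w⟩
      · exact (hh.homeomorph _).continuous.image_connectedComponent_subset z'
    rw [e1]
    exact (((hh.homeomorph _).image (connectedComponent z')).isHomeomorph.topologicalKrullDim_eq).symm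
  rw [tr, tr]
  exact key

end Artinian

end Groth.Agent.Lib.Helper73.HomogDim
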