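/-
helper73: consequences of openness of a morphism at a point (EGA IV 14.2-type arguments).
* `exists_specializes_of_isOpenAt`: generizations of `f ζ` lift to generizations of `ζ` when `f` is open at `ζ`.
* `exists_between_not_specializes`: a point strictly between `y` and `y` avoiding finitely many closures.
* `relHt_add_one_le`.
* `exists_specializes_fibreDimAt_of_isOpenAt`: the lifted generization can be chosen with fibre dimension
  at least `trdeg κ(ζ)/κ(f ζ)`.
-/
import Groth.Agent.Lib.Helper73.Equidim2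
import Groth.Agent.Lib.Helper73.StalkQuot2
import Groth.Agent.Lib.Helper73.PrimeAvoidKrull
import Groth.Agent.Lib.Helper73.FiniteGenerics

set_option linter.style.haveILetI false
set_option autoImplicit false
universe u
open CategoryTheory AlgebraicGeometry

namespace Groth.Agent.Lib.Helper73.SchemeDim

open Groth.Agent.Lib.Helper73.RelHt Groth.Agent.Lib.Helper73.DimFormula

variable {X Y : Scheme.{u}}

/-- lifting of generizations at a point where a morphism is open. -/
theorem exists_specializes_of_isOpenAt [IsLocallyNoetherian X] (f : X ⟶ Y) (ζ : X)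
    (hopen : EGA43.IsOpenAt f.base ζ) (y' : Y) (hy' : y' ⤳ f.base ζ) :
    ∃ ξ : X, ξ ⤳ ζ ∧ f.base ξ = y' := by
  have hT : IsClosed (f.base ⁻¹' closure ({y'} : Set Y)) := isClosed_closure.preimage f.continuous
  have hζT : ζ ∈ f.base ⁻¹' closure ({y'} : Set Y) := hy'.mem_closure
  obtain ⟨Φ, U, hζU, hΦ, hU⟩ := exists_finset_generic_points_closed X _ hT ζ hζT
  have h1 : f.base '' (U : Set X) ∈ nhds (f.base ζ) := hopen _ (U.isOpen.mem_nhds hζU)
  obtain ⟨O, hO, hOopen, hζO⟩ := mem_nhds_iff.mp h1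
  have hy'O : y' ∈ O := hy'.mem_open hOopen hζO
  obtain ⟨u, huU, hfu⟩ := hO hy'O
  have huT : u ∈ f.base ⁻¹' closure ({y'} : Set Y) := by
    change f.base u ∈ closure {y'}
    rw [hfu]; exact subset_closure rfl
  obtain ⟨φ, hφ, hφu⟩ := hU u huU huT
  obtain ⟨hφT, hφζ⟩ := hΦ φ hφ
  refine ⟨φ, hφζ, ?_⟩
  have h2 : f.base φ ⤳ y' := hfu ▸ hφu.map f.continuous
  have h3 : y' ⤳ f.base φ := specializes_iff_mem_closure.mpr hφT
  exact (h2.antisymm h3).eq

/-- a point strictly between, avoiding finitely many closed sets. -/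
theorem exists_between_not_specializes [IsLocallyNoetherian Y] (y y' : Y)
    (h2 : 2 ≤ relHt y y') (hy' : y' ⤳ y) (S : Finset Y)
    (hS : ∀ s ∈ S, y' ⤳ s ∧ s ⤳ y ∧ s ≠ y') :
    ∃ y₁ : Y, y' ⤳ y₁ ∧ y₁ ⤳ y ∧ y₁ ≠ y' ∧ ∀ s ∈ S, ¬ s ⤳ y₁ := by
  classical
  obtain ⟨p', hp'⟩ := exists_fromSpecStalk_eq hy'
  have hco : 2 ≤ Order.coheight p' := by
    rw [coheight_eq_relHt_fromSpecStalk, hp']; exact h2
  let pr : Y → PrimeSpectrum (Y.presheaf.stalk y) := fun s =>
    if h : s ⤳ y then (exists_fromSpecStalk_eq h).choose else p'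
  have hpr : ∀ s, s ⤳ y → (Y.fromSpecStalk y).base (pr s) = s := by
    intro s h
    simp only [pr, dif_pos h]
    exact (exists_fromSpecStalk_eq h).choose_spec
  have hS' : ∀ P ∈ S.image pr, p' < P := by
    intro P hP
    rw [Finset.mem_image] at hP
    obtain ⟨s, hs, rfl⟩ := hP
    obtain ⟨h1, h2', h3⟩ := hS s hs
    have hle : p' ≤ pr s := by
      rw [← fromSpecStalk_specializes_iff, hp', hpr s h2']; exact h1
    refine lt_of_le_of_ne hle ?_
    intro heq
    apply h3
    rw [← hpr s h2', ← heq, hp']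
  obtain ⟨Q, hQ1, hQ2⟩ := exists_prime_gt_not_ge p' hco (S.image pr) hS'
  refine ⟨(Y.fromSpecStalk y).base Q, ?_, fromSpecStalk_specializes y Q, ?_, ?_⟩
  · rw [← hp', fromSpecStalk_specializes_iff]; exact hQ1.le
  · intro heq
    rw [← hp'] at heq
    have := (Y.fromSpecStalk y).isEmbedding.injective heq
    exact hQ1.ne this.symm
  · intro s hs hsp
    obtain ⟨-, h2', -⟩ := hS s hs
    apply hQ2 (pr s) (Finset.mem_image_of_mem _ hs)
    rw [← fromSpecStalk_specializes_iff, hpr s h2']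
    exact hsp

/-- strict monotonicity of `relHt` in the upper variable. -/
theorem relHt_add_one_le [IsLocallyNoetherian Y] {y y₁ y' : Y} (h1 : y₁ ⤳ y) (h2 : y' ⤳ y₁)
    (hne : y₁ ≠ y') : relHt y y₁ + 1 ≤ relHt y y' := by
  obtain ⟨c, hc1, hc2, hc3⟩ := exists_length_eq_relHt (show y ≤ y₁ from h1) (anti Y _ _)
    (relHt_lt_top h1)
  have hle : y₁ ≤ y' := h2
  have hlt : y₁ < y' := lt_iff_le_not_ge.mpr ⟨hle, fun h => hne (anti Y _ _ hle h)⟩
  have := length_le_relHt' (a := y) (b := y') (c.snoc y' (by rw [hc2]; exact hlt))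
    (by rw [RelSeries.head_snoc]; exact hc1) (RelSeries.last_snoc _ _ _)
  rw [← hc3]
  simpa using this

/-- **core**: if `f` is open at `ζ`, every generization `y'` of `f ζ` lifts to a generization `ξ` of `ζ`
at which the fibre dimension is at least `trdeg κ(ζ)/κ(f ζ)`. -/
theorem exists_specializes_fibreDimAt_of_isOpenAt [IsLocallyNoetherian Y] (f : X ⟶ Y)
    [LocallyOfFiniteType f] (ζ : X) (e : ℕ)
    (he : @Algebra.trdeg (Y.residueField (f.base ζ)) (X.residueField ζ) _ _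
      (f.residueFieldMap ζ).hom.toAlgebra = e)
    (hopen : EGA43.IsOpenAt f.base ζ) :
    ∀ (r : ℕ) (y' : Y), y' ⤳ f.base ζ → relHt (f.base ζ) y' = r →
      ∃ ξ : X, ξ ⤳ ζ ∧ f.base ξ = y' ∧ (e : WithBot ℕ∞) ≤ FlatMor.fibreDimAt f ξ := by
  haveI : IsLocallyNoetherian X := LocallyOfFiniteType.isLocallyNoetherian f
  intro r
  induction r using Nat.strong_induction_on with
  | _ r ih =>
    intro y' hy' hr
    rcases Nat.lt_or_ge r 2 with hr2 | hr2
    · -- `r ≤ 1`
      obtain ⟨ξ, hξζ, hfξ⟩ := exists_specializes_of_isOpenAt f ζ hopen y' hy'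
      obtain ⟨nξ, hnξ⟩ := exists_trdeg_residueField_eq_nat' f ξ
      refine ⟨ξ, hξζ, hfξ, ?_⟩
      have hineq := (relHt_add_trdeg_aux f hξζ nξ e hnξ he).1
      rw [hfξ, hr] at hineq
      have hfib := trdeg_le_fibreDimAt' f (specializes_refl ξ) nξ hnξ
      refine le_trans ?_ hfib
      have hle : e ≤ nξ := by
        by_cases hξeq : ξ = ζ
        · subst hξeq
          have : ((e : ℕ) : Cardinal.{u}) = nξ := by rw [← he, ← hnξ]
          exact le_of_eq (by exact_mod_cast this)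
        · have hlt : ζ < ξ := lt_iff_le_not_ge.mpr ⟨hξζ, fun h => hξeq (anti X _ _ h hξζ)⟩
          have h1 := one_le_relHt hlt
          obtain ⟨k, hk⟩ := ENat.ne_top_iff_exists.mp (relHt_lt_top hξζ).ne
          rw [← hk] at hineq h1
          have h1' : 1 ≤ k := by exact_mod_cast h1
          have h2' : k + e ≤ r + nξ := by exact_mod_cast hineq
          omega
      exact_mod_cast hle
    · -- `r ≥ 2`
      by_contra hcon
      push Not at hcon
      have hFcl := isClosed_setOf_le_fibreDimAt f e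
      have hTcl : IsClosed ({x : X | (e : WithBot ℕ∞) ≤ FlatMor.fibreDimAt f x} ∩
          f.base ⁻¹' closure ({y'} : Set Y)) :=
        hFcl.inter (isClosed_closure.preimage f.continuous)
      have hζT : ζ ∈ {x : X | (e : WithBot ℕ∞) ≤ FlatMor.fibreDimAt f x} ∩
          f.base ⁻¹' closure ({y'} : Set Y) :=
        ⟨trdeg_le_fibreDimAt' f (specializes_refl ζ) e he, hy'.mem_closure⟩
      obtain ⟨Φ, U, hζU, hΦ, hU⟩ := exists_finset_generic_points_closed X _ hTcl ζ hζT
      classical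
      have hS : ∀ s ∈ Φ.image f.base, y' ⤳ s ∧ s ⤳ f.base ζ ∧ s ≠ y' := by
        intro s hs
        rw [Finset.mem_image] at hs
        obtain ⟨φ, hφ, rfl⟩ := hs
        obtain ⟨⟨hφF, hφy'⟩, hφζ⟩ := hΦ φ hφ
        refine ⟨specializes_iff_mem_closure.mpr hφy', hφζ.map f.continuous, ?_⟩
        intro heq
        exact absurd hφF (not_le.mpr (hcon φ hφζ heq))
      obtain ⟨y₁, hy'y₁, hy₁y, hy₁ne, hy₁S⟩ := exists_between_not_specializes (f.base ζ) y'
        (by rw [hr]; exact_mod_cast hr2) hy' (Φ.image f.base) hS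
      have hlt := relHt_add_one_le hy₁y hy'y₁ hy₁ne
      obtain ⟨r₁, hr₁⟩ := ENat.ne_top_iff_exists.mp (relHt_lt_top hy₁y).ne
      rw [hr, ← hr₁] at hlt
      have hr₁lt : r₁ < r := by
        have : r₁ + 1 ≤ r := by exact_mod_cast hlt
        omega
      obtain ⟨ξ₁, hξ₁ζ, hfξ₁, hξ₁F⟩ := ih r₁ hr₁lt y₁ hy₁y hr₁.symm
      have hξ₁T : ξ₁ ∈ {x : X | (e : WithBot ℕ∞) ≤ FlatMor.fibreDimAt f x} ∩
          f.base ⁻¹' closure ({y'} : Set Y) := by
        refine ⟨hξ₁F, ?_⟩
        change f.base ξ₁ ∈ closure {y'}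
        rw [hfξ₁]; exact hy'y₁.mem_closure
      obtain ⟨φ, hφ, hφξ₁⟩ := hU ξ₁ (hξ₁ζ.mem_open U.isOpen hζU) hξ₁T
      apply hy₁S (f.base φ) (Finset.mem_image_of_mem _ hφ)
      rw [← hfξ₁]
      exact hφξ₁.map f.continuous

end Groth.Agent.Lib.Helper73.SchemeDim
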