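/-
helper73: `isOpenAt_of_maximal_in_fibre` (fibre-scheme phrasing → points of `X`),
`exists_specializes_trdeg_ge_of_isOpenAt` (packaged form of the core lemma of `OpenAtPoint`).
-/
import Groth.Agent.Lib.Helper73.OpenAtPoint

set_option linter.style.haveILetI false
set_option autoImplicit false
universe u
open CategoryTheory AlgebraicGeometry

namespace Groth.Agent.Lib.Helper73.SchemeDim

open Groth.Agent.Lib.Helper73.RelHt Groth.Agent.Lib.Helper73.DimFormula

variable {X Y : Scheme.{u}}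

/-- translation of the hypothesis "open at the generic points of the components of the fibre through
`x`" (phrased on the fibre scheme) to points of `X`. -/
theorem isOpenAt_of_maximal_in_fibre (f : X ⟶ Y) (x : X)
    (h : ∀ z : ↥(f.fiber (f.base x)), f.asFiber x ∈ closure {z} →
      (∀ z' : ↥(f.fiber (f.base x)), z ∈ closure {z'} → z' = z) →
      EGA43.IsOpenAt f.base ((f.fiberι (f.base x)).base z))
    (z : X) (hzx : z ⤳ x) (hfz : f.base z = f.base x)
    (hzmax : ∀ z' : X, z' ⤳ z → f.base z' = f.base z → z' = z) :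
    EGA43.IsOpenAt f.base z := by
  obtain ⟨w, hw⟩ := exists_fiberι_eq f hfz
  have hind := (f.fiberι (f.base x)).isEmbedding.isInducing
  have h1 : f.asFiber x ∈ closure {w} := by
    rw [← specializes_iff_mem_closure, ← hind.specializes_iff, hw, f.fiberι_asFiber x]
    exact hzx
  have h2 : ∀ z' : ↥(f.fiber (f.base x)), w ∈ closure {z'} → z' = w := by
    intro z' hz'
    rw [← specializes_iff_mem_closure, ← hind.specializes_iff, hw] at hz'
    have h3 : f.base ((f.fiberι (f.base x)).base z') = f.base z := by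
      rw [base_fiberι' f (f.base x) z', hfz]
    have h4 := hzmax _ hz' h3
    apply (f.fiberι (f.base x)).isEmbedding.injective
    rw [h4, hw]
  have := h w h1 h2
  rwa [hw] at this

/-- if `f` is open at `ζ`, every generization `y'` of `f ζ` is the image of a generization of `ζ`
with residue transcendence degree at least that of `ζ`. -/
theorem exists_specializes_trdeg_ge_of_isOpenAt [IsLocallyNoetherian Y] (f : X ⟶ Y)
    [LocallyOfFiniteType f] (ζ : X) (e : ℕ)
    (he : @Algebra.trdeg (Y.residueField (f.base ζ)) (X.residueField ζ) _ _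
      (f.residueFieldMap ζ).hom.toAlgebra = e)
    (hopen : EGA43.IsOpenAt f.base ζ) (y' : Y) (hy' : y' ⤳ f.base ζ) :
    ∃ (ξ : X) (m : ℕ), ξ ⤳ ζ ∧ f.base ξ = y' ∧
      @Algebra.trdeg (Y.residueField (f.base ξ)) (X.residueField ξ) _ _
        (f.residueFieldMap ξ).hom.toAlgebra = m ∧ e ≤ m := by
  obtain ⟨r, hr⟩ := ENat.ne_top_iff_exists.mp (relHt_lt_top hy').ne
  obtain ⟨ξ₀, hξ₀ζ, hfξ₀, hξ₀F⟩ :=
    exists_specializes_fibreDimAt_of_isOpenAt f ζ e he hopen r y' hy' hr.symm
  obtain ⟨ξ₁, m, hξ₁ξ₀, hξ₁f, hnξ₁, hFξ₀⟩ := exists_specializes_trdeg_eq_fibreDimAt f ξ₀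
  refine ⟨ξ₁, m, hξ₁ξ₀.trans hξ₀ζ, hξ₁f.trans hfξ₀, hnξ₁, ?_⟩
  rw [hFξ₀] at hξ₀F
  exact_mod_cast hξ₀F

end Groth.Agent.Lib.Helper73.SchemeDim
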