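/-
helper73: `exists_maximal_over_of_isOpenAt` (EGA IV 14.2.1-type): `f` open at a maximal point `ζ` of its fibre,
`η` maximal point of `Y` generizing `f ζ` ⟹ maximal point `ξ ⤳ ζ` of `X` over `η` with `trdeg κ(ξ)/κ(η) = trdeg κ(ζ)/κ(f ζ)`.
-/
import Groth.Agent.Lib.Helper73.OpenAtPoint2
import Groth.Agent.Lib.Helper73.ClosureFibreDim

set_option linter.style.haveILetI false
set_option autoImplicit false
universe u
open CategoryTheory AlgebraicGeometry

namespace Groth.Agent.Lib.Helper73.SchemeDim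

open Groth.Agent.Lib.Helper73.RelHt Groth.Agent.Lib.Helper73.DimFormula

variable {X Y : Scheme.{u}}

/-- EGA IV 14.2.1-type: if `f` is open at a maximal point `ζ` of its fibre and `η` is a maximal point of
`Y` generizing `f ζ`, there is a maximal point `ξ` of `X` over `η`, generizing `ζ`, with the same
residue transcendence degree as `ζ`. -/
theorem exists_maximal_over_of_isOpenAt [IsLocallyNoetherian Y] (f : X ⟶ Y)
    [LocallyOfFiniteType f] (ζ : X)
    (hζmax : ∀ t : X, t ⤳ ζ → f.base t = f.base ζ → t = ζ) (e : ℕ)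
    (he : @Algebra.trdeg (Y.residueField (f.base ζ)) (X.residueField ζ) _ _
      (f.residueFieldMap ζ).hom.toAlgebra = e)
    (hopen : EGA43.IsOpenAt f.base ζ) (η : Y) (hηmax : ∀ η' : Y, η' ⤳ η → η' = η)
    (hη : η ⤳ f.base ζ) :
    ∃ ξ : X, (∀ ξ' : X, ξ' ⤳ ξ → ξ' = ξ) ∧ ξ ⤳ ζ ∧ f.base ξ = η ∧
      @Algebra.trdeg (Y.residueField (f.base ξ)) (X.residueField ξ) _ _
        (f.residueFieldMap ξ).hom.toAlgebra = e := by
  haveI : IsLocallyNoetherian X := LocallyOfFiniteType.isLocallyNoetherian f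
  obtain ⟨ξ₁, m, hξ₁ζ, hfξ₁, hnξ₁, hem⟩ :=
    exists_specializes_trdeg_ge_of_isOpenAt f ζ e he hopen η hη
  obtain ⟨ξ, hξmax, hξξ₁⟩ := exists_maximal_specializes ξ₁
  have hfξ : f.base ξ = η := by
    have h1 : f.base ξ ⤳ η := by
      rw [← hfξ₁]; exact hξξ₁.map f.continuous
    exact hηmax _ h1
  obtain ⟨nξ, hnξ⟩ := exists_trdeg_residueField_eq_nat' f ξ
  have hmnξ : m ≤ nξ := trdeg_le_trdeg_of_specializes_of_fibre' f hξξ₁
    (hfξ.trans hfξ₁.symm) nξ m hnξ hnξ₁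
  have hξζ : ξ ⤳ ζ := hξξ₁.trans hξ₁ζ
  have hmemζ : ζ ∈ closure ({ξ} : Set X) ∩ f.base ⁻¹' {f.base ζ} := ⟨hξζ.mem_closure, rfl⟩
  obtain ⟨-, t, k, -, htζ, htf, hnt, hL⟩ :=
    localDim_closed_inter_fibre f (closure {ξ}) isClosed_closure ζ hmemζ
  have htζeq : t = ζ := hζmax t htζ htf
  have hke : k = e := by
    have h1 : @Algebra.trdeg (Y.residueField (f.base ζ)) (X.residueField ζ) _ _
        (f.residueFieldMap ζ).hom.toAlgebra = k := by
      rw [← trdeg_residueFieldMap_congr_pt f htζeq]; exact hnt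
    have : ((k : ℕ) : Cardinal.{u}) = e := by rw [← h1, ← he]
    exact_mod_cast this
  have hlow := trdeg_le_localDim_closure_inter_fibre f hξζ nξ hnξ hmemζ
  rw [hL, hke] at hlow
  have hnξe : nξ ≤ e := by exact_mod_cast hlow
  have hnξeq : nξ = e := by omega
  exact ⟨ξ, hξmax, hξζ, hfξ, by rw [hnξ, hnξeq]⟩

end Groth.Agent.Lib.Helper73.SchemeDim
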