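import Mathlib
import Groth.Agent.Lib.Helper73.OrbitDim
import Groth.Agent.Lib.Helper73.OrbitLC
import Groth.Agent.Lib.Helper21.GrpDim
import Groth.Agent.S9358

/-!
helper73: semicontinuity of the orbit dimension (k algebraically closed).
-/

set_option autoImplicit false
universe u

open CategoryTheory CategoryTheory.Limits MonoidalCategory CartesianMonoidalCategory MonObj GrpObj
  AlgebraicGeometry

namespace Groth.Agent.Lib.Helper73.OrbitDim

open Groth.Agent.Lib.Helper73.ActTrans Groth.Agent.Lib.Helper73.GoodQuot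
  Groth.Agent.Lib.Helper73.ConnGrp Groth.Agent.Lib.Helper73.SchemeDim
  Groth.Agent.Lib.Helper73.FibreDimRetro Groth.Agent.Lib.Helper21.FieldDim

noncomputable section

section General

variable {S : Scheme.{u}} {G X : Over S} [GrpObj G] (a : AlgGrp.Action G X) (x : 𝟙_ (Over S) ⟶ X)

/-- the map `(g, y) ↦ (g · y, y)`. -/
def shearAct : G ⊗ X ⟶ X ⊗ X := lift a.act (snd G X)

/-- `g ↦ (g, x)`. -/
def inclG : G ⟶ G ⊗ X := lift (𝟙 G) (toUnit G ≫ x)

omit [GrpObj G] in
/-- `y ↦ (y, x)`. -/
def inclX : X ⟶ X ⊗ X := lift (𝟙 X) (toUnit X ≫ x)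

/-- `y ↦ (e, y)`. -/
def unitSec : X ⟶ G ⊗ X := lift (toUnit X ≫ η[G]) (𝟙 X)

theorem isPullback_orbitMap :
    IsPullback (inclG (X := X) x) (a.orbitMap x) (shearAct a) (inclX x) := by
  have hw : inclG (X := X) x ≫ shearAct a = a.orbitMap x ≫ inclX x := by
    unfold inclG shearAct inclX AlgGrp.Action.orbitMap
    apply CartesianMonoidalCategory.hom_ext <;> simp
  refine ⟨⟨hw⟩, ⟨PullbackCone.IsLimit.mk _ (fun s => s.fst ≫ fst G X) ?_ ?_ ?_⟩⟩
  · intro s
    have h1 : s.fst ≫ snd G X = toUnit _ ≫ x := by
      have := congrArg (fun m => m ≫ snd X X) s.condition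
      simpa [shearAct, inclX] using this
    unfold inclG
    apply CartesianMonoidalCategory.hom_ext
    · simp
    · simp [h1]
  · intro s
    have h1 : s.fst ≫ snd G X = toUnit _ ≫ x := by
      have := congrArg (fun m => m ≫ snd X X) s.condition
      simpa [shearAct, inclX] using this
    have h2 : s.fst ≫ a.act = s.snd := by
      have := congrArg (fun m => m ≫ fst X X) s.condition
      simpa [shearAct, inclX] using this
    rw [AlgGrp.Action.comp_orbitMap, ← h2]
    congr 1
    apply CartesianMonoidalCategory.hom_ext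
    · simp
    · simp [h1]
  · intro s m hm _
    have := congrArg (fun t => t ≫ fst G X) hm
    simpa [inclG] using this

end General

section Field

variable {k : Type u} [Field k]

theorem range_subset_iff_point {Y : Scheme.{u}} (p : Spec (CommRingCat.of k) ⟶ Y) (Z : Set Y) :
    Set.range p.base ⊆ Z ↔ p (IsLocalRing.closedPoint k) ∈ Z := by
  constructor
  · intro h
    exact h ⟨_, rfl⟩
  · rintro h _ ⟨t, rfl⟩
    rw [Subsingleton.elim t (IsLocalRing.closedPoint k)]
    exact h

variable [IsAlgClosed k] {G X : Over (Spec (CommRingCat.of k))} [GrpObj G]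
  [LocallyOfFiniteType G.hom] [LocallyOfFiniteType X.hom]
  (a : AlgGrp.Action G X) (x : 𝟙_ (Over (Spec (CommRingCat.of k))) ⟶ X)

omit [IsAlgClosed k] in
/-- the local fibre dimension of the shear map at `(e, x)` is that of the orbit map at `e`. -/
theorem fibreDimAt_shearAct :
    FlatMor.fibreDimAt (shearAct a).left
        ((unitSec (G := G) (X := X)).left (x.left (IsLocalRing.closedPoint k))) =
      FlatMor.fibreDimAt (a.orbitMap x).left (η[G].left (IsLocalRing.closedPoint k)) := by
  have := locallyOfFiniteType_tensor (G := G) (X := X)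
  have : LocallyOfFiniteType (shearAct a).left := locallyOfFiniteType_left (shearAct a)
  have hpb := (isPullback_orbitMap a x).map (Over.forget _)
  have h1 := (Groth.Agent.S9358.result (shearAct a).left (inclX x).left (inclG x).left
    (a.orbitMap x).left hpb 0).1 (η[G].left (IsLocalRing.closedPoint k))
  rw [h1]
  congr 1
  have e : η[G] ≫ inclG x = x ≫ unitSec (G := G) (X := X) := by
    unfold inclG unitSec
    apply CartesianMonoidalCategory.hom_ext
    · simp [toUnit_unique (toUnit (𝟙_ (Over (Spec (CommRingCat.of k))))) (𝟙 _)]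
    · simp [toUnit_unique (toUnit (𝟙_ (Over (Spec (CommRingCat.of k))))) (𝟙 _)]
  exact (congrArg (fun m : 𝟙_ (Over (Spec (CommRingCat.of k))) ⟶ G ⊗ X =>
    m.left (IsLocalRing.closedPoint k)) e).symm

variable [QuasiCompact G.hom] [QuasiCompact X.hom]

theorem dim_closure_orbit :
    topologicalKrullDim ↥(closure (Set.range (a.orbitMap x).left)) =
      topologicalKrullDim ↥(Set.range (a.orbitMap x).left) := by
  have hO : IsLocallyClosed (Set.range (a.orbitMap x).left) :=
    Groth.Agent.Lib.Helper73.OrbitBC.isLocallyClosed_range_orbitMap k G X a x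
  obtain ⟨-, hB, hlt⟩ := Groth.Agent.Lib.Helper73.OrbitLC.orbit_main a x
  unfold Groth.Agent.Lib.Helper73.OrbitLC.orbit at hB hlt
  apply le_antisymm
  · rw [dim_le_iff_of_isLocallyClosed X.hom _ isClosed_closure.isLocallyClosed]
    intro z hz
    by_cases hzO : z ∈ Set.range (a.orbitMap x).left
    · exact (dim_le_iff_of_isLocallyClosed X.hom _ hO _).mp le_rfl z hzO
    · exact ((dim_le_iff_of_isLocallyClosed X.hom _ hB.isLocallyClosed _).mp le_rfl z
        ⟨hz, hzO⟩).trans hlt.le
  · rw [dim_le_iff_of_isLocallyClosed X.hom _ hO]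
    intro z hz
    exact (dim_le_iff_of_isLocallyClosed X.hom _ isClosed_closure.isLocallyClosed _).mp le_rfl z
      (subset_closure hz)

/-- the set of rational points whose orbit closure has dimension at most `r` is closed. -/
theorem exists_isClosed_orbitDim_le (r : ℕ) :
    ∃ Z : Set ↥X.left, IsClosed Z ∧
      ∀ x : 𝟙_ (Over (Spec (CommRingCat.of k))) ⟶ X,
        topologicalKrullDim ↥(closure (Set.range (a.orbitMap x).left)) ≤ (r : WithBot ℕ∞) ↔
          x.left (IsLocalRing.closedPoint k) ∈ Z := by
  have := locallyOfFiniteType_tensor (G := G) (X := X)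
  have : LocallyOfFiniteType (shearAct a).left := locallyOfFiniteType_left (shearAct a)
  obtain ⟨nD, hnD⟩ : ∃ n : ℕ, topologicalKrullDim G.left = n := by
    obtain ⟨n, hn⟩ := exists_localDim_eq_nat G.hom (η[G].left (IsLocalRing.closedPoint k))
    exact ⟨n, by rw [← (grp_equidim G).2 (η[G].left (IsLocalRing.closedPoint k)), hn]⟩
  refine ⟨(unitSec (G := G) (X := X)).left ⁻¹'
    {p | ((nD - r : ℕ) : WithBot ℕ∞) ≤ FlatMor.fibreDimAt (shearAct a).left p},
    (isClosed_setOf_le_fibreDimAt _ _).preimage (Scheme.Hom.continuous _), ?_⟩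
  intro x
  have := locallyOfFiniteType_left (a.orbitMap x)
  rw [Set.mem_preimage, Set.mem_ofPred_eq, fibreDimAt_shearAct, dim_closure_orbit]
  have hform := dim_eq_orbit_add_stabilizer a x
  rw [dim_stabilizer, hnD] at hform
  obtain ⟨-, δ, -, -, -, hδ⟩ := exists_specializes_trdeg_eq_fibreDimAt (a.orbitMap x).left
    (η[G].left (IsLocalRing.closedPoint k))
  rw [hδ] at hform ⊢
  generalize topologicalKrullDim ↥(Set.range (a.orbitMap x).left) = b at hform ⊢
  induction b using WithBot.recBotCoe with
  | bot => simp at hform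
  | coe c =>
    induction c using ENat.recTopCoe with
    | top =>
      exfalso
      rw [← WithBot.coe_natCast, ← WithBot.coe_natCast, ← WithBot.coe_add, WithBot.coe_inj,
        top_add] at hform
      exact absurd hform (ENat.natCast_ne_top nD)
    | coe m =>
      have hnm : nD = m + δ := by exact_mod_cast hform
      constructor
      · intro h
        have hmr : m ≤ r := by exact_mod_cast h
        exact_mod_cast (by omega : nD - r ≤ δ)
      · intro h
        have hmr : nD - r ≤ δ := by exact_mod_cast h
        exact_mod_cast (by omega : m ≤ r)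

end Field

end

end Groth.Agent.Lib.Helper73.OrbitDim
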