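/-
helper73: closed points with finite separable residue field are dense in a smooth scheme over a
field.
-/
import Mathlib
import Groth.Prelude.Def_CurvBase
import Groth.Agent.Lib.Helper21.ResMap
import Groth.Agent.Lib.Helper73.SchemeDimDict

set_option linter.style.haveILetI false
set_option linter.unusedSectionVars false
set_option autoImplicit false
universe u
open CategoryTheory CategoryTheory.Limits AlgebraicGeometry TensorProduct

namespace Groth.Agent.Lib.Helper73.SepPts

section AffineSpace

variable (k : Type u) [Field k]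

/-- a nonzero polynomial over a field does not vanish at some maximal ideal whose residue field is
finite separable over the field. -/
theorem exists_maximal_notMem_finite_separable (n : ℕ) (h : MvPolynomial (Fin n) k) (h0 : h ≠ 0) :
    ∃ 𝔫 : Ideal (MvPolynomial (Fin n) k), 𝔫.IsMaximal ∧ h ∉ 𝔫 ∧
      Module.Finite k (MvPolynomial (Fin n) k ⧸ 𝔫) ∧
      Algebra.IsSeparable k (MvPolynomial (Fin n) k ⧸ 𝔫) := by
  rcases finite_or_infinite k with hfin | hinf
  · -- finite field: any maximal ideal avoiding `h` works
    have hjac : h ∉ (⊥ : Ideal (MvPolynomial (Fin n) k)).jacobson := by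
      rw [← Ideal.radical_eq_jacobson, Ideal.radical_eq_iff.mpr Ideal.isRadical_bot,
        Ideal.mem_bot]
      exact h0
    rw [Ideal.jacobson, Submodule.mem_sInf] at hjac
    push Not at hjac
    obtain ⟨𝔫, ⟨-, hmax⟩, hh⟩ := hjac
    letI := Ideal.Quotient.field 𝔫
    haveI : Module.Finite k (MvPolynomial (Fin n) k ⧸ 𝔫) :=
      finite_of_finite_type_of_isJacobsonRing k _
    haveI : Algebra.IsAlgebraic k (MvPolynomial (Fin n) k ⧸ 𝔫) := Algebra.IsAlgebraic.of_finite _ _
    exact ⟨𝔫, hmax, hh, inferInstance, inferInstance⟩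
  · -- infinite field: a rational point
    have : ∃ x : Fin n → k, MvPolynomial.eval x h ≠ 0 := by
      by_contra hcon
      push Not at hcon
      exact h0 (MvPolynomial.funext fun x => by rw [hcon x, map_zero])
    obtain ⟨x, hx⟩ := this
    let φ : MvPolynomial (Fin n) k →ₐ[k] k := MvPolynomial.aeval x
    have hφ : Function.Surjective φ := fun c => ⟨MvPolynomial.C c, by simp [φ]⟩
    have hmax : (RingHom.ker φ.toRingHom).IsMaximal := RingHom.ker_isMaximal_of_surjective _ hφ
    let e : (MvPolynomial (Fin n) k ⧸ RingHom.ker φ.toRingHom) ≃ₐ[k] k :=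
      Ideal.quotientKerAlgEquivOfSurjective hφ
    refine ⟨RingHom.ker φ.toRingHom, hmax, ?_, ?_, ?_⟩
    · intro hmem
      apply hx
      have : φ h = 0 := hmem
      rwa [show φ h = MvPolynomial.eval x h from congrFun (MvPolynomial.aeval_eq_eval x) h] at this
    · exact Module.Finite.equiv e.symm.toLinearEquiv
    · exact Algebra.IsSeparable.of_equiv_equiv (RingEquiv.refl k) e.symm.toRingEquiv (by
        ext c
        exact (e.symm.commutes c).symm)

end AffineSpace

section Smooth

variable (k : Type u) [Field k]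

/-- a nontrivial smooth algebra over a field has a maximal ideal with finite separable residue
field. -/
theorem exists_maximal_finite_separable_of_smooth (B : Type u) [CommRing B] [Algebra k B]
    [Algebra.Smooth k B] [Nontrivial B] :
    ∃ m : Ideal B, m.IsMaximal ∧ Module.Finite k (B ⧸ m) ∧ Algebra.IsSeparable k (B ⧸ m) := by
  obtain ⟨p, hp⟩ := Ideal.exists_maximal B
  haveI : p.IsPrime := hp.isPrime
  haveI : Algebra.IsSmoothAt k p := inferInstance
  obtain ⟨f, hfp, n, alg, htower, hstd⟩ :=
    Algebra.IsSmoothAt.exists_isStandardEtale_mvPolynomial (R := k) (S := B) (p := p)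
  letI := alg
  haveI := htower
  haveI := hstd
  haveI : Algebra.Etale (MvPolynomial (Fin n) k) (Localization.Away f) := inferInstance
  -- `C` is nontrivial
  have hdisj : Disjoint (Submonoid.powers f : Set B) (p : Set B) :=
    (Ideal.disjoint_powers_iff_notMem_of_isPrime _).mpr hfp
  have hpC : (p.map (algebraMap B (Localization.Away f))).IsPrime :=
    IsLocalization.isPrime_of_isPrime_disjoint (.powers f) _ _ ‹_› hdisj
  let q₀ : PrimeSpectrum (Localization.Away f) := ⟨_, hpC⟩
  -- the map on spectra is open
  haveI : Module.Flat (MvPolynomial (Fin n) k) (Localization.Away f) := inferInstance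
  haveI : Algebra.HasGoingDown (MvPolynomial (Fin n) k) (Localization.Away f) := inferInstance
  have hopen := PrimeSpectrum.isOpenMap_comap_of_hasGoingDown_of_finitePresentation
    (R := MvPolynomial (Fin n) k) (S := Localization.Away f)
  have hV : IsOpen (Set.range (PrimeSpectrum.comap
      (algebraMap (MvPolynomial (Fin n) k) (Localization.Away f)))) := hopen.isOpen_range
  obtain ⟨_, ⟨_, ⟨h, rfl⟩, rfl⟩, hq₀h, hsub⟩ :=
    PrimeSpectrum.isBasis_basic_opens.exists_subset_of_mem_open (Set.mem_range_self q₀) hV
  have h0 : h ≠ 0 := by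
    rintro rfl
    exact hq₀h (Submodule.zero_mem _)
  obtain ⟨𝔫, hmax, hh, hfin, hsep⟩ := exists_maximal_notMem_finite_separable k n h h0
  obtain ⟨q, hq⟩ := hsub (show (⟨𝔫, hmax.isPrime⟩ : PrimeSpectrum _) ∈
    (PrimeSpectrum.basicOpen h : Set _) from hh)
  haveI : 𝔫.IsPrime := hmax.isPrime
  haveI hlo : q.asIdeal.LiesOver 𝔫 := ⟨(congrArg PrimeSpectrum.asIdeal hq).symm⟩
  letI := Localization.AtPrime.algebraOfLiesOver 𝔫 q.asIdeal
  haveI : Algebra.IsUnramifiedAt (MvPolynomial (Fin n) k) q.asIdeal := inferInstance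
  haveI h1 : Algebra.IsSeparable 𝔫.ResidueField q.asIdeal.ResidueField := inferInstance
  haveI h2 : Module.Finite 𝔫.ResidueField q.asIdeal.ResidueField := inferInstance
  -- `κ(𝔫)` is finite separable over `k`
  have hbij := Ideal.bijective_algebraMap_quotient_residueField 𝔫
  let e : (MvPolynomial (Fin n) k ⧸ 𝔫) ≃ₐ[k] 𝔫.ResidueField :=
    AlgEquiv.ofBijective (IsScalarTower.toAlgHom k _ _) hbij
  haveI h3 : Module.Finite k 𝔫.ResidueField := Module.Finite.equiv e.toLinearEquiv
  haveI h4 : Algebra.IsSeparable k 𝔫.ResidueField :=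
    Algebra.IsSeparable.of_equiv_equiv (RingEquiv.refl k) e.toRingEquiv (by
      ext c
      exact (e.commutes c).symm)
  haveI : IsScalarTower k 𝔫.ResidueField q.asIdeal.ResidueField := inferInstance
  haveI h5 : Module.Finite k q.asIdeal.ResidueField :=
    Module.Finite.trans 𝔫.ResidueField q.asIdeal.ResidueField
  haveI h6 : Algebra.IsSeparable k q.asIdeal.ResidueField :=
    Algebra.IsSeparable.trans k 𝔫.ResidueField q.asIdeal.ResidueField
  -- back to `B`
  haveI : IsScalarTower k B q.asIdeal.ResidueField := inferInstance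
  haveI : IsScalarTower B (Localization.Away f) q.asIdeal.ResidueField := inferInstance
  have hker : ∀ b : B, algebraMap B q.asIdeal.ResidueField b = 0 ↔
      b ∈ q.asIdeal.under B := by
    intro b
    rw [IsScalarTower.algebraMap_apply B (Localization.Away f) q.asIdeal.ResidueField,
      Ideal.algebraMap_residueField_eq_zero]
    rfl
  let g : (B ⧸ q.asIdeal.under B) →ₐ[k] q.asIdeal.ResidueField :=
    Ideal.Quotient.liftₐ (q.asIdeal.under B) (IsScalarTower.toAlgHom k B q.asIdeal.ResidueField)
      (fun a ha => (hker a).mpr ha)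
  have hg : Function.Injective g := by
    rw [injective_iff_map_eq_zero]
    intro x hx
    obtain ⟨b, rfl⟩ := Ideal.Quotient.mk_surjective x
    exact Ideal.Quotient.eq_zero_iff_mem.mpr ((hker b).mp hx)
  haveI hfinQ : Module.Finite k (B ⧸ q.asIdeal.under B) :=
    Module.Finite.of_injective g.toLinearMap hg
  have hsepQ : Algebra.IsSeparable k (B ⧸ q.asIdeal.under B) := by
    refine ⟨fun x => ?_⟩
    have := Algebra.IsSeparable.isSeparable k (g x)
    unfold IsSeparable at this ⊢
    rwa [minpoly.algHom_eq g hg x] at this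
  haveI : (q.asIdeal.under B).IsPrime := Ideal.comap_isPrime _ _
  have hfield : IsField (B ⧸ q.asIdeal.under B) :=
    isField_of_isIntegral_of_isField' (R := k) (Field.toIsField k)
  exact ⟨q.asIdeal.under B, Ideal.Quotient.maximal_of_isField _ hfield, hfinQ, hsepQ⟩

end Smooth

section Scheme

attribute [local instance] Curv2.resAlgebra

variable (k : Type u) [Field k] (X : Scheme.{u}) [X.Over (Spec (CommRingCat.of k))]

/-- a point with residue field finite over `k` of a scheme locally of finite type over `k` is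
closed. -/
theorem isClosed_singleton_of_finite [LocallyOfFiniteType (X ↘ Spec (CommRingCat.of k))] (x : X)
    (hfin : FiniteDimensional k (X.residueField x)) : IsClosed ({x} : Set X) := by
  haveI : JacobsonSpace X := LocallyOfFiniteType.jacobsonSpace (X ↘ Spec (CommRingCat.of k))
  rw [isClosed_singleton_iff_locallyOfFiniteType]
  have h1 : LocallyOfFiniteType (X.fromSpecResidueField x ≫ (X ↘ Spec (CommRingCat.of k))) := by
    rw [← Groth.Agent.Lib.Helper21.SpecMap_resMap k X x,
      HasRingHomProperty.Spec_iff (P := @LocallyOfFiniteType)]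
    have : (algebraMap k (X.residueField x)).FiniteType :=
      RingHom.finiteType_algebraMap.mpr inferInstance
    exact this
  exact locallyOfFiniteType_of_comp (X.fromSpecResidueField x) (X ↘ Spec (CommRingCat.of k))

open Groth.Agent.Lib.Helper73.SchemeDim in
/-- **Closed points with finite separable residue field are dense in a smooth `k`-scheme.** -/
theorem dense_closedPoints_separable [Smooth (X ↘ Spec (CommRingCat.of k))] :
    Dense {x : X | IsClosed ({x} : Set X) ∧ FiniteDimensional k (X.residueField x) ∧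
      Algebra.IsSeparable k (X.residueField x)} := by
  rw [dense_iff_inter_open]
  rintro U hU ⟨x₀, hx₀⟩
  obtain ⟨_, ⟨W, hW, rfl⟩, hx₀W, hWU⟩ :=
    X.isBasis_affineOpens.exists_subset_of_mem_open hx₀ hU
  -- the `k`-algebra structure on `Γ(X, W)`
  let φ : k →+* Γ(X, W) := (X.presheaf.map (homOfLE (le_top : W ≤ ⊤)).op).hom.comp
    (Coh.toGlobal (X ↘ Spec (CommRingCat.of k)))
  have hφsm : φ.Smooth := by
    have h := HasRingHomProperty.appLE (P := @Smooth) (X ↘ Spec (CommRingCat.of k)) inferInstance
      ⟨⊤, isAffineOpen_top _⟩ ⟨W, hW⟩ le_top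
    exact RingHom.Smooth.respectsIso.2 _
      (Scheme.ΓSpecIso (CommRingCat.of k)).symm.commRingCatIsoToRingEquiv h
  algebraize [φ]
  haveI : Algebra.Smooth k Γ(X, W) := hφsm
  haveI : Nontrivial Γ(X, W) :=
    PrimeSpectrum.nonempty_iff_nontrivial.mp ⟨hW.primeIdealOf ⟨x₀, hx₀W⟩⟩
  obtain ⟨m, hmax, hfin, hsep⟩ := exists_maximal_finite_separable_of_smooth k Γ(X, W)
  haveI := hmax.isPrime
  let y : Spec Γ(X, W) := ⟨m, hmax.isPrime⟩
  let x : X := hW.fromSpec.base y
  have hxW : x ∈ W := by
    have : x ∈ Set.range hW.fromSpec.base := ⟨y, rfl⟩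
    rwa [hW.range_fromSpec] at this
  haveI : IsOpenImmersion hW.fromSpec := hW.isOpenImmersion_fromSpec
  have hP : hW.primeIdealOf ⟨x, hxW⟩ = y :=
    hW.fromSpec.isOpenEmbedding.injective (hW.fromSpec_primeIdealOf ⟨x, hxW⟩)
  have hker : RingHom.ker (X.evaluation W x hxW).hom = m := by
    rw [ker_evaluation hW x hxW, hP]
  -- evaluation as a `k`-algebra map
  let evA : Γ(X, W) →ₐ[k] X.residueField x :=
    { (X.evaluation W x hxW).hom with
      commutes' := fun c => by
        change (X.evaluation W x hxW).hom (φ c) = Curv2.resMap k X x c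
        change (X.residue x).hom ((X.presheaf.germ W x hxW).hom
          ((X.presheaf.map (homOfLE (le_top : W ≤ ⊤)).op).hom
            (Coh.toGlobal (X ↘ Spec (CommRingCat.of k)) c))) =
          (X.residue x).hom ((X.presheaf.germ ⊤ x trivial).hom
            (Coh.toGlobal (X ↘ Spec (CommRingCat.of k)) c))
        congr 1
        exact TopCat.Presheaf.germ_res_apply X.presheaf (homOfLE (le_top : W ≤ ⊤)) x hxW _ }
  have hevA : ∀ b, evA b = (X.evaluation W x hxW).hom b := fun _ => rfl
  have hkerA : ∀ b, evA b = 0 ↔ b ∈ m := by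
    intro b
    rw [hevA, ← hker, RingHom.mem_ker]
  have hsurj : Function.Surjective evA := by
    intro z
    obtain ⟨a, s, hs, hz⟩ := exists_evaluation_frac hW x hxW z
    have hsm : s ∉ m := fun h => hs ((hkerA s).mpr h)
    obtain ⟨t, u, hu, htu⟩ := hmax.exists_inv hsm
    have h1 : evA t * evA s = 1 := by
      have := congrArg evA htu
      rwa [map_add, map_mul, (hkerA u).mpr hu, add_zero, map_one] at this
    refine ⟨a * t, ?_⟩
    rw [map_mul, hevA a, ← hz, mul_assoc, ← hevA s, mul_comm (evA s), h1, mul_one]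
  have hkerA' : RingHom.ker evA.toRingHom = m := by
    ext b
    exact hkerA b
  let e : (Γ(X, W) ⧸ m) ≃ₐ[k] X.residueField x :=
    (Ideal.quotientEquivAlgOfEq k hkerA'.symm).trans
      (Ideal.quotientKerAlgEquivOfSurjective hsurj)
  have hfin' : FiniteDimensional k (X.residueField x) := Module.Finite.equiv e.toLinearEquiv
  have hsep' : Algebra.IsSeparable k (X.residueField x) :=
    Algebra.IsSeparable.of_equiv_equiv (RingEquiv.refl k) e.toRingEquiv (by
      ext c
      exact (e.commutes c).symm)
  haveI : LocallyOfFiniteType (X ↘ Spec (CommRingCat.of k)) := inferInstance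
  exact ⟨x, hWU hxW, isClosed_singleton_of_finite k X x hfin', hfin', hsep'⟩

end Scheme

end Groth.Agent.Lib.Helper73.SepPts
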