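/-
helper73: Serre's conditions (S_n), (R_n) of local rings under smooth morphisms.
-/
import Groth.Agent.Lib.Helper49.SkAt
import Groth.Agent.Lib.Helper49.RegAscent
import Groth.Agent.Lib.Helper49.SmoothHom
import Groth.Agent.Lib.Helper33.RegularRing
import Groth.Agent.S2608
import Groth.Agent.S2609
import Groth.Agent.S2694
import Mathlib.AlgebraicGeometry.Morphisms.Smooth

set_option linter.style.haveILetI false
set_option linter.unusedSectionVars false
set_option autoImplicit false
universe u
open CategoryTheory CategoryTheory.Limits AlgebraicGeometry TensorProduct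

namespace Groth.Agent.Lib.Helper73.SmoothSkRk

open Groth.Agent.Lib.Helper49.FibreSk Groth.Agent.Lib.Helper49.RegAscent
  Groth.Agent.Lib.Helper49.SkAt

/-- `(R_k)` is invariant under ring isomorphisms. -/
theorem hasRk_of_ringEquiv {A B : Type u} [CommRing A] [CommRing B] (e : A ≃+* B) (k : ℕ)
    (h : LocCoh.HasRk k A) : LocCoh.HasRk k B := by
  intro Q hQ hQht
  have hcomap : (Q.comap e).IsPrime := Ideal.comap_isPrime _ _
  have hh : (Q.comap e).height = Q.height := RingEquiv.height_comap e Q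
  have h3 := h (Q.comap e) (by rw [hh]; exact hQht)
  have e2 : Localization.AtPrime (Q.comap e) ≃+* Localization.AtPrime Q :=
    IsLocalization.ringEquivOfRingEquiv
      (Localization.AtPrime (Q.comap e)) (Localization.AtPrime Q) e
      (e.map_primeCompl_comap_eq Q)
  exact IsRegularLocalRing.of_ringEquiv (R := Localization.AtPrime (Q.comap e)) e2

/-- a regular ring satisfies `(R_k)` for all `k`. -/
theorem hasRk_of_isRegularRing (A : Type u) [CommRing A] [IsRegularRing A] (k : ℕ) :
    LocCoh.HasRk k A :=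
  fun _ _ _ => inferInstance

/-- a regular ring satisfies `(S_k)` for all `k`. -/
theorem hasSk_of_isRegularRing (A : Type u) [CommRing A] [IsRegularRing A] (k : ℕ) :
    LocCoh.HasSk k A A := by
  rw [Groth.Agent.Lib.Helper49.SkLift.hasSk_self_iff']
  intro p hp
  have hcm := Groth.Agent.S5671.isCM_of_regular (Localization.AtPrime p)
  unfold LocCoh.IsCohenMacaulayModule at hcm
  rw [Module.supportDim_self_eq_ringKrullDim,
    IsLocalization.AtPrime.ringKrullDim_eq_height p (Localization.AtPrime p)] at hcm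
  have : p.height = LocCoh.depth (Localization.AtPrime p) (Localization.AtPrime p) :=
    WithBot.coe_inj.mp hcm
  rw [← this]
  exact min_le_right _ _

section Ring

variable (R S : Type u) [CommRing R] [CommRing S] [IsNoetherianRing R] [Algebra R S]
  [Algebra.Smooth R S]

omit [IsNoetherianRing R] in
/-- the fibre rings of a smooth ring map are regular. -/
theorem isRegularRing_fiber_of_smooth (p : Ideal R) [p.IsPrime] : IsRegularRing (p.Fiber S) := by
  exact Groth.Agent.Lib.Helper49.SmoothReg.isRegularRing_of_smooth p.ResidueField _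


/-- the fibre local rings of a smooth ring map are regular. -/
theorem isRegularLocalRing_fibLoc_of_smooth [IsNoetherianRing S] (p : Ideal R) [p.IsPrime]
    (q : Ideal S) [q.IsPrime] [q.LiesOver p] : IsRegularLocalRing (FibLoc p q) :=
  (isRegularRing_fiber_iff p).mp (isRegularRing_fiber_of_smooth R S p) q

/-- `(S_n)` and `(R_n)` at a prime of a smooth algebra over a Noetherian ring are equivalent to the
same at the prime below. -/
theorem hasSkAt_hasRkAt_iff_of_smooth (q : Ideal S) [q.IsPrime] (n : ℕ) :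
    (EGA4.HasSkAt n S S q ↔ EGA4.HasSkAt n R R (q.under R)) ∧
      (EGA4.HasRkAt n S q ↔ EGA4.HasRkAt n R (q.under R)) := by
  haveI : IsNoetherianRing S := Algebra.FiniteType.isNoetherianRing R S
  haveI : Module.Flat R S := inferInstance
  refine ⟨⟨hasSkAt_descent n q, hasSkAt_of_flat n q ?_⟩,
    ⟨Groth.Agent.S2608.result n R S q, Groth.Agent.S2609.result n R S ?_ q⟩⟩
  · intro Q hQ _
    exact (hasSk_fiber_iff n (Q.under R)).mp
      (haveI := isRegularRing_fiber_of_smooth R S (Q.under R); hasSk_of_isRegularRing _ n) Q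
  · intro Q hQ
    have hI : (Q.comap (algebraMap R S)).map (algebraMap R (Localization.AtPrime Q)) =
        ((Q.under R).map (algebraMap R S)).map (algebraMap S (Localization.AtPrime Q)) := by
      rw [Ideal.map_map, ← IsScalarTower.algebraMap_eq]
    have e : EGA4.FibLocRing R S Q ≃+* FibLoc (Q.under R) Q := Ideal.quotEquivOfEq hI
    haveI := isRegularLocalRing_fibLoc_of_smooth R S (Q.under R) Q
    haveI := Groth.Agent.Lib.Helper33.isRegularRing_of_isRegularLocalRing (FibLoc (Q.under R) Q)
    exact hasRk_of_ringEquiv e.symm n (hasRk_of_isRegularRing _ n)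

end Ring

section Scheme

/-- `(S_n)` at a prime in terms of any ring isomorphic to the localization. -/
theorem hasSkAt_self_iff_of_ringEquiv {S : Type u} [CommRing S] [IsNoetherianRing S] (q : Ideal S)
    [q.IsPrime] {T : Type u} [CommRing T] (e : Localization.AtPrime q ≃+* T) (n : ℕ) :
    EGA4.HasSkAt n S S q ↔ LocCoh.HasSk n T T := by
  unfold EGA4.HasSkAt
  rw [hasSk_congr n (Groth.Agent.Lib.Helper49.Serre.localizedModuleSelfEquiv q)]
  haveI : IsNoetherianRing (Localization.AtPrime q) :=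
    IsLocalization.isNoetherianRing q.primeCompl _ inferInstance
  haveI : IsNoetherianRing T := isNoetherianRing_of_ringEquiv _ e
  exact ⟨Groth.Agent.S2694.hasSk_self_of_ringEquiv e n,
    Groth.Agent.S2694.hasSk_self_of_ringEquiv e.symm n⟩

/-- `(R_n)` at a prime in terms of any ring isomorphic to the localization. -/
theorem hasRkAt_iff_of_ringEquiv {S : Type u} [CommRing S] (q : Ideal S)
    [q.IsPrime] {T : Type u} [CommRing T] (e : Localization.AtPrime q ≃+* T) (n : ℕ) :
    EGA4.HasRkAt n S q ↔ LocCoh.HasRk n T :=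
  ⟨hasRk_of_ringEquiv e n, hasRk_of_ringEquiv e.symm n⟩

/-- the stalk at a point of an affine open is the localization at the corresponding prime. -/
theorem nonempty_ringEquiv_stalk {X : Scheme.{u}} {W : X.Opens} (hW : IsAffineOpen W) (x : X)
    (hx : x ∈ W) :
    Nonempty (Localization.AtPrime (hW.primeIdealOf ⟨x, hx⟩).asIdeal ≃+* X.presheaf.stalk x) := by
  letI := X.presheaf.algebra_section_stalk ⟨x, hx⟩
  haveI := hW.isLocalization_stalk ⟨x, hx⟩
  exact ⟨(IsLocalization.algEquiv (hW.primeIdealOf ⟨x, hx⟩).asIdeal.primeCompl _ _).toRingEquiv⟩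

/-- EGA IV 17.5.8 (for a smooth morphism): `(S_n)`, `(R_n)` of the local rings of source and
target are equivalent. -/
theorem hasSk_hasRk_stalk_iff_of_smooth {X Y : Scheme.{u}} (g : X ⟶ Y) [IsLocallyNoetherian Y]
    [Smooth g] (x : X) (n : ℕ) :
    (LocCoh.HasSk n (X.presheaf.stalk x) (X.presheaf.stalk x) ↔
        LocCoh.HasSk n (Y.presheaf.stalk (g.base x)) (Y.presheaf.stalk (g.base x))) ∧
      (LocCoh.HasRk n (X.presheaf.stalk x) ↔ LocCoh.HasRk n (Y.presheaf.stalk (g.base x))) := by
  obtain ⟨_, ⟨V, hV, rfl⟩, hxV, -⟩ :=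
    Y.isBasis_affineOpens.exists_subset_of_mem_open (Set.mem_univ (g.base x)) isOpen_univ
  obtain ⟨_, ⟨W, hW, rfl⟩, hxW, hWV⟩ :=
    X.isBasis_affineOpens.exists_subset_of_mem_open hxV (V.2.preimage g.continuous)
  have hsm := g.smooth_appLE hV hW hWV
  algebraize [(g.appLE V W hWV).hom]
  haveI : IsNoetherianRing Γ(Y, V) := IsLocallyNoetherian.component_noetherian ⟨V, hV⟩
  haveI : IsNoetherianRing Γ(X, W) := Algebra.FiniteType.isNoetherianRing Γ(Y, V) Γ(X, W)
  have hq : (hW.primeIdealOf ⟨x, hxW⟩).asIdeal.under Γ(Y, V) =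
      (hV.primeIdealOf ⟨g.base x, hWV hxW⟩).asIdeal :=
    congr($(IsAffineOpen.comap_primeIdealOf_appLE V hV W hW hWV hxW).1)
  obtain ⟨eX⟩ := nonempty_ringEquiv_stalk hW x hxW
  obtain ⟨eY⟩ := nonempty_ringEquiv_stalk hV (g.base x) (hWV hxW)
  have key := hasSkAt_hasRkAt_iff_of_smooth Γ(Y, V) Γ(X, W) (hW.primeIdealOf ⟨x, hxW⟩).asIdeal n
  have tr : ∀ (p : Ideal Γ(Y, V)) [p.IsPrime] (hp : p = (hV.primeIdealOf ⟨g.base x, hWV hxW⟩).asIdeal),
      (EGA4.HasSkAt n Γ(Y, V) Γ(Y, V) p ↔
        LocCoh.HasSk n (Y.presheaf.stalk (g.base x)) (Y.presheaf.stalk (g.base x))) ∧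
      (EGA4.HasRkAt n Γ(Y, V) p ↔ LocCoh.HasRk n (Y.presheaf.stalk (g.base x))) := by
    intro p _ hp
    subst hp
    exact ⟨hasSkAt_self_iff_of_ringEquiv _ eY n, hasRkAt_iff_of_ringEquiv _ eY n⟩
  obtain ⟨t1, t2⟩ := tr _ hq
  exact ⟨(hasSkAt_self_iff_of_ringEquiv _ eX n).symm.trans (key.1.trans t1),
    (hasRkAt_iff_of_ringEquiv _ eX n).symm.trans (key.2.trans t2)⟩

end Scheme

end Groth.Agent.Lib.Helper73.SmoothSkRk
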