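/-
helper73: the dimension of the stalk of a coherent module is the dimension of the space of
generizations of the point inside the support.
-/
import Groth.Agent.Lib.QCoh.Helper18_SerreSk
import Groth.Agent.Lib.Helper73.LocalDimJac

set_option linter.style.haveILetI false
set_option autoImplicit false
universe u
open CategoryTheory AlgebraicGeometry Topology

namespace Groth.Agent.Lib.Helper73.SuppDimGen

open Groth.Agent.Lib.Helper73.SchemeDim Groth.Agent.Lib.Helper73.DimFormula
  Groth.Agent.Lib.Helper73.RelHt Groth.Agent.Lib.QCoh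

variable {X : Scheme.{u}}

theorem supportDim_stalk_eq_dim_generalizations (F : X.Modules) [F.IsQuasicoherent]
    [F.IsFiniteType] (x : X) :
    Module.supportDim (X.presheaf.stalk x) (F.presheaf.stalk x) =
      topologicalKrullDim ↥{t : X | t ∈ CohB1.support F ∧ t ⤳ x} := by
  obtain ⟨_, ⟨V, hV : IsAffineOpen V, rfl⟩, hxV, -⟩ :=
    X.isBasis_affineOpens.exists_subset_of_mem_open (Set.mem_univ x) isOpen_univ
  rw [Groth.Agent.Lib.QCoh.SerreSk.supportDim_stalk_eq F hV x hxV]
  have hcl : IsClosed (CohB1.support F) := isClosed_support_of_isFT F inferInstance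
  haveI : QuasiSober ↥{t : X | t ∈ CohB1.support F ∧ t ⤳ x} :=
    quasiSober_of_closed_inter_generalizing _ (CohB1.support F) {t | t ⤳ x} (fun t => Iff.rfl) hcl
      (fun a ha b hba => hba.trans ha)
  set P := hV.primeIdealOf ⟨x, hxV⟩ with hP
  let e := IsLocalization.AtPrime.primeSpectrumOrderIso (Localization.AtPrime P.asIdeal) P.asIdeal
  have he : ∀ Q : PrimeSpectrum (Localization.AtPrime P.asIdeal),
      (e Q).1 = PrimeSpectrum.comap (algebraMap Γ(X, V) (Localization.AtPrime P.asIdeal)) Q :=
    fun Q => PrimeSpectrum.ext rfl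
  apply le_antisymm
  · unfold Module.supportDim
    refine iSup_le fun l => ?_
    have hsm : StrictMono (fun Q : ↥(Module.support (Localization.AtPrime P.asIdeal)
        (LocalizedModule P.asIdeal.primeCompl Γ(F, V))) => (e Q.1).1) := by
      intro Q Q' h
      exact e.strictMono h
    obtain ⟨c, hlen, -, -, hc⟩ := exists_ltSeries_of_primes hV (l.map _ hsm)
    rw [LTSeries.map_length] at hlen
    rw [← hlen]
    apply length_le_topologicalKrullDim_subtype
    intro i
    obtain ⟨hiV, j, hj⟩ := hc i
    have hj' : hV.primeIdealOf ⟨c i, hiV⟩ = (e (l j).1).1 := hj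
    constructor
    · rw [← mem_support_iff_primeIdealOf_mem_support F hV (c i) hiV, hj', he,
        ← Groth.Agent.Lib.Helper49.Serre.mem_support_localizedModule_iff]
      exact (l j).2
    · rw [← primeIdealOf_le_iff_specializes hV x (c i) hxV hiV, hj']
      exact (e (l j).1).2
  · apply topologicalKrullDim_subtype_le
    intro c hc
    have hc0 : c.head ∈ V := (hc 0).2.mem_open V.isOpen hxV
    obtain ⟨l, hlen, -, -, hl⟩ := exists_ltSeries_primes_of_points hV c hc0
    have hle : ∀ j, l j ≤ P := by
      intro j
      obtain ⟨i, hiV, hij⟩ := hl j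
      rw [hij]
      exact (primeIdealOf_le_iff_specializes hV x (c i) hxV hiV).mpr (hc i).2
    have hmem : ∀ j, (e.symm ⟨l j, hle j⟩) ∈ Module.support (Localization.AtPrime P.asIdeal)
        (LocalizedModule P.asIdeal.primeCompl Γ(F, V)) := by
      intro j
      rw [Groth.Agent.Lib.Helper49.Serre.mem_support_localizedModule_iff, ← he,
        e.apply_symm_apply]
      obtain ⟨i, hiV, hij⟩ := hl j
      change l j ∈ _
      rw [hij, mem_support_iff_primeIdealOf_mem_support F hV (c i) hiV]
      exact (hc i).1
    let L : LTSeries ↥(Module.support (Localization.AtPrime P.asIdeal)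
        (LocalizedModule P.asIdeal.primeCompl Γ(F, V))) :=
      LTSeries.mk l.length (fun j => ⟨e.symm ⟨l j, hle j⟩, hmem j⟩) (by
        intro i j hij
        have h1 : (⟨l i, hle i⟩ : Set.Iic P) < ⟨l j, hle j⟩ := l.strictMono hij
        exact e.symm.strictMono h1)
    have := Order.LTSeries.length_le_krullDim L
    rw [← hlen]
    exact this

end Groth.Agent.Lib.Helper73.SuppDimGen
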